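/-
Counting conjugacy classes of π-elements.
-/
import Cfsg.Agent.Transfer.Basic

set_option linter.style.haveILetI false
set_option linter.unusedSectionVars false

namespace Cfsg.Lib.SolvStruct

open Subgroup

variable {G : Type*} [Group G]

/-- All primes dividing the order of `x` satisfy `S`. -/
def IsPi (S : ℕ → Prop) (x : G) : Prop := ∀ q : ℕ, q.Prime → q ∣ orderOf x → S q

theorem isPi_one (S : ℕ → Prop) : IsPi S (1 : G) := fun q hq hd =>
  absurd (orderOf_one (G := G) ▸ hd) hq.not_dvd_one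

theorem IsPi.mono {S T : ℕ → Prop} {x : G} (h : IsPi S x) (hST : ∀ q, S q → T q) : IsPi T x :=
  fun q hq hd => hST q (h q hq hd)

theorem IsPi.mul [Finite G] {S : ℕ → Prop} {x y : G} (hx : IsPi S x) (hy : IsPi S y)
    (h : Commute x y) : IsPi S (x * y) := fun q hq hd =>
  (hq.dvd_mul.1 ((hd.trans h.orderOf_mul_dvd_lcm).trans (Nat.lcm_dvd_mul _ _))).elim (hx q hq) (hy q hq)

theorem IsPi.inv {S : ℕ → Prop} {x : G} (h : IsPi S x) : IsPi S x⁻¹ := fun q hq hd =>
  h q hq (orderOf_inv x ▸ hd)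

theorem IsPi.map {H : Type*} [Group H] {S : ℕ → Prop} {x : G} (h : IsPi S x) (f : G →* H) :
    IsPi S (f x) := fun q hq hd => h q hq (hd.trans (orderOf_map_dvd f x))

theorem isPi_coe_iff {S : ℕ → Prop} {H : Subgroup G} {x : H} : IsPi S (x : G) ↔ IsPi S x := by
  simp only [IsPi, Subgroup.orderOf_coe]

theorem isPi_conj_iff {S : ℕ → Prop} {x : G} (g : G) : IsPi S (g * x * g⁻¹) ↔ IsPi S x := by
  simp only [IsPi, ← MulAut.conj_apply, MulEquiv.orderOf_eq]

theorem IsPi.of_zpowers [Finite G] {S : ℕ → Prop} {x y : G} (h : IsPi S x) (hy : y ∈ zpowers x) :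
    IsPi S y := fun q hq hd => h q hq (hd.trans (orderOf_dvd_of_mem_zpowers hy))

theorem commute_of_mem_zpowers {z a b : G} (ha : a ∈ zpowers z) (hb : b ∈ zpowers z) : Commute a b := by
  obtain ⟨i, rfl⟩ := ha
  obtain ⟨j, rfl⟩ := hb
  exact (Commute.refl z).zpow_zpow i j

theorem eq_one_of_isPi_both {S : ℕ → Prop} {x : G} (h : IsPi S x) (h' : IsPi (fun q => ¬ S q) x) :
    x = 1 := by
  rw [← orderOf_eq_one_iff]
  by_contra hne
  obtain ⟨q, hq, hd⟩ := Nat.exists_prime_and_dvd hne
  exact h' q hq hd (h q hq hd)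

theorem exists_piPart [Finite G] (S : ℕ → Prop) (z : G) :
    ∃ a b : G, a ∈ zpowers z ∧ b ∈ zpowers z ∧ a * b = z ∧ IsPi S a ∧ IsPi (fun q => ¬ S q) b := by
  suffices ∀ n, ∀ z : G, orderOf z = n →
      ∃ a b : G, a ∈ zpowers z ∧ b ∈ zpowers z ∧ a * b = z ∧ IsPi S a ∧ IsPi (fun q => ¬ S q) b from
    this _ z rfl
  intro n
  induction n using Nat.strong_induction_on with
  | _ n ih =>
    intro z hz
    rcases eq_or_ne z 1 with rfl | hz1
    · exact ⟨1, 1, one_mem _, one_mem _, one_mul 1, isPi_one _, isPi_one _⟩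
    obtain ⟨q, hq, hqn⟩ := Nat.exists_prime_and_dvd (fun he => hz1 (orderOf_eq_one_iff.1 he))
    haveI := Fact.mk hq
    obtain ⟨u, v, hu, hv, huv, ⟨k, hk⟩, hcop⟩ := Cfsg.Lib.Transfer.exists_pPart q z
    have hlt : orderOf v < n := by
      refine lt_of_le_of_ne (hz ▸ Nat.le_of_dvd (orderOf_pos z) (orderOf_dvd_of_mem_zpowers hv)) fun he => ?_
      exact hq.coprime_iff_not_dvd.1 hcop.symm (he ▸ hz ▸ hqn)
    obtain ⟨a, b, ha, hb, hab, hSa, hSb⟩ := ih _ hlt v rfl
    have haz := (zpowers_le.2 hv) ha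
    have hbz := (zpowers_le.2 hv) hb
    have hu' : ∀ T : ℕ → Prop, T q → IsPi T u := fun T hT r hr hd => by
      rw [hk] at hd
      rwa [(Nat.prime_dvd_prime_iff_eq hr hq).1 (hr.dvd_of_dvd_pow hd)]
    by_cases hS : S q
    · exact ⟨u * a, b, mul_mem hu haz, hbz, by rw [mul_assoc, hab, huv],
        (hu' S hS).mul hSa (commute_of_mem_zpowers hu haz), hSb⟩
    · refine ⟨a, u * b, haz, mul_mem hu hbz, ?_, hSa, (hu' _ hS).mul hSb (commute_of_mem_zpowers hu hbz)⟩
      rw [← mul_assoc, (commute_of_mem_zpowers haz hu).eq, mul_assoc, hab, huv]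

theorem piPart_unique [Finite G] {S : ℕ → Prop} {a b a' b' : G} (h : a * b = a' * b')
    (hab : Commute a b) (ha' : a' ∈ zpowers (a * b)) (hb' : b' ∈ zpowers (a * b))
    (hSa : IsPi S a) (hSb : IsPi (fun q => ¬ S q) b) (hSa' : IsPi S a')
    (hSb' : IsPi (fun q => ¬ S q) b') : a = a' := by
  have hca : Commute a (a * b) := (Commute.refl a).mul_right hab
  have hcb : Commute b (a * b) := hab.symm.mul_right (Commute.refl b)
  have hcom : ∀ {x y : G}, Commute x (a * b) → y ∈ zpowers (a * b) → Commute x y := by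
    rintro x _ hx ⟨i, rfl⟩
    exact hx.zpow_right i
  have hw : a'⁻¹ * a = b' * b⁻¹ := by
    calc a'⁻¹ * a = a'⁻¹ * (a * b) * b⁻¹ := by group
      _ = b' * b⁻¹ := by rw [h]; group
  have h1 : a'⁻¹ * a = 1 := eq_one_of_isPi_both (hSa'.inv.mul hSa (hcom hca ha').symm.inv_left)
    (hw ▸ hSb'.mul hSb.inv (hcom hcb hb').symm.inv_right)
  rwa [inv_mul_eq_one, eq_comm] at h1

theorem mk_pred_iff {S : ℕ → Prop} (x : G) :
    (∀ q : ℕ, q.Prime → (∃ g : G, ConjClasses.mk g = ConjClasses.mk x ∧ q ∣ orderOf g) → S q) ↔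
      IsPi S x := by
  refine ⟨fun h q hq hd => h q hq ⟨x, rfl, hd⟩, fun h q hq hex => ?_⟩
  obtain ⟨g, hg, hd⟩ := hex
  obtain ⟨c, rfl⟩ := isConj_iff.1 (ConjClasses.mk_eq_mk_iff_isConj.1 hg)
  exact h q hq (by rwa [← MulAut.conj_apply, MulEquiv.orderOf_eq])

/-- `(number of classes) * |G|` is the number of commuting pairs. -/
theorem card_classes_mul [Finite G] (S : ℕ → Prop) :
    Nat.card {C : ConjClasses G // ∀ q : ℕ, q.Prime → (∃ g : G, ConjClasses.mk g = C ∧ q ∣ orderOf g) → S q}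
      * Nat.card G = Nat.card (Σ x : {x : G // IsPi S x}, centralizer ({(x : G)} : Set G)) := by
  classical
  haveI := Fintype.ofFinite G
  haveI := Fintype.ofFinite {x : G // IsPi S x}
  haveI : Fintype {C : ConjClasses G // ∀ q : ℕ, q.Prime → (∃ g : G, ConjClasses.mk g = C ∧ q ∣ orderOf g) → S q} :=
    Fintype.ofFinite _
  rw [Nat.card_sigma]
  let π : {x : G // IsPi S x} → {C : ConjClasses G // ∀ q : ℕ, q.Prime → (∃ g : G, ConjClasses.mk g = C ∧ q ∣ orderOf g) → S q} :=
    fun x => ⟨ConjClasses.mk x.1, (mk_pred_iff x.1).2 x.2⟩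
  rw [← Finset.sum_fiberwise Finset.univ π]
  have hfib : ∀ C, (∑ x ∈ Finset.univ.filter (fun x => π x = C), Nat.card (centralizer ({(x : G)} : Set G)))
      = Nat.card G := by
    rintro ⟨C, hC⟩
    obtain ⟨c, rfl⟩ := ConjClasses.mk_surjective C
    have hcent : ∀ x : G, ConjClasses.mk x = ConjClasses.mk c →
        Nat.card (centralizer ({x} : Set G)) = Nat.card (centralizer ({c} : Set G)) := by
      intro x hx
      obtain ⟨g, rfl⟩ := isConj_iff.1 (ConjClasses.mk_eq_mk_iff_isConj.1 hx).symm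
      refine (Nat.card_congr ((MulAut.conj g).toEquiv.subtypeEquiv fun y => ?_)).symm
      show y ∈ centralizer ({c} : Set G) ↔ g * y * g⁻¹ ∈ centralizer ({g * c * g⁻¹} : Set G)
      rw [mem_centralizer_singleton_iff, mem_centralizer_singleton_iff]
      constructor
      · intro h
        calc g * y * g⁻¹ * (g * c * g⁻¹) = g * (y * c) * g⁻¹ := by group
          _ = g * (c * y) * g⁻¹ := by rw [h]
          _ = _ := by group
      · intro h
        calc y * c = g⁻¹ * (g * y * g⁻¹ * (g * c * g⁻¹)) * g := by group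
          _ = g⁻¹ * (g * c * g⁻¹ * (g * y * g⁻¹)) * g := by rw [h]
          _ = _ := by group
    rw [Finset.sum_congr rfl (fun x hx => hcent x.1 (congrArg Subtype.val (Finset.mem_filter.1 hx).2)),
      Finset.sum_const, smul_eq_mul]
    have horb : (Finset.univ.filter (fun x => π x = ⟨ConjClasses.mk c, hC⟩)).card =
        Nat.card (MulAction.orbit (ConjAct G) c) := by
      rw [← Nat.card_eq_finsetCard]
      refine Nat.card_congr ⟨fun x => ⟨x.1.1, ?_⟩, fun y => ⟨⟨y.1, ?_⟩, ?_⟩, fun x => rfl, fun y => rfl⟩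
      · rw [ConjAct.orbit_eq_carrier_conjClasses, ConjClasses.mem_carrier_iff_mk_eq]
        exact congrArg Subtype.val (Finset.mem_filter.1 x.2).2
      · refine (mk_pred_iff y.1).1 ?_
        have := ConjClasses.mem_carrier_iff_mk_eq.1 ((Set.ext_iff.1 (ConjAct.orbit_eq_carrier_conjClasses c) y.1).1 y.2)
        rwa [this]
      · refine Finset.mem_filter.2 ⟨Finset.mem_univ _, Subtype.ext ?_⟩
        exact ConjClasses.mem_carrier_iff_mk_eq.1 ((Set.ext_iff.1 (ConjAct.orbit_eq_carrier_conjClasses c) y.1).1 y.2)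
    have hstab : Nat.card (centralizer ({c} : Set G)) = Nat.card (MulAction.stabilizer (ConjAct G) c) := by
      refine Nat.card_congr (ConjAct.toConjAct.toEquiv.subtypeEquiv fun g => ?_)
      rw [mem_centralizer_singleton_iff, MulAction.mem_stabilizer_iff]
      show g * c = c * g ↔ ConjAct.toConjAct g • c = c
      rw [ConjAct.toConjAct_smul, mul_inv_eq_iff_eq_mul]
    rw [horb, hstab, ← Nat.card_prod, Nat.card_congr (MulAction.orbitProdStabilizerEquivGroup (ConjAct G) c)]
    exact Nat.card_congr ConjAct.ofConjAct.toEquiv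
  rw [Finset.sum_congr rfl (fun C _ => hfib C), Finset.sum_const, Finset.card_univ, smul_eq_mul,
    Nat.card_eq_fintype_card]

/-- Commuting pairs of a π-element of a fixed coset and an element of `N`. -/
theorem card_coset_pairs_le [Finite G] (N : Subgroup G) [N.Normal] (S : ℕ → Prop) (q : G ⧸ N)
    (hq : IsPi S q) :
    Nat.card (Σ x : {x : G // IsPi S x ∧ (x : G ⧸ N) = q}, {n : N // Commute x.1 n.1})
      ≤ Nat.card (Σ y : {y : N // IsPi S y}, centralizer ({(y : N)} : Set N)) := by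
  classical
  -- pairs `(z, y)` with `z` in the coset
  have step : Nat.card (Σ x : {x : G // IsPi S x ∧ (x : G ⧸ N) = q}, {n : N // Commute x.1 n.1})
      ≤ Nat.card (Σ y : {y : N // IsPi S y}, {z : G // Commute z y.1.1 ∧ (z : G ⧸ N) = q}) := by
    have hchoose : ∀ n : N, ∃ y : N, IsPi S y ∧ (y : G) ∈ zpowers (n : G) ∧
        ∃ w : G, w ∈ zpowers (n : G) ∧ (y : G) * w = n ∧ IsPi (fun r => ¬ S r) w := by
      intro n
      obtain ⟨a, b, ha, hb, hab, hSa, hSb⟩ := exists_piPart S (n : G)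
      exact ⟨⟨a, (zpowers_le.2 n.2) ha⟩, isPi_coe_iff.1 hSa, ha, b, hb, hab, hSb⟩
    choose y hy hyz w hwz hyw hw using hchoose
    have hcw : ∀ (x : G) (n : N), Commute x n → Commute x (y n) ∧ Commute x (w n) := by
      intro x n h
      obtain ⟨i, hi⟩ := hyz n
      obtain ⟨j, hj⟩ := hwz n
      exact ⟨hi ▸ h.zpow_right i, hj ▸ h.zpow_right j⟩
    let f : (Σ x : {x : G // IsPi S x ∧ (x : G ⧸ N) = q}, {n : N // Commute x.1 n.1}) →
        (Σ y : {y : N // IsPi S y}, {z : G // Commute z y.1.1 ∧ (z : G ⧸ N) = q}) :=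
      fun s => ⟨⟨y s.2.1, hy _⟩, s.1.1 * s.2.1.1, by
        refine ⟨(hcw _ _ s.2.2).1.mul_left ?_, ?_⟩
        · exact commute_of_mem_zpowers (mem_zpowers _) (hyz _)
        · rw [QuotientGroup.mk_mul, (QuotientGroup.eq_one_iff _).2 s.2.1.2, mul_one, s.1.2.2]⟩
    refine Nat.card_le_card_of_injective f ?_
    rintro ⟨⟨x, hx, hxq⟩, n, hn⟩ ⟨⟨x', hx', hx'q⟩, n', hn'⟩ h
    have hy1 : y n = y n' := congrArg (fun t : Σ y : {y : N // IsPi S y}, _ => t.1.1) h
    have hz : x * (n : G) = x' * (n' : G) := congrArg (fun t : (Σ y : {y : N // IsPi S y}, {z : G // Commute z y.1.1 ∧ (z : G ⧸ N) = q}) => t.2.1) h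
    have hxx : x = x' := by
      obtain ⟨a, b, ha, hb, hab, hSa, hSb⟩ := exists_piPart S (x * (n : G))
      have key : ∀ (u : G) (m : N), IsPi S u → Commute u m → u * (m : G) = x * n → u * (y m : G) = a := by
        intro u m hu hum he
        obtain ⟨h1, h2⟩ := hcw u m hum
        have e : u * (y m : G) * w m = x * n := by rw [mul_assoc, hyw, he]
        refine piPart_unique (e.trans hab.symm) ?_ (e.symm ▸ ha) (e.symm ▸ hb)
          (hu.mul (isPi_coe_iff.2 (hy m)) h1) (hw m) hSa hSb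
        exact h2.mul_left (commute_of_mem_zpowers (hyz m) (hwz m))
      have e1 := key x n hx hn rfl
      have e2 := key x' n' hx' hn' hz.symm
      rw [← hy1] at e2
      exact mul_right_cancel (e1.trans e2.symm)
    subst hxx
    have hnn : n = n' := Subtype.ext (mul_left_cancel hz)
    subst hnn
    rfl
  refine step.trans ?_
  haveI := Fintype.ofFinite {y : N // IsPi S y}
  rw [Nat.card_sigma, Nat.card_sigma]
  refine Finset.sum_le_sum fun y _ => ?_
  rcases isEmpty_or_nonempty {z : G // Commute z y.1.1 ∧ (z : G ⧸ N) = q} with he | ⟨⟨z₀, hz₀, hz₀q⟩⟩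
  · simp
  have hmem : ∀ z : {z : G // Commute z y.1.1 ∧ (z : G ⧸ N) = q}, z₀⁻¹ * z.1 ∈ N := fun z =>
    QuotientGroup.eq.1 (hz₀q.trans z.2.2.symm)
  refine Nat.card_le_card_of_injective (fun z => (⟨⟨z₀⁻¹ * z.1, hmem z⟩,
    mem_centralizer_singleton_iff.2 (Subtype.ext (hz₀.inv_left.mul_left z.2.1).eq)⟩ :
      centralizer ({(y : N)} : Set N))) ?_
  intro z z' h
  exact Subtype.ext (mul_left_cancel (congrArg (fun t : centralizer ({(y : N)} : Set N) => ((t : N) : G)) h))

/-- `k_π(G) ≤ k_π(N) * k_π(G/N)`. -/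
theorem card_piClasses_le_mul [Finite G] (N : Subgroup G) [N.Normal] (S : ℕ → Prop) :
    Nat.card {C : ConjClasses G // ∀ q : ℕ, q.Prime → (∃ g : G, ConjClasses.mk g = C ∧ q ∣ orderOf g) → S q}
      ≤ Nat.card {C : ConjClasses N // ∀ q : ℕ, q.Prime → (∃ g : N, ConjClasses.mk g = C ∧ q ∣ orderOf g) → S q}
        * Nat.card {C : ConjClasses (G ⧸ N) // ∀ q : ℕ, q.Prime → (∃ g : (G ⧸ N), ConjClasses.mk g = C ∧ q ∣ orderOf g) → S q} := by
  classical
  refine Nat.le_of_mul_le_mul_right ?_ (Nat.card_pos (α := G))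
  rw [card_classes_mul S, Subgroup.card_eq_card_quotient_mul_card_subgroup N,
    show ∀ a b c d : ℕ, a * b * (c * d) = (a * d) * (b * c) from fun a b c d => by ring,
    card_classes_mul S, card_classes_mul S]
  set A := Σ y : {y : N // IsPi S y}, centralizer ({(y : N)} : Set N)
  haveI : Fintype {x : G // IsPi S x} := Fintype.ofFinite _
  haveI : Fintype {q : G ⧸ N // IsPi S q} := Fintype.ofFinite _
  -- `|C(x)| ≤ |C(x̄)| |C_N(x)|`
  have hC : ∀ x : {x : G // IsPi S x}, Nat.card (centralizer ({(x : G)} : Set G)) ≤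
      Nat.card (centralizer ({(x.1 : G ⧸ N)} : Set (G ⧸ N))) * Nat.card {n : N // Commute x.1 n.1} := by
    intro x
    set C := centralizer ({(x : G)} : Set G)
    let g : C →* G ⧸ N := (QuotientGroup.mk' N).comp C.subtype
    rw [← g.ker.card_mul_index, Subgroup.index_ker, mul_comm]
    refine Nat.mul_le_mul (Subgroup.card_le_of_le ?_) (le_of_eq ?_)
    · rintro _ ⟨c, rfl⟩
      rw [mem_centralizer_singleton_iff]
      show ((c : G) : G ⧸ N) * _ = _ * _
      rw [← QuotientGroup.mk_mul, mem_centralizer_singleton_iff.1 c.2, QuotientGroup.mk_mul]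
      rfl
    · refine Nat.card_congr ⟨fun c => ⟨⟨c.1.1, (QuotientGroup.eq_one_iff _).1 c.2⟩,
        (mem_centralizer_singleton_iff.1 c.1.2).symm⟩,
        fun n => ⟨⟨n.1.1, mem_centralizer_singleton_iff.2 n.2.eq.symm⟩, (QuotientGroup.eq_one_iff _).2 n.1.2⟩,
        fun c => rfl, fun n => rfl⟩
  rw [Nat.card_sigma (β := fun x : {x : G // IsPi S x} => ↥(centralizer ({(x : G)} : Set G))),
    Nat.card_sigma (β := fun x : {q : G ⧸ N // IsPi S q} => ↥(centralizer ({(x : G ⧸ N)} : Set (G ⧸ N)))),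
    Finset.mul_sum]
  let π : {x : G // IsPi S x} → {q : G ⧸ N // IsPi S q} := fun x =>
    ⟨(x.1 : G ⧸ N), x.2.map (QuotientGroup.mk' N)⟩
  rw [← Finset.sum_fiberwise Finset.univ π]
  refine Finset.sum_le_sum fun q _ => ?_
  calc ∑ x ∈ Finset.univ.filter (fun x => π x = q), Nat.card (centralizer ({(x : G)} : Set G))
      ≤ ∑ x ∈ Finset.univ.filter (fun x => π x = q),
          Nat.card (centralizer ({q.1} : Set (G ⧸ N))) * Nat.card {n : N // Commute x.1 n.1} := by
        refine Finset.sum_le_sum fun x hx => ?_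
        have h1 := hC x
        rwa [show ((x.1 : G) : G ⧸ N) = q.1 from congrArg Subtype.val (Finset.mem_filter.1 hx).2] at h1
    _ = (∑ x ∈ Finset.univ.filter (fun x => π x = q), Nat.card {n : N // Commute x.1 n.1}) *
          Nat.card (centralizer ({q.1} : Set (G ⧸ N))) := by rw [← Finset.mul_sum, mul_comm]
    _ ≤ _ := by
        refine Nat.mul_le_mul_right _ (le_trans (le_of_eq ?_) (card_coset_pairs_le N S q.1 q.2))
        haveI : Fintype {x : G // IsPi S x ∧ (x : G ⧸ N) = q.1} := Fintype.ofFinite _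
        rw [Nat.card_sigma]
        refine Finset.sum_bij' (fun x hx => (⟨x.1, x.2, congrArg Subtype.val (Finset.mem_filter.1 hx).2⟩ :
            {x : G // IsPi S x ∧ (x : G ⧸ N) = q.1}))
          (fun x _ => (⟨x.1, x.2.1⟩ : {x : G // IsPi S x})) (fun _ _ => Finset.mem_univ _)
          (fun x _ => Finset.mem_filter.2 ⟨Finset.mem_univ _, Subtype.ext x.2.2⟩)
          (fun _ _ => rfl) (fun _ _ => rfl) (fun _ _ => rfl)

/-- At most `∏ q^{v_q}` classes of elements with all prime divisors in a finite set of primes. -/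
theorem card_piClasses_le_prod.{u} (s : Finset ℕ) : ∀ {G : Type u} [Group G] [Finite G],
    Nat.card {C : ConjClasses G // ∀ q : ℕ, q.Prime → (∃ g : G, ConjClasses.mk g = C ∧ q ∣ orderOf g) → q ∈ s}
      ≤ ∏ q ∈ s, q ^ (Nat.card G).factorization q := by
  classical
  induction s using Finset.induction with
  | empty =>
    intro G _ _
    rw [Finset.prod_empty]
    refine Finite.card_le_one_iff_subsingleton.2 ⟨?_⟩
    rintro ⟨C, hC⟩ ⟨D, hD⟩
    obtain ⟨x, rfl⟩ := ConjClasses.mk_surjective C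
    obtain ⟨y, rfl⟩ := ConjClasses.mk_surjective D
    have h1 : ∀ z : G, IsPi (fun q => q ∈ (∅ : Finset ℕ)) z → z = 1 := fun z hz =>
      eq_one_of_isPi_both hz fun q _ _ => Finset.notMem_empty q
    exact Subtype.ext (congrArg ConjClasses.mk ((h1 x ((mk_pred_iff x).1 hC)).trans (h1 y ((mk_pred_iff y).1 hD)).symm))
  | insert p t hpt ih =>
    intro G _ _
    rw [Finset.prod_insert hpt]
    by_cases hp : p.Prime
    · haveI := Fact.mk hp
      obtain ⟨P⟩ : Nonempty (Sylow p G) := inferInstance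
      have hPcard : Nat.card (P : Subgroup G) = p ^ (Nat.card G).factorization p := P.card_eq_multiplicity
      let T := fun a : (P : Subgroup G) => {D : ConjClasses (centralizer ({(a : G)} : Set G)) //
        ∀ q : ℕ, q.Prime → (∃ g, ConjClasses.mk g = D ∧ q ∣ orderOf g) → q ∈ t}
      have hrep : ∀ (a : (P : Subgroup G)) (D : T a), ∃ d, ConjClasses.mk d = D.1 :=
        fun a D => ConjClasses.mk_surjective D.1
      choose rep hrep using hrep
      have hmem : ∀ (a : (P : Subgroup G)) (D : T a), IsPi (fun q => q ∈ insert p t) ((a : G) * (rep a D : G)) := by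
        intro a D
        refine IsPi.mul ?_ ?_ (mem_centralizer_singleton_iff.1 (rep a D).2).symm
        · intro q hq hd
          obtain ⟨k, hk⟩ := IsPGroup.iff_orderOf.1 P.2 a
          rw [Subgroup.orderOf_coe, hk] at hd
          rw [(Nat.prime_dvd_prime_iff_eq hq hp).1 (hq.dvd_of_dvd_pow hd)]
          exact Finset.mem_insert_self _ _
        · refine isPi_coe_iff.2 (((mk_pred_iff _).1 ?_).mono fun q hq => Finset.mem_insert_of_mem hq)
          rw [hrep]
          exact D.2
      let F : (Σ a : (P : Subgroup G), T a) →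
          {C : ConjClasses G // ∀ q : ℕ, q.Prime → (∃ g : G, ConjClasses.mk g = C ∧ q ∣ orderOf g) → q ∈ insert p t} :=
        fun s => ⟨ConjClasses.mk ((s.1 : G) * (rep s.1 s.2 : G)), (mk_pred_iff _).2 (hmem s.1 s.2)⟩
      have hF : Function.Surjective F := by
        rintro ⟨C, hC⟩
        obtain ⟨x, rfl⟩ := ConjClasses.mk_surjective C
        have hx := (mk_pred_iff x).1 hC
        obtain ⟨u, v, hu, hv, huv, ⟨k, hk⟩, hcop⟩ := Cfsg.Lib.Transfer.exists_pPart p x
        obtain ⟨R, hR⟩ := (IsPGroup.of_card (p := p) ((Nat.card_zpowers u).trans hk)).exists_le_sylow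
        obtain ⟨g, hg⟩ := MulAction.exists_smul_eq G R P
        have ha : g * u * g⁻¹ ∈ (P : Subgroup G) := by
          rw [← hg, Cfsg.Lib.Transfer.sylow_smul_coe]
          exact ⟨u, hR (mem_zpowers u), rfl⟩
        have huv' : Commute u v := commute_of_mem_zpowers hu hv
        have hb : g * v * g⁻¹ ∈ centralizer ({g * u * g⁻¹} : Set G) := by
          rw [mem_centralizer_singleton_iff]
          calc g * v * g⁻¹ * (g * u * g⁻¹) = g * (v * u) * g⁻¹ := by group
            _ = g * (u * v) * g⁻¹ := by rw [huv'.eq]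
            _ = _ := by group
        have hbpi : IsPi (fun q => q ∈ t) (⟨_, hb⟩ : centralizer ({g * u * g⁻¹} : Set G)) := by
          rw [← isPi_coe_iff, isPi_conj_iff]
          intro q hq hd
          rcases Finset.mem_insert.1 (hx.of_zpowers hv q hq hd) with h | h
          · subst h
            exact absurd hd (hq.coprime_iff_not_dvd.1 hcop.symm)
          · exact h
        refine ⟨⟨⟨_, ha⟩, ⟨ConjClasses.mk ⟨_, hb⟩, (mk_pred_iff _).2 hbpi⟩⟩, Subtype.ext ?_⟩
        show ConjClasses.mk (g * u * g⁻¹ * _) = ConjClasses.mk x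
        obtain ⟨c, hc⟩ := isConj_iff.1 (ConjClasses.mk_eq_mk_iff_isConj.1
          (hrep ⟨_, ha⟩ ⟨ConjClasses.mk ⟨_, hb⟩, (mk_pred_iff _).2 hbpi⟩))
        rw [ConjClasses.mk_eq_mk_iff_isConj, isConj_iff]
        refine ⟨g⁻¹ * (c : G), ?_⟩
        set d := rep ⟨_, ha⟩ ⟨ConjClasses.mk ⟨_, hb⟩, (mk_pred_iff _).2 hbpi⟩
        have hcu : (c : G) * (g * u * g⁻¹) * (c : G)⁻¹ = g * u * g⁻¹ := by
          rw [mem_centralizer_singleton_iff.1 c.2, mul_inv_cancel_right]
        have hcd : (c : G) * (d : G) * (c : G)⁻¹ = g * v * g⁻¹ := congrArg Subtype.val hc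
        calc g⁻¹ * (c : G) * (g * u * g⁻¹ * (d : G)) * (g⁻¹ * (c : G))⁻¹
            = g⁻¹ * (((c : G) * (g * u * g⁻¹) * (c : G)⁻¹) * ((c : G) * (d : G) * (c : G)⁻¹)) * g := by group
          _ = u * v := by rw [hcu, hcd]; group
          _ = x := huv
      refine (Nat.card_le_card_of_surjective F hF).trans ?_
      haveI := Fintype.ofFinite (P : Subgroup G)
      rw [Nat.card_sigma, ← hPcard, Nat.card_eq_fintype_card, ← Finset.card_univ, ← smul_eq_mul, ← Finset.sum_const]
      refine Finset.sum_le_sum fun a _ => ih.trans (Finset.prod_le_prod' fun q _ => ?_)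
      rcases Nat.eq_zero_or_pos q with rfl | hq0
      · simp
      refine Nat.pow_le_pow_right hq0 ?_
      exact Nat.factorization_le_factorization_of_dvd_right (card_subgroup_dvd_card _) Nat.card_pos.ne' Nat.card_pos.ne'
    · rw [Nat.factorization_eq_zero_of_not_prime _ hp, pow_zero, one_mul]
      refine le_trans (le_of_eq (Nat.card_congr (Equiv.subtypeEquivRight fun C => ?_))) ih
      refine forall_congr' fun q => imp_congr_right fun hq => imp_congr_right fun _ => ?_
      rw [Finset.mem_insert]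
      exact ⟨fun h => h.resolve_left fun he => hp (he ▸ hq), Or.inr⟩

end Cfsg.Lib.SolvStruct
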