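/-
Wielandt's theorem on nilpotent Hall subgroups: if `H` is a nilpotent Hall subgroup then every
subgroup all of whose primes divide `|H|` lies in a conjugate of `H`.
-/
import Cfsg.Agent.Transfer.Frobenius

set_option linter.style.haveILetI false
set_option linter.unusedSectionVars false

namespace Cfsg.Lib.SolvStruct

open Subgroup
open scoped Pointwise

variable {G : Type*} [Group G] [Finite G]

theorem commute_of_coprime_of_nilpotent {K : Type*} [Group K] [Finite K] [Group.IsNilpotent K]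
    {p q : ℕ} [Fact p.Prime] [Fact q.Prime] (hpq : p ≠ q) {x y : K}
    (hx : ∃ i, orderOf x = p ^ i) (hy : ∃ i, orderOf y = q ^ i) : Commute x y := by
  obtain ⟨i, hi⟩ := hx
  obtain ⟨j, hj⟩ := hy
  obtain ⟨P, hP⟩ := (IsPGroup.of_card (p := p) ((Nat.card_zpowers x).trans hi)).exists_le_sylow
  obtain ⟨Q, hQ⟩ := (IsPGroup.of_card (p := q) ((Nat.card_zpowers y).trans hj)).exists_le_sylow
  have h := (Group.isNilpotent_of_finite_tfae (G := K)).out 0 3
  exact Subgroup.commute_of_normal_of_disjoint _ _ (h.1 inferInstance p ‹_› P)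
    (h.1 inferInstance q ‹_› Q) (IsPGroup.disjoint_of_ne p q hpq _ _ P.2 Q.2) x y (hP (mem_zpowers x))
    (hQ (mem_zpowers y))

theorem exists_sylow_le_hall {p : ℕ} [hp : Fact p.Prime] {H : Subgroup G}
    (hHall : (Nat.card H).Coprime H.index) (hpH : p ∣ Nat.card H) :
    ∃ S : Sylow p G, (S : Subgroup G) ≤ H := by
  obtain ⟨R⟩ : Nonempty (Sylow p H) := inferInstance
  refine ⟨(R.2.map H.subtype).toSylow ?_, map_subtype_le _⟩
  rw [index_map_subtype]
  exact hp.out.not_dvd_mul R.not_dvd_index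
    fun hd => hp.out.ne_one (Nat.eq_one_of_dvd_coprimes hHall hpH hd)

/-- A `q`-element normalising a `p`-subgroup of a nilpotent Hall subgroup centralises it. -/
theorem centralize_of_mem_nilpotent_hall {p q : ℕ} [Fact p.Prime] [hq : Fact q.Prime] (hpq : p ≠ q)
    {H : Subgroup G} (hH : Group.IsNilpotent H) (hHall : (Nat.card H).Coprime H.index)
    (hqH : q ∣ Nat.card H) {P : Subgroup G} (hP : IsPGroup p P) (hPH : P ≤ H) {y : G}
    (hy : ∃ i, orderOf y = q ^ i) (hyN : y ∈ normalizer (P : Set G)) :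
    y ∈ centralizer (P : Set G) := by
  obtain ⟨S, hS⟩ := exists_sylow_le_hall hHall hqH
  have hSC : ∀ s ∈ (S : Subgroup G), ∀ x ∈ P, x * s = s * x := by
    intro s hs x hx
    obtain ⟨a, ha⟩ := IsPGroup.iff_orderOf.1 hP ⟨x, hx⟩
    obtain ⟨b, hb⟩ := IsPGroup.iff_orderOf.1 S.2 ⟨s, hs⟩
    rw [Subgroup.orderOf_mk] at ha hb
    have := commute_of_coprime_of_nilpotent (K := H) hpq (x := ⟨x, hPH hx⟩) (y := ⟨s, hS hs⟩)
      ⟨a, by rw [Subgroup.orderOf_mk, ha]⟩ ⟨b, by rw [Subgroup.orderOf_mk, hb]⟩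
    exact congrArg Subtype.val this.eq
  set N := normalizer (P : Set G)
  have hSN : (S : Subgroup G) ≤ N := fun s hs => mem_normalizer_iff.2 fun x => by
    constructor
    · intro hx
      rwa [← hSC s hs x hx, mul_inv_cancel_right]
    · intro hx
      have h2 := hSC s hs _ hx
      rw [show s * x * s⁻¹ * s = s * x by group] at h2
      rwa [← mul_left_cancel h2] at hx
  obtain ⟨j, hj⟩ := hy
  obtain ⟨T, hT⟩ := (IsPGroup.of_card (p := q) (n := j)
    (((Nat.card_zpowers (⟨y, hyN⟩ : N)).trans (Subgroup.orderOf_mk y hyN)).trans hj)).exists_le_sylow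
  obtain ⟨n, hn⟩ := MulAction.exists_smul_eq N (S.subtype hSN) T
  have h1 := hT (mem_zpowers (⟨y, hyN⟩ : N))
  rw [← hn, Cfsg.Lib.Transfer.sylow_smul_coe] at h1
  obtain ⟨s, hs, hsy⟩ := h1
  have hy' : y = (n : G) * s * (n : G)⁻¹ := (congrArg Subtype.val hsy).symm
  intro x hx
  have hx' : (n : G)⁻¹ * x * n ∈ P := (mem_normalizer_iff''.1 n.2 x).1 hx
  have h3 := hSC s hs _ hx'
  rw [hy']
  calc x * ((n : G) * s * (n : G)⁻¹) = n * (((n : G)⁻¹ * x * n) * s) * (n : G)⁻¹ := by group
    _ = n * ((s : G) * ((n : G)⁻¹ * x * n)) * (n : G)⁻¹ := by rw [h3]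
    _ = _ := by group

theorem isNilpotent_of_forall_pComplement {K : Type*} [Group K] [Finite K]
    (h : ∀ p : ℕ, p.Prime → Cfsg.HasNormalPComplement p K) : Group.IsNilpotent K := by
  refine ((Group.isNilpotent_of_finite_tfae (G := K)).out 0 3).2 fun p hp P => ?_
  haveI : Fact p.Prime := hp
  let M : Subgroup K := ⨅ r : {r : ℕ // r.Prime ∧ r ≠ p}, Cfsg.pResidual r.1 K
  haveI : M.Normal := normal_iInf_normal fun r => inferInstance
  have hPM : (P : Subgroup K) ≤ M := fun x hx => mem_iInf.2 fun ⟨r, hr, hrp⟩ =>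
    Cfsg.Lib.Transfer.mem_pResidual_of_coprime (by
      obtain ⟨k, hk⟩ := IsPGroup.iff_orderOf.1 P.2 ⟨x, hx⟩
      rw [Subgroup.orderOf_mk] at hk
      rw [hk]
      exact Nat.Coprime.pow_left k ((Nat.coprime_primes hp.out hr).2 (Ne.symm hrp)))
  have hM : IsPGroup p M := by
    refine IsPGroup.iff_orderOf.2 fun x => ⟨_, Nat.eq_prime_pow_of_unique_prime_dvd
      (orderOf_pos x).ne' fun {r} hr hrd => ?_⟩
    by_contra hrp
    haveI := Fact.mk hr
    have h1 := Cfsg.Lib.Transfer.hasNormalPComplement_iff_pResidual.1 (h r hr)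
    have h2 : (x : K) ∈ Cfsg.pResidual r K := mem_iInf.1 x.2 ⟨r, hr, hrp⟩
    rw [← Subgroup.orderOf_coe, ← Subgroup.orderOf_mk (x : K) h2] at hrd
    exact hr.ne_one (Nat.eq_one_of_dvd_coprimes h1 (hrd.trans (orderOf_dvd_natCard _)) dvd_rfl)
  rw [← P.3 hM hPM]
  infer_instance

theorem hall_conj_props {H : Subgroup G} (hH : Group.IsNilpotent H)
    (hHall : (Nat.card H).Coprime H.index) (g : G) :
    Nat.card (MulAut.conj g • H : Subgroup G) = Nat.card H ∧
      Group.IsNilpotent (MulAut.conj g • H : Subgroup G) ∧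
      (Nat.card (MulAut.conj g • H : Subgroup G)).Coprime (MulAut.conj g • H : Subgroup G).index := by
  have hc : Nat.card (MulAut.conj g • H : Subgroup G) = Nat.card H :=
    Nat.card_congr (Subgroup.equivSMul (MulAut.conj g) H).toEquiv.symm
  refine ⟨hc, ?_, ?_⟩
  · haveI := hH
    exact Group.nilpotent_of_mulEquiv (Subgroup.equivSMul (MulAut.conj g) H)
  · have h1 := (MulAut.conj g • H : Subgroup G).card_mul_index
    rw [hc, ← H.card_mul_index] at h1
    rwa [hc, Nat.eq_of_mul_eq_mul_left Nat.card_pos h1]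

theorem isNilpotent_of_primes_dvd_hall {H : Subgroup G} (hH : Group.IsNilpotent H)
    (hHall : (Nat.card H).Coprime H.index) (K : Subgroup G)
    (hK : ∀ p : ℕ, p.Prime → p ∣ Nat.card K → p ∣ Nat.card H) : Group.IsNilpotent K := by
  refine isNilpotent_of_forall_pComplement fun p hp => ?_
  haveI := Fact.mk hp
  refine Cfsg.Lib.Transfer.hasNormalPComplement_of_frobenius fun Q hQ g hg hcop => ?_
  by_cases hQ1 : Q = ⊥
  · subst hQ1
    intro x hx
    rw [SetLike.mem_coe, mem_bot] at hx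
    simp [hx]
  have hpK : p ∣ Nat.card K := by
    rcases hQ.card_eq_or_dvd with h | h
    · exact absurd (Subgroup.card_eq_one.1 h) hQ1
    · exact h.trans (card_subgroup_dvd_card Q)
  obtain ⟨S, hS⟩ := exists_sylow_le_hall hHall (hK p hp hpK)
  obtain ⟨T, hT⟩ := (hQ.map K.subtype).exists_le_sylow
  obtain ⟨c, hc⟩ := MulAction.exists_smul_eq G S T
  obtain ⟨hcard, hnil, hcop'⟩ := hall_conj_props hH hHall c
  have hQH : Q.map K.subtype ≤ MulAut.conj c • H := by
    refine hT.trans ?_
    rw [← hc]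
    exact pointwise_smul_le_pointwise_smul_iff.2 hS
  -- every prime power part of `g` centralises `Q`
  suffices h : ∀ z ∈ zpowers g, ∀ q : ℕ, q.Prime → (∃ i, orderOf z = q ^ i) →
      z ∈ centralizer (Q : Set K) by
    suffices h2 : zpowers g ≤ centralizer (Q : Set K) from h2 (mem_zpowers g)
    have hmain : ∀ n : ℕ, ∀ z ∈ zpowers g, orderOf z = n → z ∈ centralizer (Q : Set K) := by
      intro n
      induction n using Nat.strong_induction_on with
      | _ n ih =>
        intro z hz hzn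
        rcases eq_or_ne z 1 with rfl | hz1
        · exact one_mem _
        have hn1 : n ≠ 1 := hzn ▸ fun he => hz1 (orderOf_eq_one_iff.1 he)
        obtain ⟨q, hq, hqn⟩ := Nat.exists_prime_and_dvd hn1
        haveI := Fact.mk hq
        obtain ⟨a, b, ha, hb, hab, ⟨i, hi⟩, hbq⟩ := Cfsg.Lib.Transfer.exists_pPart q z
        rw [← hab]
        refine mul_mem (h a ((zpowers_le.2 hz) ha) q hq ⟨i, hi⟩) (ih (orderOf b) ?_ b ((zpowers_le.2 hz) hb) rfl)
        have hdvd : orderOf b ∣ n := hzn ▸ orderOf_dvd_of_mem_zpowers hb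
        refine lt_of_le_of_ne (Nat.le_of_dvd (hzn ▸ orderOf_pos z) hdvd) fun he => ?_
        exact hq.coprime_iff_not_dvd.1 hbq.symm (he ▸ hqn)
    exact fun z hz => hmain _ z hz rfl
  intro z hz q hq ⟨i, hi⟩
  haveI := Fact.mk hq
  rcases Nat.eq_zero_or_pos i with rfl | hi0
  · rw [pow_zero, orderOf_eq_one_iff] at hi
    subst hi
    exact one_mem _
  have hqz : q ∣ orderOf z := hi ▸ dvd_pow_self q hi0.ne'
  have hpq : p ≠ q := by
    rintro rfl
    exact hp.ne_one (Nat.eq_one_of_dvd_coprimes hcop (hqz.trans (orderOf_dvd_of_mem_zpowers hz)) dvd_rfl)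
  have hqH : q ∣ Nat.card (MulAut.conj c • H : Subgroup G) :=
    hcard ▸ hK q hq (hqz.trans (orderOf_dvd_natCard z))
  have hzN : (z : G) ∈ normalizer (Q.map K.subtype : Set G) :=
    (le_normalizer_map K.subtype) ⟨z, (zpowers_le.2 hg) hz, rfl⟩
  have := centralize_of_mem_nilpotent_hall hpq hnil hcop' hqH (hQ.map _) hQH
    ⟨i, by rw [Subgroup.orderOf_coe]; exact hi⟩ hzN
  intro x hx
  exact Subtype.ext (this _ ⟨x, hx, rfl⟩)

theorem exists_conj_ge_aux {H : Subgroup G} (hH : Group.IsNilpotent H)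
    (hHall : (Nat.card H).Coprime H.index) : ∀ (n : ℕ) (K : Subgroup G), Nat.card K = n →
    (∀ p : ℕ, p.Prime → p ∣ Nat.card K → p ∣ Nat.card H) → Group.IsNilpotent K →
    ∃ x : G, K ≤ MulAut.conj x • H := by
  intro n
  induction n using Nat.strong_induction_on with
  | _ n ih =>
    intro K hn hK hKnil
    haveI := hKnil
    rcases eq_or_ne (Nat.card K) 1 with h1 | h1
    · exact ⟨1, by rw [Subgroup.card_eq_one.1 h1]; exact bot_le⟩
    obtain ⟨p, hp, hpK⟩ := Nat.exists_prime_and_dvd h1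
    haveI := Fact.mk hp
    obtain ⟨P⟩ : Nonempty (Sylow p K) := inferInstance
    have htfae := (Group.isNilpotent_of_finite_tfae (G := K)).out 0 3
    have hPn : (P : Subgroup K).Normal := htfae.1 hKnil p ‹_› P
    have hcop : (Nat.card P).Coprime (P : Subgroup K).index := P.card_coprime_index
    obtain ⟨R, hR⟩ := Subgroup.exists_right_complement'_of_coprime hcop
    have hRp : ¬ p ∣ Nat.card R := by rw [← hR.symm.index_eq_card]; exact P.not_dvd_index
    set R' := R.map K.subtype with hR'def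
    have hR'card : Nat.card R' = Nat.card R := card_subtype K R
    have hlt : Nat.card R' < n := by
      rw [hR'card, ← hn]
      exact lt_of_le_of_ne (card_le_card_group R) fun he => hRp (he ▸ hpK)
    obtain ⟨g, hg⟩ := ih _ hlt R' rfl
      (fun q hq hd => hK q hq (hd.trans (hR'card ▸ card_subgroup_dvd_card R)))
      (Group.nilpotent_of_mulEquiv (R.equivMapOfInjective K.subtype K.subtype_injective))
    obtain ⟨hcard, hnil, hcop'⟩ := hall_conj_props hH hHall g
    set H' : Subgroup G := MulAut.conj g • H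
    obtain ⟨S, hS⟩ := exists_sylow_le_hall hcop' (hcard ▸ hK p hp hpK)
    set C := centralizer (R' : Set G)
    have hcomm : ∀ {L : Subgroup G}, Group.IsNilpotent L → ∀ x ∈ L, ∀ y ∈ L,
        (∃ i, orderOf x = p ^ i) → (orderOf y).Coprime p → y * x = x * y := by
      intro L hL x hx y hy hxi hyp
      haveI := hL
      have hmain : ∀ m : ℕ, ∀ z : L, orderOf z = m → (orderOf z).Coprime p →
          Commute (⟨x, hx⟩ : L) z := by
        intro m
        induction m using Nat.strong_induction_on with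
        | _ m ihm =>
          intro z hzm hzp
          rcases eq_or_ne z 1 with rfl | hz1
          · exact Commute.one_right _
          have hm1 : m ≠ 1 := hzm ▸ fun he => hz1 (orderOf_eq_one_iff.1 he)
          obtain ⟨q, hq, hqm⟩ := Nat.exists_prime_and_dvd hm1
          haveI := Fact.mk hq
          obtain ⟨a, b, ha, hb, hab, hi, hbq⟩ := Cfsg.Lib.Transfer.exists_pPart q z
          have hdvd : orderOf b ∣ m := hzm ▸ orderOf_dvd_of_mem_zpowers hb
          have hpq : p ≠ q := by
            rintro rfl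
            exact hp.ne_one (Nat.eq_one_of_dvd_coprimes hzp (hzm.symm ▸ hqm) dvd_rfl)
          rw [← hab]
          refine Commute.mul_right (commute_of_coprime_of_nilpotent hpq ?_ hi)
            (ihm _ ?_ b rfl (Nat.Coprime.coprime_dvd_left (orderOf_dvd_of_mem_zpowers hb) hzp))
          · obtain ⟨i, hi'⟩ := hxi
            exact ⟨i, by rw [Subgroup.orderOf_mk, hi']⟩
          · refine lt_of_le_of_ne (Nat.le_of_dvd (hzm ▸ orderOf_pos z) hdvd) fun he => ?_
            exact hq.coprime_iff_not_dvd.1 hbq.symm (he ▸ hqm)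
      have := hmain _ (⟨y, hy⟩ : L) rfl (by rwa [Subgroup.orderOf_mk])
      exact (congrArg Subtype.val this.eq).symm
    have hyR : ∀ y ∈ R', (orderOf y).Coprime p := by
      rintro _ ⟨r, hr, rfl⟩
      rw [coe_subtype, Subgroup.orderOf_coe, ← Subgroup.orderOf_mk r hr]
      exact Nat.Coprime.coprime_dvd_left (orderOf_dvd_natCard _) (hp.coprime_iff_not_dvd.2 hRp).symm
    have hSC : (S : Subgroup G) ≤ C := fun s hs y hy => by
      obtain ⟨i, hi⟩ := IsPGroup.iff_orderOf.1 S.2 ⟨s, hs⟩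
      rw [Subgroup.orderOf_mk] at hi
      exact hcomm hnil s (hS hs) y (hg hy) ⟨i, hi⟩ (hyR y hy)
    have hPC : (P : Subgroup K).map K.subtype ≤ C := by
      rintro _ ⟨x, hx, rfl⟩ y hy
      obtain ⟨i, hi⟩ := IsPGroup.iff_orderOf.1 P.2 ⟨x, hx⟩
      rw [Subgroup.orderOf_mk, ← Subgroup.orderOf_coe] at hi
      exact hcomm hKnil x x.2 y (map_subtype_le R hy) ⟨i, hi⟩ (hyR y hy)
    obtain ⟨T, hT⟩ := ((P.2.map K.subtype).comap_subtype (K := C)).exists_le_sylow
    obtain ⟨c, hc⟩ := MulAction.exists_smul_eq C (S.subtype hSC) T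
    refine ⟨(c : G) * g, ?_⟩
    rw [map_mul, mul_smul]
    intro x hx
    obtain ⟨⟨a, r⟩, har⟩ := hR.2 (⟨x, hx⟩ : K)
    simp only at har
    have haG : ((a : K) : G) ∈ MulAut.conj (c : G) • H' := by
      have h1 : (⟨((a : K) : G), hPC ⟨a, a.2, rfl⟩⟩ : C) ∈ (T : Subgroup C) := hT ⟨a, a.2, rfl⟩
      rw [← hc, Cfsg.Lib.Transfer.sylow_smul_coe] at h1
      obtain ⟨s, hs, hsa⟩ := h1
      rw [mem_pointwise_smul_iff_inv_smul_mem]
      have h2 : ((a : K) : G) = (c : G) * s * (c : G)⁻¹ := (congrArg Subtype.val hsa).symm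
      rw [h2, MulAut.smul_def, MulAut.conj_inv_apply]
      simpa [mul_assoc] using hS hs
    have hrG : ((r : K) : G) ∈ MulAut.conj (c : G) • H' := by
      have hrR : ((r : K) : G) ∈ R' := ⟨r, r.2, rfl⟩
      rw [mem_pointwise_smul_iff_inv_smul_mem, MulAut.smul_def, MulAut.conj_inv_apply, mul_assoc,
        c.2 _ hrR, inv_mul_cancel_left]
      exact hg hrR
    have := mul_mem haG hrG
    rwa [← Subgroup.coe_mul, har] at this

/-- **Wielandt**: subgroups whose primes divide a nilpotent Hall subgroup lie in its conjugates. -/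
theorem exists_conj_ge {H : Subgroup G} (hH : Group.IsNilpotent H)
    (hHall : (Nat.card H).Coprime H.index) (K : Subgroup G)
    (hK : ∀ p : ℕ, p.Prime → p ∣ Nat.card K → p ∣ Nat.card H) :
    ∃ x : G, K ≤ MulAut.conj x • H :=
  exists_conj_ge_aux hH hHall _ K rfl hK (isNilpotent_of_primes_dvd_hall hH hHall K hK)

/-- If a Hall subgroup is centralised by its normaliser it has a normal complement. -/
theorem exists_complement_of_normalizer_le (H : Subgroup G) (hHall : (Nat.card H).Coprime H.index)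
    (h : normalizer (H : Set G) ≤ centralizer (H : Set G)) :
    ∃ N : Subgroup G, N.Normal ∧ N.IsComplement' H := by
  haveI : IsMulCommutative H :=
    le_centralizer_iff_isMulCommutative.1 (le_normalizer.trans h)
  haveI hH : Group.IsNilpotent H := by
    letI : CommGroup H :=
      { (inferInstance : Group H) with mul_comm := fun a b => IsMulCommutative.is_comm.comm a b }
    infer_instance
  refine Cfsg.Lib.Transfer.exists_complement_of_fusion H hH hHall fun x hx g hg => ⟨1, one_mem H, ?_⟩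
  rw [one_mul, inv_one, mul_one]
  set y := g * x * g⁻¹
  set C := centralizer ({y} : Set G)
  have hHC : H ≤ C := fun z hz => mem_centralizer_singleton_iff.2
    (le_centralizer_iff_isMulCommutative.2 inferInstance hg z hz)
  have hgC : MulAut.conj g • H ≤ C := by
    intro z hz
    rw [mem_pointwise_smul_iff_inv_smul_mem, MulAut.smul_def, MulAut.conj_inv_apply] at hz
    have h1 : g⁻¹ * z * g * x = x * (g⁻¹ * z * g) :=
      le_centralizer_iff_isMulCommutative.2 inferInstance hx _ hz
    refine mem_centralizer_singleton_iff.2 ?_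
    calc z * (g * x * g⁻¹) = g * (g⁻¹ * z * g * x) * g⁻¹ := by group
      _ = g * (x * (g⁻¹ * z * g)) * g⁻¹ := by rw [h1]
      _ = g * x * g⁻¹ * z := by group
  have hc1 : Nat.card (H.subgroupOf C) = Nat.card H := Nat.card_congr (subgroupOfEquivOfLe hHC).toEquiv
  have hc2 : Nat.card ((MulAut.conj g • H).subgroupOf C) = Nat.card H := by
    rw [Nat.card_congr (subgroupOfEquivOfLe hgC).toEquiv]
    exact (hall_conj_props hH hHall g).1
  have hnilC : Group.IsNilpotent (H.subgroupOf C) :=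
    Group.nilpotent_of_mulEquiv (subgroupOfEquivOfLe hHC).symm
  have hHallC : (Nat.card (H.subgroupOf C)).Coprime (H.subgroupOf C).index := by
    rw [hc1]
    exact hHall.coprime_dvd_right (relIndex_dvd_index_of_le hHC)
  obtain ⟨c, hc⟩ := exists_conj_ge hnilC hHallC ((MulAut.conj g • H).subgroupOf C)
    (fun q _ hq => by rwa [hc1, ← hc2])
  have heq := eq_of_le_of_card_ge hc (by rw [(hall_conj_props hnilC hHallC c).1, hc1, hc2])
  have hn : (c : G)⁻¹ * g ∈ normalizer (H : Set G) := by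
    refine mem_normalizer_iff.2 fun z => ?_
    constructor
    · intro hz
      have h1 : g * z * g⁻¹ ∈ MulAut.conj g • H := by
        rw [mem_pointwise_smul_iff_inv_smul_mem, MulAut.smul_def, MulAut.conj_inv_apply]
        simpa [mul_assoc] using hz
      have h2 : (⟨g * z * g⁻¹, hgC h1⟩ : C) ∈ MulAut.conj c • H.subgroupOf C := heq ▸ h1
      rw [mem_pointwise_smul_iff_inv_smul_mem, MulAut.smul_def, MulAut.conj_inv_apply] at h2
      have h3 : (c : G)⁻¹ * (g * z * g⁻¹) * c ∈ H := h2
      simpa [mul_assoc] using h3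
    · intro hz
      have hw : (c : G)⁻¹ * g * z * ((c : G)⁻¹ * g)⁻¹ ∈ C := hHC hz
      have h2 : c * (⟨_, hw⟩ : C) * c⁻¹ ∈ MulAut.conj c • H.subgroupOf C :=
        smul_mem_pointwise_smul _ _ _ (show (⟨_, hw⟩ : C) ∈ H.subgroupOf C from hz)
      rw [← heq] at h2
      have h3 : (c : G) * ((c : G)⁻¹ * g * z * ((c : G)⁻¹ * g)⁻¹) * (c : G)⁻¹ ∈ MulAut.conj g • H := h2
      rw [mem_pointwise_smul_iff_inv_smul_mem, MulAut.smul_def, MulAut.conj_inv_apply] at h3
      simpa [mul_assoc] using h3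
  have hx1 : x * ((c : G)⁻¹ * g) = (c : G)⁻¹ * g * x := h hn x hx
  have hcy : (c : G) * y = y * c := mem_centralizer_singleton_iff.1 c.2
  calc g * x * g⁻¹ = (c : G)⁻¹ * (y * c) := by rw [← hcy, inv_mul_cancel_left]
    _ = ((c : G)⁻¹ * g * x) * ((c : G)⁻¹ * g)⁻¹ := by simp only [y]; group
    _ = x := by rw [← hx1, mul_inv_cancel_right]

end Cfsg.Lib.SolvStruct
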