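/-
Small facts on finite groups used across the solvable-structure statements.
-/
import Mathlib

set_option linter.style.haveILetI false
set_option linter.unusedSectionVars false

namespace Cfsg.Lib.SolvStruct

open Subgroup

variable {G : Type*} [Group G] [Finite G]

/-- A finite group is not the union of the conjugates of a proper subgroup. -/
theorem exists_not_mem_conj (M : Subgroup G) (hM : M ≠ ⊤) :
    ∃ g : G, ∀ x : G, x⁻¹ * g * x ∉ M := by
  classical
  by_contra h
  push Not at h
  have hfix : ∀ g : G, ∃ q : G ⧸ M, g • q = q := fun g => by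
    obtain ⟨x, hx⟩ := h g
    refine ⟨(x : G ⧸ M), ?_⟩
    rw [MulAction.Quotient.smul_mk, QuotientGroup.eq, smul_eq_mul]
    have := inv_mem hx
    simpa [mul_assoc] using this
  haveI := Fintype.ofFinite G
  haveI := Fintype.ofFinite (G ⧸ M)
  haveI : ∀ g : G, Fintype (MulAction.fixedBy (G ⧸ M) g) := fun g => Fintype.ofFinite _
  haveI : Fintype (MulAction.orbitRel.Quotient G (G ⧸ M)) := Fintype.ofFinite _
  have hsum := MulAction.sum_card_fixedBy_eq_card_orbits_mul_card_group G (G ⧸ M)
  have hone : Fintype.card (MulAction.orbitRel.Quotient G (G ⧸ M)) = 1 := by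
    haveI : Subsingleton (MulAction.orbitRel.Quotient G (G ⧸ M)) :=
      (MulAction.pretransitive_iff_subsingleton_quotient G (G ⧸ M)).1 inferInstance
    exact Fintype.card_eq_one_iff_nonempty_unique.2 ⟨uniqueOfSubsingleton (Quotient.mk'' ((1 : G) : G ⧸ M))⟩
  rw [hone, one_mul] at hsum
  have hlt : ∑ _g : G, 1 < ∑ g : G, Fintype.card (MulAction.fixedBy (G ⧸ M) g) := by
    refine Finset.sum_lt_sum (fun g _ => ?_) ⟨1, Finset.mem_univ _, ?_⟩
    · obtain ⟨q, hq⟩ := hfix g
      exact Fintype.card_pos_iff.2 ⟨⟨q, hq⟩⟩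
    · rw [← Nat.card_eq_fintype_card, MulAction.fixedBy_one_eq_univ, Nat.card_congr (Equiv.Set.univ _),
        ← M.index_eq_card]
      exact Subgroup.one_lt_index_of_ne_top hM
  rw [hsum] at hlt
  simp at hlt

/-- The three subgroup lemma modulo a normal subgroup. -/
theorem three_subgroup_le {A B C N : Subgroup G} [N.Normal] (h1 : ⁅⁅B, C⁆, A⁆ ≤ N)
    (h2 : ⁅⁅C, A⁆, B⁆ ≤ N) : ⁅⁅A, B⁆, C⁆ ≤ N := by
  have hmap : ∀ K : Subgroup G, K.map (QuotientGroup.mk' N) = ⊥ ↔ K ≤ N := fun K => by
    rw [Subgroup.map_eq_bot_iff, QuotientGroup.ker_mk']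
  rw [← hmap, map_commutator, map_commutator] at h1 h2 ⊢
  exact commutator_commutator_eq_bot_of_rotate h1 h2

end Cfsg.Lib.SolvStruct
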