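/-
Closure properties of supersolvable groups, phrased with an inductive chain predicate.
-/
import Cfsg.Agent.Supersolvable.Tower
import Cfsg.Agent.SolvStruct.Basics

set_option linter.style.haveILetI false
set_option linter.unusedSectionVars false

namespace Cfsg.Lib.SolvStruct

open Subgroup
open scoped commutatorElement

universe u v

variable {G : Type u} [Group G]

/-- There is a normal chain with cyclic steps from `N` up to `⊤`. -/
inductive CycTop : Subgroup G → Prop
  | top : CycTop ⊤
  | step (N M : Subgroup G) (g : G) (hN : N.Normal) (hM : M = N ⊔ zpowers g) (h : CycTop M) :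
      CycTop N

theorem CycTop.normal {N : Subgroup G} (h : CycTop N) : N.Normal := by
  cases h with
  | top => infer_instance
  | step _ _ _ hN => exact hN

theorem cycTop_of_isSupersolvable (h : Cfsg.IsSupersolvable G) : CycTop (⊥ : Subgroup G) := by
  obtain ⟨n, H, h0, hl, hn, hs⟩ := h
  rw [← h0]
  suffices ∀ i : Fin (n + 1), CycTop (H i) from this 0
  intro i
  induction i using Fin.reverseInduction with
  | last => rw [hl]; exact CycTop.top
  | cast i ih =>
    obtain ⟨g, hg⟩ := hs i
    exact CycTop.step _ _ g (hn _) hg ih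

theorem CycTop.exists_chain {N : Subgroup G} (h : CycTop N) :
    ∃ (n : ℕ) (H : Fin (n + 1) → Subgroup G), H 0 = N ∧ H (Fin.last n) = ⊤ ∧ (∀ i, (H i).Normal) ∧
      ∀ i : Fin n, ∃ g : G, H i.succ = H i.castSucc ⊔ zpowers g := by
  induction h with
  | top => exact ⟨0, fun _ => ⊤, rfl, rfl, fun _ => inferInstance, fun i => i.elim0⟩
  | step N M g hN hM _ ih =>
    obtain ⟨n, H, h0, hl, hn, hs⟩ := ih
    refine ⟨n + 1, Fin.cons N H, rfl, by rw [← Fin.succ_last, Fin.cons_succ, hl], ?_, ?_⟩
    · intro i
      induction i using Fin.cases with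
      | zero => simpa using hN
      | succ j => simpa using hn j
    · intro i
      induction i using Fin.cases with
      | zero => exact ⟨g, by simp [h0, hM]⟩
      | succ j =>
        obtain ⟨x, hx⟩ := hs j
        refine ⟨x, ?_⟩
        rw [Fin.cons_succ, ← Fin.succ_castSucc, Fin.cons_succ]
        exact hx

theorem isSupersolvable_of_cycTop (h : CycTop (⊥ : Subgroup G)) : Cfsg.IsSupersolvable G :=
  h.exists_chain

theorem CycTop.comap {K : Type v} [Group K] (f : K →* G) {N : Subgroup G} (h : CycTop N) :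
    CycTop (N.comap f) := by
  induction h with
  | top => rw [Subgroup.comap_top]; exact CycTop.top
  | step N M g hN hM _ ih =>
    haveI := hN
    set π := QuotientGroup.mk' N
    have hle : (M.comap f).map (π.comp f) ≤ zpowers (π g) := by
      rw [← Subgroup.map_map]
      refine (Subgroup.map_mono (map_comap_le f M)).trans ?_
      rw [hM, Subgroup.map_sup, QuotientGroup.map_mk'_self, bot_sup_eq, MonoidHom.map_zpowers]
    haveI : IsCyclic ((M.comap f).map (π.comp f)) := isCyclic_of_le hle
    obtain ⟨⟨_, k, hk, rfl⟩, hgen⟩ := IsCyclic.exists_generator (α := (M.comap f).map (π.comp f))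
    refine CycTop.step _ (M.comap f) k inferInstance ?_ ih
    refine le_antisymm (fun x hx => ?_) (sup_le (Subgroup.comap_mono (hM ▸ le_sup_left)) (zpowers_le.2 hk))
    obtain ⟨i, hi⟩ := mem_zpowers_iff.1 (hgen ⟨_, x, hx, rfl⟩)
    have hi' : π (f k) ^ i = π (f x) := by simpa using congrArg Subtype.val hi
    have hmem : x * (k ^ i)⁻¹ ∈ N.comap f := by
      rw [mem_comap, ← QuotientGroup.eq_one_iff]
      show π (f (x * (k ^ i)⁻¹)) = 1
      rw [map_mul, map_mul, map_inv, map_inv, map_zpow, map_zpow, hi', mul_inv_cancel]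
    simpa using mul_mem_sup hmem (zpow_mem (mem_zpowers k) i)

theorem CycTop.map {K : Type v} [Group K] {f : G →* K} (hf : Function.Surjective f)
    {N : Subgroup G} (h : CycTop N) : CycTop (N.map f) := by
  induction h with
  | top => rw [Subgroup.map_top_of_surjective f hf]; exact CycTop.top
  | step N M g hN hM _ ih =>
    exact CycTop.step _ _ (f g) (hN.map f hf) (by rw [hM, Subgroup.map_sup, MonoidHom.map_zpowers]) ih

theorem isSupersolvable_of_injective {K : Type v} [Group K] (h : Cfsg.IsSupersolvable G) (f : K →* G)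
    (hf : Function.Injective f) : Cfsg.IsSupersolvable K := by
  have h1 := (cycTop_of_isSupersolvable h).comap f
  rw [MonoidHom.comap_bot, (MonoidHom.ker_eq_bot_iff f).2 hf] at h1
  exact isSupersolvable_of_cycTop h1

theorem isSupersolvable_of_surjective {K : Type v} [Group K] (h : Cfsg.IsSupersolvable G) (f : G →* K)
    (hf : Function.Surjective f) : Cfsg.IsSupersolvable K := by
  have h1 := (cycTop_of_isSupersolvable h).map hf
  rw [Subgroup.map_bot] at h1
  exact isSupersolvable_of_cycTop h1

/-- A cyclic normal subgroup extended by a supersolvable quotient. -/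
theorem isSupersolvable_of_quotient (N : Subgroup G) [hN : N.Normal] [hc : IsCyclic N]
    (h : Cfsg.IsSupersolvable (G ⧸ N)) : Cfsg.IsSupersolvable G := by
  have h1 := (cycTop_of_isSupersolvable h).comap (QuotientGroup.mk' N)
  rw [MonoidHom.comap_bot, QuotientGroup.ker_mk'] at h1
  obtain ⟨g, hg⟩ := IsCyclic.exists_generator (α := N)
  refine isSupersolvable_of_cycTop (CycTop.step _ N g inferInstance ?_ h1)
  rw [bot_sup_eq]
  refine le_antisymm (fun x hx => ?_) (zpowers_le.2 g.2)
  obtain ⟨i, hi⟩ := mem_zpowers_iff.1 (hg ⟨x, hx⟩)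
  exact mem_zpowers_iff.2 ⟨i, by simpa using congrArg Subtype.val hi⟩

theorem isSupersolvable_prod {H : Type v} [Group H] (hG : Cfsg.IsSupersolvable G)
    (hH : Cfsg.IsSupersolvable H) : Cfsg.IsSupersolvable (G × H) := by
  have htop : CycTop ((⊤ : Subgroup H).map (MonoidHom.inr G H)) := by
    have h1 := (cycTop_of_isSupersolvable hG).comap (MonoidHom.fst G H)
    have he : (⊥ : Subgroup G).comap (MonoidHom.fst G H) = (⊤ : Subgroup H).map (MonoidHom.inr G H) := by
      ext ⟨a, b⟩
      simp [Subgroup.mem_map, Subgroup.mem_prod, eq_comm]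
    rwa [he] at h1
  suffices ∀ N : Subgroup H, CycTop N → CycTop (N.map (MonoidHom.inr G H)) by
    have := this ⊥ (cycTop_of_isSupersolvable hH)
    rw [Subgroup.map_bot] at this
    exact isSupersolvable_of_cycTop this
  intro N hN
  induction hN with
  | top => exact htop
  | step N M g hn hM _ ih =>
    refine CycTop.step _ _ ((1 : G), g) ⟨?_⟩ ?_ ih
    · rintro _ ⟨x, hx, rfl⟩ ⟨a, b⟩
      exact ⟨b * x * b⁻¹, hn.conj_mem x hx b, by simp⟩
    · rw [hM, Subgroup.map_sup, MonoidHom.map_zpowers, MonoidHom.inr_apply]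

/-- A cyclic normal subgroup is centralised by the derived subgroup. -/
theorem commutator_le_centralizer_of_cyclic (C : Subgroup G) [C.Normal] [IsCyclic C] :
    commutator G ≤ centralizer (C : Set G) := by
  obtain ⟨c, hc⟩ := IsCyclic.exists_generator (α := C)
  let φ : G →* MulAut C := MulAut.conjNormal
  have hval : ∀ g : G, ∃ k : ℤ, φ g c = c ^ k := fun g => by
    obtain ⟨k, hk⟩ := mem_zpowers_iff.1 (hc (φ g c))
    exact ⟨k, hk.symm⟩
  have hcomm : ∀ g h : G, φ g * φ h = φ h * φ g := by
    intro g h
    ext x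
    obtain ⟨j, rfl⟩ := mem_zpowers_iff.1 (hc x)
    obtain ⟨m, hm⟩ := hval g
    obtain ⟨n, hn⟩ := hval h
    simp only [MulAut.mul_apply, map_zpow, hm, hn, ← zpow_mul]
    congr 2
    ring
  have hker : commutator G ≤ φ.ker := by
    rw [commutator_def, Subgroup.commutator_le]
    intro g _ h _
    rw [MonoidHom.mem_ker, map_commutatorElement, commutatorElement_eq_one_iff_mul_comm]
    exact hcomm g h
  intro g hg y hy
  have h3 : g * y * g⁻¹ = y :=
    congrArg Subtype.val (DFunLike.congr_fun (hker hg) (⟨y, hy⟩ : C))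
  exact (mul_inv_eq_iff_eq_mul.1 h3).symm

theorem isNilpotent_commutator_of_isSupersolvable (hG : Cfsg.IsSupersolvable G) :
    Group.IsNilpotent (commutator G) := by
  refine (Subgroup.isNilpotent_iff_lowerCentralSeries _).2 ?_
  suffices ∀ N : Subgroup G, CycTop N → ∃ n, (commutator G).lowerCentralSeries n ≤ N by
    obtain ⟨n, hn⟩ := this ⊥ (cycTop_of_isSupersolvable hG)
    exact ⟨n, le_bot_iff.1 hn⟩
  intro N hN
  induction hN with
  | top => exact ⟨0, le_top⟩
  | step N M g hn hM h ih =>
    obtain ⟨n, hn'⟩ := ih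
    haveI := hn
    haveI := h.normal
    refine ⟨n + 1, ?_⟩
    rw [Subgroup.lowerCentralSeries_succ]
    refine (Subgroup.commutator_mono hn' le_rfl).trans ?_
    set π := QuotientGroup.mk' N
    have hMb : M.map π = zpowers (π g) := by
      rw [hM, Subgroup.map_sup, QuotientGroup.map_mk'_self, bot_sup_eq, MonoidHom.map_zpowers]
    haveI : (M.map π).Normal := Subgroup.Normal.map inferInstance π (QuotientGroup.mk'_surjective N)
    haveI : IsCyclic (M.map π) := by rw [hMb]; infer_instance
    rw [Subgroup.commutator_le]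
    intro x hx y hy
    rw [← QuotientGroup.eq_one_iff]
    show π ⁅x, y⁆ = 1
    rw [map_commutatorElement, commutatorElement_eq_one_iff_mul_comm]
    have hy' : π y ∈ commutator (G ⧸ N) := by
      have h1 : (commutator G).map π ≤ commutator (G ⧸ N) := by
        rw [commutator_def, map_commutator]
        exact Subgroup.commutator_mono le_top le_top
      exact h1 ⟨y, hy, rfl⟩
    exact commutator_le_centralizer_of_cyclic (M.map π) hy' _ ⟨x, hx, rfl⟩

/-- In a supersolvable group a nontrivial normal subgroup contains a normal subgroup of prime order. -/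
theorem exists_normal_prime_le [Finite G] (hG : Cfsg.IsSupersolvable G) (K : Subgroup G) [hK : K.Normal]
    (hKne : K ≠ ⊥) : ∃ C : Subgroup G, C.Normal ∧ C ≤ K ∧ (Nat.card C).Prime := by
  suffices ∀ A : Subgroup G, CycTop A → K ⊓ A = ⊥ →
      ∃ C : Subgroup G, C.Normal ∧ C ≤ K ∧ (Nat.card C).Prime from
    this ⊥ (cycTop_of_isSupersolvable hG) (inf_bot_eq K)
  intro A hA
  induction hA with
  | top => intro h; rw [inf_top_eq] at h; exact absurd h hKne
  | step N M g hn hM h ih =>
    intro hKN
    by_cases hKM : K ⊓ M = ⊥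
    · exact ih hKM
    haveI := hn
    haveI := h.normal
    set D := K ⊓ M
    set π := QuotientGroup.mk' N
    have hinj : Function.Injective (π.comp D.subtype) := by
      rw [injective_iff_map_eq_one]
      intro x hx
      have h1 : (x : G) ∈ K ⊓ N := mem_inf.2 ⟨x.2.1, (QuotientGroup.eq_one_iff _).1 hx⟩
      rw [hKN, mem_bot] at h1
      exact Subtype.ext h1
    have hle : D.map π ≤ zpowers (π g) := by
      refine (Subgroup.map_mono inf_le_right).trans (le_of_eq ?_)
      rw [hM, Subgroup.map_sup, QuotientGroup.map_mk'_self, bot_sup_eq, MonoidHom.map_zpowers]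
    haveI : IsCyclic D := isCyclic_of_injective
      ((π.comp D.subtype).codRestrict (zpowers (π g)) fun x => hle ⟨x, x.2, rfl⟩)
      fun x y h => hinj (congrArg Subtype.val h)
    obtain ⟨r, hr, hrd⟩ := Nat.exists_prime_and_dvd (fun h1 => hKM (Subgroup.card_eq_one.1 h1))
    haveI := Fact.mk hr
    obtain ⟨c, hc⟩ := exists_prime_orderOf_dvd_card' (G := D) r hrd
    refine ⟨zpowers (c : G), ⟨fun x hx y => ?_⟩, zpowers_le.2 c.2.1, ?_⟩
    · obtain ⟨i, rfl⟩ := mem_zpowers_iff.1 hx
      obtain ⟨d, hd⟩ := IsCyclic.exists_generator (α := D)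
      obtain ⟨m, hm⟩ := mem_zpowers_iff.1 (hd (MulAut.conjNormal y d))
      obtain ⟨j, hj⟩ := mem_zpowers_iff.1 (hd c)
      have h2 : MulAut.conjNormal y (c ^ i) = c ^ (m * i) := by
        rw [← hj, map_zpow, map_zpow, ← hm, ← zpow_mul, ← zpow_mul, ← zpow_mul]
        congr 1; ring
      refine mem_zpowers_iff.2 ⟨m * i, ?_⟩
      have h3 := congrArg Subtype.val h2
      rw [MulAut.conjNormal_apply, coe_zpow, coe_zpow] at h3
      exact h3.symm
    · rw [Nat.card_zpowers, Subgroup.orderOf_coe, hc]
      exact hr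

end Cfsg.Lib.SolvStruct
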