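/-
A product of two cyclic subgroups is supersoluble (Huppert, via Douglas' lemma).
-/
import Cfsg.Agent.SolvStruct.Supersolvable

set_option linter.style.haveILetI false
set_option linter.unusedSectionVars false

namespace Cfsg.Lib.SolvStruct.CyclicProduct

open Subgroup

universe u

theorem eq_of_card_eq_of_isCyclic {G : Type u} [Group G] [Finite G] {A D E : Subgroup G} [IsCyclic A]
    (hD : D ≤ A) (hE : E ≤ A) (h : Nat.card D = Nat.card E) : D = E := by
  classical
  haveI := Fintype.ofFinite A
  have hd : 0 < Nat.card D := Nat.card_pos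
  set S := Finset.univ.filter (fun a : A => a ^ Nat.card D = 1) with hS
  have hS' : S.card ≤ Nat.card D := IsCyclic.card_pow_eq_one_le hd
  have key : ∀ F : Subgroup G, F ≤ A → Nat.card F = Nat.card D →
      Finset.univ.filter (fun a : A => (a : G) ∈ F) = S := by
    intro F hF hc
    refine Finset.eq_of_subset_of_card_le (fun a ha => ?_) (hS'.trans ?_)
    · rw [Finset.mem_filter] at ha
      rw [hS, Finset.mem_filter]
      refine ⟨Finset.mem_univ _, Subtype.ext ?_⟩
      rw [coe_pow, ← hc, coe_one]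
      have := pow_card_eq_one' (x := (⟨(a : G), ha.2⟩ : F))
      exact congrArg Subtype.val this
    · rw [← hc, ← Nat.card_congr (subgroupOfEquivOfLe hF).toEquiv, Nat.card_eq_fintype_card,
        ← Fintype.card_coe]
      refine Fintype.card_le_of_injective (fun x => ⟨x.1, ?_⟩) fun x y e => ?_
      · rw [Finset.mem_filter]
        exact ⟨Finset.mem_univ _, mem_subgroupOf.1 x.2⟩
      · exact Subtype.ext (by simpa using e)
  ext x
  constructor <;> intro hx
  · have hm : (⟨x, hD hx⟩ : A) ∈ Finset.univ.filter (fun a : A => (a : G) ∈ D) := by simp [hx]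
    rw [key D hD rfl, ← key E hE h.symm] at hm
    simpa using hm
  · have hm : (⟨x, hE hx⟩ : A) ∈ Finset.univ.filter (fun a : A => (a : G) ∈ E) := by simp [hx]
    rw [key E hE h.symm, ← key D hD rfl] at hm
    simpa using hm

theorem isSupersolvable_of_isCyclic (G : Type u) [Group G] [IsCyclic G] : Cfsg.IsSupersolvable G := by
  obtain ⟨g, hg⟩ := IsCyclic.exists_generator (α := G)
  refine isSupersolvable_of_cycTop (CycTop.step _ ⊤ g inferInstance ?_ CycTop.top)
  rw [bot_sup_eq]
  exact (eq_top_iff' _ |>.2 hg).symm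

/-- Douglas: if the longer factor is proper it has a nontrivial subgroup normal in the product. -/
theorem exists_normal {G : Type u} [Group G] [Finite G] (A B : Subgroup G) [hA : IsCyclic A] [hB : IsCyclic B]
    (hAB : ∀ g : G, ∃ a ∈ A, ∃ b ∈ B, g = a * b) (hle : Nat.card B ≤ Nat.card A) (htop : A ≠ ⊤) :
    ∃ D : Subgroup G, D.Normal ∧ D ≤ A ∧ D ≠ ⊥ := by
  obtain ⟨b, hb⟩ := (Subgroup.isCyclic_iff_exists_zpowers_eq_top B).1 hB
  have hbA : b ∉ A := fun h => htop (eq_top_iff.2 fun g _ => by
    obtain ⟨a, ha, c, hc, rfl⟩ := hAB g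
    exact mul_mem ha ((zpowers_le.2 h) (hb.ge hc)))
  set f := (MulAut.conj b).toMonoidHom
  set D := A ⊓ A.map f
  have hne : D ≠ ⊥ := by
    intro h0
    haveI := Fintype.ofFinite G
    let m : A × A → G := fun x => (x.1 : G) * (b * x.2 * b⁻¹)
    have hinj : Function.Injective m := by
      rintro ⟨a, a'⟩ ⟨c, c'⟩ e
      simp only [m] at e
      have h1 : (c : G)⁻¹ * a = b * (c' : G) * b⁻¹ * (b * a' * b⁻¹)⁻¹ := by
        rw [eq_mul_inv_iff_mul_eq, mul_assoc, e, inv_mul_cancel_left]
      have h2 : (c : G)⁻¹ * a ∈ D := by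
        refine Subgroup.mem_inf.2 ⟨mul_mem (inv_mem c.2) a.2, ?_⟩
        rw [h1]
        exact mul_mem ⟨c', c'.2, rfl⟩ (inv_mem ⟨a', a'.2, rfl⟩)
      rw [h0, mem_bot] at h2
      have h3 : (c : G) = a := inv_mul_eq_one.1 h2
      rw [h3] at e
      have h4 := mul_left_cancel (mul_right_cancel (mul_left_cancel e))
      exact Prod.ext (Subtype.ext h3.symm) (Subtype.ext h4)
    have hns : ¬ Function.Surjective m := by
      intro hs
      obtain ⟨⟨a, a'⟩, e⟩ := hs b⁻¹
      simp only [m] at e
      have h1 : (a : G) * b * a' = 1 := by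
        have := congrArg (· * b) e
        simpa [mul_assoc] using this
      refine hbA ?_
      have h2 : b = (a : G)⁻¹ * (a' : G)⁻¹ := by
        rw [eq_inv_mul_iff_mul_eq, eq_inv_iff_mul_eq_one]
        exact h1
      rw [h2]
      exact mul_mem (inv_mem a.2) (inv_mem a'.2)
    have h1 : Nat.card (A × A) < Nat.card G := by
      haveI := Fintype.ofFinite (A × A)
      simp only [Nat.card_eq_fintype_card]
      exact Fintype.card_lt_of_injective_not_surjective m hinj hns
    have h2 : Nat.card G ≤ Nat.card (A × B) := by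
      refine Nat.card_le_card_of_surjective (fun x : A × B => (x.1 : G) * x.2) fun g => ?_
      obtain ⟨a, ha, c, hc, rfl⟩ := hAB g
      exact ⟨(⟨a, ha⟩, ⟨c, hc⟩), rfl⟩
    rw [Nat.card_prod] at h1 h2
    have h3 := Nat.mul_le_mul_left (Nat.card A) hle
    omega
  refine ⟨D, ?_, inf_le_left, hne⟩
  have hnb : D.map f = D := by
    have hcard : Nat.card (D.comap f) = Nat.card D := by
      have e1 := Nat.card_congr (Subgroup.equivMapOfInjective (D.comap f) f (MulAut.conj b).injective).toEquiv
      have e2 : (D.comap f).map f = D := Subgroup.map_comap_eq_self_of_surjective (MulAut.conj b).surjective D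
      rw [e2] at e1
      exact e1
    have hle' : D.comap f ≤ A := fun x hx => by
      obtain ⟨y, hy, e⟩ := (Subgroup.mem_inf.1 hx).2
      exact (MulAut.conj b).injective e ▸ hy
    have h5 := eq_of_card_eq_of_isCyclic (A := A) hle' inf_le_left hcard
    calc D.map f = (D.comap f).map f := by rw [h5]
      _ = D := Subgroup.map_comap_eq_self_of_surjective (MulAut.conj b).surjective D
  have hbn : b ∈ normalizer (D : Set G) := Subgroup.mem_normalizer_iff_map_conj_eq.2 hnb
  rw [← Subgroup.normalizer_eq_top_iff, eq_top_iff]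
  intro g _
  obtain ⟨a, ha, c, hc, rfl⟩ := hAB g
  refine mul_mem ?_ ((zpowers_le.2 hbn) (hb.ge hc))
  refine Subgroup.mem_normalizer_iff.2 fun x => ?_
  have hcm : ∀ y ∈ A, a * y * a⁻¹ = y := fun y hy => by
    have := congrArg Subtype.val (IsMulCommutative.is_comm.comm (⟨a, ha⟩ : A) ⟨y, hy⟩)
    simp only [coe_mul] at this
    rw [this, mul_inv_cancel_right]
  constructor
  · intro hx
    rw [hcm x hx.1]
    exact hx
  · intro hx
    have h6 := hcm _ hx.1
    have h7 : a * x * a⁻¹ = x := mul_left_cancel (mul_right_cancel h6)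
    rwa [h7] at hx

theorem isSupersolvable_of_mul : ∀ (n : ℕ) (G : Type u) [Group G] [Finite G], Nat.card G ≤ n →
    ∀ A B : Subgroup G, IsCyclic A → IsCyclic B → (∀ g : G, ∃ a ∈ A, ∃ b ∈ B, g = a * b) →
      Cfsg.IsSupersolvable G := by
  intro n
  induction n with
  | zero => intro G _ _ h; exact absurd h (by have := Nat.card_pos (α := G); omega)
  | succ n ih =>
    intro G _ _ hn A B hA hB hAB
    haveI := hA
    haveI := hB
    by_cases hAt : A = ⊤
    · subst hAt
      haveI : IsCyclic G := isCyclic_of_surjective (⊤ : Subgroup G).subtype fun g => ⟨⟨g, mem_top g⟩, rfl⟩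
      exact isSupersolvable_of_isCyclic G
    by_cases hBt : B = ⊤
    · subst hBt
      haveI : IsCyclic G := isCyclic_of_surjective (⊤ : Subgroup G).subtype fun g => ⟨⟨g, mem_top g⟩, rfl⟩
      exact isSupersolvable_of_isCyclic G
    have hBA : ∀ g : G, ∃ b ∈ B, ∃ a ∈ A, g = b * a := fun g => by
      obtain ⟨a, ha, b, hb, e⟩ := hAB g⁻¹
      exact ⟨b⁻¹, inv_mem hb, a⁻¹, inv_mem ha, by rw [← mul_inv_rev, ← e, inv_inv]⟩
    have key : ∀ D : Subgroup G, D.Normal → IsCyclic D → D ≠ ⊥ → Cfsg.IsSupersolvable G := by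
      intro D hD hc hne
      haveI := hD
      haveI := hc
      refine isSupersolvable_of_quotient D (ih (G ⧸ D) ?_ (A.map (QuotientGroup.mk' D))
        (B.map (QuotientGroup.mk' D))
        (isCyclic_of_surjective _ (MonoidHom.subgroupMap_surjective (QuotientGroup.mk' D) A))
        (isCyclic_of_surjective _ (MonoidHom.subgroupMap_surjective (QuotientGroup.mk' D) B)) ?_)
      · have h1 := Subgroup.card_eq_card_quotient_mul_card_subgroup D
        have h2 : 1 < Nat.card D := D.one_lt_card_iff_ne_bot.2 hne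
        have h3 : 0 < Nat.card (G ⧸ D) := Nat.card_pos
        nlinarith
      · intro x
        obtain ⟨g, rfl⟩ := QuotientGroup.mk'_surjective D x
        obtain ⟨a, ha, b, hb, rfl⟩ := hAB g
        exact ⟨_, mem_map_of_mem _ ha, _, mem_map_of_mem _ hb, map_mul _ _ _⟩
    rcases le_total (Nat.card B) (Nat.card A) with hle | hle
    · obtain ⟨D, hD, hDA, hne⟩ := exists_normal A B hAB hle hAt
      exact key D hD (isCyclic_of_le hDA) hne
    · obtain ⟨D, hD, hDA, hne⟩ := exists_normal B A hBA hle hBt
      exact key D hD (isCyclic_of_le hDA) hne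

end Cfsg.Lib.SolvStruct.CyclicProduct
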