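/-
Fixed vectors of a `p`-soluble group on a module generated by a vector fixed by a Sylow
`p`-subgroup.
-/
import Cfsg.Prelude.Def_Local
import Cfsg.Agent.Components.ZJ.Reduce
import Mathlib.RepresentationTheory.Invariants
import Mathlib.GroupTheory.Sylow
import Mathlib.GroupTheory.GroupAction.Quotient
import Mathlib.LinearAlgebra.FiniteDimensional.Basic

set_option autoImplicit false
set_option linter.style.haveILetI false
set_option linter.unusedSectionVars false

namespace Cfsg.Lib.SolvStruct.CoprimeOrbits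

open Subgroup
open scoped Pointwise

variable {k V H : Type*} [Field k] [AddCommGroup V] [Module k V] [Group H] [Finite H]

theorem isPSolvable_subgroup {p : ℕ} (h : Cfsg.IsPSolvable p H) (hp : p.Prime) (B : Subgroup H) :
    Cfsg.IsPSolvable p B := by
  obtain ⟨n, M, h0, hn, hmono, hM, hstep⟩ := h
  refine ⟨n, fun i => (M i).subgroupOf B, by simp [h0], by simp [hn],
    fun i j hij => comap_mono (hmono hij), fun i => by haveI := hM i; infer_instance, fun i => ?_⟩
  haveI := hM i.castSucc
  have hd : ((M i.castSucc).subgroupOf B).relIndex ((M i.succ).subgroupOf B) ∣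
      (M i.castSucc).relIndex (M i.succ) := by
    have e : ((M i.castSucc).subgroupOf B).relIndex ((M i.succ).subgroupOf B) =
        (M i.castSucc).relIndex (M i.succ ⊓ B) := by
      rw [← inf_subgroupOf_right (M i.succ) B]
      exact relIndex_subgroupOf inf_le_right
    rw [e, ← relIndex_subgroupOf (inf_le_left : M i.succ ⊓ B ≤ M i.succ)]
    exact relIndex_dvd_index_of_normal _ _
  rcases hstep i with ⟨m, hm⟩ | hm
  · rw [hm, Nat.dvd_prime_pow hp] at hd
    obtain ⟨j, -, hj⟩ := hd
    exact Or.inl ⟨j, hj⟩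
  · exact Or.inr (hm.coprime_dvd_left hd)

theorem mem_span_orbit_sum (p : ℕ) [Fact p.Prime] [CharP k p] (hsol : Cfsg.IsPSolvable p H)
    (ρ : Representation k H V) (a : V) (P : Sylow p H)
    (hfix : ∀ x : H, x ∈ (P : Subgroup H) → ρ x a = a)
    (hspan : Submodule.span k (Set.range fun h : H => ρ h a) = ⊤)
    (v : V) (hv : ∀ h, ρ h v = v) :
    v ∈ Submodule.span k {∑ u ∈ (Set.finite_range fun h : H => ρ h a).toFinset, u} := by
  classical
  haveI := Fintype.ofFinite H
  have hp : p.Prime := Fact.out
  have hρ : ∀ (g g' : H) (w : V), ρ (g * g') w = ρ g (ρ g' w) := fun g g' w => by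
    rw [map_mul]; rfl
  obtain ⟨n, M, h0, hn, hmono, hM, hstep⟩ := hsol
  have key : ∀ i : Fin (n + 1), ∃ T : Finset H, (∀ t ∈ T, t ∈ M i) ∧
      (∀ x ∈ M i, ∃ t ∈ T, t⁻¹ * x ∈ (P : Subgroup H)) ∧
      (∀ t ∈ T, ∀ t' ∈ T, t⁻¹ * t' ∈ (P : Subgroup H) → t = t') ∧
      ∀ w, (∀ m ∈ M i, ρ m w = w) →
        w ∈ Submodule.span k (Set.range fun h : H => ρ h (∑ t ∈ T, ρ t a)) := by
    intro i
    induction i using Fin.induction with
    | zero =>
      refine ⟨{1}, fun t ht => ?_, fun x hx => ⟨1, by simp, ?_⟩, fun t ht t' ht' _ => ?_, fun w _ => ?_⟩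
      · rw [Finset.mem_singleton.1 ht]; exact one_mem _
      · rw [h0, mem_bot] at hx
        rw [hx]; simp
      · rw [Finset.mem_singleton.1 ht, Finset.mem_singleton.1 ht']
      · simp [hspan]
    | succ i ih =>
      obtain ⟨T, hTM, hTc, hTi, hTs⟩ := ih
      set N := M i.castSucc
      set N' := M i.succ
      haveI : N.Normal := hM _
      haveI : N'.Normal := hM _
      have hNN : N ≤ N' := hmono (Fin.castSucc_le_succ i)
      rcases hstep i with ⟨m, hm⟩ | hm
      · -- a `p`-step
        have hsup : N' = N ⊔ (P : Subgroup H) ⊓ N' := by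
          refine le_antisymm ?_ (sup_le hNN inf_le_right)
          rw [← relIndex_eq_one]
          have hle : N ⊔ (P : Subgroup H) ⊓ N' ≤ N' := sup_le hNN inf_le_right
          have h1 : (N ⊔ (P : Subgroup H) ⊓ N').relIndex N' ∣ p ^ m := by
            rw [← hm]
            exact ⟨N.relIndex (N ⊔ (P : Subgroup H) ⊓ N'), by
              rw [mul_comm, relIndex_mul_relIndex _ _ _ le_sup_left hle]⟩
          have h2 : (N ⊔ (P : Subgroup H) ⊓ N').relIndex N' ∣ (P : Subgroup H).index := by
            refine Dvd.dvd.trans ?_ (Cfsg.Lib.Components.relIndex_dvd_index_of_normal_right (P : Subgroup H) N')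
            exact ⟨((P : Subgroup H) ⊓ N').relIndex (N ⊔ (P : Subgroup H) ⊓ N'), by
              rw [mul_comm, relIndex_mul_relIndex _ _ _ le_sup_right hle, inf_relIndex_right]⟩
          exact Nat.eq_one_of_dvd_coprimes
            ((hp.coprime_iff_not_dvd.2 P.not_dvd_index).pow_left m) h1 h2
        refine ⟨T, fun t ht => hNN (hTM t ht), fun x hx => ?_, hTi, fun w hw => hTs w fun m hm => hw m (hNN hm)⟩
        rw [hsup, ← SetLike.mem_coe, normal_mul] at hx
        obtain ⟨y, hy, d, hd, rfl⟩ := hx
        obtain ⟨t, ht, htd⟩ := hTc y hy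
        exact ⟨t, ht, by rw [← mul_assoc]; exact mul_mem htd hd.1⟩
      · -- a `p'`-step
        have hPN : ∀ x ∈ N', x ∈ (P : Subgroup H) → x ∈ N := by
          intro x hx hxP
          have h1 : (⟨x, hx⟩ : N') ^ N.relIndex N' ∈ N.subgroupOf N' := pow_index_mem _ _
          obtain ⟨j, hj⟩ := IsPGroup.iff_orderOf.1 P.2 ⟨x, hxP⟩
          rw [← Subgroup.orderOf_coe] at hj
          have h2 : x ^ N.relIndex N' ∈ N := by simpa [mem_subgroupOf] using h1
          obtain ⟨y, hy⟩ := exists_pow_eq_self_of_coprime (x := x) (n := N.relIndex N')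
            (by rw [show orderOf x = p ^ j from hj]; exact hm.pow_right j)
          rw [← hy]
          exact pow_mem h2 _
        let r : N' ⧸ N.subgroupOf N' → H := fun q => (q.out : N')
        have hr : ∀ q, r q ∈ N' := fun q => q.out.2
        have hrq : ∀ q q', (r q)⁻¹ * r q' ∈ N → q = q' := fun q q' h => by
          rw [← q.out_eq, ← q'.out_eq]
          exact QuotientGroup.eq.2 (mem_subgroupOf.2 h)
        have hrN : ∀ x : N', (r (QuotientGroup.mk x))⁻¹ * x ∈ N := fun x => by
          have := QuotientGroup.eq.1 (Quotient.out_eq' (QuotientGroup.mk x : N' ⧸ N.subgroupOf N'))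
          exact mem_subgroupOf.1 this
        have hinj : Set.InjOn (fun z : (N' ⧸ N.subgroupOf N') × H => r z.1 * z.2)
            (↑((Finset.univ : Finset (N' ⧸ N.subgroupOf N')) ×ˢ T) : Set ((N' ⧸ N.subgroupOf N') × H)) := by
          rintro ⟨q, t⟩ hq ⟨q', t'⟩ hq' h
          simp only [Finset.coe_product, Set.mem_prod, Finset.mem_coe, Finset.mem_univ, true_and] at hq hq'
          simp only at h
          have h' : (r q)⁻¹ * r q' = t * t'⁻¹ := by
            rw [inv_mul_eq_iff_eq_mul, ← mul_assoc, h, mul_inv_cancel_right]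
          obtain rfl := hrq q q' (h' ▸ mul_mem (hTM t hq) (inv_mem (hTM t' hq')))
          rw [mul_left_cancel h]
        refine ⟨(Finset.univ ×ˢ T).image fun z => r z.1 * z.2, ?_, ?_, ?_, ?_⟩
        · intro z hz
          obtain ⟨⟨q, t⟩, hqt, rfl⟩ := Finset.mem_image.1 hz
          exact mul_mem (hr q) (hNN (hTM t (Finset.mem_product.1 hqt).2))
        · intro x hx
          obtain ⟨t, ht, htd⟩ := hTc _ (hrN ⟨x, hx⟩)
          refine ⟨r (QuotientGroup.mk ⟨x, hx⟩) * t, Finset.mem_image.2
            ⟨(QuotientGroup.mk ⟨x, hx⟩, t), Finset.mem_product.2 ⟨Finset.mem_univ _, ht⟩, rfl⟩, ?_⟩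
          simpa [mul_assoc] using htd
        · intro z hz z' hz' hzz
          obtain ⟨⟨q, t⟩, hqt, rfl⟩ := Finset.mem_image.1 hz
          obtain ⟨⟨q', t'⟩, hqt', rfl⟩ := Finset.mem_image.1 hz'
          have ht := (Finset.mem_product.1 hqt).2
          have ht' := (Finset.mem_product.1 hqt').2
          have h1 := hPN _ (mul_mem (inv_mem (mul_mem (hr q) (hNN (hTM t ht))))
            (mul_mem (hr q') (hNN (hTM t' ht')))) hzz
          obtain rfl : q = q' := hrq q q' (by
            have := mul_mem (mul_mem (hTM t ht) h1) (inv_mem (hTM t' ht'))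
            simpa [mul_assoc] using this)
          rw [hTi t ht t' ht' (by simpa [mul_assoc] using hzz)]
        · intro w hw
          set S := ∑ t ∈ T, ρ t a with hS
          have hS' : ∑ z ∈ (Finset.univ ×ˢ T).image (fun z => r z.1 * z.2), ρ z a = ∑ q, ρ (r q) S := by
            rw [Finset.sum_image hinj, Finset.sum_product]
            exact Finset.sum_congr rfl fun q _ => by simp only [hρ, hS, map_sum]
          rw [hS']
          have hSN : ∀ y ∈ N, ρ y S = S := by
            intro y hy
            let σ : T → T := fun t => ⟨(hTc (y * t) (mul_mem hy (hTM t t.2))).choose,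
              (hTc (y * t) (mul_mem hy (hTM t t.2))).choose_spec.1⟩
            have hσP : ∀ t : T, ((σ t : H))⁻¹ * (y * t) ∈ (P : Subgroup H) := fun t =>
              (hTc (y * t) (mul_mem hy (hTM t t.2))).choose_spec.2
            have hσ : Function.Bijective σ := Finite.injective_iff_bijective.1 fun t t' e => by
              refine Subtype.ext (hTi t t.2 t' t'.2 ?_)
              have := mul_mem (inv_mem (hσP t)) (hσP t')
              rw [e] at this
              simpa [mul_assoc] using this
            rw [hS, map_sum, ← Finset.sum_coe_sort T (fun t => ρ y (ρ t a)),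
              ← Finset.sum_coe_sort T (fun t => ρ t a)]
            refine Fintype.sum_bijective σ hσ _ _ fun t => ?_
            rw [← hρ, show y * (t : H) = (σ t : H) * ((σ t : H)⁻¹ * (y * t)) by group, hρ,
              hfix _ (hσP t)]
          let L : V →ₗ[k] V := ∑ q, ρ (r q)
          have hL : ∀ u, L u = ∑ q, ρ (r q) u := fun u => by simp [L]
          have hLh : ∀ h : H, L (ρ h S) = ρ h (∑ q, ρ (r q) S) := by
            intro h
            let τ : N' ⧸ N.subgroupOf N' → N' ⧸ N.subgroupOf N' := fun q =>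
              QuotientGroup.mk ⟨h⁻¹ * r q * h, by simpa using (hM i.succ).conj_mem _ (hr q) h⁻¹⟩
            have hτ : Function.Bijective τ := Finite.injective_iff_bijective.1 fun q q' e => by
              refine hrq q q' ?_
              have h1 : (h⁻¹ * r q * h)⁻¹ * (h⁻¹ * r q' * h) ∈ N := mem_subgroupOf.1 (QuotientGroup.eq.1 e)
              have h2 := (hM i.castSucc).conj_mem _ h1 h
              simpa [mul_assoc] using h2
            rw [hL, map_sum (ρ h) (fun q => ρ (r q) S)]
            refine Fintype.sum_bijective τ hτ _ _ fun q => ?_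
            set x : N' := ⟨h⁻¹ * r q * h, by simpa using (hM i.succ).conj_mem _ (hr q) h⁻¹⟩
            have e : r q * h = h * (r (τ q) * ((r (τ q))⁻¹ * (x : H))) := by
              rw [mul_inv_cancel_left]
              show r q * h = h * (h⁻¹ * r q * h)
              group
            rw [← hρ, e, hρ, hρ, hSN _ (hrN x)]
          have hLw : L w = (N.relIndex N' : k) • w := by
            rw [hL, Finset.sum_congr rfl fun q _ => hw _ (hr q), Finset.sum_const, Finset.card_univ,
              ← Nat.card_eq_fintype_card, Nat.cast_smul_eq_nsmul]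
            rfl
          have hne : (N.relIndex N' : k) ≠ 0 := by
            rw [Ne, CharP.cast_eq_zero_iff k p]
            exact hp.coprime_iff_not_dvd.1 hm.symm
          have hmem : L w ∈ Submodule.span k (Set.range fun h : H => ρ h (∑ q, ρ (r q) S)) := by
            have h1 := Submodule.mem_map_of_mem (f := L) (hTs w fun y hy => hw y (hNN hy))
            rw [Submodule.map_span, ← Set.range_comp] at h1
            rwa [show (L ∘ fun h : H => ρ h S) = fun h : H => ρ h (∑ q, ρ (r q) S) from funext hLh] at h1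
          rw [hLw] at hmem
          exact (Submodule.smul_mem_iff _ hne).1 hmem
  obtain ⟨T, -, hTc, hTi, hTs⟩ := key (Fin.last n)
  rw [hn] at hTc
  set S := ∑ t ∈ T, ρ t a with hS
  -- the transversal sum is a multiple of the orbit sum
  let F : H ⧸ (P : Subgroup H) → V := fun q => ρ q.out a
  have hF : ∀ x : H, F (QuotientGroup.mk x) = ρ x a := fun x => by
    obtain ⟨d, hd⟩ := QuotientGroup.mk_out_eq_mul (P : Subgroup H) x
    show ρ (QuotientGroup.mk x : H ⧸ (P : Subgroup H)).out a = _
    rw [hd, hρ, hfix _ d.2]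
  have hST : S = ∑ q, F q := by
    rw [hS, ← Finset.sum_coe_sort T (fun t => ρ t a)]
    refine Fintype.sum_bijective (fun t : T => (QuotientGroup.mk (t : H) : H ⧸ (P : Subgroup H))) ⟨?_, ?_⟩ _ _
      fun t => (hF t).symm
    · intro t t' e
      exact Subtype.ext (hTi t t.2 t' t'.2 (QuotientGroup.eq.1 e))
    · intro q
      obtain ⟨x, rfl⟩ := QuotientGroup.mk_surjective q
      obtain ⟨t, ht, htx⟩ := hTc x (mem_top x)
      exact ⟨⟨t, ht⟩, QuotientGroup.eq.2 htx⟩
  have hFsmul : ∀ (h : H) q, F (h • q) = ρ h (F q) := fun h q => by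
    obtain ⟨x, rfl⟩ := QuotientGroup.mk_surjective q
    rw [hF x, ← hρ]
    exact hF (h * x)
  set O := (Set.finite_range fun h : H => ρ h a).toFinset with hO
  set c := (Finset.univ.filter fun q => F q = a).card with hc
  have hcard : ∀ u ∈ O, (Finset.univ.filter fun q => F q = u).card = c := by
    intro u hu
    obtain ⟨h, rfl⟩ := (Set.Finite.mem_toFinset _).1 hu
    refine (Finset.card_bij (fun q _ => h • q) (fun q hq => ?_) (fun q _ q' _ e => smul_left_cancel h e)
      (fun q hq => ⟨h⁻¹ • q, ?_, smul_inv_smul h q⟩)).symm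
    · rw [Finset.mem_filter] at hq ⊢
      exact ⟨Finset.mem_univ _, by rw [hFsmul, hq.2]⟩
    · rw [Finset.mem_filter] at hq ⊢
      exact ⟨Finset.mem_univ _, by rw [hFsmul, hq.2, ← hρ, inv_mul_cancel, map_one]; rfl⟩
  have hSO : S = (c : k) • ∑ u ∈ O, u := by
    rw [hST, ← Finset.sum_fiberwise_of_maps_to (t := O) (g := F) (fun q _ =>
      (Set.Finite.mem_toFinset _).2 ⟨_, rfl⟩) F, Finset.smul_sum]
    refine Finset.sum_congr rfl fun u hu => ?_
    rw [Finset.sum_congr rfl fun q hq => (Finset.mem_filter.1 hq).2, Finset.sum_const, hcard u hu,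
      Nat.cast_smul_eq_nsmul]
  have hOinv : ∀ h : H, ρ h (∑ u ∈ O, u) = ∑ u ∈ O, u := by
    intro h
    rw [map_sum]
    refine Finset.sum_bij (fun u _ => ρ h u) (fun u hu => ?_) (fun u _ u' _ e => ?_) (fun u hu => ?_) (fun _ _ => rfl)
    · obtain ⟨g, rfl⟩ := (Set.Finite.mem_toFinset _).1 hu
      exact (Set.Finite.mem_toFinset _).2 ⟨h * g, hρ h g a⟩
    · have := congrArg (ρ h⁻¹) e
      simp only [← hρ, inv_mul_cancel, map_one] at this
      simpa using this
    · obtain ⟨g, rfl⟩ := (Set.Finite.mem_toFinset _).1 hu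
      exact ⟨ρ (h⁻¹ * g) a, (Set.Finite.mem_toFinset _).2 ⟨_, rfl⟩, by rw [← hρ, mul_inv_cancel_left]⟩
  refine Submodule.span_le.2 ?_ (hTs v fun m _ => hv m)
  rintro _ ⟨h, rfl⟩
  show ρ h S ∈ Submodule.span k {∑ u ∈ O, u}
  rw [hSO, map_smul, hOinv]
  exact Submodule.smul_mem _ _ (Submodule.mem_span_singleton_self _)

end Cfsg.Lib.SolvStruct.CoprimeOrbits
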