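/-
The classical form of Alperin's fusion theorem (tame Sylow intersections) and two of its
consequences: a normal p-complement criterion and the focal subgroup formula.
-/
import Cfsg.Agent.Transfer.Frobenius
import Cfsg.Agent.Transfer.Fusion
import Cfsg.Agent.PGroups.Commutators

set_option linter.style.haveILetI false
set_option linter.unusedSectionVars false

namespace Cfsg.Lib.SolvStruct.Alperin

open Subgroup Cfsg.Lib.Transfer
open scoped Pointwise commutatorElement

variable {G : Type*} [Group G] [Finite G] {p : ℕ} [hp : Fact p.Prime]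

/-- Right conjugation of a set. -/
def cj (g : G) (A : Set G) : Set G := (fun a => g⁻¹ * a * g) '' A

theorem cj_cj (g h : G) (A : Set G) : cj h (cj g A) = cj (g * h) A := by
  rw [cj, cj, cj, Set.image_image]
  exact Set.image_congr fun a _ => by group

theorem cj_one (A : Set G) : cj 1 A = A := by
  simp [cj]

theorem cj_mono (g : G) {A B : Set G} (h : A ⊆ B) : cj g A ⊆ cj g B := Set.image_mono h

theorem cj_subgroup (g : G) (K : Subgroup G) :
    cj g (K : Set G) = ((K.map (MulAut.conj g⁻¹).toMonoidHom : Subgroup G) : Set G) := by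
  rw [cj, Subgroup.coe_map]
  exact Set.image_congr fun a _ => by simp

/-- The normalizer of `P ∩ Q`. -/
abbrev NI (P Q : Sylow p G) : Subgroup G :=
  normalizer ((((P : Subgroup G) ⊓ (Q : Subgroup G)) : Subgroup G) : Set G)

/-- `P ∩ Q` is a tame intersection. -/
def Tame (P Q : Sylow p G) : Prop :=
  ¬ p ∣ ((P : Subgroup G) ⊓ NI P Q).relIndex (NI P Q) ∧
    ¬ p ∣ ((Q : Subgroup G) ⊓ NI P Q).relIndex (NI P Q)

theorem tame_self (P : Sylow p G) : Tame P P := by
  have h : ¬ p ∣ ((P : Subgroup G) ⊓ NI P P).relIndex (NI P P) := by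
    rw [inf_relIndex_right]
    unfold NI
    rw [inf_idem]
    exact fun hd => P.not_dvd_index (hd.trans (relIndex_dvd_index_of_le le_normalizer))
  exact ⟨h, h⟩

/-- Conjugation by `g` factors on `A` through normalizers of tame intersections with `P`. -/
inductive Chain (P : Sylow p G) : Set G → G → Prop
  | one (A : Set G) : A ⊆ (P : Set G) → Chain P A 1
  | cons (A : Set G) (Q : Sylow p G) (x g : G) :
      A ⊆ (((P : Subgroup G) ⊓ (Q : Subgroup G) : Subgroup G) : Set G) → Tame P Q → x ∈ NI P Q →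
      Chain P (cj x A) g → Chain P A (x * g)

theorem Chain.mono {P : Sylow p G} {A : Set G} {g : G} (h : Chain P A g) :
    ∀ B ⊆ A, Chain P B g := by
  induction h with
  | one A hA => exact fun B hB => Chain.one B (hB.trans hA)
  | cons A Q x g hA hQ hx _ ih =>
    exact fun B hB => Chain.cons B Q x g (hB.trans hA) hQ hx (ih _ (cj_mono x hB))

theorem Chain.trans {P : Sylow p G} {A : Set G} {g : G} (h : Chain P A g) :
    ∀ k, Chain P (cj g A) k → Chain P A (g * k) := by
  induction h with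
  | one A hA => intro k hk; rw [cj_one] at hk; rwa [one_mul]
  | cons A Q x g hA hQ hx _ ih =>
    intro k hk
    rw [mul_assoc]
    exact Chain.cons A Q x _ hA hQ hx (ih k (by rwa [cj_cj]))

theorem Chain.single {P Q : Sylow p G} {A : Set G} {x : G}
    (hA : A ⊆ (((P : Subgroup G) ⊓ (Q : Subgroup G) : Subgroup G) : Set G)) (hQ : Tame P Q)
    (hx : x ∈ NI P Q) (hx' : cj x A ⊆ (P : Set G)) : Chain P A x := by
  have := Chain.cons A Q x 1 hA hQ hx (Chain.one _ hx')
  rwa [mul_one] at this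

theorem Chain.exists_fin {P : Sylow p G} {A : Set G} {g : G} (h : Chain P A g) :
    ∃ (n : ℕ) (Q : Fin n → Sylow p G) (x : Fin n → G), (List.ofFn x).prod = g ∧
      (∀ i, x i ∈ NI P (Q i) ∧ Tame P (Q i)) ∧
      (∀ h : 0 < n, A ⊆ (((P : Subgroup G) ⊓ (Q ⟨0, h⟩ : Subgroup G) : Subgroup G) : Set G)) ∧
      ∀ i : Fin n, ∀ h : i.val + 1 < n,
        (fun a => (((List.ofFn x).take (i.val + 1)).prod)⁻¹ * a *
          ((List.ofFn x).take (i.val + 1)).prod) '' A ⊆
          (((P : Subgroup G) ⊓ (Q ⟨i.val + 1, h⟩ : Subgroup G) : Subgroup G) : Set G) := by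
  induction h with
  | one A hA =>
    exact ⟨0, Fin.elim0, Fin.elim0, by simp, fun i => i.elim0, fun h => absurd h (lt_irrefl 0),
      fun i => i.elim0⟩
  | cons A Q x g hA hQ hx _ ih =>
    obtain ⟨n, Qs, xs, hprod, h1, h2, h3⟩ := ih
    refine ⟨n + 1, Fin.cons Q Qs, Fin.cons x xs, ?_, ?_, ?_, ?_⟩
    · rw [List.ofFn_cons, List.prod_cons, hprod]
    · refine Fin.cases ?_ fun j => ?_
      · exact ⟨hx, hQ⟩
      · simpa using h1 j
    · intro h
      exact hA
    · intro i hi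
      change cj _ A ⊆ _
      rw [List.ofFn_cons, List.take_succ_cons, List.prod_cons, ← cj_cj]
      change cj _ (cj x A) ⊆ (((P : Subgroup G) ⊓ (Qs ⟨i.val, by omega⟩ : Subgroup G) : Subgroup G) : Set G)
      rcases Nat.eq_zero_or_pos i.val with h0 | h0
      · simp only [h0, List.take_zero, List.prod_nil, cj_one]
        exact h2 (by omega)
      · have h4 := h3 ⟨i.val - 1, by omega⟩ (by simp only; omega)
        simp only [Nat.sub_add_cancel h0] at h4
        exact h4

theorem coe_smul (g : G) (P : Sylow p G) :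
    (((g⁻¹ • P : Sylow p G) : Subgroup G) : Set G) = cj g (P : Set G) := by
  rw [sylow_smul_coe, ← cj_subgroup]
  rfl

/-- A p-subgroup of `N` is conjugate in `N` into a p-subgroup of index prime to `p`. -/
theorem exists_conj_le {N K L : Subgroup G} (hKN : K ≤ N) (hK : IsPGroup p K)
    (hKi : ¬ p ∣ K.relIndex N) (hLN : L ≤ N) (hL : IsPGroup p L) :
    ∃ y ∈ N, cj y (L : Set G) ⊆ (K : Set G) := by
  set S : Sylow p N := (hK.comap_subtype (K := N)).toSylow hKi
  obtain ⟨T, hT⟩ := (hL.comap_subtype (K := N)).exists_le_sylow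
  obtain ⟨c, hc⟩ := MulAction.exists_smul_eq N S T
  refine ⟨c, c.2, ?_⟩
  rintro _ ⟨a, ha, rfl⟩
  have h1 : (⟨a, hLN ha⟩ : N) ∈ (T : Subgroup N) := hT ha
  rw [← hc, sylow_smul_coe, mem_map_conj] at h1
  exact h1

/-- A p-subgroup of `N` lies in a Sylow subgroup of `G` meeting `N` with index prime to `p`. -/
theorem exists_sylow_over {N K : Subgroup G} (hKN : K ≤ N) (hK : IsPGroup p K) :
    ∃ S : Subgroup G, ∃ T : Sylow p G, K ≤ S ∧ S ≤ N ∧ S ≤ (T : Subgroup G) ∧
      IsPGroup p S ∧ ¬ p ∣ S.relIndex N := by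
  obtain ⟨S, hS⟩ := (hK.comap_subtype (K := N)).exists_le_sylow
  obtain ⟨T, hT⟩ := (S.2.map N.subtype).exists_le_sylow
  refine ⟨(S : Subgroup N).map N.subtype, T, fun k hk => ⟨⟨k, hKN hk⟩, hS hk, rfl⟩,
    map_subtype_le _, hT, S.2.map _, ?_⟩
  rw [relIndex, subgroupOf, comap_map_eq_self_of_injective N.subtype_injective]
  exact S.not_dvd_index

theorem card_cj (g : G) (K : Subgroup G) :
    Nat.card ↥(K.map (MulAut.conj g⁻¹).toMonoidHom) = Nat.card K := card_map_conj K _

theorem chain_sylow (P : Sylow p G) : ∀ (n : ℕ) (R : Sylow p G),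
    Nat.card P - Nat.card ↥((P : Subgroup G) ⊓ (R : Subgroup G)) = n →
    ∃ u : G, u⁻¹ • R = P ∧
      Chain P (((P : Subgroup G) ⊓ (R : Subgroup G) : Subgroup G) : Set G) u := by
  intro n
  induction n using Nat.strong_induction_on with
  | _ n ih =>
  intro R hn
  by_cases hRP : R = P
  · exact ⟨1, by rw [inv_one, one_smul, hRP], Chain.one _ fun a ha => ha.1⟩
  set H : Subgroup G := (P : Subgroup G) ⊓ (R : Subgroup G)
  have hHP : H < (P : Subgroup G) :=
    inf_le_left.lt_of_ne fun e => hRP (Sylow.ext (P.3 R.2 (inf_eq_left.1 e)))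
  have hHR : H < (R : Subgroup G) :=
    inf_le_right.lt_of_ne fun e => hRP (Sylow.ext (R.3 P.2 (inf_eq_right.1 e)).symm)
  have hlt : ∀ {A B : Subgroup G}, A < B → Nat.card A < Nat.card B := fun {A B} h =>
    lt_of_le_of_ne (card_le_of_le h.le) fun e => h.ne (eq_of_le_of_card_ge h.le e.ge)
  have hHc : Nat.card H < Nat.card P := hlt hHP
  -- induction hypothesis for larger intersections
  have step : ∀ (R₀ : Sylow p G) (K : Subgroup G), K ≤ (P : Subgroup G) → K ≤ (R₀ : Subgroup G) →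
      Nat.card H < Nat.card K →
      ∃ u : G, u⁻¹ • R₀ = P ∧ Chain P (K : Set G) u := by
    intro R₀ K h1 h2 h3
    have h4 := card_le_of_le (le_inf h1 h2)
    have h5 := card_le_of_le (inf_le_left : (P : Subgroup G) ⊓ (R₀ : Subgroup G) ≤ P)
    obtain ⟨u, hu, hc⟩ := ih _ (by omega) R₀ rfl
    exact ⟨u, hu, hc.mono _ (le_inf h1 h2)⟩
  set N := normalizer (H : Set G)
  obtain ⟨S, T, hKS, hSN, hST, hSp, hSi⟩ :=
    exists_sylow_over (N := N) inf_le_right (P.2.to_le (inf_le_left : (P : Subgroup G) ⊓ N ≤ P))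
  have hK := lt_inf_normalizer_of_lt P hHP
  obtain ⟨u, huT, hu⟩ := step T _ inf_le_left (hKS.trans hST) (hlt hK)
  replace hu : Chain P (H : Set G) u := hu.mono _ hK.le
  -- transport by `u`
  set c := (MulAut.conj u⁻¹).toMonoidHom
  set H' := H.map c
  have hH'c : Nat.card H' = Nat.card H := card_cj u H
  have hTc : (T : Subgroup G).map c = (P : Subgroup G) := by rw [← huT, sylow_smul_coe]
  set R' : Sylow p G := u⁻¹ • R
  have hRc : (R : Subgroup G).map c = (R' : Subgroup G) := (sylow_smul_coe _ _).symm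
  have hH'P : H' ≤ (P : Subgroup G) := hTc ▸ map_mono ((hK.le.trans hKS).trans hST)
  have hH'R : H' ≤ (R' : Subgroup G) := hRc ▸ map_mono hHR.le
  -- it is enough to treat `H'` and `R'`
  suffices ∃ v : G, v⁻¹ • R' = P ∧ Chain P (H' : Set G) v by
    obtain ⟨v, hv, hvc⟩ := this
    refine ⟨u * v, ?_, hu.trans v ?_⟩
    · rw [mul_inv_rev, mul_smul]; exact hv
    · rw [cj_subgroup]; exact hvc
  by_cases hbig : Nat.card H' < Nat.card ↥((P : Subgroup G) ⊓ (R' : Subgroup G))
  · obtain ⟨v, hv, hvc⟩ := step R' _ inf_le_left inf_le_right (hH'c ▸ hbig)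
    exact ⟨v, hv, hvc.mono _ (le_inf hH'P hH'R)⟩
  have hH'eq : H' = (P : Subgroup G) ⊓ (R' : Subgroup G) :=
    eq_of_le_of_card_ge (le_inf hH'P hH'R) (not_lt.1 hbig)
  set N' := normalizer (H' : Set G)
  have hN' : N.map c = N' := Subgroup.map_equiv_normalizer_eq H (MulAut.conj u⁻¹)
  have hcinj : Function.Injective c := (MulAut.conj u⁻¹).injective
  have hPi : ¬ p ∣ ((P : Subgroup G) ⊓ N').relIndex N' := fun hd => by
    have h1 : S.map c ≤ (P : Subgroup G) ⊓ N' :=
      le_inf (hTc ▸ map_mono hST) (hN' ▸ map_mono hSN)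
    have h2 := hd.trans (relIndex_dvd_of_le_left N' h1)
    rw [← hN', relIndex_map_map_of_injective _ _ hcinj] at h2
    exact hSi h2
  have hH'R' : H' < (R' : Subgroup G) := by
    refine hH'R.lt_of_ne fun e => ?_
    have h1 : Nat.card H' = Nat.card R' := by rw [e]
    rw [hH'c, ← R.card_eq_multiplicity.trans R'.card_eq_multiplicity.symm] at h1
    exact (hlt hHR).ne h1
  have hL := lt_inf_normalizer_of_lt R' hH'R'
  have hLp : IsPGroup p ↥((R' : Subgroup G) ⊓ N') := R'.2.to_le inf_le_left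
  obtain ⟨S₂, T₂, hLS₂, hS₂N, hS₂T, hS₂p, hS₂i⟩ := exists_sylow_over (N := N') inf_le_right hLp
  have hH'T₂ : H' ≤ (T₂ : Subgroup G) := (hL.le.trans hLS₂).trans hS₂T
  -- conclude from a conjugation valid on `H'` moving `R' ⊓ N'` into `P`
  have finish : ∀ v : G, Chain P (H' : Set G) v →
      cj v (((R' : Subgroup G) ⊓ N' : Subgroup G) : Set G) ⊆ (P : Set G) →
      ∃ w : G, w⁻¹ • R' = P ∧ Chain P (H' : Set G) w := by
    intro v hv hsub
    rw [cj_subgroup] at hsub
    have h1 : ((R' : Subgroup G) ⊓ N').map (MulAut.conj v⁻¹).toMonoidHom ≤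
        ((v⁻¹ • R' : Sylow p G) : Subgroup G) := by
      rw [sylow_smul_coe]; exact map_mono inf_le_left
    obtain ⟨w, hw, hwc⟩ := step (v⁻¹ • R') _ hsub h1 (by
      rw [card_cj, ← hH'c]; exact hlt hL)
    refine ⟨v * w, ?_, hv.trans w (hwc.mono _ ?_)⟩
    · rw [mul_inv_rev, mul_smul]; exact hw
    · rw [cj_subgroup]; exact map_mono hL.le
  by_cases hT2 : Nat.card H' < Nat.card ↥((P : Subgroup G) ⊓ (T₂ : Subgroup G))
  · obtain ⟨v, hv, hvc⟩ := step T₂ _ inf_le_left inf_le_right (hH'c ▸ hT2)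
    refine finish v (hvc.mono _ (le_inf hH'P hH'T₂)) ?_
    refine le_trans (α := Set G) ?_ (congrArg (fun S : Sylow p G => ((S : Subgroup G) : Set G)) hv).le
    show _ ⊆ (((v⁻¹ • T₂ : Sylow p G) : Subgroup G) : Set G)
    rw [coe_smul]
    exact cj_mono v (hLS₂.trans hS₂T)
  · have hT2eq : H' = (P : Subgroup G) ⊓ (T₂ : Subgroup G) :=
      eq_of_le_of_card_ge (le_inf hH'P hH'T₂) (not_lt.1 hT2)
    have hNI : NI P T₂ = N' := by unfold NI; rw [← hT2eq]
    have htame : Tame P T₂ := by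
      refine ⟨by rw [hNI]; exact hPi, fun hd => ?_⟩
      rw [hNI] at hd
      exact hS₂i (hd.trans (relIndex_dvd_of_le_left N' (le_inf hS₂T hS₂N)))
    obtain ⟨y, hy, hyc⟩ := exists_conj_le (K := (P : Subgroup G) ⊓ N') inf_le_right
      (P.2.to_le inf_le_left) hPi inf_le_right hLp
    have hyP : cj y (((R' : Subgroup G) ⊓ N' : Subgroup G) : Set G) ⊆ (P : Set G) :=
      fun a ha => (hyc ha).1
    refine finish y (Chain.single ?_ htame (hNI ▸ hy) ?_) hyP
    · rw [← hT2eq]
    · exact (cj_mono y hL.le).trans hyP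

/-- Alperin's fusion theorem. -/
theorem exists_chain (P : Sylow p G) (A : Set G) (g : G) (hA : A ⊆ (P : Set G))
    (hAg : cj g A ⊆ (P : Set G)) : Chain P A g := by
  obtain ⟨u, hu, hc⟩ := chain_sylow P _ (g • P) rfl
  have hsub : A ⊆ (((P : Subgroup G) ⊓ ((g • P : Sylow p G) : Subgroup G) : Subgroup G) : Set G) := by
    intro a ha
    refine ⟨hA ha, ?_⟩
    show a ∈ ((g • P : Sylow p G) : Subgroup G)
    rw [sylow_smul_coe, mem_map_conj]
    exact hAg ⟨a, ha, rfl⟩
  have h1 := hc.mono _ hsub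
  have hAu : cj u A ⊆ (P : Set G) := by
    refine le_trans (α := Set G) ?_ (congrArg (fun S : Sylow p G => ((S : Subgroup G) : Set G)) hu).le
    show _ ⊆ (((u⁻¹ • (g • P) : Sylow p G) : Subgroup G) : Set G)
    rw [coe_smul]
    exact cj_mono u fun a ha => (hsub ha).2
  have hN : u⁻¹ * g ∈ normalizer (P : Set G) :=
    Sylow.smul_eq_iff_mem_normalizer.1 (by rw [mul_smul]; exact hu)
  have h2 : Chain P A (u * (u⁻¹ * g)) := h1.trans _ (Chain.single (Q := P)
    (by rw [inf_idem]; exact hAu) (tame_self P) (by unfold NI; rw [inf_idem]; exact hN)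
    (by rwa [cj_cj, mul_inv_cancel_left]))
  rwa [mul_inv_cancel_left] at h2

/-- If all tame intersections have p-group automizers, conjugation in `P` is induced from `P`. -/
theorem chain_eq_inner (P : Sylow p G)
    (h : ∀ Q : Sylow p G, Tame P Q → ∀ x ∈ NI P Q, ∃ s ∈ (P : Subgroup G),
      ∀ a ∈ (P : Subgroup G) ⊓ (Q : Subgroup G), x⁻¹ * a * x = s⁻¹ * a * s)
    {A : Set G} {g : G} (hc : Chain P A g) :
    ∃ s ∈ (P : Subgroup G), ∀ a ∈ A, g⁻¹ * a * g = s⁻¹ * a * s := by
  induction hc with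
  | one A _ => exact ⟨1, one_mem _, fun a _ => rfl⟩
  | cons A Q x g hA hQ hx _ ih =>
    obtain ⟨s, hs, hs'⟩ := h Q hQ x hx
    obtain ⟨t, ht, ht'⟩ := ih
    refine ⟨s * t, mul_mem hs ht, fun a ha => ?_⟩
    calc (x * g)⁻¹ * a * (x * g) = g⁻¹ * (x⁻¹ * a * x) * g := by group
      _ = t⁻¹ * (x⁻¹ * a * x) * t := ht' _ ⟨a, ha, rfl⟩
      _ = t⁻¹ * (s⁻¹ * a * s) * t := by rw [hs' a (hA ha)]
      _ = _ := by group

theorem hasNormalPComplement_of_tame (P : Sylow p G)
    (h : ∀ Q : Sylow p G, (P : Subgroup G) ⊓ (Q : Subgroup G) ≠ ⊥ → Tame P Q →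
      IsPGroup p (NI P Q ⧸
        (centralizer (((P : Subgroup G) ⊓ (Q : Subgroup G) : Subgroup G) : Set G)).subgroupOf (NI P Q))) :
    Cfsg.HasNormalPComplement p G := by
  have hstep : ∀ Q : Sylow p G, Tame P Q → ∀ x ∈ NI P Q, ∃ s ∈ (P : Subgroup G),
      ∀ a ∈ (P : Subgroup G) ⊓ (Q : Subgroup G), x⁻¹ * a * x = s⁻¹ * a * s := by
    intro Q hQ x hx
    by_cases hb : (P : Subgroup G) ⊓ (Q : Subgroup G) = ⊥
    · refine ⟨1, one_mem _, fun a ha => ?_⟩
      rw [hb, mem_bot] at ha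
      simp [ha]
    set H : Subgroup G := (P : Subgroup G) ⊓ (Q : Subgroup G)
    set N := NI P Q with hN
    set C := (centralizer (H : Set G)).subgroupOf N
    haveI : C.Normal := normal_subgroupOf_centralizer_normalizer _
    obtain ⟨k, hk⟩ := (h Q hb hQ).exists_card_eq
    rw [← index_eq_card] at hk
    set S : Sylow p N :=
      ((P.2.to_le (inf_le_left : (P : Subgroup G) ⊓ N ≤ P)).comap_subtype (K := N)).toSylow hQ.1
    obtain ⟨c, hc, r, hr, hcr⟩ := mem_sup_of_normal_left.1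
      ((sup_sylow_eq_top hk S).symm ▸ mem_top (⟨x, hx⟩ : N) :
        (⟨x, hx⟩ : N) ∈ C ⊔ (S : Subgroup N))
    have hrP : (r : G) ∈ (P : Subgroup G) := by
      have : (r : G) ∈ (P : Subgroup G) ⊓ N := hr
      exact this.1
    refine ⟨r, hrP, fun a ha => ?_⟩
    have hxe : x = (c : G) * (r : G) := (congrArg Subtype.val hcr).symm
    have h1 : a * (c : G) = (c : G) * a := hc a ha
    rw [hxe]
    calc ((c : G) * r)⁻¹ * a * ((c : G) * r) = (r : G)⁻¹ * ((c : G)⁻¹ * (a * c)) * r := by group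
      _ = _ := by rw [h1]; group
  refine hasNormalPComplement_of_frobenius fun Q hQ g hg hcop => ?_
  obtain ⟨T, hT⟩ := hQ.exists_le_sylow
  obtain ⟨d, hd⟩ := MulAction.exists_smul_eq G T P
  set f := (MulAut.conj d).toMonoidHom
  set Q' := Q.map f
  set g' := f g
  have hQ'P : Q' ≤ (P : Subgroup G) := by
    rw [← hd, sylow_smul_coe]; exact map_mono hT
  have hg' : g' ∈ normalizer (Q' : Set G) :=
    (Subgroup.map_equiv_normalizer_eq Q (MulAut.conj d)).le ⟨g, hg, rfl⟩
  have hord : orderOf g' = orderOf g := orderOf_injective f (MulAut.conj d).injective g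
  have hcl : ∀ a ∈ Q', g'⁻¹ * a * g' ∈ Q' := fun a ha => by
    have := (mem_normalizer_iff.1 (inv_mem hg') a).1 ha
    simpa using this
  obtain ⟨s, hsP, hs⟩ := chain_eq_inner P hstep (exists_chain P (Q' : Set G) g' hQ'P
    (by rintro _ ⟨a, ha, rfl⟩; exact hQ'P (hcl a ha)))
  have hpow : ∀ j : ℕ, ∀ a ∈ Q', (g' ^ j)⁻¹ * a * g' ^ j = (s ^ j)⁻¹ * a * s ^ j := by
    intro j
    induction j with
    | zero => simp
    | succ j ihj =>
      intro a ha
      have h1 := ihj _ (hcl a ha)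
      rw [pow_succ', pow_succ']
      calc (g' * g' ^ j)⁻¹ * a * (g' * g' ^ j) = (g' ^ j)⁻¹ * (g'⁻¹ * a * g') * g' ^ j := by group
        _ = (s ^ j)⁻¹ * (g'⁻¹ * a * g') * s ^ j := h1
        _ = (s ^ j)⁻¹ * (s⁻¹ * a * s) * s ^ j := by rw [hs a ha]
        _ = _ := by group
  obtain ⟨i, hi⟩ := IsPGroup.iff_orderOf.1 P.2 ⟨s, hsP⟩
  have hi' : orderOf s = p ^ i := by rw [← hi, ← Subgroup.orderOf_coe]
  have hscop : (orderOf g').Coprime (orderOf s) := by
    rw [hord, hi']; exact hcop.pow_right i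
  obtain ⟨m, hm⟩ := exists_pow_eq_self_of_coprime hscop
  have hsc : s ∈ centralizer (Q' : Set G) := by
    rw [← hm]
    refine pow_mem (fun a ha => ?_) m
    have h1 := hpow (orderOf g') a ha
    rw [pow_orderOf_eq_one] at h1
    simp only [inv_one, one_mul, mul_one] at h1
    calc a * s ^ orderOf g' = s ^ orderOf g' * ((s ^ orderOf g')⁻¹ * a * s ^ orderOf g') := by group
      _ = _ := by rw [← h1]
  intro a ha
  have hfa : f a ∈ Q' := ⟨a, ha, rfl⟩
  have h2 := hs _ hfa
  rw [show s⁻¹ * f a * s = f a by rw [mul_assoc, hsc _ hfa]; group] at h2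
  apply (MulAut.conj d).injective
  show f (a * g) = f (g * a)
  rw [map_mul, map_mul]
  calc f a * g' = g' * (g'⁻¹ * f a * g') := by group
    _ = g' * f a := by rw [h2]

theorem focal_formula_le (P : Sylow p G) (F : Subgroup G)
    (hF0 : ⁅(P : Subgroup G), normalizer (P : Set G)⁆ ≤ F)
    (hF1 : ∀ Q : Sylow p G, Tame P Q → ∀ x ∈ NI P Q, (∃ k : ℕ, orderOf x = p ^ k) →
      ⁅(P : Subgroup G) ⊓ (Q : Subgroup G), zpowers x⁆ ≤ F) :
    ∀ (n : ℕ) (B : Subgroup G), Nat.card P - Nat.card B = n → B ≤ (P : Subgroup G) → ∀ g : G,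
      cj g (B : Set G) ⊆ (P : Set G) → ∀ b ∈ B, b⁻¹ * (g⁻¹ * b * g) ∈ F := by
  intro n
  induction n using Nat.strong_induction_on with
  | _ n ih =>
  intro B hn hBP g hBg
  -- one step, at a tame intersection
  have hstep : ∀ Q : Sylow p G, Tame P Q → ∀ x ∈ NI P Q, ∀ C : Subgroup G, Nat.card C = Nat.card B →
      C ≤ (P : Subgroup G) ⊓ (Q : Subgroup G) → ∀ b ∈ C, b⁻¹ * (x⁻¹ * b * x) ∈ F := by
    intro Q hQ x hx C hC hCH b hb
    set H : Subgroup G := (P : Subgroup G) ⊓ (Q : Subgroup G)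
    have hnorm : ∀ w ∈ NI P Q, ∀ h ∈ H, w⁻¹ * h * w ∈ H := fun w hw h hh => by
      have := (mem_normalizer_iff.1 (inv_mem hw) h).1 hh
      rwa [inv_inv] at this
    have h1 := card_le_of_le hCH
    have h1' : Nat.card H ≤ Nat.card P := card_le_of_le inf_le_left
    by_cases hlt : Nat.card C < Nat.card H
    · exact ih _ (by omega) H rfl inf_le_left x
        (by rintro _ ⟨a, ha, rfl⟩; exact (hnorm x hx a ha).1) b (hCH hb)
    have hCeq : C = H := eq_of_le_of_card_ge hCH (not_lt.1 hlt)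
    subst C
    by_cases hHP : H = (P : Subgroup G)
    · have hxP : x ∈ normalizer (P : Set G) := by
        have hx' : x ∈ normalizer (H : Set G) := hx
        rwa [hHP] at hx'
      refine hF0 ?_
      rw [show b⁻¹ * (x⁻¹ * b * x) = ⁅b⁻¹, x⁻¹⁆ by rw [commutatorElement_def]; group]
      exact commutator_mem_commutator (inv_mem (hHP ▸ hb)) (inv_mem hxP)
    -- the set of good elements is a subgroup
    set N := NI P Q with hNdef
    have hHP' : H < (P : Subgroup G) := inf_le_left.lt_of_ne hHP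
    have hS := lt_inf_normalizer_of_lt P hHP'
    let W : Subgroup N :=
      { carrier := {w | ∀ a ∈ H, a⁻¹ * ((w : G)⁻¹ * a * (w : G)) ∈ F}
        one_mem' := fun a _ => by simp
        mul_mem' := fun {w v} hw hv a ha => by
          have h2 := mul_mem (hw a ha) (hv _ (hnorm w w.2 a ha))
          convert h2 using 1
          push_cast
          group
        inv_mem' := fun {w} hw a ha => by
          have hc : (w : G) * a * (w : G)⁻¹ ∈ H := (mem_normalizer_iff.1 w.2 a).1 ha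
          have h2 := inv_mem (hw _ hc)
          convert h2 using 1
          push_cast
          group }
    let E : Subgroup N := closure {z : N | ∃ k : ℕ, orderOf z = p ^ k}
    haveI hEn : E.Normal := by
      refine ⟨fun z hz w => ?_⟩
      have : E.map (MulAut.conj w).toMonoidHom ≤ E := by
        rw [MonoidHom.map_closure, closure_le]
        rintro _ ⟨y, ⟨k, hk⟩, rfl⟩
        exact subset_closure ⟨k, (orderOf_injective _ (MulAut.conj w).injective y).trans hk⟩
      exact this ⟨z, hz, rfl⟩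
    have hEW : E ≤ W := by
      rw [closure_le]
      rintro z ⟨k, hk⟩ a ha
      refine hF1 Q hQ z z.2 ⟨k, by rw [Subgroup.orderOf_coe, hk]⟩ ?_
      rw [show a⁻¹ * ((z : G)⁻¹ * a * (z : G)) = ⁅a⁻¹, (z : G)⁻¹⁆ by
        rw [commutatorElement_def]; group]
      exact commutator_mem_commutator (inv_mem ha) (inv_mem (mem_zpowers _))
    set S : Sylow p N :=
      ((P.2.to_le (inf_le_left : (P : Subgroup G) ⊓ N ≤ P)).comap_subtype (K := N)).toSylow hQ.1
    have hSE : (S : Subgroup N) ≤ E := fun z hz => by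
      obtain ⟨k, hk⟩ := IsPGroup.iff_orderOf.1 S.2 ⟨z, hz⟩
      exact subset_closure ⟨k, (Subgroup.orderOf_coe (⟨z, hz⟩ : (S : Subgroup N))).trans hk⟩
    have hNW : normalizer (S : Set N) ≤ W := by
      intro y hy a ha
      have hS' : cj (y : G) (((P : Subgroup G) ⊓ N : Subgroup G) : Set G) ⊆ (P : Set G) := by
        rintro _ ⟨s, hs, rfl⟩
        have h3 := (mem_normalizer_iff.1 (inv_mem hy) ⟨s, hs.2⟩).1 hs
        have h4 : ((y⁻¹ * ⟨s, hs.2⟩ * y⁻¹⁻¹ : N) : G) ∈ (P : Subgroup G) ⊓ N := h3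
        push_cast at h4
        rw [inv_inv] at h4
        exact h4.1
      have hcl := card_le_of_le (inf_le_left : (P : Subgroup G) ⊓ N ≤ P)
      have hgt : Nat.card H < Nat.card ↥((P : Subgroup G) ⊓ N) := by
        exact lt_of_le_of_ne (card_le_of_le hS.le) fun e => hS.ne (eq_of_le_of_card_ge hS.le e.ge)
      exact ih _ (by omega) _ rfl inf_le_left (y : G) hS' a (hS.le ha)
    have htop : (⊤ : Subgroup N) ≤ W := by
      rw [← Sylow.normalizer_sup_eq_top' (N := E) S hSE]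
      exact sup_le hNW hEW
    exact htop (mem_top (⟨x, hx⟩ : N)) b hb
  suffices ∀ A : Set G, ∀ k : G, Chain P A k → ∀ C : Subgroup G, Nat.card C = Nat.card B →
      (C : Set G) ⊆ A → ∀ b ∈ C, b⁻¹ * (k⁻¹ * b * k) ∈ F from
    this _ g (exists_chain P _ g hBP hBg) B rfl subset_rfl
  intro A k hk
  induction hk with
  | one A _ => intro C _ _ b _; simp
  | cons A Q x k hA hQ hx _ ihk =>
    intro C hC hCA b hb
    have h1 := hstep Q hQ x hx C hC (hCA.trans hA) b hb
    have h2 := ihk (C.map (MulAut.conj x⁻¹).toMonoidHom) ((card_cj x C).trans hC)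
      (by rw [← cj_subgroup]; exact cj_mono x hCA) (x⁻¹ * b * x) ⟨b, hb, by simp⟩
    convert mul_mem h1 h2 using 1
    group

theorem sylow_inf_commutator_eq (P : Sylow p G) :
    (P : Subgroup G) ⊓ commutator G =
      ⁅(P : Subgroup G), normalizer (P : Set G)⁆ ⊔
        ⨆ (Q : Sylow p G) (_ : Tame P Q) (x : G) (_ : x ∈ NI P Q ∧ ∃ k : ℕ, orderOf x = p ^ k),
          ⁅(P : Subgroup G) ⊓ (Q : Subgroup G), zpowers x⁆ := by
  set F := ⁅(P : Subgroup G), normalizer (P : Set G)⁆ ⊔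
        ⨆ (Q : Sylow p G) (_ : Tame P Q) (x : G) (_ : x ∈ NI P Q ∧ ∃ k : ℕ, orderOf x = p ^ k),
          ⁅(P : Subgroup G) ⊓ (Q : Subgroup G), zpowers x⁆ with hFdef
  refine le_antisymm ?_ ?_
  · have hcop : ((P : Subgroup G).index).Coprime
        ((focalSubgroup (P : Subgroup G)).relIndex (P : Subgroup G)) :=
      P.card_coprime_index.symm.coprime_dvd_right (index_dvd_card _)
    rw [inf_comm, commutator_inf_eq_focal (P : Subgroup G) hcop, focalSubgroup_def, closure_le]
    rintro z ⟨hzP, a, haP, v, rfl⟩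
    have hB : cj v⁻¹ ((zpowers a⁻¹ : Subgroup G) : Set G) ⊆ (P : Set G) := by
      have h1 : v⁻¹⁻¹ * a⁻¹ * v⁻¹ ∈ (P : Subgroup G) := by
        rw [show v⁻¹⁻¹ * a⁻¹ * v⁻¹ = a⁻¹ * ⁅a, v⁆ by rw [commutatorElement_def]; group]
        exact mul_mem (inv_mem haP) hzP
      rw [cj_subgroup, MonoidHom.map_zpowers]
      exact SetLike.coe_subset_coe.2 ((zpowers_le (H := (P : Subgroup G))).2 (by simpa using h1))
    have := focal_formula_le P F le_sup_left
      (fun Q hQ x hx hk => le_sup_of_le_right (le_iSup₂_of_le Q hQ (le_iSup₂_of_le x ⟨hx, hk⟩ le_rfl)))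
      _ (zpowers a⁻¹) rfl (zpowers_le.2 (inv_mem haP)) v⁻¹ hB a⁻¹ (mem_zpowers _)
    rw [show a⁻¹⁻¹ * (v⁻¹⁻¹ * a⁻¹ * v⁻¹) = ⁅a, v⁆ by rw [commutatorElement_def]; group] at this
    exact this
  · refine sup_le (le_inf ?_ ?_) (iSup₂_le fun Q _ => iSup₂_le fun x hx => le_inf ?_ ?_)
    · rw [commutator_le]
      intro a ha n hn
      rw [commutatorElement_def, mul_assoc a n, mul_assoc a]
      exact mul_mem ha ((mem_normalizer_iff.1 hn _).1 (inv_mem ha))
    · rw [_root_.commutator_def]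
      exact commutator_mono le_top le_top
    · rw [commutator_le]
      intro a ha n hn
      have hnN : n ∈ NI P Q := (zpowers_le.2 hx.1) hn
      rw [commutatorElement_def, mul_assoc a n, mul_assoc a]
      exact (mul_mem ha ((mem_normalizer_iff.1 hnN _).1 (inv_mem ha))).1
    · rw [_root_.commutator_def]
      exact commutator_mono le_top le_top

/-- Alperin's lemma: a maximal normal abelian subgroup of bounded exponent. -/
theorem mem_of_maximal_abelian_exponent (hG : IsPGroup p G) (n : ℕ) (hn : p ^ n ≠ 2)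
    (A : Subgroup G) [A.Normal] (hA : IsMulCommutative A) (hAe : ∀ a ∈ A, a ^ p ^ n = 1)
    (hmax : ∀ B : Subgroup G, B.Normal → IsMulCommutative B → (∀ b ∈ B, b ^ p ^ n = 1) → A ≤ B → B = A)
    (x : G) (hx : x ∈ centralizer (A : Set G)) (hxn : x ^ p ^ n = 1) : x ∈ A := by
  classical
  haveI := hG.isNilpotent
  rcases Nat.eq_zero_or_pos n with rfl | hn0
  · rw [pow_zero, pow_one] at hxn
    exact hxn ▸ one_mem A
  by_contra hxA
  -- an element of order `p` modulo `A`
  let X : Set G := {z | z ∈ centralizer (A : Set G) ∧ z ^ p ^ n = 1 ∧ z ^ p ∈ A ∧ z ∉ A}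
  have hne : X.Nonempty := by
    have hex : ∃ k, x ^ p ^ k ∈ A := ⟨n, hxn ▸ one_mem A⟩
    have hk0 : Nat.find hex ≠ 0 := fun e => hxA (by
      have := Nat.find_spec hex; rwa [e, pow_zero, pow_one] at this)
    refine ⟨x ^ p ^ (Nat.find hex - 1), pow_mem hx _, ?_, ?_, Nat.find_min hex (by omega)⟩
    · rw [← pow_mul, mul_comm, pow_mul, hxn, one_pow]
    · rw [← pow_mul, ← pow_succ, Nat.sub_add_cancel (Nat.pos_of_ne_zero hk0)]
      exact Nat.find_spec hex
  let D : G → Subgroup G := fun z => A ⊔ normalClosure {z}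
  obtain ⟨z, hz, hmin⟩ := (InvImage.wf D (IsWellFounded.wf : WellFounded (α := Subgroup G) (· < ·))).has_min X hne
  obtain ⟨hzC, hzn, hzp, hzA⟩ := hz
  let E : Subgroup G := A ⊔ ⁅D z, (⊤ : Subgroup G)⁆
  have hDn : (D z).Normal := Subgroup.sup_normal _ _
  haveI hEn : E.Normal := Subgroup.sup_normal _ _
  have hzD : z ∈ D z := le_sup_right (a := A) (subset_normalClosure rfl)
  have hED : E < D z := by
    refine (sup_le le_sup_left (commutator_le_left _ _)).lt_of_ne fun e => hzA ?_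
    have hlcs : ∀ k, D z ≤ A ⊔ Subgroup.lowerCentralSeries (⊤ : Subgroup G) k := by
      intro k
      induction k with
      | zero => simp
      | succ k ihk =>
        calc D z = A ⊔ ⁅D z, (⊤ : Subgroup G)⁆ := e.symm
          _ ≤ A ⊔ ⁅A ⊔ Subgroup.lowerCentralSeries (⊤ : Subgroup G) k, (⊤ : Subgroup G)⁆ :=
            sup_le_sup_left (commutator_mono ihk le_rfl) _
          _ ≤ _ := by
            refine sup_le le_sup_left ?_
            rw [commutator_le]
            intro a ha g _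
            obtain ⟨u, hu, w, hw, rfl⟩ := mem_sup_of_normal_left.1 ha
            rw [show ⁅u * w, g⁆ = u * ⁅w, g⁆ * u⁻¹ * ⁅u, g⁆ by simp only [commutatorElement_def]; group]
            refine mul_mem (mul_mem (mul_mem (mem_sup_left hu) (mem_sup_right ?_)) (inv_mem (mem_sup_left hu)))
              (mem_sup_left ?_)
            · rw [Subgroup.lowerCentralSeries_succ]
              exact commutator_mem_commutator hw (mem_top _)
            · rw [commutatorElement_def, mul_assoc u g, mul_assoc u]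
              exact mul_mem hu (‹A.Normal›.conj_mem _ (inv_mem hu) g)
    obtain ⟨k, hk⟩ := (Subgroup.isNilpotent_iff_lowerCentralSeries (⊤ : Subgroup G)).1 (hG.to_subgroup ⊤).isNilpotent
    have hk' : Subgroup.lowerCentralSeries (⊤ : Subgroup G) k = ⊥ := hk
    have := (hlcs k) hzD
    rwa [hk', sup_bot_eq] at this
  have hnoE : ∀ w ∈ X, w ∉ E := fun w hw hwE =>
    hmin w hw ((sup_le le_sup_left (normalClosure_le_normal (Set.singleton_subset_iff.2 hwE))).trans_lt hED)
  -- `L = A⟨z⟩` is abelian of exponent dividing `p ^ n`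
  let L : Subgroup G := A ⊔ zpowers z
  have hLsplit : ∀ w ∈ L, ∃ a ∈ A, ∃ k : ℤ, a * z ^ k = w := fun w hw => by
    obtain ⟨a, ha, b, hb, rfl⟩ := mem_sup_of_normal_left.1 hw
    obtain ⟨k, rfl⟩ := mem_zpowers_iff.1 hb
    exact ⟨a, ha, k, rfl⟩
  have hzk : ∀ a ∈ A, ∀ k : ℤ, Commute a (z ^ k) := fun a ha k =>
    (show Commute a z from hzC a ha).zpow_right k
  have hLc : IsMulCommutative L := by
    refine ⟨⟨fun u v => Subtype.ext ?_⟩⟩
    obtain ⟨a, ha, i, hi⟩ := hLsplit u u.2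
    obtain ⟨b, hb, j, hj⟩ := hLsplit v v.2
    show (u : G) * v = v * u
    rw [← hi, ← hj]
    exact Commute.mul_left
      (Commute.mul_right (congrArg Subtype.val (mul_comm' (⟨a, ha⟩ : A) ⟨b, hb⟩)) (hzk a ha j))
      (Commute.mul_right (hzk b hb i).symm ((Commute.refl z).zpow_zpow i j))
  have hLe : ∀ w ∈ L, w ^ p ^ n = 1 := fun w hw => by
    obtain ⟨a, ha, k, rfl⟩ := hLsplit w hw
    rw [(hzk a ha k).mul_pow, hAe a ha, one_mul, ← zpow_natCast, ← zpow_mul, mul_comm, zpow_mul,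
      zpow_natCast, hzn, one_zpow]
  have hzL : z ∈ L := mem_sup_right (mem_zpowers z)
  have hLnn : ¬ L.Normal := fun hL => hzA ((hmax L hL hLc hLe le_sup_left) ▸ hzL)
  have hlt : normalizer (L : Set G) < ⊤ := lt_top_iff_ne_top.2 fun e => hLnn (normalizer_eq_top_iff.1 e)
  obtain ⟨g, hg, hgN⟩ := SetLike.exists_of_lt (normalizerCondition_of_isNilpotent _ hlt)
  set y := g * z * g⁻¹
  have hyN : y ∈ normalizer (L : Set G) := (mem_normalizer_iff.1 hg z).1 (le_normalizer hzL)
  have hzN' : g⁻¹ * z * g ∈ normalizer (L : Set G) := by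
    have := (mem_normalizer_iff.1 (inv_mem hg) z).1 (le_normalizer hzL)
    simpa using this
  have hyC : y ∈ centralizer (A : Set G) := fun a ha => by
    have h1 := hzC _ (‹A.Normal›.conj_mem a ha g⁻¹)
    calc a * y = g * (g⁻¹ * a * g⁻¹⁻¹ * z) * g⁻¹ := by simp only [y]; group
      _ = g * (z * (g⁻¹ * a * g⁻¹⁻¹)) * g⁻¹ := by rw [h1]
      _ = y * a := by simp only [y]; group
  have hyp : y ^ p ∈ A := by
    rw [conj_pow]; exact ‹A.Normal›.conj_mem _ hzp g
  have hyn : y ^ p ^ n = 1 := by rw [conj_pow, hzn]; group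
  -- `⁅y, z⁆ ∈ L ∩ L^g = A`
  set c := ⁅z, y⁆ with hc
  have hcL : c ∈ L := by
    rw [hc, commutatorElement_def, mul_assoc z y, mul_assoc z]
    exact mul_mem hzL ((mem_normalizer_iff.1 hyN _).1 (inv_mem hzL))
  have hcL' : g⁻¹ * c * g ∈ L := by
    rw [show g⁻¹ * c * g = (g⁻¹ * z * g) * z * (g⁻¹ * z * g)⁻¹ * z⁻¹ by
      simp only [hc, commutatorElement_def, y]; group]
    exact mul_mem ((mem_normalizer_iff.1 hzN' _).1 hzL) (inv_mem hzL)
  have hyL : y ∉ L := by
    intro hyL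
    refine hgN (mem_normalizer_iff_map_conj_eq.2 ?_)
    refine eq_of_le_of_card_ge ?_ (card_map_conj L g).ge
    rw [Subgroup.map_sup, MonoidHom.map_zpowers]
    refine sup_le (fun w hw => ?_) ((zpowers_le).2 ?_)
    · obtain ⟨a, ha, rfl⟩ := mem_map.1 hw
      exact mem_sup_left (by simpa using ‹A.Normal›.conj_mem _ ha g)
    · simpa using hyL
  have hcA : c ∈ A := by
    obtain ⟨a, ha, k, hk⟩ := hLsplit c hcL
    by_cases hkp : (p : ℤ) ∣ k
    · obtain ⟨j, rfl⟩ := hkp
      rw [← hk, zpow_mul, zpow_natCast]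
      exact mul_mem ha (zpow_mem hzp j)
    exfalso
    apply hyL
    obtain ⟨u, v, huv⟩ := ((Nat.prime_iff_prime_int.1 hp.out).coprime_iff_not_dvd.2 hkp).symm
    -- `z ∈ A⟨c⟩`, so `y = g z g⁻¹ ∈ L`
    have hzk' : z ^ k = a⁻¹ * c := by rw [← hk, inv_mul_cancel_left]
    have hgc : g * (g⁻¹ * c * g) * g⁻¹ = c := by group
    obtain ⟨b, hb, l, hl⟩ := hLsplit _ hcL'
    have hlp : ¬ (p : ℤ) ∣ l := by
      rintro ⟨j, rfl⟩
      have h1 : g⁻¹ * c * g ∈ A := by
        rw [← hl, zpow_mul, zpow_natCast]; exact mul_mem hb (zpow_mem hzp j)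
      have h2 := ‹A.Normal›.conj_mem _ h1 g
      rw [hgc] at h2
      refine hzA ?_
      have h3 : z = (z ^ k) ^ u * (z ^ p) ^ v := by
        rw [← zpow_natCast z p, ← zpow_mul, ← zpow_mul, ← zpow_add,
          show k * u + (p : ℤ) * v = 1 by linarith, zpow_one]
      rw [h3, hzk']
      exact mul_mem (zpow_mem (mul_mem (inv_mem ha) h2) u) (zpow_mem hzp v)
    obtain ⟨u', v', huv'⟩ := ((Nat.prime_iff_prime_int.1 hp.out).coprime_iff_not_dvd.2 hlp).symm
    have h3 : y = (g * z ^ l * g⁻¹) ^ u' * (y ^ p) ^ v' := by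
      rw [← conj_zpow, ← zpow_natCast y p, ← zpow_mul, ← zpow_mul, ← zpow_add,
        show l * u' + (p : ℤ) * v' = 1 by linarith, zpow_one]
    rw [h3]
    refine mul_mem (zpow_mem ?_ u') (zpow_mem (mem_sup_left hyp) v')
    rw [show g * z ^ l * g⁻¹ = (g * b * g⁻¹)⁻¹ * c by rw [← hgc, ← hl]; group]
    exact mul_mem (inv_mem (mem_sup_left (‹A.Normal›.conj_mem b hb g))) hcL
  -- `w = z⁻¹ y` has `w ^ p ∈ A` and `w ^ p ^ n = 1`
  have hcz : Commute c z := hzC c hcA
  have hcy : Commute c y := hyC c hcA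
  have hcw : ⁅y, z⁻¹⁆ = c := by
    rw [show ⁅y, z⁻¹⁆ = z⁻¹ * c * z by simp only [hc, commutatorElement_def]; group, mul_assoc,
      hcz.eq, inv_mul_cancel_left]
  have hpow : ∀ k : ℕ, (z⁻¹ * y) ^ k = (z ^ k)⁻¹ * y ^ k * c ^ k.choose 2 := fun k => by
    rw [Cfsg.Lib.PGroups.mul_pow_of_commute_commutator (by rw [hcw]; exact hcz.inv_right)
      (by rw [hcw]; exact hcy) k, hcw, inv_pow]
  have hcp : c ^ p = 1 := by
    rw [hc, ← Cfsg.Lib.PGroups.commutator_pow_left_of_commute hcz p,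
      commutatorElement_eq_one_iff_mul_comm]
    exact hyC _ hzp
  have hwA : z⁻¹ * y ∈ A := by
    by_contra hwA
    refine hnoE (z⁻¹ * y) ⟨mul_mem (inv_mem hzC) hyC, ?_, ?_, hwA⟩ ?_
    · obtain ⟨j, hj⟩ : p ∣ (p ^ n).choose 2 := hp.out.dvd_choose_pow two_ne_zero fun e => hn e.symm
      rw [hpow, hzn, hyn, hj, pow_mul, hcp, one_pow, inv_one, one_mul, one_mul]
    · rw [hpow]
      exact mul_mem (mul_mem (inv_mem hzp) hyp) (pow_mem hcA _)
    · rw [show z⁻¹ * y = ⁅z⁻¹, g⁆ by simp only [y, commutatorElement_def]; group]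
      exact mem_sup_right (commutator_mem_commutator (inv_mem hzD) (mem_top g))
  refine hyL ?_
  have := mul_mem hzL (mem_sup_left hwA : z⁻¹ * y ∈ L)
  rwa [mul_inv_cancel_left] at this

end Cfsg.Lib.SolvStruct.Alperin
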