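/-
A group with generalised quaternion Sylow 2-subgroups is 2-nilpotent or has a section `SL(2,3)`.
-/
import Cfsg.Agent.Transfer.Frobenius
import Cfsg.Agent.Frobenius.UniqueSubgroup
import Cfsg.Agent.Fusion.CyclicIndexTwoAut
import Mathlib.LinearAlgebra.Matrix.SpecialLinearGroup

set_option linter.style.haveILetI false
set_option linter.unusedSectionVars false

universe u

namespace Cfsg.Lib.SolvStruct.QuaternionSection

open Subgroup
open scoped Pointwise

abbrev Q8 := QuaternionGroup 2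

/-- the endomorphism sending the generators to `i`, `j` (when they satisfy the relations) -/
def gam (i j : Q8) : Q8 → Q8
  | .a t => i ^ t.val
  | .xa t => j * i ^ t.val

abbrev Rel (i j : Q8) : Prop := i ^ 4 = 1 ∧ j * j = i * i ∧ j * i * j⁻¹ = i⁻¹

set_option maxRecDepth 10000
set_option synthInstance.maxSize 2000

def I0 : Q8 := .a 1
def J0 : Q8 := .xa 0

/-- conjugation by the standard element of order three -/
def alpha (q : Q8) : Q8 := gam J0 (I0 * J0) q

theorem alpha_mul : ∀ p q : Q8, alpha (p * q) = alpha p * alpha q := by decide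

theorem alpha_three : ∀ q : Q8, alpha (alpha (alpha q)) = q := by decide

theorem gam_mul : ∀ i j : Q8, Rel i j → ∀ p q : Q8, gam i j (p * q) = gam i j p * gam i j q := by decide

theorem gam_bij : ∀ i j : Q8, Rel i j → j ∉ ({1, i, i * i, i * i * i} : Finset Q8) → i * i ≠ 1 →
    ∀ p q : Q8, gam i j p = gam i j q → p = q := by decide

theorem gam_generators : ∀ q : Q8, q = gam I0 J0 q := by decide

/-- an automorphism of odd order is trivial, or a power of it is conjugate to `alpha` -/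
theorem classify : ∀ u v : Q8, Rel u v → (∀ p q : Q8, gam u v p = gam u v q → p = q) →
    (∀ q, (gam u v)^[12] q = q) ∧
    ((∀ q, (gam u v)^[3] q = q) → (∃ q, gam u v q ≠ q) →
      (Rel I0 u ∧ u ∉ ({1, I0, I0 * I0, I0 * I0 * I0} : Finset Q8) ∧ gam u v u = I0 * u) ∨
      (Rel I0 (gam u v u) ∧ gam u v u ∉ ({1, I0, I0 * I0, I0 * I0 * I0} : Finset Q8) ∧ u = I0 * gam u v u)) := by
  decide

theorem hom_eq_gam (f : Q8 → Q8) (hf : ∀ p q, f (p * q) = f p * f q) : f = gam (f I0) (f J0) := by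
  have h1 : f 1 = 1 := by
    have h := hf 1 1
    rw [one_mul] at h
    exact mul_eq_left.1 h.symm
  let F : Q8 →* Q8 := { toFun := f, map_one' := h1, map_mul' := hf }
  have hI : ∀ t : ZMod 4, (QuaternionGroup.a t : Q8) = I0 ^ t.val := by decide
  have hJ : ∀ t : ZMod 4, (QuaternionGroup.xa t : Q8) = J0 * I0 ^ t.val := by decide
  funext q
  cases q with
  | a t => show F _ = (F I0) ^ t.val; rw [← map_pow, ← hI]
  | xa t => show F _ = F J0 * (F I0) ^ t.val; rw [← map_pow, ← map_mul, ← hJ]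

variable {X : Type u} [Group X]

/-- the product map -/
def prodMap (φ : Q8 →* X) (y : X) : Q8 × ZMod 3 → X := fun a => φ a.1 * y ^ a.2.val

def mu (a b : Q8 × ZMod 3) : Q8 × ZMod 3 := (a.1 * alpha^[a.2.val] b.1, a.2 + b.2)

theorem prodMap_mul (φ : Q8 →* X) (y : X) (hy : y ^ 3 = 1) (hI : y * φ I0 * y⁻¹ = φ J0)
    (hJ : y * φ J0 * y⁻¹ = φ (I0 * J0)) (a b : Q8 × ZMod 3) :
    prodMap φ y a * prodMap φ y b = prodMap φ y (mu a b) := by
  have hI' : ∀ t : ZMod 4, (QuaternionGroup.a t : Q8) = I0 ^ t.val := by decide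
  have hJ' : ∀ t : ZMod 4, (QuaternionGroup.xa t : Q8) = J0 * I0 ^ t.val := by decide
  have hα : ∀ q, y * φ q * y⁻¹ = φ (alpha q) := by
    intro q
    cases q with
    | a t =>
      rw [hI', map_pow, ← conj_pow, hI]
      show _ = φ (gam J0 (I0 * J0) (I0 ^ t.val))
      rw [← hI']
      exact (map_pow φ J0 _).symm
    | xa t =>
      rw [hJ', map_mul, map_pow, show y * (φ J0 * φ I0 ^ t.val) * y⁻¹ = (y * φ J0 * y⁻¹) * (y * φ I0 ^ t.val * y⁻¹) by group,
        ← conj_pow, hI, hJ, ← map_pow, ← map_mul]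
      show _ = φ (gam J0 (I0 * J0) (J0 * I0 ^ t.val))
      rw [← hJ']
      rfl
  have hαk : ∀ k : ℕ, ∀ q, y ^ k * φ q = φ (alpha^[k] q) * y ^ k := by
    intro k
    induction k with
    | zero => intro q; simp
    | succ k ih =>
      intro q
      rw [pow_succ', mul_assoc, ih, ← mul_assoc, Function.iterate_succ_apply', ← hα]
      group
  show φ a.1 * y ^ a.2.val * (φ b.1 * y ^ b.2.val) = φ (a.1 * alpha^[a.2.val] b.1) * y ^ (a.2 + b.2).val
  rw [map_mul, ← mul_assoc, mul_assoc (φ a.1), hαk, ← mul_assoc, mul_assoc, ← pow_add, ZMod.val_add,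
    ← pow_eq_pow_mod _ hy]

open Matrix (SpecialLinearGroup)

def iSL : SpecialLinearGroup (Fin 2) (ZMod 3) := ⟨!![0, -1; 1, 0], by decide⟩
def jSL : SpecialLinearGroup (Fin 2) (ZMod 3) := ⟨!![1, 1; 1, -1], by decide⟩
def ySL : SpecialLinearGroup (Fin 2) (ZMod 3) := ⟨!![1, 1; 0, 1], by decide⟩

def phiFun : Q8 → SpecialLinearGroup (Fin 2) (ZMod 3)
  | .a t => iSL ^ t.val
  | .xa t => jSL * iSL ^ t.val

theorem phiFun_mul : ∀ p q : Q8, phiFun (p * q) = phiFun p * phiFun q := by decide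

def phiSL : Q8 →* SpecialLinearGroup (Fin 2) (ZMod 3) :=
  { toFun := phiFun, map_one' := by decide, map_mul' := phiFun_mul }

theorem prodMap_SL_bij : Function.Bijective (prodMap phiSL ySL) := by
  constructor
  · have : ∀ a b : Q8 × ZMod 3, prodMap phiSL ySL a = prodMap phiSL ySL b → a = b := by decide
    exact this
  · have : ∀ a b c d : ZMod 3, a * d - b * c = 1 → ∃ x : Q8 × ZMod 3,
        (prodMap phiSL ySL x).1 = !![a, b; c, d] := by decide
    intro M
    obtain ⟨x, hx⟩ := this (M.1 0 0) (M.1 0 1) (M.1 1 0) (M.1 1 1) (by rw [← Matrix.det_fin_two]; exact M.2)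
    exact ⟨x, Subtype.ext (hx.trans (Matrix.eta_fin_two M.1).symm)⟩

theorem iso_SL (φ : Q8 →* X) (y : X) (hy : y ^ 3 = 1) (hI : y * φ I0 * y⁻¹ = φ J0)
    (hJ : y * φ J0 * y⁻¹ = φ (I0 * J0)) (hbij : Function.Bijective (prodMap φ y)) :
    Nonempty (X ≃* SpecialLinearGroup (Fin 2) (ZMod 3)) := by
  let e1 := Equiv.ofBijective _ hbij
  let e2 := Equiv.ofBijective _ prodMap_SL_bij
  refine ⟨{ e1.symm.trans e2 with map_mul' := fun a b => ?_ }⟩
  show e2 (e1.symm (a * b)) = e2 (e1.symm a) * e2 (e1.symm b)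
  show _ = prodMap phiSL ySL (e1.symm a) * prodMap phiSL ySL (e1.symm b)
  rw [prodMap_mul phiSL ySL (by decide) (by decide) (by decide)]
  show e2 (e1.symm (a * b)) = e2 (mu (e1.symm a) (e1.symm b))
  congr 1
  apply e1.injective
  rw [e1.apply_symm_apply]
  show a * b = prodMap φ y _
  rw [← prodMap_mul φ y hy hI hJ]
  exact (congrArg₂ (· * ·) (e1.apply_symm_apply a) (e1.apply_symm_apply b)).symm

variable {G : Type u} [Group G] [Finite G]

theorem section_of_auto (e : Q8 →* G) (he : Function.Injective e) (x : G) (hx : (orderOf x).Coprime 2)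
    (hnorm : ∀ q : Q8, x * e q * x⁻¹ ∈ e.range) (hne : ∃ q : Q8, x * e q * x⁻¹ ≠ e q) :
    ∃ (H K : Subgroup G) (hK : (K.subgroupOf H).Normal),
      Nonempty ((H ⧸ K.subgroupOf H) ≃* SpecialLinearGroup (Fin 2) (ZMod 3)) := by
  choose β hβ using hnorm
  have hβmul : ∀ p q, β (p * q) = β p * β q := fun p q => he (by
    rw [hβ, map_mul, map_mul, hβ, hβ]; group)
  have hβinj : ∀ p q, β p = β q → p = q := fun p q h => he (by
    have := congrArg e h
    rw [hβ, hβ] at this
    simpa using this)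
  have hg := hom_eq_gam β hβmul
  have hrel : Rel (β I0) (β J0) := by
    let F : Q8 →* Q8 := { toFun := β, map_one' := mul_eq_left.1 (by rw [← hβmul, one_mul] : β 1 * β 1 = β 1), map_mul' := hβmul }
    refine ⟨?_, ?_, ?_⟩
    · show F I0 ^ 4 = 1; rw [← map_pow, show I0 ^ 4 = 1 by decide, map_one]
    · show F J0 * F J0 = F I0 * F I0; rw [← map_mul, ← map_mul, show J0 * J0 = I0 * I0 by decide]
    · show F J0 * F I0 * (F J0)⁻¹ = (F I0)⁻¹
      rw [← map_inv, ← map_inv, ← map_mul, ← map_mul, show J0 * I0 * J0⁻¹ = I0⁻¹ by decide]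
  obtain ⟨h12, hcls⟩ := classify (β I0) (β J0) hrel (by rw [← hg]; exact hβinj)
  rw [← hg] at h12 hcls
  have hiter : ∀ (n : ℕ) q, e (β^[n] q) = x ^ n * e q * (x ^ n)⁻¹ := by
    intro n
    induction n with
    | zero => intro q; simp
    | succ n ih => intro q; rw [Function.iterate_succ_apply', hβ, ih, pow_succ']; group
  have h3 : ∀ q, β^[3] q = q := by
    intro q
    have hp : Function.IsPeriodicPt β 12 q := h12 q
    have ho : Function.IsPeriodicPt β (orderOf x) q := he (by rw [hiter, pow_orderOf_eq_one]; simp)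
    have hgcd := hp.gcd ho
    have hd : Nat.gcd 12 (orderOf x) ∣ 3 := by
      have h4 : Nat.Coprime (Nat.gcd 12 (orderOf x)) 4 :=
        (Nat.Coprime.pow_right 2 hx).coprime_dvd_left (Nat.gcd_dvd_right _ _)
      exact h4.dvd_of_dvd_mul_left (Nat.gcd_dvd_left 12 (orderOf x) : _ ∣ 4 * 3)
    exact (hgcd.trans_dvd hd)
  obtain ⟨q₀, hq₀⟩ := hne
  -- normalise
  obtain ⟨y, j, hy3, hyn, hrelj, hjm, hyI, hyJ⟩ : ∃ (y : G) (j : Q8), (∀ q, y ^ 3 * e q = e q * y ^ 3) ∧
      (orderOf y).Coprime 2 ∧ Rel I0 j ∧ j ∉ ({1, I0, I0 * I0, I0 * I0 * I0} : Finset Q8) ∧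
      y * e I0 * y⁻¹ = e j ∧ y * e j * y⁻¹ = e (I0 * j) := by
    have hx3 : ∀ q, x ^ 3 * e q = e q * x ^ 3 := fun q => by
      have := hiter 3 q
      rw [h3] at this
      exact mul_inv_eq_iff_eq_mul.1 this.symm
    rcases hcls h3 ⟨q₀, fun h => hq₀ (by rw [← hβ, h])⟩ with ⟨a1, a2, a3⟩ | ⟨a1, a2, a3⟩
    · exact ⟨x, β I0, hx3, hx, a1, a2, (hβ I0).symm, by rw [← hβ, a3]⟩
    · refine ⟨x ^ 2, β (β I0), fun q => ?_, hx.coprime_dvd_left (orderOf_pow_dvd 2), a1, a2, ?_, ?_⟩
      · rw [← pow_mul, show 2 * 3 = 3 + 3 from rfl, pow_add, mul_assoc, hx3, ← mul_assoc, hx3, mul_assoc]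
      · rw [← hiter 2]; rfl
      · rw [← hiter 2]
        show e (β (β (β (β I0)))) = _
        rw [show β (β (β (β I0))) = β I0 from h3 (β I0), ← a3]
  have hjne : I0 * I0 ≠ 1 := by decide
  let γ : Q8 →* Q8 := MonoidHom.mk' (gam I0 j) (gam_mul I0 j hrelj)
  set φ := e.comp γ with hφ
  have hφinj : Function.Injective φ := he.comp fun p q h => gam_bij I0 j hrelj hjm hjne p q h
  have hφsurj : ∀ q, ∃ p, φ p = e q := by
    intro q
    obtain ⟨p, hp⟩ := (Finite.injective_iff_surjective.1 (fun p q h => gam_bij I0 j hrelj hjm hjne p q h : Function.Injective γ)) q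
    exact ⟨p, congrArg e hp⟩
  have hφI : φ I0 = e I0 := congrArg e (by show I0 ^ (1 : ZMod 4).val = I0; decide)
  have hφJ : φ J0 = e j := congrArg e (by show j * I0 ^ (0 : ZMod 4).val = j; simp)
  have hφIJ : φ (I0 * J0) = e (I0 * j) := by rw [map_mul, hφI, hφJ, map_mul]
  set H := φ.range ⊔ zpowers y with hH
  set K := zpowers (y ^ 3) with hK
  have hKH : K ≤ H := (zpowers_le.2 (pow_mem (mem_zpowers y) 3)).trans le_sup_right
  have hcent : ∀ h ∈ H, Commute h (y ^ 3) := by
    intro h hh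
    refine (show H ≤ centralizer {y ^ 3} from sup_le ?_ (zpowers_le.2 ?_)) hh |> fun hc => (mem_centralizer_singleton_iff.1 hc)
    · rintro _ ⟨q, rfl⟩
      exact mem_centralizer_singleton_iff.2 (hy3 _).symm
    · exact mem_centralizer_singleton_iff.2 ((Commute.refl y).pow_right 3).eq
  haveI hKn : (K.subgroupOf H).Normal := by
    refine ⟨fun k hk g => ?_⟩
    rw [mem_subgroupOf] at hk ⊢
    obtain ⟨i, hi⟩ := mem_zpowers_iff.1 hk
    show (g : G) * k * (g : G)⁻¹ ∈ K
    rw [← hi, ((hcent g g.2).zpow_right i).eq, mul_inv_cancel_right]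
    exact zpow_mem (mem_zpowers _) i
  refine ⟨H, K, hKn, ?_⟩
  let m := QuotientGroup.mk' (K.subgroupOf H)
  let φ' : Q8 →* H ⧸ K.subgroupOf H := m.comp (φ.codRestrict H fun q => mem_sup_left ⟨q, rfl⟩)
  let y' : H ⧸ K.subgroupOf H := m ⟨y, mem_sup_right (mem_zpowers y)⟩
  have hy'3 : y' ^ 3 = 1 := by
    rw [← map_pow]
    exact (QuotientGroup.eq_one_iff _).2 (mem_zpowers _)
  have h1 : y' * φ' I0 * y'⁻¹ = φ' J0 := by
    simp only [φ', y', MonoidHom.comp_apply, ← map_inv, ← map_mul]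
    congr 1
    exact Subtype.ext (by show y * φ I0 * y⁻¹ = φ J0; rw [hφI, hφJ, hyI])
  have h2 : y' * φ' J0 * y'⁻¹ = φ' (I0 * J0) := by
    simp only [φ', y', MonoidHom.comp_apply, ← map_inv, ← map_mul]
    congr 1
    exact Subtype.ext (by show y * φ J0 * y⁻¹ = φ (I0 * J0); rw [hφJ, hφIJ, hyJ])
  refine iso_SL φ' y' hy'3 h1 h2 ⟨?_, ?_⟩
  · rintro ⟨p, k⟩ ⟨q, l⟩ h
    have h' : m ⟨φ p * y ^ k.val, mul_mem (mem_sup_left ⟨p, rfl⟩) (mem_sup_right (pow_mem (mem_zpowers y) _))⟩ =
        m ⟨φ q * y ^ l.val, mul_mem (mem_sup_left ⟨q, rfl⟩) (mem_sup_right (pow_mem (mem_zpowers y) _))⟩ := by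
      have e1 : ∀ (p : Q8) (k : ZMod 3), prodMap φ' y' (p, k) =
          m ⟨φ p * y ^ k.val, mul_mem (mem_sup_left ⟨p, rfl⟩) (mem_sup_right (pow_mem (mem_zpowers y) _))⟩ := by
        intro p k
        show φ' p * y' ^ k.val = _
        rw [show y' ^ k.val = m (⟨y, mem_sup_right (mem_zpowers y)⟩ ^ k.val) from (map_pow m _ _).symm]
        show m _ * m _ = _
        rw [← map_mul]
        rfl
      rw [← e1, ← e1]
      exact h
    have h'' : (φ p * y ^ k.val)⁻¹ * (φ q * y ^ l.val) ∈ K := (QuotientGroup.eq (s := K.subgroupOf H)).1 h'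
    obtain ⟨i, hi⟩ := mem_zpowers_iff.1 h''
    -- the quaternion part is a power of `y`
    have hpq : φ (p⁻¹ * q) ∈ zpowers y := by
      rw [map_mul, map_inv, show (φ p)⁻¹ * φ q = y ^ k.val * ((φ p * y ^ k.val)⁻¹ * (φ q * y ^ l.val)) * (y ^ l.val)⁻¹ by group,
        ← hi]
      exact mul_mem (mul_mem (pow_mem (mem_zpowers y) _) (zpow_mem (pow_mem (mem_zpowers y) _) _))
        (inv_mem (pow_mem (mem_zpowers y) _))
    have hq8 : orderOf (φ (p⁻¹ * q)) ∣ 8 := by
      rw [orderOf_injective φ hφinj]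
      exact (_root_.orderOf_dvd_natCard _).trans (by rw [Nat.card_eq_fintype_card, QuaternionGroup.card])
    have h1 : orderOf (φ (p⁻¹ * q)) = 1 :=
      Nat.eq_one_of_dvd_coprimes ((Nat.Coprime.pow_right 3 hyn) : (orderOf y).Coprime (2 ^ 3))
        (by obtain ⟨t, ht⟩ := mem_zpowers_iff.1 hpq; rw [← ht]; exact orderOf_dvd_iff_pow_eq_one.2 (by
              rw [← zpow_natCast, ← zpow_mul, mul_comm, zpow_mul, zpow_natCast, pow_orderOf_eq_one, one_zpow]))
        hq8
    have hpq' : p = q := by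
      have : φ (p⁻¹ * q) = 1 := orderOf_eq_one_iff.1 h1
      exact inv_mul_eq_one.1 (hφinj (this.trans (map_one φ).symm))
    subst hpq'
    rw [show (φ p * y ^ k.val)⁻¹ * (φ p * y ^ l.val) = (y ^ k.val)⁻¹ * y ^ l.val by group] at h''
    -- powers of `y` in `K`
    have hkl : k = l := by
      by_contra hne
      have hsub : ∀ k l : ZMod 3, k ≠ l → (3 : ℤ).gcd ((l.val : ℤ) - k.val) = 1 := by decide
      have hmem : y ^ ((l.val : ℤ) - k.val) ∈ K := by
        rw [zpow_sub, zpow_natCast, zpow_natCast, ← (((Commute.refl y).pow_pow _ _).inv_left).eq]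
        exact h''
      have hy1 : y ∈ K := by
        obtain ⟨s, t, hst⟩ := Int.isCoprime_iff_gcd_eq_one.2 (hsub k l hne)
        rw [← zpow_one y, ← hst, zpow_add, mul_comm s, zpow_mul, mul_comm t, zpow_mul]
        exact mul_mem (zpow_mem (by rw [show (3 : ℤ) = ((3 : ℕ) : ℤ) from rfl, zpow_natCast]; exact mem_zpowers _) s)
          (zpow_mem hmem t)
      obtain ⟨i, hi⟩ := mem_zpowers_iff.1 hy1
      have hcomm : y * φ I0 * y⁻¹ = φ I0 := by
        rw [mul_inv_eq_iff_eq_mul, ← hi]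
        exact ((hcent (φ I0) (mem_sup_left ⟨I0, rfl⟩)).zpow_right i).symm.eq
      rw [hφI, hyI] at hcomm
      exact hjm (by rw [he hcomm]; decide)
    rw [hkl]
  · intro z
    obtain ⟨⟨g, hg⟩, rfl⟩ := QuotientGroup.mk'_surjective _ z
    have hN : zpowers y ≤ normalizer (φ.range : Set G) := by
      refine zpowers_le.2 (Subgroup.mem_normalizer_iff_map_conj_eq.2 (eq_of_le_of_card_ge ?_
        (card_map_of_injective (MulAut.conj y).injective).ge))
      show φ.range.map (MulAut.conj y).toMonoidHom ≤ φ.range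
      rw [MonoidHom.map_range]
      rintro _ ⟨q, rfl⟩
      have hiI : y * φ I0 * y⁻¹ ∈ φ.range := ⟨J0, by rw [hφI, hyI, hφJ]⟩
      have hiJ : y * φ J0 * y⁻¹ ∈ φ.range := ⟨I0 * J0, by rw [hφJ, hyJ, hφIJ]⟩
      show y * φ q * y⁻¹ ∈ φ.range
      have hI' : ∀ t : ZMod 4, (QuaternionGroup.a t : Q8) = I0 ^ t.val := by decide
      have hJ' : ∀ t : ZMod 4, (QuaternionGroup.xa t : Q8) = J0 * I0 ^ t.val := by decide
      cases q with
      | a t => rw [hI', map_pow, ← conj_pow]; exact pow_mem hiI _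
      | xa t =>
        rw [hJ', map_mul, map_pow, show y * (φ J0 * φ I0 ^ t.val) * y⁻¹ = (y * φ J0 * y⁻¹) * (y * φ I0 ^ t.val * y⁻¹) by group,
          ← conj_pow]
        exact mul_mem hiJ (pow_mem hiI _)
    have hmem : g ∈ (φ.range : Set G) * (zpowers y : Set G) := by
      rw [← coe_mul_of_right_le_normalizer_left _ _ hN]; exact hg
    obtain ⟨_, ⟨p, rfl⟩, w, hw, rfl⟩ := hmem
    obtain ⟨i, rfl⟩ := mem_zpowers_iff.1 hw
    refine ⟨(p, (i : ZMod 3)), ?_⟩
    show φ' p * y' ^ (i : ZMod 3).val = _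
    have : y' ^ (i : ZMod 3).val = y' ^ i := by
      rw [← zpow_natCast, ZMod.val_intCast, Nat.cast_ofNat, zpow_mod' y' i hy'3]
    rw [this]
    show m _ * m _ ^ i = _
    rw [← map_zpow, ← map_mul]
    rfl
where
  zpow_mod' {M : Type u} [Group M] (a : M) (i : ℤ) (h : a ^ 3 = 1) : a ^ (i % (3 : ℤ)) = a ^ i := by
    conv_rhs => rw [← Int.emod_add_mul_ediv i 3, zpow_add, zpow_mul, show a ^ (3 : ℤ) = 1 by exact_mod_cast h, one_zpow, mul_one]

theorem main (T : Sylow 2 G) (n : ℕ) (hn : 1 ≤ n) (hT : Nonempty ((T : Subgroup G) ≃* QuaternionGroup (2 ^ n))) :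
    Cfsg.HasNormalPComplement 2 G ∨ ∃ (H K : Subgroup G) (hK : (K.subgroupOf H).Normal),
      Nonempty ((H ⧸ K.subgroupOf H) ≃* SpecialLinearGroup (Fin 2) (ZMod 3)) := by
  haveI : Fact (Nat.Prime 2) := ⟨Nat.prime_two⟩
  haveI : NeZero (2 ^ n) := ⟨by positivity⟩
  obtain ⟨eT⟩ := hT
  by_cases h : ∀ Q : Subgroup G, IsPGroup 2 Q → ∀ g ∈ normalizer (Q : Set G),
      (orderOf g).Coprime 2 → g ∈ centralizer (Q : Set G)
  · exact Or.inl (Cfsg.Lib.Transfer.hasNormalPComplement_of_frobenius h)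
  · push Not at h
    obtain ⟨Q, hQ, g, hg, hgc, hgC⟩ := h
    right
    -- the type of `Q`
    have huniq : ∀ a b : Q, orderOf a = 2 → orderOf b = 2 → b ∈ zpowers a := by
      obtain ⟨S, hS⟩ := hQ.exists_le_sylow
      let f : Q →* QuaternionGroup (2 ^ n) :=
        (eT.toMonoidHom.comp (S.equiv T).toMonoidHom).comp (Subgroup.inclusion hS)
      have hf : Function.Injective f := eT.injective.comp ((S.equiv T).injective.comp (Subgroup.inclusion_injective hS))
      intro a b ha hb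
      have hinv : ∀ w : QuaternionGroup (2 ^ n), orderOf w = 2 → w = QuaternionGroup.a ((2 ^ n : ℕ) : ZMod (2 * 2 ^ n)) := by
        intro w hw
        cases w with
        | xa i => rw [QuaternionGroup.orderOf_xa] at hw; omega
        | a i =>
          congr 1
          obtain ⟨k, rfl⟩ := ZMod.natCast_zmod_surjective i
          have h2 := pow_orderOf_eq_one (QuaternionGroup.a (k : ZMod (2 * 2 ^ n)))
          rw [hw, pow_two, QuaternionGroup.a_mul_a, QuaternionGroup.one_def, QuaternionGroup.a.injEq, ← Nat.cast_add,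
            ZMod.natCast_eq_zero_iff, ← two_mul, Nat.mul_dvd_mul_iff_left (by norm_num)] at h2
          obtain ⟨c, rfl⟩ := h2
          rcases Nat.even_or_odd c with ⟨d, hd⟩ | ⟨d, hd⟩
          · exfalso
            have h0 : ((2 ^ n * c : ℕ) : ZMod (2 * 2 ^ n)) = 0 := by
              rw [ZMod.natCast_eq_zero_iff, hd]; exact ⟨d, by ring⟩
            rw [h0, ← QuaternionGroup.one_def, orderOf_one] at hw
            omega
          · rw [hd, mul_add, mul_one, ← mul_assoc, mul_comm _ 2, Nat.cast_add, Nat.cast_mul (2 * 2 ^ n) d,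
              ZMod.natCast_self, zero_mul, zero_add]
      have : b = a := hf ((hinv _ (by rw [orderOf_injective f hf, hb])).trans (hinv _ (by rw [orderOf_injective f hf, ha])).symm)
      rw [this]; exact mem_zpowers a
    -- the action of `g` is a nontrivial automorphism of odd order
    let c : normalizer (Q : Set G) →* MulAut Q := Q.normalizerMonoidHom
    have hcodd : (orderOf (c ⟨g, hg⟩)).Coprime 2 :=
      hgc.coprime_dvd_left ((orderOf_map_dvd c _).trans (by rw [Subgroup.orderOf_mk]))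
    have hcne : c ⟨g, hg⟩ ≠ 1 := fun e => hgC fun q hq => by
      have := congrArg (fun f : MulAut Q => ((f ⟨q, hq⟩ : Q) : G)) e
      exact (mul_inv_eq_iff_eq_mul.1 (this : g * q * g⁻¹ = q)).symm
    have hnot : ¬ IsPGroup 2 (MulAut Q) := by
      intro hp
      obtain ⟨k, hk⟩ := hp (c ⟨g, hg⟩)
      exact hcne (orderOf_eq_one_iff.1 (Nat.eq_one_of_dvd_coprimes
        (Nat.Coprime.pow_right k hcodd) dvd_rfl (orderOf_dvd_of_pow_eq_one hk)))
    rcases Cfsg.Lib.UniqueSub.isCyclic_or_quaternion hQ huniq with hcy | ⟨-, k, ⟨e⟩⟩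
    · refine absurd ?_ hnot
      obtain ⟨k, hk⟩ := IsPGroup.iff_card.1 hQ
      refine IsPGroup.of_card (n := k - 1) ?_
      rw [IsCyclic.card_mulAut, hk]
      cases k with
      | zero => simp
      | succ k => rw [Nat.totient_prime_pow_succ Nat.prime_two]; simp
    · have hk2 : k < 2 := by
        by_contra hk
        exact hnot ((Cfsg.Lib.Fusion.isPGroup_mulAut_quaternion (n := k) (not_lt.1 hk)).of_equiv (MulAut.congr e).symm)
      interval_cases k
      · refine absurd ?_ hnot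
        haveI : IsCyclic (QuaternionGroup (2 ^ 0)) := QuaternionGroup.quaternionGroup_one_isCyclic
        haveI : IsCyclic Q := isCyclic_of_surjective e.symm.toMonoidHom e.symm.surjective
        refine IsPGroup.of_card (n := 1) ?_
        rw [IsCyclic.card_mulAut, Nat.card_congr e.toEquiv, Nat.card_eq_fintype_card, QuaternionGroup.card]
        decide
      · refine section_of_auto (Q.subtype.comp e.symm.toMonoidHom) (Subtype.val_injective.comp e.symm.injective) g hgc
          (fun q => ⟨e ⟨g * (e.symm q : G) * g⁻¹, (mem_normalizer_iff.1 hg _).1 (e.symm q).2⟩, ?_⟩) ?_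
        · show ((e.symm (e _) : Q) : G) = _
          rw [e.symm_apply_apply]
          rfl
        · by_contra! hall
          refine hgC fun q hq => ?_
          have h := hall (e ⟨q, hq⟩)
          have hval : (Q.subtype.comp e.symm.toMonoidHom) (e ⟨q, hq⟩) = q := by
            show ((e.symm (e ⟨q, hq⟩) : Q) : G) = q
            rw [e.symm_apply_apply]
          rw [hval] at h
          exact (mul_inv_eq_iff_eq_mul.1 h).symm

end Cfsg.Lib.SolvStruct.QuaternionSection
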