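/-
Orders of extraspecial groups, critical subgroups and normal elementary abelian subgroups of order p^2.
-/
import Cfsg.Agent.PGroups.Bounds
import Cfsg.Agent.Coprime.Generation
import Cfsg.Agent.Coprime.SolvableBasics

set_option linter.style.haveILetI false
set_option linter.unusedSectionVars false

namespace Cfsg.Lib.SolvStruct

open Subgroup
open scoped commutatorElement

variable {P : Type*} [Group P] [Finite P] {p : ℕ} [hp : Fact p.Prime]

theorem relIndex_centralizer_tower (hP : IsPGroup p P) (hd : commutator P ≤ center P)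
    (hZ : Nat.card (center P) = p) : ∀ (n : ℕ) (M K : Subgroup P), M ≤ K → M.relIndex K = p ^ n →
      (centralizer (K : Set P)).relIndex (centralizer (M : Set P)) ≤ p ^ n := by
  intro n
  induction n with
  | zero =>
    intro M K hMK hi
    rw [pow_zero] at hi
    rw [le_antisymm hMK (relIndex_eq_one.1 hi), relIndex_self, pow_zero]
  | succ n ih =>
    intro M K hMK hi
    have hne : ¬ K ≤ M := fun hle => by
      rw [relIndex_eq_one.2 hle] at hi
      exact (Nat.one_lt_pow (Nat.succ_ne_zero n) hp.out.one_lt).ne hi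
    obtain ⟨M', hM', hMM'⟩ : ∃ M' : Subgroup K, IsCoatom M' ∧ M.subgroupOf K ≤ M' := by
      rcases IsCoatomic.eq_top_or_exists_le_coatom (M.subgroupOf K) with h | h
      · exact absurd (subgroupOf_eq_top.1 h) hne
      · exact h
    obtain ⟨-, hi'⟩ := Cfsg.Lib.PGroups.coatom_normal_index (hP.to_subgroup K) hM'
    set L := M'.map K.subtype
    have hLK : L ≤ K := map_subtype_le M'
    have hL : L.relIndex K = p := by
      show (L.subgroupOf K).index = p
      rw [subgroupOf, comap_map_eq_self_of_injective K.subtype_injective, hi']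
    have hML : M ≤ L := fun z hz => ⟨⟨z, hMK hz⟩, hMM' hz, rfl⟩
    have hLn : M.relIndex L = p ^ n := by
      have h1 := relIndex_mul_relIndex M L K hML hLK
      rw [hL, hi, pow_succ] at h1
      exact Nat.eq_of_mul_eq_mul_right hp.out.pos h1
    obtain ⟨x, hx, hxL⟩ := SetLike.not_le_iff_exists.1
      (fun hle : K ≤ L => hp.out.ne_one (hL ▸ relIndex_eq_one.2 hle))
    rw [Cfsg.Lib.PGroups.eq_sup_zpowers_of_relIndex_prime hLK hL hx hxL,
      Cfsg.Lib.PGroups.centralizer_sup_zpowers,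
      ← relIndex_mul_relIndex (centralizer (L : Set P) ⊓ centralizer ({x} : Set P)) (centralizer (L : Set P))
        (centralizer (M : Set P)) inf_le_left (centralizer_le hML), inf_relIndex_left]
    refine le_trans (Nat.mul_le_mul (Cfsg.Lib.PGroups.relIndex_centralizer_le (centralizer (L : Set P)) x
      (center P) fun g _ => hd (commutator_mem_commutator (mem_top g) (mem_top x)))
      (ih M L hML hLn)) ?_
    rw [hZ, pow_succ']

theorem extraspecial_card_odd_power (h : Cfsg.IsExtraspecial p P) :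
    ∃ n : ℕ, 1 ≤ n ∧ Nat.card P = p ^ (2 * n + 1) := by
  obtain ⟨⟨hP, -, hd⟩, hZ⟩ := h
  obtain ⟨A, ⟨hAn, hAc⟩, hmax⟩ := WellFounded.has_min
    (IsWellFounded.wf (r := ((· > ·) : Subgroup P → Subgroup P → Prop)))
    {A | A.Normal ∧ IsMulCommutative A} ⟨center P, inferInstance, inferInstance⟩
  haveI := hAn
  have hCA := Cfsg.Lib.PGroups.centralizer_eq_self_of_maximal_normal_abelian hP A hAc
    fun B hB hB' hAB => (eq_of_le_of_not_lt hAB fun hlt => hmax B ⟨hB, hB'⟩ hlt).symm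
  have hZA : center P ≤ A := fun z hz => by
    rw [← hCA]
    exact fun a _ => mem_center_iff.1 hz a
  obtain ⟨k, hk⟩ := hP.exists_card_eq
  obtain ⟨i, -, hi⟩ := (Nat.dvd_prime_pow hp.out).1 (hk ▸ A.index_dvd_card)
  obtain ⟨j, -, hj⟩ := (Nat.dvd_prime_pow hp.out).1
    (hk ▸ ((relIndex_dvd_card (center P) A).trans A.card_subgroup_dvd_card))
  have hCZ : centralizer ((center P : Subgroup P) : Set P) = ⊤ :=
    eq_top_iff.2 fun g _ z hz => (mem_center_iff.1 hz g).symm
  have h1 := relIndex_centralizer_tower hP hd.le hZ j (center P) A hZA hj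
  rw [hCA, hCZ, relIndex_top_right, hi] at h1
  have h2 := relIndex_centralizer_tower hP hd.le hZ i A ⊤ le_top (by rw [relIndex_top_right, hi])
  rw [hCA, coe_top, centralizer_univ, hj] at h2
  have hij : i = j := le_antisymm ((Nat.pow_le_pow_iff_right hp.out.one_lt).1 h1)
    ((Nat.pow_le_pow_iff_right hp.out.one_lt).1 h2)
  have hcard : Nat.card P = p ^ (2 * i + 1) := by
    have h3 := relIndex_mul_relIndex (⊥ : Subgroup P) (center P) A bot_le hZA
    rw [relIndex_bot_left, relIndex_bot_left, hZ, hj] at h3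
    rw [← A.card_mul_index, hi, ← h3, ← hij]
    ring
  refine ⟨i, Nat.pos_of_ne_zero fun hi0 => ?_, hcard⟩
  have hab : IsMulCommutative P := by
    have hAt : A = ⊤ := index_eq_one.1 (by rw [hi, hi0, pow_zero])
    exact ⟨⟨fun a b => congrArg Subtype.val
      (mul_comm' (⟨a, hAt.ge (mem_top a)⟩ : A) ⟨b, hAt.ge (mem_top b)⟩)⟩⟩
  have hbot : center P = ⊥ := by
    rw [← hd, eq_bot_iff, _root_.commutator_def, commutator_le]
    intro a _ b _
    rw [mem_bot, commutatorElement_eq_one_iff_mul_comm]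
    exact mul_comm' a b
  rw [hbot, card_bot] at hZ
  exact hp.out.ne_one hZ.symm

theorem frattini_eq_bot_of_elementary {Q : Type*} [Group Q] [Finite Q] (hexp : ∀ y : Q, y ^ p = 1)
    (hab : ∀ y z : Q, y * z = z * y) : frattini Q = ⊥ := by
  rw [eq_bot_iff]
  intro x hx
  rw [mem_bot]
  by_contra hx1
  obtain ⟨H, -, hH⟩ := Finite.exists_le_maximal (p := fun H : Subgroup Q => x ∉ H) (a := ⊥)
    (by rwa [mem_bot])
  refine hH.prop (frattini_le_coatom ⟨fun h' => hH.prop (h'.ge (mem_top x)), fun K hK => ?_⟩ hx)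
  have hxK : x ∈ K := not_not.mp fun hn => hK.not_ge (hH.le_of_ge hn hK.le)
  refine eq_top_iff.mpr fun y _ => ?_
  by_cases hy : y ∈ H
  · exact hK.le hy
  haveI : (zpowers y).Normal := ⟨fun n hn g => by rw [hab g n, mul_inv_cancel_right]; exact hn⟩
  have hxs : x ∈ H ⊔ zpowers y := not_not.mp fun hn =>
    hy (hH.le_of_ge (y := H ⊔ zpowers y) hn le_sup_left (mem_sup_right (mem_zpowers y)))
  obtain ⟨a, ha, b, hb, hab'⟩ := mem_sup_of_normal_right.1 hxs
  obtain ⟨i, rfl⟩ := mem_zpowers_iff.1 hb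
  have hi : ¬ (p : ℤ) ∣ i := by
    rintro ⟨j, rfl⟩
    refine hH.prop ?_
    rw [← hab', zpow_mul, zpow_natCast, hexp, one_zpow, mul_one]
    exact ha
  obtain ⟨u, v, huv⟩ := ((Nat.prime_iff_prime_int.1 hp.out).coprime_iff_not_dvd.2 hi).symm
  have hyi : y ^ i ∈ K := by
    have := mul_mem (inv_mem (hK.le ha)) hxK
    rwa [← hab', inv_mul_cancel_left] at this
  have h3 : y = (y ^ i) ^ u := by
    rw [← zpow_mul, show i * u = 1 + (p : ℤ) * (-v) by linarith, zpow_add, zpow_one, zpow_mul,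
      zpow_natCast, hexp, one_zpow, mul_one]
  rw [h3]
  exact zpow_mem hyi u

theorem exists_critical (hP : IsPGroup p P) :
    ∃ H : Subgroup P, H.Characteristic ∧ (frattini H).map H.subtype ≤ centralizer (H : Set P) ∧
      ⁅H, (⊤ : Subgroup P)⁆ ≤ H ⊓ centralizer (H : Set P) ∧ centralizer (H : Set P) ≤ H := by
  haveI := hP.isNilpotent
  obtain ⟨D, ⟨hDc, hDa⟩, hmax⟩ := WellFounded.has_min
    (IsWellFounded.wf (r := ((· > ·) : Subgroup P → Subgroup P → Prop)))
    {D | D.Characteristic ∧ IsMulCommutative D} ⟨⊥, inferInstance, inferInstance⟩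
  haveI := hDc
  haveI := hDa
  set C := centralizer (D : Set P)
  haveI hCn : C.Normal := inferInstance
  have hDn : D.Normal := inferInstance
  set q := QuotientGroup.mk' D
  let H : Subgroup P :=
    { carrier := {x | x ∈ C ∧ (∀ g, q g * q x = q x * q g) ∧ (q x) ^ p = 1}
      one_mem' := ⟨one_mem _, fun g => by simp, by simp⟩
      mul_mem' := fun {x y} ⟨hx, hxc, hxp⟩ ⟨hy, hyc, hyp⟩ => ⟨mul_mem hx hy, fun g => by
          rw [map_mul, ← mul_assoc, hxc, mul_assoc, hyc, mul_assoc], by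
          rw [map_mul, (show Commute (q x) (q y) from hyc x).mul_pow, hxp, hyp, one_mul]⟩
      inv_mem' := fun {x} ⟨hx, hxc, hxp⟩ => ⟨inv_mem hx, fun g => by
          rw [map_inv]; exact ((show Commute (q g) (q x) from hxc g).inv_right).eq, by
          rw [map_inv, inv_pow, hxp, inv_one]⟩ }
  have hDH : D ≤ H := fun d hd => by
    have h1 : q d = 1 := (QuotientGroup.eq_one_iff d).2 hd
    exact ⟨fun e he => congrArg Subtype.val (mul_comm' (⟨e, he⟩ : D) ⟨d, hd⟩), fun g => by rw [h1]; simp,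
      by rw [h1, one_pow]⟩
  have hcomm : ∀ x ∈ H, ∀ g : P, ⁅x, g⁆ ∈ D := fun x hx g => by
    rw [← QuotientGroup.eq_one_iff]
    show q ⁅x, g⁆ = 1
    rw [map_commutatorElement, commutatorElement_eq_one_iff_mul_comm]
    exact (hx.2.1 g).symm
  haveI hHc : H.Characteristic := by
    refine characteristic_iff_map_le.2 fun φ => ?_
    have hφD : ∀ d, d ∈ D → φ d ∈ D := fun d hd =>
      characteristic_iff_map_le.1 hDc φ ⟨d, hd, rfl⟩
    rintro _ ⟨x, ⟨hxC, hxc, hxp⟩, rfl⟩
    refine ⟨?_, fun g => ?_, ?_⟩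
    · exact characteristic_iff_map_le.1 (inferInstance : C.Characteristic) φ ⟨x, hxC, rfl⟩
    · have h1 : ⁅x, φ.symm g⁆ ∈ D := hcomm x ⟨hxC, hxc, hxp⟩ _
      have h2 := hφD _ h1
      rw [map_commutatorElement, MulEquiv.apply_symm_apply] at h2
      refine (commutatorElement_eq_one_iff_mul_comm.1 ?_).symm
      rw [← map_commutatorElement]
      exact (QuotientGroup.eq_one_iff _).2 h2
    · rw [← map_pow]
      refine (QuotientGroup.eq_one_iff _).2 ?_
      rw [← map_pow] at hxp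
      show (φ x) ^ p ∈ D
      rw [← map_pow]
      exact hφD _ ((QuotientGroup.eq_one_iff _).1 hxp)
  -- `H ⊓ C(H) = D`
  have hZ : H ⊓ centralizer (H : Set P) = D := by
    haveI : (centralizer (H : Set P)).Characteristic := inferInstance
    have hc : (H ⊓ centralizer (H : Set P)).Characteristic := by
      refine characteristic_iff_map_le.2 fun φ => ?_
      rintro _ ⟨x, hx, rfl⟩
      exact ⟨characteristic_iff_map_le.1 hHc φ ⟨x, hx.1, rfl⟩,
        characteristic_iff_map_le.1 (inferInstance : (centralizer (H : Set P)).Characteristic) φ ⟨x, hx.2, rfl⟩⟩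
    have ha : IsMulCommutative ↥(H ⊓ centralizer (H : Set P)) :=
      ⟨⟨fun a b => Subtype.ext (b.2.2 a a.2.1)⟩⟩
    exact (eq_of_le_of_not_lt (le_inf hDH (show D ≤ centralizer (H : Set P) from fun d hd h hh => (hh.1 d hd).symm))
      fun hlt => hmax _ ⟨hc, ha⟩ hlt).symm
  refine ⟨H, hHc, ?_, ?_, ?_⟩
  · refine le_trans ?_ (hZ.ge.trans inf_le_right)
    haveI : (D.subgroupOf H).Normal := inferInstance
    rw [Subgroup.map_le_iff_le_comap]
    -- maximal subgroups containing `D` detect every element outside `D`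
    intro x hx
    by_contra hxD
    set r := QuotientGroup.mk' (D.subgroupOf H)
    have hexp : ∀ y : H ⧸ D.subgroupOf H, y ^ p = 1 := fun y => by
      obtain ⟨y, rfl⟩ := QuotientGroup.mk_surjective y
      rw [← QuotientGroup.mk_pow, QuotientGroup.eq_one_iff]
      have h2 := y.2.2.2
      rw [← map_pow] at h2
      show ((y : P) ^ p) ∈ D
      exact (QuotientGroup.eq_one_iff _).1 h2
    have hab : ∀ y z : H ⧸ D.subgroupOf H, y * z = z * y := fun y z => by
      obtain ⟨y, rfl⟩ := QuotientGroup.mk_surjective y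
      obtain ⟨z, rfl⟩ := QuotientGroup.mk_surjective z
      rw [← commutatorElement_eq_one_iff_mul_comm]
      show ⁅r y, r z⁆ = 1
      rw [← map_commutatorElement]
      exact (QuotientGroup.eq_one_iff _).2 (hcomm y y.2 z)
    exact hxD ((QuotientGroup.eq_one_iff x).1
      (by
        have h1 : r x ∈ frattini (H ⧸ D.subgroupOf H) :=
          frattini_le_comap_frattini_of_surjective (QuotientGroup.mk'_surjective _) hx
        rwa [frattini_eq_bot_of_elementary hexp hab, mem_bot] at h1))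
  · rw [hZ, commutator_le]
    exact fun x hx g _ => hcomm x hx g
  · by_contra hne
    have hlt : H ⊓ centralizer (H : Set P) < centralizer (H : Set P) :=
      inf_le_right.lt_of_ne fun e => hne (e ▸ inf_le_left)
    rw [hZ] at hlt
    obtain ⟨K, hK, hDK, hKQ, hi⟩ := Cfsg.Lib.PGroups.exists_normal_relIndex_prime hP hlt
    haveI := hK
    have hc : Nat.card (K.map q) = p := by rw [← Subgroup.relIndex_ker, QuotientGroup.ker_mk', hi]
    haveI : (K.map q).Normal := hK.map q (QuotientGroup.mk'_surjective D)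
    have hcen := Cfsg.Lib.PGroups.le_center_of_card_eq_prime (hP.to_quotient D) hc
    refine hp.out.ne_one (hi ▸ relIndex_eq_one.2 fun x hx => ?_)
    rw [← hZ]
    refine ⟨⟨fun d hd => (hKQ hx) d (hDH hd), fun g => mem_center_iff.1 (hcen ⟨x, hx, rfl⟩) (q g), ?_⟩, hKQ hx⟩
    have : (⟨q x, x, hx, rfl⟩ : K.map q) ^ Nat.card (K.map q) = 1 := pow_card_eq_one'
    rw [hc] at this
    exact congrArg Subtype.val this

theorem exists_normal_card_sq (hP : IsPGroup p P) (K : Subgroup P) [K.Normal]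
    (hK : p ^ 2 ≤ Nat.card K) (hexp : ∀ x ∈ K, x ^ p = 1) :
    ∃ A : Subgroup P, A.Normal ∧ Cfsg.IsElementaryAbelian p A ∧ Nat.card A = p ^ 2 := by
  have h2 : 1 < Nat.card K := lt_of_lt_of_le (Nat.one_lt_pow two_ne_zero hp.out.one_lt) hK
  obtain ⟨A1, hA1, -, hA1K, hi1⟩ := Cfsg.Lib.PGroups.exists_normal_relIndex_prime hP (N := ⊥) (M := K)
    (bot_lt_iff_ne_bot.2 fun e => by rw [e, card_bot] at h2; exact lt_irrefl _ h2)
  rw [relIndex_bot_left] at hi1
  haveI := hA1
  have hlt : A1 < K := hA1K.lt_of_ne fun e => by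
    rw [← e, hi1] at hK
    exact absurd hK (not_le.2 (by nlinarith [hp.out.two_le]))
  obtain ⟨A2, hA2, h12, hA2K, hi2⟩ := Cfsg.Lib.PGroups.exists_normal_relIndex_prime hP hlt
  have hc : Nat.card A2 = p ^ 2 := by
    have := relIndex_mul_relIndex (⊥ : Subgroup P) A1 A2 bot_le h12
    rw [relIndex_bot_left, relIndex_bot_left, hi1, hi2] at this
    rw [← this, sq]
  exact ⟨A2, hA2, ⟨⟨⟨fun a b => IsPGroup.commutative_of_card_eq_prime_sq hc a b⟩⟩,
    fun x hx => hexp x (hA2K hx)⟩, hc⟩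

theorem exists_normal_elementary_sq (hp2 : p ≠ 2) (hP : IsPGroup p P) (hnc : ¬ IsCyclic P) :
    ∃ A : Subgroup P, A.Normal ∧ Cfsg.IsElementaryAbelian p A ∧ Nat.card A = p ^ 2 := by
  haveI := hP.isNilpotent
  obtain ⟨A, ⟨hAn, hAc⟩, hmax⟩ := WellFounded.has_min
    (IsWellFounded.wf (r := ((· > ·) : Subgroup P → Subgroup P → Prop)))
    {A | A.Normal ∧ IsMulCommutative A} ⟨⊥, inferInstance, inferInstance⟩
  haveI := hAn
  haveI := hAc
  by_cases hcyc : IsCyclic A
  swap
  · -- `Ω₁(A)` has order at least `p ^ 2`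
    let K : Subgroup P :=
      { carrier := {x | x ∈ A ∧ x ^ p = 1}
        one_mem' := ⟨one_mem _, one_pow _⟩
        mul_mem' := fun {x y} ⟨hx, hx'⟩ ⟨hy, hy'⟩ => ⟨mul_mem hx hy, by
          rw [(show Commute x y from congrArg Subtype.val (mul_comm' (⟨x, hx⟩ : A) ⟨y, hy⟩)).mul_pow,
            hx', hy', one_mul]⟩
        inv_mem' := fun {x} ⟨hx, hx'⟩ => ⟨inv_mem hx, by rw [inv_pow, hx', inv_one]⟩ }
    haveI : K.Normal := ⟨fun x ⟨hx, hx'⟩ g => ⟨hAn.conj_mem x hx g, by rw [conj_pow, hx']; group⟩⟩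
    refine exists_normal_card_sq hP K ?_ fun x hx => hx.2
    by_contra hlt
    obtain ⟨k, hk⟩ := (hP.to_subgroup K).exists_card_eq
    rw [hk, not_le] at hlt
    have hk1 : k ≤ 1 := by
      by_contra h2
      exact absurd hlt (not_lt.2 (Nat.pow_le_pow_right hp.out.pos (by omega)))
    apply hcyc
    letI : CommGroup A := { (inferInstance : Group A) with mul_comm := mul_comm' }
    by_contra hA
    obtain ⟨q, u, v, hq, hu, hv, huv⟩ := Cfsg.Lib.Coprime.exists_root_pair_of_not_cyclic hA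
    have hqp : q = p := by
      obtain ⟨j, hj⟩ := IsPGroup.iff_orderOf.mp (hP.to_subgroup A) u
      rw [hu] at hj
      exact (Nat.prime_dvd_prime_iff_eq hq hp.out).mp (hq.dvd_of_dvd_pow hj.dvd)
    subst hqp
    have hu' : (u : P) ∈ K := ⟨u.2, by rw [← hu, ← Subgroup.orderOf_coe, pow_orderOf_eq_one]⟩
    have hv' : (v : P) ∈ K := ⟨v.2, by rw [← hv, ← Subgroup.orderOf_coe, pow_orderOf_eq_one]⟩
    have hKu : zpowers (u : P) = K := eq_of_le_of_card_ge (zpowers_le.2 hu') (by
      rw [Nat.card_zpowers, Subgroup.orderOf_coe, hu, hk]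
      exact (Nat.pow_le_pow_right hp.out.pos hk1).trans (pow_one _).le)
    rw [← hKu] at hv'
    obtain ⟨z, hz⟩ := mem_zpowers_iff.1 hv'
    exact huv (mem_zpowers_iff.2 ⟨z, Subtype.ext (by simpa using hz)⟩)
  -- `A` cyclic, self-centralising
  have hCA := Cfsg.Lib.PGroups.centralizer_eq_self_of_maximal_normal_abelian hP A hAc
    fun B hB hB' hAB => (eq_of_le_of_not_lt hAB fun hlt => hmax B ⟨hB, hB'⟩ hlt).symm
  have hAt : A < ⊤ := lt_top_iff_ne_top.2 fun e => hnc (by
    rw [← Subgroup.topEquiv.isCyclic, ← e]; exact hcyc)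
  obtain ⟨B, hB, hAB, -, hi⟩ := Cfsg.Lib.PGroups.exists_normal_relIndex_prime hP hAt
  haveI := hB
  obtain ⟨x, hx, hxA⟩ := SetLike.not_le_iff_exists.1
    (fun hle : B ≤ A => hp.out.ne_one (hi ▸ relIndex_eq_one.2 hle))
  have hsup := Cfsg.Lib.PGroups.eq_sup_zpowers_of_relIndex_prime hAB hi hx hxA
  have hpmem : ∀ w ∈ B, w ^ p ∈ A := fun w hw => by
    haveI : (A.subgroupOf B).Normal := inferInstance
    have h1 : ((⟨w, hw⟩ : B) : B ⧸ A.subgroupOf B) ^ Nat.card (B ⧸ A.subgroupOf B) = 1 := pow_card_eq_one'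
    rw [← Subgroup.index_eq_card, show (A.subgroupOf B).index = p from hi, ← QuotientGroup.mk_pow,
      QuotientGroup.eq_one_iff] at h1
    exact h1
  obtain ⟨a, ha⟩ := IsCyclic.exists_generator (α := A)
  have hgen : ∀ w ∈ A, ∃ i : ℤ, (a : P) ^ i = w := fun w hw => by
    obtain ⟨i, hi⟩ := mem_zpowers_iff.1 (ha ⟨w, hw⟩)
    exact ⟨i, by simpa using congrArg Subtype.val hi⟩
  obtain ⟨k, hk⟩ := hgen _ (hAn.conj_mem a a.2 x)
  have hcomA : ∀ u ∈ A, ∀ v ∈ A, u * v = v * u := fun u hu v hv =>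
    congrArg Subtype.val (mul_comm' (⟨u, hu⟩ : A) ⟨v, hv⟩)
  have hiter : ∀ j : ℕ, x ^ j * (a : P) * (x ^ j)⁻¹ = (a : P) ^ (k ^ j) := by
    intro j
    induction j with
    | zero => simp
    | succ j ih =>
      rw [show x ^ (j + 1) * (a : P) * (x ^ (j + 1))⁻¹ = x * (x ^ j * a * (x ^ j)⁻¹) * x⁻¹ by
        rw [pow_succ']; group, ih, ← conj_zpow, ← hk, ← zpow_mul, pow_succ']
  obtain ⟨n, hn⟩ := IsPGroup.iff_orderOf.1 (hP.to_subgroup A) a
  rw [← Subgroup.orderOf_coe] at hn
  have hkp : ((p ^ n : ℕ) : ℤ) ∣ k ^ p - 1 := by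
    rw [← hn, orderOf_dvd_iff_zpow_eq_one, zpow_sub_one, ← hiter p,
      hcomA _ (hpmem x hx) _ a.2, mul_inv_cancel_right, mul_inv_cancel]
  have hn0 : n ≠ 0 := fun e => by
    rw [e, pow_zero, orderOf_eq_one_iff] at hn
    refine hxA (hCA ▸ fun w hw => ?_)
    obtain ⟨i, rfl⟩ := hgen w hw
    simp [hn]
  have hk1 : (p : ℤ) ∣ k - 1 := by
    have h1 : ((p : ℤ)) ∣ k ^ p - 1 := (Int.natCast_dvd_natCast.2 (dvd_pow_self p hn0)).trans hkp
    rw [← ZMod.intCast_zmod_eq_zero_iff_dvd] at h1 ⊢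
    push_cast at h1 ⊢
    rwa [ZMod.pow_card] at h1
  set c : P := (a : P) ^ (k - 1)
  have hcA : c ∈ A := zpow_mem a.2 _
  have hcp : c ^ p = 1 := by
    obtain ⟨t, ht⟩ := hk1
    have hS : (p : ℤ) ^ 2 ∣ (∑ i ∈ Finset.range p, k ^ i) - p := by
      have := odd_sq_dvd_geom_sum₂_sub (a := (1 : ℤ)) t (hp.out.odd_of_ne_two hp2)
      simpa [show k = 1 + (p : ℤ) * t by linarith] using this
    obtain ⟨u, hu⟩ := hS
    have hprod : k ^ p - 1 = (k - 1) * (p : ℤ) * (1 + (p : ℤ) * u) := by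
      rw [← mul_geom_sum, show (∑ i ∈ Finset.range p, k ^ i) = (p : ℤ) + (p : ℤ) ^ 2 * u by linarith]
      ring
    rw [hprod] at hkp
    have hcop : IsCoprime ((p ^ n : ℕ) : ℤ) (1 + (p : ℤ) * u) := by
      push_cast
      exact IsCoprime.pow_left ⟨-u, 1, by ring⟩
    have h3 := hcop.dvd_of_dvd_mul_right hkp
    rw [← hn, orderOf_dvd_iff_zpow_eq_one, zpow_mul, zpow_natCast] at h3
    exact h3
  have hxc : x * c * x⁻¹ = c := by
    obtain ⟨t, ht⟩ := hk1
    calc x * c * x⁻¹ = ((a : P) ^ k) ^ (k - 1) := by rw [hk, conj_zpow]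
      _ = c ^ k := by rw [← zpow_mul, mul_comm, zpow_mul]
      _ = c * c ^ (k - 1) := by rw [← zpow_one_add, add_sub_cancel]
      _ = c := by rw [ht, zpow_mul, zpow_natCast, hcp, one_zpow, mul_one]
  have hxc' : Commute x c := by
    show x * c = c * x
    rw [← mul_inv_eq_iff_eq_mul]; exact hxc
  -- every commutator in `B` is a power of `c`
  have hBsplit : ∀ w ∈ B, ∃ i j : ℤ, (a : P) ^ i * x ^ j = w := fun w hw => by
    rw [hsup] at hw
    obtain ⟨u, hu, v, hv, rfl⟩ := mem_sup_of_normal_left.1 hw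
    obtain ⟨j, rfl⟩ := mem_zpowers_iff.1 hv
    obtain ⟨i, rfl⟩ := hgen u hu
    exact ⟨i, j, rfl⟩
  have hcB : ∀ w ∈ B, Commute c w := fun w hw => by
    obtain ⟨i, j, rfl⟩ := hBsplit w hw
    exact Commute.mul_right (hcomA c hcA _ (zpow_mem a.2 i)) (hxc'.symm.zpow_right j)
  set Cc := zpowers c
  haveI hCcB : (Cc.subgroupOf B).Normal := ⟨fun z hz g => by
    obtain ⟨i, hi⟩ := mem_zpowers_iff.1 hz
    have h1 : Commute (g : P) ((z : B) : P) := by
      have h2 := (hcB g g.2).symm.zpow_right i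
      rwa [show c ^ i = (z : P) from hi] at h2
    show ((g : P) * z * (g : P)⁻¹) ∈ Cc
    rw [h1.eq, mul_inv_cancel_right]
    exact hz⟩
  have hcomB : ∀ v ∈ B, ∀ w ∈ B, ⁅v, w⁆ ∈ Cc := by
    intro v hv w hw
    let qB := QuotientGroup.mk' (Cc.subgroupOf B)
    have hga : Commute (qB ⟨x, hx⟩) (qB ⟨a, hAB a.2⟩) := by
      rw [← commutatorElement_eq_one_iff_commute, ← map_commutatorElement]
      refine (QuotientGroup.eq_one_iff _).2 ?_
      show ⁅x, (a : P)⁆ ∈ Cc
      rw [commutatorElement_def, ← hk, ← zpow_sub_one]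
      exact mem_zpowers c
    obtain ⟨i, j, rfl⟩ := hBsplit v hv
    obtain ⟨i', j', rfl⟩ := hBsplit w hw
    have hz : ∀ i j : ℤ, ∀ h : (a : P) ^ i * x ^ j ∈ B,
        qB ⟨(a : P) ^ i * x ^ j, h⟩ = qB ⟨a, hAB a.2⟩ ^ i * qB ⟨x, hx⟩ ^ j := fun i j h => by
      rw [← map_zpow, ← map_zpow, ← map_mul]
      exact congrArg qB (Subtype.ext (by simp))
    have : qB ⁅(⟨_, hv⟩ : B), ⟨_, hw⟩⁆ = 1 := by
      rw [map_commutatorElement, commutatorElement_eq_one_iff_commute, hz, hz]
      exact Commute.mul_left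
        (Commute.mul_right ((Commute.refl _).zpow_zpow i i') ((hga.symm).zpow_zpow i j'))
        (Commute.mul_right (hga.zpow_zpow j i') ((Commute.refl _).zpow_zpow j j'))
    exact ((QuotientGroup.eq_one_iff _).1 this : _ ∈ Cc.subgroupOf B)
  have hpowhom : ∀ v ∈ B, ∀ w ∈ B, (v * w) ^ p = v ^ p * w ^ p := fun v hv w hw => by
    obtain ⟨i, hi⟩ := mem_zpowers_iff.1 (hcomB w hw v hv)
    have h1 : Commute ⁅w, v⁆ v := hi ▸ (hcB v hv).zpow_left i
    have h2 : Commute ⁅w, v⁆ w := hi ▸ (hcB w hw).zpow_left i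
    obtain ⟨j, hj⟩ := hp.out.dvd_choose_self two_ne_zero (lt_of_le_of_ne hp.out.two_le (Ne.symm hp2))
    have h3 : ⁅w, v⁆ ^ p = 1 := by
      rw [← hi, ← zpow_natCast, ← zpow_mul, mul_comm i, zpow_mul, zpow_natCast, hcp, one_zpow]
    rw [Cfsg.Lib.PGroups.mul_pow_of_commute_commutator h1 h2, hj, pow_mul, h3, one_pow, mul_one]
  let f : B →* A :=
    { toFun := fun w => ⟨(w : P) ^ p, hpmem w w.2⟩
      map_one' := Subtype.ext (one_pow p)
      map_mul' := fun v w => Subtype.ext (hpowhom v v.2 w w.2) }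
  let K := f.ker.map B.subtype
  have hKexp : ∀ w ∈ K, w ^ p = 1 := by
    rintro _ ⟨w, hw, rfl⟩
    exact congrArg Subtype.val hw
  haveI : K.Normal := by
    refine ⟨fun w hw g => ⟨⟨g * w * g⁻¹, hB.conj_mem w ((map_subtype_le _) hw) g⟩,
      Subtype.ext (show (g * w * g⁻¹) ^ p = 1 by rw [conj_pow, hKexp w hw]; group), rfl⟩⟩
  refine exists_normal_card_sq hP K ?_ hKexp
  have hrange : f.range ≠ ⊤ := by
    intro e
    obtain ⟨w, hw⟩ := e.ge (mem_top a)
    have hw' : (w : P) ^ p = a := congrArg Subtype.val hw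
    refine hxA (hCA ▸ fun u hu => ?_)
    obtain ⟨r, rfl⟩ := hgen u hu
    obtain ⟨i, j, hij⟩ := hBsplit w w.2
    have h3 : Commute (a : P) (w : P) := hw' ▸ (Commute.refl (w : P)).pow_left p
    have h4 : Commute (a : P) (x ^ j) := by
      have h5 := ((Commute.refl (a : P)).zpow_right i).inv_right.mul_right h3
      rwa [← hij, inv_mul_cancel_left] at h5
    by_cases hj : (p : ℤ) ∣ j
    · -- then `w ∈ A`, so `a` is a `p`-th power in `A`
      exfalso
      obtain ⟨s, hs⟩ := hj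
      have hwA : (w : P) ∈ A := by
        rw [← hij, hs, zpow_mul, zpow_natCast]
        exact mul_mem (zpow_mem a.2 i) (zpow_mem (hpmem x hx) s)
      obtain ⟨t, ht⟩ := hgen _ hwA
      have h6 : (a : P) ^ ((p : ℤ) * t - 1) = 1 := by
        rw [zpow_sub_one, mul_comm, zpow_mul, ht, zpow_natCast, hw', mul_inv_cancel]
      rw [← orderOf_dvd_iff_zpow_eq_one, hn] at h6
      have h7 : (p : ℤ) ∣ (p : ℤ) * t - 1 := (Int.natCast_dvd_natCast.2 (dvd_pow_self p hn0)).trans h6
      exact hp.out.not_dvd_one (Int.natCast_dvd_natCast.1 (by simpa using dvd_sub (dvd_mul_right (p : ℤ) t) h7))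
    · obtain ⟨m, hm⟩ := IsPGroup.iff_orderOf.1 hP x
      obtain ⟨u', v', huv⟩ : IsCoprime j ((p ^ m : ℕ) : ℤ) := by
        push_cast
        exact (((Nat.prime_iff_prime_int.1 hp.out).coprime_iff_not_dvd.2 hj).symm).pow_right
      have h8 : x = (x ^ j) ^ u' := by
        rw [← zpow_mul, show j * u' = 1 + ((p ^ m : ℕ) : ℤ) * (-v') by linarith, zpow_add, zpow_one,
          zpow_mul, zpow_natCast, ← hm, pow_orderOf_eq_one, one_zpow, mul_one]
      rw [h8]
      exact ((h4.zpow_right u').zpow_left r).eq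
  have hidx : Nat.card f.ker * Nat.card f.range = Nat.card B := by
    rw [← Subgroup.index_ker, Subgroup.card_mul_index]
  have hBc : Nat.card B = p * Nat.card A := by
    have := relIndex_mul_relIndex (⊥ : Subgroup P) A B bot_le hAB
    rw [relIndex_bot_left, relIndex_bot_left, hi] at this
    rw [← this, mul_comm]
  have hr : p * Nat.card f.range ≤ Nat.card A := by
    obtain ⟨k', hk'⟩ := (hP.to_subgroup A).exists_card_eq
    obtain ⟨i, -, hi'⟩ := (Nat.dvd_prime_pow hp.out).1 (hk' ▸ f.range.index_dvd_card)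
    have hi0 : i ≠ 0 := fun e => hrange (index_eq_one.1 (by rw [hi', e, pow_zero]))
    rw [← f.range.card_mul_index, hi', mul_comm]
    exact Nat.mul_le_mul_left _ (Nat.le_self_pow hi0 p)
  rw [card_map_of_injective B.subtype_injective]
  by_contra hlt
  rw [not_le] at hlt
  have hpos : 0 < Nat.card f.range := Nat.card_pos
  nlinarith


end Cfsg.Lib.SolvStruct
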