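/-
Derived length of `p`-subgroups of `GL_n(q)` for `p` prime to `q`.
-/
import Cfsg.Agent.SolvStruct.PGroupBasics
import Cfsg.Agent.PGroups.Basic

set_option autoImplicit false
set_option linter.unusedSectionVars false
set_option linter.style.haveILetI false

namespace Cfsg.Lib.SolvStruct.CrossChar

open Subgroup Module
open scoped commutatorElement

universe u

theorem derivedSeries_succ_le {G : Type*} [Group G] (Q : Subgroup G) (h : commutator G ≤ Q) :
    ∀ k : ℕ, derivedSeries G (k + 1) ≤ (derivedSeries Q k).map Q.subtype := by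
  intro k
  induction k with
  | zero => rwa [derivedSeries_zero, ← MonoidHom.range_eq_map, Subgroup.range_subtype, derivedSeries_one]
  | succ k ih =>
    rw [derivedSeries_succ G (k + 1), derivedSeries_succ Q k, Subgroup.map_commutator]
    exact commutator_mono ih ih

theorem map_derived_le {G H : Type*} [Group G] [Group H] (f : G →* H) {k : ℕ}
    (h : derivedSeries f.range k = ⊥) : derivedSeries G k ≤ f.ker := fun g hg => by
  have h1 := map_derivedSeries_le_derivedSeries f.rangeRestrict k ⟨g, hg, rfl⟩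
  rw [h, Subgroup.mem_bot] at h1
  exact congrArg Subtype.val h1

theorem derived_two_of_cyclic {G : Type*} [Group G] [Finite G] {p : ℕ} [hp : Fact p.Prime] (hG : IsPGroup p G)
    (h : ∀ A : Subgroup G, A.Normal → IsMulCommutative A → IsCyclic A) : derivedSeries G 2 = ⊥ := by
  classical
  obtain ⟨A, hA, hmax⟩ := (Set.toFinite {A : Subgroup G | A.Normal ∧ IsMulCommutative A}).exists_maximal
    ⟨⊥, inferInstance, ⟨⟨fun a b => Subsingleton.elim _ _⟩⟩⟩
  haveI := hA.1
  haveI := hA.2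
  have hcomm : ∀ a ∈ A, ∀ b ∈ A, a * b = b * a := fun a ha b hb =>
    congrArg Subtype.val (mul_comm' (⟨a, ha⟩ : A) ⟨b, hb⟩)
  have hself : centralizer (A : Set G) ≤ A := by
    by_contra hlt
    set π := QuotientGroup.mk' A with hπ
    set C := centralizer (A : Set G) with hC
    haveI : (C.map π).Normal := Subgroup.Normal.map inferInstance π (QuotientGroup.mk'_surjective A)
    have hne : C.map π ≠ ⊥ := fun hb => hlt (by
      rwa [Subgroup.map_eq_bot_iff, hπ, QuotientGroup.ker_mk'] at hb)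
    obtain ⟨c, hcC, hcz, hco⟩ := Cfsg.Lib.PGroups.exists_mem_center_of_normal_ne_bot (hG.to_quotient A) hne
    obtain ⟨x, hxC, rfl⟩ := hcC
    set B := (zpowers (π x)).comap π with hB
    have hBn : B.Normal := by
      haveI : (zpowers (π x)).Normal := ⟨fun y hy g => by
        obtain ⟨i, rfl⟩ := mem_zpowers_iff.1 hy
        rw [← conj_zpow, mem_center_iff.1 hcz g, mul_inv_cancel_right]
        exact zpow_mem (mem_zpowers _) i⟩
      exact Subgroup.Normal.comap inferInstance π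
    have hBd : ∀ b ∈ B, ∃ (a : G) (i : ℤ), a ∈ A ∧ b = x ^ i * a := fun b hb => by
      obtain ⟨i, hi⟩ := mem_zpowers_iff.1 hb
      refine ⟨(x ^ i)⁻¹ * b, i, ?_, by group⟩
      rw [← QuotientGroup.eq]
      rw [← map_zpow] at hi
      exact hi
    have hBab : IsMulCommutative B := ⟨⟨fun b b' => Subtype.ext (by
      obtain ⟨a, i, ha, e⟩ := hBd b b.2
      obtain ⟨a', j, ha', e'⟩ := hBd b' b'.2
      show (b : G) * b' = b' * b
      rw [e, e']
      have c1 : Commute (x ^ i) a' := ((show Commute x a' from (mem_centralizer_iff.1 hxC a' ha').symm)).zpow_left i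
      have c2 : Commute (x ^ j) a := ((show Commute x a from (mem_centralizer_iff.1 hxC a ha).symm)).zpow_left j
      have c3 : Commute a a' := hcomm a ha a' ha'
      have c4 : Commute (x ^ i) (x ^ j) := (Commute.refl x).zpow_zpow i j
      exact ((c4.mul_right c1).mul_left ((c2.symm).mul_right c3)).eq)⟩⟩
    have hle : A ≤ B := fun a ha => by
      show π a ∈ zpowers (π x)
      rw [show π a = 1 from (QuotientGroup.eq_one_iff a).2 ha]
      exact one_mem _
    have hxA : x ∈ A := hmax ⟨hBn, hBab⟩ hle (mem_zpowers (π x) : π x ∈ zpowers (π x))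
    rw [show π x = 1 from (QuotientGroup.eq_one_iff x).2 hxA, orderOf_one] at hco
    exact hp.out.one_lt.ne hco
  obtain ⟨g₀, hg₀⟩ := (h A hA.1 hA.2).exists_generator
  have h1 : commutator G ≤ A := by
    rw [commutator_eq_closure, closure_le]
    rintro _ ⟨u, v, rfl⟩
    refine hself (mem_centralizer_iff.2 fun a ha => ?_)
    obtain ⟨k, hk⟩ := mem_zpowers_iff.1 (hg₀ ⟨a, ha⟩)
    have hk' : (g₀ : G) ^ k = a := congrArg Subtype.val hk
    obtain ⟨i, hi⟩ := mem_zpowers_iff.1 (hg₀ ⟨u * g₀ * u⁻¹, hA.1.conj_mem _ g₀.2 u⟩)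
    obtain ⟨j, hj⟩ := mem_zpowers_iff.1 (hg₀ ⟨v * g₀ * v⁻¹, hA.1.conj_mem _ g₀.2 v⟩)
    have hi' : u * g₀ * u⁻¹ = (g₀ : G) ^ i := (congrArg Subtype.val hi).symm
    have hj' : v * g₀ * v⁻¹ = (g₀ : G) ^ j := (congrArg Subtype.val hj).symm
    have e1 : u * v * g₀ * (u * v)⁻¹ = (g₀ : G) ^ (i * j) := by
      calc u * v * g₀ * (u * v)⁻¹ = u * (v * g₀ * v⁻¹) * u⁻¹ := by group
        _ = _ := by rw [hj', ← conj_zpow, hi', ← zpow_mul]
    have e2 : v * u * g₀ * (v * u)⁻¹ = (g₀ : G) ^ (i * j) := by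
      calc v * u * g₀ * (v * u)⁻¹ = v * (u * g₀ * u⁻¹) * v⁻¹ := by group
        _ = _ := by rw [hi', ← conj_zpow, hj', ← zpow_mul, mul_comm]
    have e3 : Commute (g₀ : G) ⁅u, v⁆ := by
      obtain ⟨m, hm⟩ := mem_zpowers_iff.1 (hg₀ ⟨(v * u)⁻¹ * g₀ * ((v * u)⁻¹)⁻¹, hA.1.conj_mem _ g₀.2 _⟩)
      have hm' : (g₀ : G) ^ m = (v * u)⁻¹ * g₀ * ((v * u)⁻¹)⁻¹ := congrArg Subtype.val hm
      have key : ⁅u, v⁆ * g₀ * ⁅u, v⁆⁻¹ = g₀ := by
        calc ⁅u, v⁆ * g₀ * ⁅u, v⁆⁻¹ = u * v * ((v * u)⁻¹ * g₀ * ((v * u)⁻¹)⁻¹) * (u * v)⁻¹ := by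
              rw [commutatorElement_def]; group
          _ = ((g₀ : G) ^ (i * j)) ^ m := by rw [← hm', ← conj_zpow, e1]
          _ = v * u * ((g₀ : G) ^ m) * (v * u)⁻¹ := by rw [← conj_zpow, e2]
          _ = g₀ := by rw [hm']; group
      exact (mul_inv_eq_iff_eq_mul.1 key).symm
    exact (hk' ▸ e3.zpow_left k).eq
  rw [eq_bot_iff]
  have := derivedSeries_succ_le A h1 1
  refine this.trans (le_of_eq ?_)
  rw [derivedSeries_one]
  have : commutator A = ⊥ := by
    rw [commutator_eq_bot_iff_center_eq_top]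
    exact eq_top_iff.2 fun a _ => mem_center_iff.2 fun b => mul_comm' b a
  rw [this, Subgroup.map_bot]

theorem isCyclic_of_omega {R : Type*} [Group R] [Finite R] {p : ℕ} [hp : Fact p.Prime] {A : Subgroup R} [hAc : IsMulCommutative A]
    (hA : IsPGroup p A) (h : ∀ S : Set A, (∀ a ∈ S, a ^ p = 1) → Nat.card S ≤ p) : IsCyclic A := by
  classical
  letI : CommGroup A := { (inferInstance : Group A) with mul_comm := fun a b => mul_comm' a b }
  haveI : Fintype A := Fintype.ofFinite A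
  have key : ∀ j : ℕ, Nat.card {a : A // a ^ p ^ j = 1} ≤ p ^ j := by
    intro j
    induction j with
    | zero =>
      haveI : Subsingleton {a : A // a ^ p ^ 0 = 1} := ⟨fun a b => Subtype.ext (by
        have ha : (a : A) ^ p ^ 0 = 1 := a.2
        have hb : (b : A) ^ p ^ 0 = 1 := b.2
        simp only [pow_zero, pow_one] at ha hb
        rw [ha, hb])⟩
      exact (Finite.card_le_one_iff_subsingleton.2 inferInstance).trans (Nat.one_le_pow _ _ hp.out.pos)
    | succ j ihj =>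
      let φ := powMonoidHom (α := A) p
      let K := (powMonoidHom (α := A) (p ^ (j + 1))).ker
      let ψ : K →* A := φ.comp K.subtype
      have h1 := ψ.ker.card_mul_index
      rw [index_ker] at h1
      have h2 : Nat.card ψ.ker ≤ p := by
        refine le_trans ?_ (h {a | a ^ p = 1} fun a ha => ha)
        exact Nat.card_le_card_of_injective (fun a => ⟨(a : K), a.2⟩) fun a b e => Subtype.ext (Subtype.ext (congrArg Subtype.val e :))
      have h3 : Nat.card ψ.range ≤ p ^ j := by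
        refine le_trans ?_ ihj
        refine Nat.card_le_card_of_injective (fun a => ⟨(a : A), ?_⟩) fun a b e => Subtype.ext (congrArg Subtype.val e :)
        obtain ⟨x, hx⟩ := a.2
        rw [← hx]
        show ((x : A) ^ p) ^ p ^ j = 1
        rw [← pow_mul, ← pow_succ']
        exact x.2
      show Nat.card K ≤ p ^ (j + 1)
      rw [← h1, pow_succ']
      exact Nat.mul_le_mul h2 h3
  obtain ⟨m, hm⟩ := IsPGroup.iff_card.1 hA
  refine isCyclic_of_card_pow_eq_one_le fun r hr => ?_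
  obtain ⟨j, -, hj⟩ := (Nat.dvd_prime_pow hp.out).1 (Nat.gcd_dvd_right r (p ^ m))
  refine le_trans (le_of_eq ?_) ((key j).trans (Nat.le_of_dvd hr (hj ▸ Nat.gcd_dvd_left r (p ^ m))))
  rw [Nat.card_eq_fintype_card, Fintype.card_subtype]
  refine congrArg Finset.card (Finset.filter_congr fun a _ => ⟨fun ha => ?_, fun ha => ?_⟩)
  · rw [← hj]
    exact orderOf_dvd_iff_pow_eq_one.1 (Nat.dvd_gcd (orderOf_dvd_of_pow_eq_one ha) (hm ▸ orderOf_dvd_natCard a))
  · exact orderOf_dvd_iff_pow_eq_one.1 ((orderOf_dvd_of_pow_eq_one ha).trans (hj ▸ Nat.gcd_dvd_left r (p ^ m)))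

variable {F : Type*} [Field F] [Fintype F] {p : ℕ} [hp : Fact p.Prime]

/-- small general linear groups have order prime to `p` -/
theorem trivial_of_small (hpq : ¬ p ∣ Fintype.card F) {V : Type u} [AddCommGroup V] [Module F V]
    [FiniteDimensional F V] {G : Type u} [Group G] [Finite G] (hG : IsPGroup p G) (ρ : G →* (V ≃ₗ[F] V))
    (hn : finrank F V < orderOf (Fintype.card F : ZMod p)) (g : G) : ρ g = 1 := by
  classical
  set n := finrank F V with hnd
  set q := Fintype.card F with hq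
  let b := Module.finBasis F V
  let f : (V ≃ₗ[F] V) ≃* GL (Fin n) F :=
    (LinearMap.GeneralLinearGroup.generalLinearEquiv F V).symm.trans
      (Units.mapEquiv (LinearMap.toMatrixAlgEquiv b).toMulEquiv)
  obtain ⟨k, hk⟩ := IsPGroup.iff_orderOf.1 hG g
  have hd : orderOf (f (ρ g)) ∣ Nat.card (GL (Fin n) F) := orderOf_dvd_natCard _
  rw [MulEquiv.orderOf_eq] at hd
  obtain ⟨i, -, hi⟩ := (Nat.dvd_prime_pow hp.out).1 (hk ▸ orderOf_map_dvd ρ g)
  have hi0 : i = 0 := by
    by_contra hne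
    rw [hi, Matrix.card_GL_field] at hd
    obtain ⟨j, -, hj⟩ := hp.out.prime.exists_mem_finset_dvd ((dvd_pow_self p hne).trans hd)
    have hle : (j : ℕ) ≤ n := j.2.le
    rw [show q ^ n - q ^ (j : ℕ) = q ^ (j : ℕ) * (q ^ (n - j) - 1) by
      rw [Nat.mul_sub, mul_one, ← pow_add, Nat.add_sub_of_le hle]] at hj
    rcases hp.out.dvd_mul.1 hj with h | h
    · exact hpq (hp.out.dvd_of_dvd_pow h)
    · have h1 : (q : ZMod p) ^ (n - j) = 1 := by
        have h2 : ((q ^ (n - (j : ℕ)) - 1 : ℕ) : ZMod p) = 0 := (ZMod.natCast_eq_zero_iff _ _).2 h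
        rw [Nat.cast_sub (Nat.one_le_pow _ _ (Fintype.card_pos)), Nat.cast_pow, Nat.cast_one, sub_eq_zero] at h2
        exact h2
      have h3 := Nat.le_of_dvd (by have := j.2; omega) (orderOf_dvd_of_pow_eq_one h1)
      omega
  rwa [hi0, pow_zero, orderOf_eq_one_iff] at hi

/-- averaged projection -/
theorem exists_invariant_compl (hpq : ¬ p ∣ Fintype.card F) {V : Type u} [AddCommGroup V] [Module F V]
    {G : Type u} [Group G] [Finite G] (hG : IsPGroup p G) (ρ : G →* (V ≃ₗ[F] V)) {W : Submodule F V}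
    (hW : ∀ g, ∀ w ∈ W, ρ g w ∈ W) : ∃ U : Submodule F V, IsCompl W U ∧ ∀ g, ∀ u ∈ U, ρ g u ∈ U := by
  classical
  haveI := Fintype.ofFinite G
  obtain ⟨m, hm⟩ := IsPGroup.iff_card.1 hG
  have hc : (Fintype.card G : F) ≠ 0 := by
    rw [← Nat.card_eq_fintype_card, hm, Nat.cast_pow]
    refine pow_ne_zero _ fun h => hpq ?_
    obtain ⟨c, hchar⟩ := CharP.exists F
    haveI := hchar
    obtain ⟨e, hcp, hce⟩ := FiniteField.card F c
    have : c ∣ p := (CharP.cast_eq_zero_iff F c p).1 h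
    rw [(Nat.prime_dvd_prime_iff_eq hcp hp.out).1 this] at hce
    rw [hce]
    exact dvd_pow_self p e.ne_zero
  obtain ⟨U₀, hU₀⟩ := W.exists_isCompl
  let π : V →ₗ[F] V := W.subtype.comp (Submodule.projectionOnto W U₀ hU₀)
  let π' : V →ₗ[F] V := (Fintype.card G : F)⁻¹ • ∑ g : G, (ρ g).toLinearMap.comp (π.comp (ρ g⁻¹).toLinearMap)
  have hπ' : ∀ v, π' v = (Fintype.card G : F)⁻¹ • ∑ g : G, ρ g (π (ρ g⁻¹ v)) := fun v => by
    simp [π', LinearMap.sum_apply]
  have hπW : ∀ v, π v ∈ W := fun v => ((Submodule.projectionOnto W U₀ hU₀) v).2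
  have hπid : ∀ w ∈ W, π w = w := fun w hw => by
    show (((Submodule.projectionOnto W U₀ hU₀) w : W) : V) = w
    rw [Submodule.projectionOnto_apply_left hU₀ ⟨w, hw⟩]
  have hmem : ∀ v, π' v ∈ W := fun v => by
    rw [hπ']
    exact W.smul_mem _ (W.sum_mem fun g _ => hW g _ (hπW _))
  have hid : ∀ w ∈ W, π' w = w := fun w hw => by
    rw [hπ', Finset.sum_congr rfl fun g _ => show ρ g (π (ρ g⁻¹ w)) = w by
      rw [hπid _ (hW _ _ hw), ← LinearEquiv.mul_apply, ← map_mul, mul_inv_cancel, map_one]; rfl]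
    rw [Finset.sum_const, Finset.card_univ, ← Nat.cast_smul_eq_nsmul F, smul_smul, inv_mul_cancel₀ hc, one_smul]
  have heq : ∀ (h : G) v, π' (ρ h v) = ρ h (π' v) := fun h v => by
    rw [hπ', hπ', map_smul, map_sum]
    congr 1
    refine (Equiv.sum_comp (Equiv.mulLeft h) fun g => ρ g (π (ρ g⁻¹ (ρ h v)))).symm.trans ?_
    refine Finset.sum_congr rfl fun g _ => ?_
    show ρ (h * g) (π (ρ (h * g)⁻¹ (ρ h v))) = ρ h (ρ g (π (ρ g⁻¹ v)))
    rw [← LinearEquiv.mul_apply (ρ (h * g)⁻¹), ← map_mul, mul_inv_rev, inv_mul_cancel_right, map_mul]; rfl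
  refine ⟨LinearMap.ker π', ⟨disjoint_iff.2 ((Submodule.eq_bot_iff _).2 fun v hv => ?_),
    codisjoint_iff.2 (eq_top_iff.2 fun v _ => Submodule.mem_sup.2 ⟨π' v, hmem v, v - π' v, ?_, add_sub_cancel _ _⟩)⟩,
    fun g u hu => ?_⟩
  · rw [← hid v hv.1]; exact hv.2
  · rw [LinearMap.mem_ker, map_sub, hid _ (hmem v), sub_self]
  · rw [LinearMap.mem_ker] at hu ⊢
    rw [heq, hu, map_zero]

/-- restriction to an invariant subspace -/
def restrict {V : Type u} [AddCommGroup V] [Module F V] {G : Type u} [Group G] (ρ : G →* (V ≃ₗ[F] V))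
    (W : Submodule F V) (hW : ∀ g, ∀ w ∈ W, ρ g w ∈ W) : G →* (W ≃ₗ[F] W) where
  toFun g :=
    { toFun := fun w => ⟨ρ g w, hW g w w.2⟩
      map_add' := fun a b => Subtype.ext (map_add (ρ g) (a : V) b)
      map_smul' := fun c a => Subtype.ext (map_smul (ρ g) c (a : V))
      invFun := fun w => ⟨ρ g⁻¹ w, hW g⁻¹ w w.2⟩
      left_inv := fun w => Subtype.ext (show ρ g⁻¹ (ρ g (w : V)) = w by
        rw [← LinearEquiv.mul_apply, ← map_mul, inv_mul_cancel, map_one]; rfl)
      right_inv := fun w => Subtype.ext (show ρ g (ρ g⁻¹ (w : V)) = w by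
        rw [← LinearEquiv.mul_apply, ← map_mul, mul_inv_cancel, map_one]; rfl) }
  map_one' := LinearEquiv.ext fun w => Subtype.ext (show ρ 1 (w : V) = w by rw [map_one]; rfl)
  map_mul' g h := LinearEquiv.ext fun w => Subtype.ext (show ρ (g * h) (w : V) = ρ g (ρ h (w : V)) by rw [map_mul]; rfl)

theorem restrict_fix {V : Type u} [AddCommGroup V] [Module F V] {G : Type u} [Group G] (ρ : G →* (V ≃ₗ[F] V))
    (W : Submodule F V) (hW : ∀ g, ∀ w ∈ W, ρ g w ∈ W) {g : G} (hg : g ∈ (restrict ρ W hW).ker) {w : V} (hw : w ∈ W) :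
    ρ g w = w := congrArg Subtype.val (LinearEquiv.congr_fun (MonoidHom.mem_ker.1 hg) ⟨w, hw⟩)

theorem eq_one_of_ne_zero_two : ∀ z : ZMod 2, z ≠ 0 → z = 1 := by decide

theorem derived_mono {G : Type*} [Group G] {a b : ℕ} (h : a ≤ b) : derivedSeries G b ≤ derivedSeries G a :=
  derivedSeries_antitone G h

theorem main (hpq : ¬ p ∣ Fintype.card F) : ∀ (n : ℕ) (V : Type u) [AddCommGroup V] [Module F V]
    [FiniteDimensional F V], finrank F V = n → ∀ (G : Type u) [Group G] [Finite G] (_ : IsPGroup p G)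
    (ρ : G →* (V ≃ₗ[F] V)), derivedSeries G (Nat.log 2 (n / orderOf (Fintype.card F : ZMod p)) + 1) ≤ ρ.ker := by
  intro n
  induction n using Nat.strong_induction_on with
  | _ n ih =>
  intro V _ _ _ hn G _ _ hG ρ
  classical
  set e := orderOf (Fintype.card F : ZMod p) with he
  rcases Nat.lt_or_ge n e with hlt | hne
  · exact fun g _ => trivial_of_small hpq hG ρ (hn ▸ hlt) g
  suffices key : derivedSeries ρ.range (Nat.log 2 (n / e) + 1) = ⊥ from map_derived_le ρ key
  set L := Nat.log 2 (n / e) with hL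
  set R := ρ.range with hR
  have hRp : IsPGroup p R := hG.of_surjective ρ.rangeRestrict ρ.rangeRestrict_surjective
  haveI : Finite R := Finite.of_surjective ρ.rangeRestrict ρ.rangeRestrict_surjective
  let σ : R →* (V ≃ₗ[F] V) := R.subtype
  have hinj : ∀ g : R, (∀ v, σ g v = v) → g = 1 := fun g h => Subtype.ext (LinearEquiv.ext h)
  have lower : ∀ (m : ℕ), m < n → ∀ (Q : Type u) [Group Q] [Finite Q] (_ : IsPGroup p Q) (W : Submodule F V)
      (τ : Q →* (V ≃ₗ[F] V)) (hW : ∀ g, ∀ w ∈ W, τ g w ∈ W), finrank F W = m →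
      ∀ (k : ℕ), Nat.log 2 (m / e) + 1 ≤ k → ∀ g ∈ derivedSeries Q k, ∀ w ∈ W, τ g w = w := by
    intro m hm Q _ _ hQ W τ hW hWm k hk g hg w hw
    exact restrict_fix τ W hW (ih m hm W hWm Q hQ _ (derived_mono hk hg)) hw
  by_cases hred : ∃ W : Submodule F V, W ≠ ⊥ ∧ W ≠ ⊤ ∧ ∀ g : R, ∀ w ∈ W, σ g w ∈ W
  · obtain ⟨W, hWb, hWt, hW⟩ := hred
    obtain ⟨U, hU, hUi⟩ := exists_invariant_compl hpq hRp σ hW
    have hdim := Submodule.finrank_add_eq_of_isCompl hU
    rw [hn] at hdim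
    have h1 : 0 < finrank F W := Nat.pos_of_ne_zero fun h => hWb (Submodule.finrank_eq_zero.1 h)
    have h2 : finrank F W < n := hn ▸ Submodule.finrank_lt hWt
    have hk : ∀ m ≤ n, Nat.log 2 (m / e) + 1 ≤ L + 1 := fun m hm =>
      Nat.succ_le_succ (Nat.log_mono_right (Nat.div_le_div_right hm))
    refine (eq_bot_iff_forall _).2 fun g hg => hinj g fun v => ?_
    obtain ⟨w, hw, u, hu, rfl⟩ := Submodule.mem_sup.1 (hU.sup_eq_top.ge (Submodule.mem_top (x := v)))
    rw [map_add, lower _ h2 R hRp W σ hW rfl _ (hk _ h2.le) g hg w hw,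
      lower _ (by omega) R hRp U σ hUi rfl _ (hk _ (by omega)) g hg u hu]
  push Not at hred
  have hirr : ∀ W : Submodule F V, (∀ g : R, ∀ w ∈ W, σ g w ∈ W) → W = ⊥ ∨ W = ⊤ := fun W hW => by
    by_contra hc
    rw [not_or] at hc
    obtain ⟨g, w, hw, hnot⟩ := hred W hc.1 hc.2
    exact hnot (hW g w hw)
  by_cases hab : ∀ a b : R, a * b = b * a
  · refine eq_bot_iff.2 ((derived_mono (by omega : 1 ≤ L + 1)).trans (le_of_eq ?_))
    rw [derivedSeries_one, commutator_eq_bot_iff_center_eq_top]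
    exact eq_top_iff.2 fun a _ => mem_center_iff.2 fun b => hab b a
  by_cases hall : ∀ A : Subgroup R, A.Normal → IsMulCommutative A → IsCyclic A
  · have hp2 : p = 2 := by
      by_contra hp2
      have hnc : ¬ IsCyclic R := fun hc => hab fun a b => by
        obtain ⟨g₀, hg₀⟩ := hc.exists_generator
        obtain ⟨i, rfl⟩ := mem_zpowers_iff.1 (hg₀ a)
        obtain ⟨j, rfl⟩ := mem_zpowers_iff.1 (hg₀ b)
        rw [← zpow_add, ← zpow_add, add_comm]
      obtain ⟨A, hAn, hAe, hAc⟩ := Cfsg.Lib.SolvStruct.exists_normal_elementary_sq hp2 hRp hnc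
      obtain ⟨g₀, hg₀⟩ := (hall A hAn hAe.1).exists_generator
      have h1 : orderOf g₀ = Nat.card A := orderOf_eq_card_of_forall_mem_zpowers hg₀
      have h2 : orderOf g₀ ∣ p := orderOf_dvd_of_pow_eq_one (Subtype.ext (by
        rw [SubgroupClass.coe_pow]; exact hAe.2 _ g₀.2))
      rw [h1, hAc] at h2
      have := Nat.le_of_dvd hp.out.pos h2
      have := hp.out.one_lt
      nlinarith
    refine eq_bot_iff.2 ((derived_mono ?_).trans (derived_two_of_cyclic hRp hall).le)
    have he1 : e = 1 := by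
      rw [he, orderOf_eq_one_iff]
      subst hp2
      have h1 : (Fintype.card F : ZMod 2) ≠ 0 := fun h => hpq ((ZMod.natCast_eq_zero_iff _ _).1 h)
      exact eq_one_of_ne_zero_two _ h1
    have hn2 : 2 ≤ n := by
      by_contra hlt
      refine hab fun a b => Subtype.ext (LinearEquiv.ext fun v => ?_)
      by_cases hv : v = 0
      · simp [hv]
      have h1 : finrank F V = 1 := by omega
      obtain ⟨α, hα⟩ := exists_smul_eq_of_finrank_eq_one h1 hv ((a : V ≃ₗ[F] V) v)
      obtain ⟨β, hβ⟩ := exists_smul_eq_of_finrank_eq_one h1 hv ((b : V ≃ₗ[F] V) v)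
      show (a : V ≃ₗ[F] V) ((b : V ≃ₗ[F] V) v) = (b : V ≃ₗ[F] V) ((a : V ≃ₗ[F] V) v)
      rw [← hβ, ← hα, map_smul, map_smul, ← hα, ← hβ, smul_smul, smul_smul, mul_comm]
    have : 1 ≤ L := by
      rw [hL, he1, Nat.div_one]
      exact Nat.le_log_of_pow_le (by norm_num) (by simpa using hn2)
    omega
  push Not at hall
  obtain ⟨A, hAn, hAc, hAnc⟩ := hall
  haveI := hAn
  -- `E = Ω₁(A)`
  have hAcomm : ∀ a ∈ A, ∀ b ∈ A, a * b = b * a := fun a ha b hb =>
    congrArg Subtype.val (mul_comm' (⟨a, ha⟩ : A) ⟨b, hb⟩)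
  let E : Subgroup R :=
    { carrier := {a | a ∈ A ∧ a ^ p = 1}
      one_mem' := ⟨one_mem _, one_pow _⟩
      mul_mem' := fun {a b} ha hb => ⟨mul_mem ha.1 hb.1, by
        rw [(show Commute a b from hAcomm a ha.1 b hb.1).mul_pow, ha.2, hb.2, one_mul]⟩
      inv_mem' := fun {a} ha => ⟨inv_mem ha.1, by rw [inv_pow, ha.2, inv_one]⟩ }
  have hEn : E.Normal := ⟨fun a ha g => ⟨hAn.conj_mem a ha.1 g, by rw [conj_pow, ha.2, mul_one, mul_inv_cancel]⟩⟩
  haveI := hEn
  have hA1 : A ≠ ⊥ := fun h => hAnc (by subst h; infer_instance)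
  have hEne : E ≠ ⊥ := fun h => by
    obtain ⟨z, hzA, -, hzo⟩ := Cfsg.Lib.PGroups.exists_mem_center_of_normal_ne_bot hRp hA1
    have hzE : z ∈ E := ⟨hzA, by rw [← hzo, pow_orderOf_eq_one]⟩
    rw [h, Subgroup.mem_bot] at hzE
    rw [hzE, orderOf_one] at hzo
    exact hp.out.one_lt.ne hzo
  obtain ⟨z, hzE, hzc, hzo⟩ := Cfsg.Lib.PGroups.exists_mem_center_of_normal_ne_bot hRp hEne
  set Z := zpowers z with hZ
  haveI hZn : Z.Normal := ⟨fun y hy g => by
    obtain ⟨i, rfl⟩ := mem_zpowers_iff.1 hy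
    rw [← conj_zpow, mem_center_iff.1 hzc g, mul_inv_cancel_right]
    exact zpow_mem (mem_zpowers _) i⟩
  have hEZ : ¬ E ≤ Z := by
    intro hle
    refine hAnc (isCyclic_of_omega (hRp.to_subgroup A) fun S hS => ?_)
    refine le_trans ?_ (le_of_eq (show Nat.card Z = p by rw [hZ, Nat.card_zpowers, hzo]))
    exact Nat.card_le_card_of_injective (fun a : S => (⟨(a : A), hle ⟨(a : A).2, congrArg Subtype.val (hS a a.2)⟩⟩ : Z))
      fun a b h => Subtype.ext (Subtype.ext (congrArg (fun t : Z => (t : R)) h))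
  set π := QuotientGroup.mk' Z with hπ
  haveI : (E.map π).Normal := hEn.map π (QuotientGroup.mk'_surjective Z)
  obtain ⟨wb, hwbE, hwbc, hwbo⟩ := Cfsg.Lib.PGroups.exists_mem_center_of_normal_ne_bot (hRp.to_quotient Z)
    (fun hb : E.map π = ⊥ => hEZ (by rwa [Subgroup.map_eq_bot_iff, hπ, QuotientGroup.ker_mk'] at hb))
  obtain ⟨w, hwE, rfl⟩ := hwbE
  have hwZ : w ∉ Z := fun h => by
    rw [show π w = 1 from (QuotientGroup.eq_one_iff w).2 h, orderOf_one] at hwbo
    exact hp.out.one_lt.ne hwbo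
  have hconjw : ∀ g : R, ∃ c : ℤ, g * w * g⁻¹ = w * z ^ c := fun g => by
    have h1 : π (w⁻¹ * (g * w * g⁻¹)) = 1 := by
      rw [map_mul, map_mul, map_mul, map_inv, map_inv, mem_center_iff.1 hwbc (π g)]; group
    obtain ⟨c, hc⟩ := mem_zpowers_iff.1 ((QuotientGroup.eq_one_iff _).1 h1)
    exact ⟨c, by rw [hc]; group⟩
  have hzw : Commute w z := mem_center_iff.1 hzc w
  -- linear algebra
  set T : ℤ → ℤ → V → V := fun i j v => σ (w ^ i * z ^ j) v with hT
  have hfix : ∀ v, σ z v = v → v = 0 := fun v hv => by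
    let W : Submodule F V :=
      { carrier := {v | σ z v = v}
        add_mem' := fun {a b} ha hb => by show σ z (a + b) = a + b; rw [map_add, ha, hb]
        zero_mem' := map_zero (σ z)
        smul_mem' := fun c a ha => by show σ z (c • a) = c • a; rw [map_smul, ha] }
    rcases hirr W fun g u hu => (by
      show σ z (σ g u) = σ g u
      rw [← LinearEquiv.mul_apply, ← map_mul, ← mem_center_iff.1 hzc g, map_mul, LinearEquiv.mul_apply, hu]) with h | h
    · exact (Submodule.eq_bot_iff W).1 h v hv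
    · exfalso
      have : z = 1 := hinj z fun u => (h.ge Submodule.mem_top : u ∈ W)
      rw [this, orderOf_one] at hzo
      exact hp.out.one_lt.ne hzo
  let Vc : ZMod p → Submodule F V := fun i =>
    { carrier := {v | σ (w * z ^ i.val) v = v}
      add_mem' := fun {a b} ha hb => by show σ _ (a + b) = a + b; rw [map_add, ha, hb]
      zero_mem' := map_zero (σ (w * z ^ i.val))
      smul_mem' := fun c a ha => by show σ _ (c • a) = c • a; rw [map_smul, ha] }
  have hdis : ∀ i j : ZMod p, i ≠ j → Vc i ⊓ Vc j = ⊥ := fun i j hij => by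
    refine (Submodule.eq_bot_iff _).2 fun v hv => hfix v ?_
    obtain ⟨h1, h2⟩ := hv
    have e1 : σ (z ^ ((i.val : ℤ) - j.val)) v = v := by
      have h3 : σ (w * z ^ j.val) (σ (z ^ ((i.val : ℤ) - j.val)) v) = σ (w * z ^ j.val) v := by
        rw [h2, ← LinearEquiv.mul_apply, ← map_mul, mul_assoc, ← zpow_natCast z j.val, ← zpow_add, add_sub_cancel, zpow_natCast, h1]
      exact (σ (w * z ^ j.val)).injective h3
    have hcop : IsCoprime ((i.val : ℤ) - j.val) (p : ℤ) := by
      refine ((Nat.prime_iff_prime_int.1 hp.out).coprime_iff_not_dvd.2 fun hd => hij ?_).symm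
      haveI : NeZero p := ⟨hp.out.ne_zero⟩
      rw [← ZMod.intCast_zmod_eq_zero_iff_dvd] at hd
      push_cast at hd
      rw [ZMod.natCast_zmod_val, ZMod.natCast_zmod_val, sub_eq_zero] at hd
      exact hd
    obtain ⟨a, b, hab'⟩ := hcop
    have hz1 : z = (z ^ ((i.val : ℤ) - j.val)) ^ a := by
      conv_lhs => rw [← zpow_one z, ← hab', zpow_add, mul_comm b, zpow_mul z (p : ℤ), zpow_natCast, (show z ^ p = 1 by rw [← hzo, pow_orderOf_eq_one]), one_zpow, mul_one, mul_comm, zpow_mul]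
    rw [hz1]
    let St : Subgroup R :=
      { carrier := {g | σ g v = v}
        one_mem' := by show σ 1 v = v; rw [map_one]; rfl
        mul_mem' := fun {g h} hg hh => by show σ (g * h) v = v; rw [map_mul, LinearEquiv.mul_apply, hh, hg]
        inv_mem' := fun {g} hg => by
          show σ g⁻¹ v = v
          conv_lhs => rw [show v = σ g v from hg.symm, ← LinearEquiv.mul_apply, ← map_mul, inv_mul_cancel, map_one]
          rfl }
    exact zpow_mem (show z ^ ((i.val : ℤ) - j.val) ∈ St from e1) a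
  -- the eigenspaces span
  haveI : NeZero p := ⟨hp.out.ne_zero⟩
  have hpF : (p : F) ≠ 0 := fun h => hpq (by
    obtain ⟨c, hchar⟩ := CharP.exists F
    haveI := hchar
    obtain ⟨d, hcp, hcd⟩ := FiniteField.card F c
    rw [hcd, (Nat.prime_dvd_prime_iff_eq hcp hp.out).1 ((CharP.cast_eq_zero_iff F c p).1 h)]
    exact dvd_pow_self p d.ne_zero)
  have hwp : w ^ p = 1 := hwE.2
  have hzp : z ^ p = 1 := by rw [← hzo, pow_orderOf_eq_one]
  have hspan : ∀ v : V, ∃ f : ZMod p → V, (∀ i, f i ∈ Vc i) ∧ v = ∑ i, f i := by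
    intro v
    let N : ZMod p → V := fun i => ∑ j : ZMod p, σ ((w * z ^ i.val) ^ j.val) v
    have hN : ∀ i, N i ∈ Vc i := fun i => by
      show σ (w * z ^ i.val) (N i) = N i
      have hg : (w * z ^ i.val) ^ p = 1 := by
        rw [(hzw.pow_right _).mul_pow, hwp, ← pow_mul, mul_comm i.val, pow_mul, hzp, one_pow, one_mul]
      rw [map_sum]
      refine (Finset.sum_congr rfl fun j _ => ?_).trans (Equiv.sum_comp (Equiv.addLeft (1 : ZMod p)) fun j => σ ((w * z ^ i.val) ^ j.val) v)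
      show σ (w * z ^ i.val) (σ ((w * z ^ i.val) ^ j.val) v) = σ ((w * z ^ i.val) ^ (1 + j).val) v
      rw [← LinearEquiv.mul_apply, ← map_mul, ← pow_succ', ZMod.val_add, ← pow_eq_pow_mod _ hg, ZMod.val_one, add_comm 1]
    refine ⟨fun i => (p : F)⁻¹ • N i, fun i => (Vc i).smul_mem _ (hN i), ?_⟩
    rw [← Finset.smul_sum]
    have hsum : ∑ i, N i = p • v := by
      show ∑ i : ZMod p, ∑ j : ZMod p, σ ((w * z ^ i.val) ^ j.val) v = p • v
      rw [Finset.sum_comm, Finset.sum_eq_single (0 : ZMod p)]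
      · simp [ZMod.card]
      · intro j _ hj
        have e1 : ∀ i : ZMod p, σ ((w * z ^ i.val) ^ j.val) v = σ (w ^ j.val) (σ (z ^ (j * i).val) v) := fun i => by
          rw [← LinearEquiv.mul_apply, ← map_mul, (hzw.pow_right _).mul_pow, ← pow_mul, ZMod.val_mul, ← pow_eq_pow_mod _ hzp,
            mul_comm i.val]
        rw [Finset.sum_congr rfl fun i _ => e1 i, ← map_sum]
        have e2 : ∑ i : ZMod p, σ (z ^ (j * i).val) v = ∑ i : ZMod p, σ (z ^ i.val) v :=
          Equiv.sum_comp (Equiv.mulLeft₀ j hj) fun i => σ (z ^ i.val) v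
        rw [e2, hfix (∑ i : ZMod p, σ (z ^ i.val) v) ?_, map_zero]
        rw [map_sum]
        refine (Finset.sum_congr rfl fun i _ => ?_).trans (Equiv.sum_comp (Equiv.addLeft (1 : ZMod p)) fun i => σ (z ^ i.val) v)
        show σ z (σ (z ^ i.val) v) = σ (z ^ (1 + i).val) v
        rw [← LinearEquiv.mul_apply, ← map_mul, ← pow_succ', ZMod.val_add, ← pow_eq_pow_mod _ hzp, ZMod.val_one, add_comm 1]
      · intro h; exact absurd (Finset.mem_univ _) h
    rw [hsum, ← Nat.cast_smul_eq_nsmul F, smul_smul, inv_mul_cancel₀ hpF, one_smul]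
  -- the stabilizer
  let Q : Subgroup R :=
    { carrier := {g | g * w * g⁻¹ = w}
      one_mem' := by simp
      mul_mem' := fun {a b} (ha : a * w * a⁻¹ = w) (hb : b * w * b⁻¹ = w) =>
        show a * b * w * (a * b)⁻¹ = w by
          calc a * b * w * (a * b)⁻¹ = a * (b * w * b⁻¹) * a⁻¹ := by group
            _ = w := by rw [hb, ha]
      inv_mem' := fun {a} (ha : a * w * a⁻¹ = w) => show a⁻¹ * w * a⁻¹⁻¹ = w by
        conv_lhs => rw [← ha]
        group }
  have hQc : commutator R ≤ Q := by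
    rw [commutator_eq_closure, closure_le]
    rintro _ ⟨a, b, rfl⟩
    obtain ⟨ca, hca⟩ := hconjw a
    obtain ⟨cb, hcb⟩ := hconjw b
    have hz' : ∀ (g : R) (c : ℤ), g * z ^ c * g⁻¹ = z ^ c := fun g c => by
      rw [mem_center_iff.1 (zpow_mem hzc c) g, mul_inv_cancel_right]
    have e1 : a * b * w * (a * b)⁻¹ = w * z ^ (ca + cb) := by
      calc a * b * w * (a * b)⁻¹ = a * (b * w * b⁻¹) * a⁻¹ := by group
        _ = (a * w * a⁻¹) * (a * z ^ cb * a⁻¹) := by rw [hcb]; group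
        _ = _ := by rw [hca, hz', mul_assoc, ← zpow_add]
    have e2 : b * a * w * (b * a)⁻¹ = w * z ^ (ca + cb) := by
      calc b * a * w * (b * a)⁻¹ = b * (a * w * a⁻¹) * b⁻¹ := by group
        _ = (b * w * b⁻¹) * (b * z ^ ca * b⁻¹) := by rw [hca]; group
        _ = _ := by rw [hcb, hz', mul_assoc, ← zpow_add, add_comm]
    show ⁅a, b⁆ * w * ⁅a, b⁆⁻¹ = w
    have e3 : (b * a)⁻¹ * (w * z ^ (ca + cb)) * (b * a) = w := by rw [← e2]; group
    obtain ⟨d, hd⟩ := hconjw (b * a)⁻¹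
    rw [inv_inv] at hd
    have e4 : d + (ca + cb) = 0 ∨ (z ^ (d + (ca + cb)) = 1) := Or.inr (by
      have : w * z ^ (d + (ca + cb)) = w * 1 := by
        rw [mul_one]
        calc w * z ^ (d + (ca + cb)) = (w * z ^ d) * z ^ (ca + cb) := by rw [mul_assoc, ← zpow_add]
          _ = ((b * a)⁻¹ * w * (b * a)) * ((b * a)⁻¹ * z ^ (ca + cb) * (b * a)) := by
            rw [hd, show (b * a)⁻¹ * z ^ (ca + cb) * (b * a) = z ^ (ca + cb) by simpa using hz' (b * a)⁻¹ (ca + cb)]
          _ = (b * a)⁻¹ * (w * z ^ (ca + cb)) * (b * a) := by group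
          _ = w := e3
      exact mul_left_cancel this)
    have e5 : z ^ (d + (ca + cb)) = 1 := e4.elim (fun h => by rw [h, zpow_zero]) id
    calc ⁅a, b⁆ * w * ⁅a, b⁆⁻¹ = a * b * ((b * a)⁻¹ * w * (b * a)) * (a * b)⁻¹ := by rw [commutatorElement_def]; group
      _ = (a * b * w * (a * b)⁻¹) * (a * b * z ^ d * (a * b)⁻¹) := by rw [hd]; group
      _ = w := by rw [e1, hz', mul_assoc, ← zpow_add, add_comm, e5, mul_one]
  have hQinv : ∀ i, ∀ g : Q, ∀ u ∈ Vc i, (σ.comp Q.subtype) g u ∈ Vc i := fun i g u hu => by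
    show σ (w * z ^ i.val) (σ g u) = σ g u
    have hg : Commute (g : R) (w * z ^ i.val) :=
      Commute.mul_right (mul_inv_eq_iff_eq_mul.1 g.2) (mem_center_iff.1 (pow_mem hzc _) (g : R))
    rw [← LinearEquiv.mul_apply, ← map_mul, ← hg.eq, map_mul, LinearEquiv.mul_apply, hu]
  obtain ⟨g, c, hgc, hcp⟩ : ∃ (g : R) (c : ℤ), g * w * g⁻¹ = w * z ^ c ∧ ¬ (p : ℤ) ∣ c := by
    by_contra! hall'
    have hwc : ∀ g : R, Commute g w := fun g => by
      obtain ⟨c, hc⟩ := hconjw g
      obtain ⟨d, rfl⟩ := hall' g c hc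
      rw [zpow_mul, zpow_natCast, hzp, one_zpow, mul_one] at hc
      exact mul_inv_eq_iff_eq_mul.1 hc
    have hinv : ∀ i, ∀ g : R, ∀ u ∈ Vc i, σ g u ∈ Vc i := fun i g u hu => by
      show σ (w * z ^ i.val) (σ g u) = σ g u
      have hg : Commute g (w * z ^ i.val) := Commute.mul_right (hwc g) (mem_center_iff.1 (pow_mem hzc _) g)
      rw [← LinearEquiv.mul_apply, ← map_mul, ← hg.eq, map_mul, LinearEquiv.mul_apply, hu]
    have hzero : ∀ i, Vc i = ⊥ := fun i => (hirr _ (hinv i)).resolve_right fun htop => hwZ (by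
      have e : w * z ^ i.val = 1 := hinj _ fun u => (htop.ge Submodule.mem_top : u ∈ Vc i)
      rw [mul_eq_one_iff_eq_inv] at e
      rw [e]
      exact inv_mem (pow_mem (mem_zpowers z) _))
    have : z = 1 := hinj z fun v => by
      obtain ⟨f, hf, rfl⟩ := hspan v
      have : ∀ i, f i = 0 := fun i => (Submodule.eq_bot_iff _).1 (hzero i) _ (hf i)
      simp [this]
    rw [this, orderOf_one] at hzo
    exact hp.out.one_lt.ne hzo
  have hmap : ∀ i : ZMod p, ∀ u ∈ Vc i, σ g u ∈ Vc (i + (c : ZMod p)) := fun i u hu => by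
    show σ (w * z ^ (i + (c : ZMod p)).val) (σ g u) = σ g u
    have e1 : z ^ (i + (c : ZMod p)).val = z ^ c * z ^ i.val := by
      rw [← zpow_natCast, ← zpow_natCast z i.val, ← zpow_add, zpow_eq_zpow_iff_modEq, hzo,
        ← ZMod.intCast_eq_intCast_iff]
      push_cast
      rw [ZMod.natCast_zmod_val, ZMod.natCast_zmod_val, add_comm]
    rw [e1, ← mul_assoc, ← hgc, ← LinearEquiv.mul_apply, ← map_mul]
    have e2 : g * w * g⁻¹ * z ^ i.val * g = g * (w * z ^ i.val) := by
      rw [mul_assoc _ (z ^ i.val) g, ← mem_center_iff.1 (pow_mem hzc _) g]; group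
    rw [e2, map_mul, LinearEquiv.mul_apply, hu]
  have hdimle : ∀ i : ZMod p, finrank F (Vc i) ≤ finrank F (Vc (i + (c : ZMod p))) := fun i =>
    LinearMap.finrank_le_finrank_of_injective
      (f := LinearMap.codRestrict (Vc (i + (c : ZMod p))) ((σ g).toLinearMap.comp (Vc i).subtype) fun u => hmap i u u.2)
      fun a b h => Subtype.ext ((σ g).injective (congrArg Subtype.val h :))
  have hc0 : (c : ZMod p) ≠ 0 := fun h => hcp ((ZMod.intCast_zmod_eq_zero_iff_dvd _ _).1 h)
  have hdiml : ∀ (k : ℕ) (i : ZMod p), finrank F (Vc i) ≤ finrank F (Vc (i + k • (c : ZMod p))) := fun k => by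
    induction k with
    | zero => intro i; rw [zero_smul, add_zero]
    | succ k ihk => intro i; refine (ihk i).trans ?_; rw [succ_nsmul, ← add_assoc]; exact hdimle _
  have hall_le : ∀ i j : ZMod p, finrank F (Vc i) ≤ finrank F (Vc j) := fun i j => by
    have := hdiml ((j - i) * (c : ZMod p)⁻¹).val i
    rwa [nsmul_eq_mul, ZMod.natCast_zmod_val, mul_assoc, inv_mul_cancel₀ hc0, mul_one, add_sub_cancel] at this
  refine (eq_bot_iff_forall _).2 fun g' hg' => hinj g' fun v => ?_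
  obtain ⟨f, hf, rfl⟩ := hspan v
  obtain ⟨q, hq, rfl⟩ := derivedSeries_succ_le Q hQc L hg'
  rw [map_sum]
  refine Finset.sum_congr rfl fun i _ => ?_
  set m := finrank F (Vc i) with hm
  rcases Nat.eq_zero_or_pos m with hm0 | hmpos
  · rw [(Submodule.eq_bot_iff _).1 (Submodule.finrank_eq_zero.1 hm0) _ (hf i), map_zero]
  have h2m : 2 * m ≤ n := by
    have hne1 : i + 1 ≠ i := fun h => one_ne_zero (add_eq_left.1 h)
    have h1 := Submodule.finrank_sup_add_finrank_inf_eq (Vc i) (Vc (i + 1))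
    rw [hdis _ _ hne1.symm, finrank_bot, add_zero] at h1
    have h2 := hall_le i (i + 1)
    have h3 := Submodule.finrank_le (Vc i ⊔ Vc (i + 1))
    rw [hn] at h3
    omega
  have hzQ : z ∈ Q := show z * w * z⁻¹ = w by rw [← hzw.eq, mul_inv_cancel_right]
  have hme : e ≤ m := by
    by_contra hlt
    push Not at hlt
    have := hmpos
    obtain ⟨u, hu, hu0⟩ := (Submodule.ne_bot_iff _).1 fun hb => hmpos.ne' (Submodule.finrank_eq_zero.2 hb)
    refine hu0 (hfix u ?_)
    exact restrict_fix (σ.comp Q.subtype) (Vc i) (hQinv i)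
      (trivial_of_small hpq (hRp.to_subgroup Q) _ hlt ⟨z, hzQ⟩ : (⟨z, hzQ⟩ : Q) ∈ (restrict _ _ (hQinv i)).ker) hu
  have hkL : Nat.log 2 (m / e) + 1 ≤ L := by
    rcases Nat.eq_zero_or_pos e with he0 | hepos
    · exfalso
      rw [he, orderOf_eq_zero_iff] at he0
      refine he0 (isOfFinOrder_iff_pow_eq_one.2 ⟨p - 1, Nat.sub_pos_of_lt hp.out.one_lt, ?_⟩)
      exact ZMod.pow_card_sub_one_eq_one fun h => hpq ((ZMod.natCast_eq_zero_iff _ _).1 h)
    have h1 : (m / e) * 2 ≤ n / e := by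
      rw [Nat.le_div_iff_mul_le hepos]
      have := Nat.div_mul_le_self m e
      nlinarith
    have h4 : 1 ≤ m / e := (Nat.one_le_div_iff hepos).2 hme
    have h5 := Nat.log_mono_right (b := 2) h1
    rw [Nat.log_mul_base (by norm_num) (by omega)] at h5
    exact h5
  exact lower m (by omega) Q (hRp.to_subgroup Q) (Vc i) (σ.comp Q.subtype) (hQinv i) hm.symm L hkL q hq _ (hf i)

end Cfsg.Lib.SolvStruct.CrossChar
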