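import Cfsg.Agent.Coprime.Sylow
import Cfsg.Agent.Transfer.Control
import Cfsg.Agent.Transfer.Fusion
import Cfsg.Agent.Components.ZJ.Reduce

/-!
A group splits over `O^p(G)` when the latter has abelian Sylow `p`-subgroups.
-/

set_option autoImplicit false
set_option linter.style.haveILetI false
set_option linter.unusedSectionVars false

namespace Cfsg.Lib.SolvStruct

open Subgroup Cfsg.Lib.Coprime
open scoped commutatorElement

variable {G : Type*} [Group G] [Finite G] {p : ℕ} [Fact p.Prime]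

theorem pResidual_pResidual_eq_top : Cfsg.pResidual p ↥(Cfsg.pResidual p G) = ⊤ := by
  rw [eq_top_iff, ← map_subtype_le_map_subtype, ← MonoidHom.range_eq_map, range_subtype]
  show Subgroup.closure _ ≤ _
  refine (closure_le _).mpr fun g hg => ?_
  have hg' : g ∈ Cfsg.pResidual p G := Cfsg.Lib.Transfer.mem_pResidual_of_coprime hg
  refine ⟨⟨g, hg'⟩, Cfsg.Lib.Transfer.mem_pResidual_of_coprime ?_, rfl⟩
  rwa [Subgroup.orderOf_mk]

theorem sylow_le_commutator_of_pResidual_eq_top (h : Cfsg.pResidual p G = ⊤) (Q : Sylow p G) :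
    (Q : Subgroup G) ≤ commutator G := by
  have key : ∀ x : G, (orderOf (Abelianization.of x)).Coprime p := by
    intro x
    have hx : x ∈ closure {g : G | Nat.Coprime (orderOf g) p} := h.ge (mem_top x)
    induction hx using closure_induction with
    | mem y hy => exact Nat.Coprime.coprime_dvd_left (orderOf_map_dvd _ y) hy
    | one => rw [map_one, orderOf_one]; exact Nat.coprime_one_left p
    | mul u v _ _ hu hv =>
      rw [map_mul]
      refine Nat.Coprime.coprime_dvd_left ?_ (hu.mul_left hv)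
      exact (Commute.all _ _).orderOf_mul_dvd_lcm.trans (Nat.lcm_dvd_mul _ _)
    | inv u _ hu => rwa [map_inv, orderOf_inv]
  intro z hz
  obtain ⟨k, hk⟩ := IsPGroup.iff_orderOf.mp Q.2 ⟨z, hz⟩
  rw [Subgroup.orderOf_mk] at hk
  have h1 : Abelianization.of z = 1 := orderOf_eq_one_iff.mp
    (Nat.eq_one_of_dvd_coprimes ((key z).pow_right k) dvd_rfl (hk ▸ orderOf_map_dvd _ z))
  rwa [← Abelianization.ker_of, MonoidHom.mem_ker]

/-- **splitting over `O^p(G)`** -/
theorem exists_complement_pResidual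
    (h : ∀ Q : Sylow p (Cfsg.pResidual p G), IsMulCommutative Q) :
    ∃ K : Subgroup G, K.IsComplement' (Cfsg.pResidual p G) := by
  set R := Cfsg.pResidual p G with hRdef
  obtain ⟨Q⟩ : Nonempty (Sylow p R) := inferInstance
  haveI hQc : IsMulCommutative (Q : Subgroup R) := h Q
  set P₀ := (Q : Subgroup R).map R.subtype with hP₀def
  have hP₀R : P₀ ≤ R := map_subtype_le _
  haveI : IsMulCommutative P₀ := by rw [hP₀def]; infer_instance
  have hP₀ : IsPGroup p P₀ := Q.2.map _
  set NR := R ⊓ normalizer (P₀ : Set G) with hNR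
  have hP₀N : P₀ ≤ NR := le_inf hP₀R le_normalizer
  have hrel : P₀.relIndex R = (Q : Subgroup R).index := by
    rw [hP₀def, relIndex, subgroupOf, comap_map_eq_self_of_injective R.subtype_injective]
  have hcopP : (Nat.card P₀).Coprime (P₀.relIndex NR) := by
    refine Nat.Coprime.coprime_dvd_right
      (Dvd.intro _ (relIndex_mul_relIndex P₀ NR R hP₀N inf_le_left)) ?_
    rw [hrel, hP₀def, card_map_of_injective R.subtype_injective]
    exact Q.card_coprime_index
  obtain ⟨H, hHN, hsupH, hHc⟩ := exists_complement_in hP₀N inf_le_right hcopP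
  have hHP : H ≤ normalizer (P₀ : Set G) := hHN.trans inf_le_right
  have hcopH : (Nat.card P₀).Coprime (Nat.card H) := hHc ▸ hcopP
  have hPle : P₀ ≤ ⁅P₀, H⁆ := by
    have hfoc : (Q : Subgroup R) ≤ ⁅(Q : Subgroup R), normalizer (Q : Set R)⁆ := by
      rw [← Cfsg.Lib.Transfer.focal_eq_commutator_normalizer Q hQc,
        ← Cfsg.Lib.Transfer.commutator_inf_eq_focal (Q : Subgroup R)
          (Q.card_coprime_index.symm.coprime_dvd_right (index_dvd_card _))]
      exact le_inf (sylow_le_commutator_of_pResidual_eq_top pResidual_pResidual_eq_top Q) le_rfl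
    have h1 := map_mono (f := R.subtype) hfoc
    rw [map_commutator] at h1
    have h2 : (normalizer (Q : Set R)).map R.subtype ≤ NR :=
      le_inf (map_subtype_le _) (le_normalizer_map (H := (Q : Subgroup R)) R.subtype)
    refine (h1.trans (commutator_mono (le_refl P₀) h2)).trans ?_
    rw [commutator_le]
    intro x hx n hn
    rw [← hsupH] at hn
    obtain ⟨z, hz, t, ht, rfl⟩ := (mem_sup_of_le_normalizer hHP).mp hn
    have hxt : ⁅x, t⁆ ∈ P₀ := commutator_le_of_le_normalizer hHP (commutator_mem_commutator hx ht)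
    have hc : ∀ u ∈ P₀, ∀ v ∈ P₀, u * v = v * u := fun u hu v hv =>
      congrArg Subtype.val (mul_comm' (⟨u, hu⟩ : P₀) ⟨v, hv⟩)
    have he : ⁅x, z * t⁆ = ⁅x, t⁆ := by
      calc ⁅x, z * t⁆ = (x * z * x⁻¹ * z⁻¹) * (z * ⁅x, t⁆ * z⁻¹) := by
            simp only [commutatorElement_def]; group
        _ = ⁅x, t⁆ := by
          rw [hc x hx z hz, hc z hz _ hxt]; group
    exact he ▸ commutator_mem_commutator hx ht
  have hC : P₀ ⊓ centralizer (H : Set G) = ⊥ := by
    have h1 := (abelian_coprime_decomp hHP hcopH.symm).1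
    rwa [inf_eq_left.mpr (inf_le_left.trans hPle)] at h1
  -- the normalizer of `H` inside `N(P₀)`
  set M := normalizer (P₀ : Set G) ⊓ normalizer (H : Set G) with hM
  have hRM : R ⊔ M = ⊤ := by
    obtain ⟨S, hS⟩ := hP₀.exists_le_sylow
    have hSR : (S : Subgroup G) ⊓ R = P₀ := by
      refine le_antisymm ?_ (le_inf hS hP₀R)
      have h1 : ((S : Subgroup G) ⊓ R).subgroupOf R = (Q : Subgroup R) :=
        Q.3 ((S.2.to_le inf_le_left).comap_subtype (K := R))
          fun x hx => mem_subgroupOf.mpr ⟨hS (mem_map_of_mem _ hx), x.2⟩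
      intro x hx
      exact ⟨⟨x, hx.2⟩, h1 ▸ mem_subgroupOf.mpr hx, rfl⟩
    rw [eq_top_iff, ← Cfsg.Lib.ZJ.sup_normalizer_inf_eq_top R S, hSR]
    refine sup_le le_sup_left fun g hg => ?_
    have hle : conjMap g H ≤ P₀ ⊔ H := by
      rw [hsupH]
      intro x hx
      obtain ⟨t, ht, rfl⟩ := hx
      refine mem_inf.mpr ⟨(inferInstance : R.Normal).conj_mem t (hHN ht).1 g, ?_⟩
      exact mul_mem (mul_mem hg (hHP ht)) (inv_mem hg)
    obtain ⟨z, hz, hze⟩ := exists_conj_eq_of_coprime hHP hcopH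
      (Or.inl (@IsNilpotent.to_isSolvable P₀ _ hP₀.isNilpotent)) hle (card_conjMap g H)
    have hzg : z⁻¹ * g ∈ M := by
      refine mem_inf.mpr ⟨mul_mem (inv_mem (le_normalizer hz)) hg, conjMap_eq_self_iff.mp ?_⟩
      rw [← conjMap_mul, hze]
      exact conjMap_inv_conjMap _ _
    rw [show g = z * (z⁻¹ * g) by group]
    exact mul_mem_sup (hP₀R hz) hzg
  have hMR : M ⊓ R ≤ H := by
    rintro x ⟨⟨hxP, hxH⟩, hxR⟩
    have hx : x ∈ P₀ ⊔ H := hsupH.ge ⟨hxR, hxP⟩
    obtain ⟨z, hz, t, ht, rfl⟩ := (mem_sup_of_le_normalizer hHP).mp hx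
    have hzH : z ∈ normalizer (H : Set G) := by
      have := (normalizer (H : Set G)).mul_mem hxH ((normalizer (H : Set G)).inv_mem (le_normalizer ht))
      rwa [mul_inv_cancel_right] at this
    have hzC : z ∈ P₀ ⊓ centralizer (H : Set G) := ⟨hz, mem_centralizer_iff.mpr fun t' ht' => by
      have h1 : z * t' * z⁻¹ * t'⁻¹ ∈ P₀ := by
        rw [show z * t' * z⁻¹ * t'⁻¹ = z * (t' * z⁻¹ * t'⁻¹) by group]
        exact mul_mem hz ((mem_normalizer_iff.mp (hHP ht') _).mp (inv_mem hz))
      have h2 : z * t' * z⁻¹ * t'⁻¹ ∈ H :=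
        mul_mem ((mem_normalizer_iff.mp hzH t').mp ht') (inv_mem ht')
      have h3 := eq_one_of_coprime hcopH h1 h2
      rw [mul_inv_eq_one, mul_inv_eq_iff_eq_mul] at h3
      exact h3.symm⟩
    rw [hC, mem_bot] at hzC
    rwa [hzC, one_mul]
  -- a Sylow subgroup of `M`
  obtain ⟨T⟩ : Nonempty (Sylow p M) := inferInstance
  set K := (T : Subgroup M).map M.subtype
  have hKM : K ≤ M := map_subtype_le _
  have hdisj : K ⊓ R = ⊥ := by
    have hHp : (Nat.card H).Coprime p := by
      rw [hHc]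
      refine ((Fact.out : p.Prime).coprime_iff_not_dvd.mpr fun hd => Q.not_dvd_index ?_).symm
      rw [← hrel]
      exact hd.trans (Dvd.intro _ (relIndex_mul_relIndex P₀ NR R hP₀N inf_le_left))
    obtain ⟨k, hk⟩ := IsPGroup.iff_card.mp ((T.2.map M.subtype).to_le (inf_le_left : K ⊓ R ≤ K))
    refine Subgroup.card_eq_one.mp (Nat.eq_one_of_dvd_coprimes (hHp.pow_right k)
      (card_dvd_of_le ((inf_le_inf_right R hKM).trans hMR)) hk.dvd)
  obtain ⟨k, hk⟩ := Cfsg.Lib.Transfer.exists_index_pResidual (G := G) (p := p)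
  have htop : K ⊔ R = ⊤ := by
    have hidx : ∃ j, (R.subgroupOf M).index = p ^ j := by
      obtain ⟨j, -, hj⟩ := (Nat.dvd_prime_pow (Fact.out : p.Prime)).mp
        ((Subgroup.relIndex_dvd_index_of_normal R M).trans hk.dvd)
      exact ⟨j, hj⟩
    obtain ⟨j, hj⟩ := hidx
    have h1 := congrArg (Subgroup.map M.subtype) (Cfsg.Lib.Transfer.sup_sylow_eq_top hj T)
    rw [Subgroup.map_sup, subgroupOf_map_subtype, ← MonoidHom.range_eq_map, range_subtype] at h1
    rw [eq_top_iff, ← hRM]
    exact sup_le le_sup_right (h1.ge.trans (sup_le (inf_le_left.trans le_sup_right) le_sup_left))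
  refine ⟨K, isComplement'_of_disjoint_and_mul_eq_univ (disjoint_iff.mpr hdisj) ?_⟩
  rw [← mul_normal, htop, coe_top]

end Cfsg.Lib.SolvStruct
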