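/-
Every automorphism of `A_n` (`n ≥ 4`, `n ≠ 6`) is conjugation by a unique permutation.
-/
import Mathlib

set_option autoImplicit false
set_option linter.unusedSectionVars false
set_option linter.style.haveILetI false

namespace Cfsg.Lib.SolvStruct.AltAut

open Equiv Equiv.Perm Subgroup MulAction
open scoped Pointwise

variable {n : ℕ}

local notation "A" => alternatingGroup (Fin n)

/-- alternating group on the complement of a point -/
noncomputable def incl (i : Fin n) : alternatingGroup {j : Fin n // j ≠ i} →* ↥A :=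
  (Perm.ofSubtype.comp (alternatingGroup {j : Fin n // j ≠ i}).subtype).codRestrict A (fun h => by
    rw [mem_alternatingGroup]
    show sign (Perm.ofSubtype (h : Perm {j : Fin n // j ≠ i})) = 1
    rw [sign_ofSubtype]
    exact mem_alternatingGroup.1 h.2)

theorem incl_injective (i : Fin n) : Function.Injective (incl i) := fun _ _ h =>
  Subtype.ext (Perm.ofSubtype_injective (congrArg Subtype.val h))

theorem mem_range_incl {i : Fin n} {g : ↥A} : g ∈ (incl i).range ↔ (g : Perm (Fin n)) i = i := by
  constructor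
  · rintro ⟨h, rfl⟩
    exact Perm.ofSubtype_apply_of_not_mem _ (fun h' => h' rfl)
  · intro hg
    have hp : ∀ x, ((g : Perm (Fin n)) x ≠ i) ↔ x ≠ i := fun x =>
      not_congr ⟨fun h => (g : Perm (Fin n)).injective (h.trans hg.symm), fun h => (congrArg (g : Perm (Fin n)) h).trans hg⟩
    have he : Perm.ofSubtype ((g : Perm (Fin n)).subtypePerm hp) = g :=
      Perm.ofSubtype_subtypePerm _ (fun x hx h => hx ((congrArg (g : Perm (Fin n)) h).trans (hg.trans h.symm)))
    refine ⟨⟨(g : Perm (Fin n)).subtypePerm hp, ?_⟩, Subtype.ext ?_⟩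
    · rw [mem_alternatingGroup, ← sign_ofSubtype]
      convert mem_alternatingGroup.1 g.2 using 2
      convert he
    · show Perm.ofSubtype _ = (g : Perm (Fin n))
      convert he
      rfl

theorem two_card_incl (hn : 4 ≤ n) (i : Fin n) : 2 * Nat.card (incl i).range = (n - 1).factorial := by
  have hc : Fintype.card {j : Fin n // j ≠ i} = n - 1 := by simp
  haveI : Nontrivial {j : Fin n // j ≠ i} := Fintype.one_lt_card_iff_nontrivial.1 (by omega)
  rw [← Nat.card_congr (MonoidHom.ofInjective (incl_injective i)).toEquiv, two_mul_nat_card_alternatingGroup,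
    Nat.card_perm, Nat.card_eq_fintype_card, hc]

theorem exists_three_cycle (hn : 4 ≤ n) {j k : Fin n} (hjk : j ≠ k) :
    ∃ g : ↥A, (g : Perm (Fin n)).IsThreeCycle ∧ (g : Perm (Fin n)) j = j ∧ (g : Perm (Fin n)) k ≠ k := by
  obtain ⟨a, ha⟩ : ∃ a, a ∈ ({j, k}ᶜ : Finset (Fin n)) := Finset.Nonempty.exists_mem (by
    rw [← Finset.card_pos, Finset.card_compl, Finset.card_pair hjk, Fintype.card_fin]; omega)
  obtain ⟨b, hb⟩ : ∃ b, b ∈ ({j, k, a}ᶜ : Finset (Fin n)) := Finset.Nonempty.exists_mem (by
    rw [← Finset.card_pos, Finset.card_compl, Fintype.card_fin]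
    have := Finset.card_le_three (a := j) (b := k) (c := a)
    omega)
  simp only [Finset.mem_compl, Finset.mem_insert, Finset.mem_singleton, not_or] at ha hb
  have h3 : (swap k a * swap k b).IsThreeCycle := isThreeCycle_swap_mul_swap_same (Ne.symm ha.2) (Ne.symm hb.2.1) (Ne.symm hb.2.2)
  refine ⟨⟨_, h3.mem_alternatingGroup⟩, h3, ?_, ?_⟩
  · show swap k a (swap k b j) = j
    rw [swap_apply_of_ne_of_ne hjk (Ne.symm hb.1), swap_apply_of_ne_of_ne hjk (Ne.symm ha.1)]
  · show swap k a (swap k b k) ≠ k
    rw [swap_apply_left, swap_apply_of_ne_of_ne hb.2.1 hb.2.2]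
    exact hb.2.1

theorem range_incl_injective (hn : 4 ≤ n) {j k : Fin n}
    (h : (incl j).range ≤ (incl k).range) : j = k := by
  by_contra hne
  obtain ⟨g, -, hgj, hgk⟩ := exists_three_cycle hn hne
  exact hgk (mem_range_incl.1 (h (mem_range_incl.2 hgj)))

theorem fix_point {S : Set (Perm (Fin n))} (hS : ∀ s ∈ S, IsThreeCycle s) (hSne : S.Nonempty)
    (hlt : ¬ alternatingGroup (Fin n) ≤ closure S)
    (hsimple : 6 ≤ n → IsSimpleGroup (closure S)) :
    ∃ j, ∀ h ∈ closure S, h j = j := by
  classical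
  set H := closure S with hH
  have hSH : S ⊆ H := subset_closure
  obtain ⟨t, ht⟩ := hSne
  by_cases htr : IsPretransitive H (Fin n)
  · refine absurd (alternatingGroup_le_of_isPreprimitive_of_isThreeCycle_mem (G := H) ?_ (hS t ht) (hSH ht)) hlt
    refine { toIsPretransitive := htr, isTrivialBlock_of_isBlock := fun {B} hB => ?_ }
    by_contra hnb
    simp only [IsTrivialBlock, not_or] at hnb
    obtain ⟨a, ha, b, hb, hab⟩ := Set.not_subsingleton_iff.1 hnb.1
    have hfix : ∀ s ∈ H, s • B = B := by
      have h1 : H ≤ MulAction.stabilizer (Perm (Fin n)) B := by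
        rw [hH, closure_le]
        intro s hs
        rcases hB.smul_eq_or_disjoint (⟨s, hSH hs⟩ : H) with h | h
        · exact h
        · exfalso
          have hout : ∀ x ∈ B, s x ∉ B := fun x hx hsx =>
            Set.disjoint_left.1 h (Set.smul_mem_smul_set hx) hsx
          have hsub : ({a, b, s a, s b} : Finset (Fin n)) ⊆ s.support := by
            intro x hx
            simp only [Finset.mem_insert, Finset.mem_singleton] at hx
            rcases hx with rfl | rfl | rfl | rfl
            · exact mem_support.2 fun e => hout _ ha (e.symm ▸ ha)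
            · exact mem_support.2 fun e => hout _ hb (e.symm ▸ hb)
            · exact apply_mem_support.2 (mem_support.2 fun e => hout _ ha (e.symm ▸ ha))
            · exact apply_mem_support.2 (mem_support.2 fun e => hout _ hb (e.symm ▸ hb))
          have hc := Finset.card_le_card hsub
          rw [(hS s hs).card_support] at hc
          have h4 : ({a, b, s a, s b} : Finset (Fin n)).card = 4 := by
            have n1 : a ≠ s a := fun e => hout a ha (e ▸ ha)
            have n2 : a ≠ s b := fun e => hout b hb (e ▸ ha)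
            have n3 : b ≠ s a := fun e => hout a ha (e ▸ hb)
            have n4 : b ≠ s b := fun e => hout b hb (e ▸ hb)
            have n5 : s a ≠ s b := fun e => hab (s.injective e)
            rw [Finset.card_insert_of_notMem (by simp [hab, n1, n2]), Finset.card_insert_of_notMem (by simp [n3, n4]),
              Finset.card_pair n5]
          omega
      exact fun s hs => h1 hs
    refine hnb.2 (Set.eq_univ_of_forall fun x => ?_)
    obtain ⟨g, hg⟩ := htr.exists_smul_eq a x
    rw [← hg, ← hfix _ g.2]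
    exact Set.smul_mem_smul_set ha
  obtain ⟨a, ha⟩ : t.support.Nonempty := by rw [← Finset.card_pos, (hS t ht).card_support]; norm_num
  set O := MulAction.orbit H a with hO
  have hOS : ∀ s ∈ S, ∀ x ∈ s.support, x ∈ O → ∀ y ∈ s.support, y ∈ O := fun s hs x hx hxO y hy => by
    obtain ⟨k, hk⟩ := (hS s hs).isCycle.exists_pow_eq (mem_support.1 hx) (mem_support.1 hy)
    rw [hO, ← MulAction.orbit_eq_iff.2 hxO]
    exact ⟨(⟨s, hSH hs⟩ : H) ^ k, hk⟩
  have haO : a ∈ O := MulAction.mem_orbit_self a
  obtain ⟨j, hj⟩ : ∃ j, j ∉ O := by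
    by_contra! hall
    refine htr ⟨fun x y => ?_⟩
    obtain ⟨g, hg⟩ := hall x
    obtain ⟨g', hg'⟩ := hall y
    refine ⟨g' * g⁻¹, ?_⟩
    simp only at hg hg'
    rw [mul_smul, ← hg, inv_smul_smul, hg']
  by_cases hall : ∀ s ∈ S, ∀ x, x ∉ O → s x = x
  · exact ⟨j, fun h hh => (closure_le (K := MulAction.stabilizer (Perm (Fin n)) j)).2 (fun s hs => hall s hs j hj) hh⟩
  push Not at hall
  obtain ⟨u, hu, x, hx, hux⟩ := hall
  have hn6 : 6 ≤ n := by
    have hd : _root_.Disjoint t.support u.support := Finset.disjoint_left.2 fun y hy hy' =>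
      hx (hOS u hu y hy' (hOS t ht a ha haO y hy) x (mem_support.2 hux))
    have h1 := Finset.card_le_univ (t.support ∪ u.support)
    rw [Finset.card_union_of_disjoint hd, (hS t ht).card_support, (hS u hu).card_support, Fintype.card_fin] at h1
    omega
  haveI := hsimple hn6
  let K : Subgroup H :=
    { carrier := {h | ∀ y, y ∉ O → (h : Perm (Fin n)) y = y}
      one_mem' := fun y _ => rfl
      mul_mem' := fun {g h} hg hh y hy => by
        show (g : Perm (Fin n)) ((h : Perm (Fin n)) y) = y
        rw [hh y hy, hg y hy]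
      inv_mem' := fun {g} hg y hy => by
        show (g : Perm (Fin n))⁻¹ y = y
        rw [Perm.inv_eq_iff_eq, hg y hy] }
  haveI hKn : K.Normal := ⟨fun h hh g y hy => by
    have hy' : g⁻¹ • y ∉ O := fun h' => hy (by
      rw [hO, ← MulAction.orbit_eq_iff.2 h']
      exact ⟨g, smul_inv_smul g y⟩)
    show ((g * h * g⁻¹ : H) : Perm (Fin n)) y = y
    show (g : Perm (Fin n)) ((h : Perm (Fin n)) (g⁻¹ • y)) = y
    rw [hh _ hy']
    exact smul_inv_smul g y⟩
  rcases hKn.eq_bot_or_eq_top with h | h
  · have htK : (⟨t, hSH ht⟩ : H) ∈ K := fun y hy => by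
      by_contra hne
      exact hy (hOS t ht a ha haO y (mem_support.2 hne))
    rw [h, Subgroup.mem_bot] at htK
    have : t = 1 := congrArg Subtype.val htK
    exact absurd (mem_support.1 ha) (by simp [this])
  · exact absurd (h.ge (mem_top (⟨u, hSH hu⟩ : H)) x hx) hux

theorem arith_three {j k : ℕ} (hk : 2 ≤ k) (h6 : ¬(j = 0 ∧ k = 2))
    (h : 3 * (3 * k + j - 3).factorial ≤ 2 * (j.factorial * 3 ^ k * k.factorial)) : False := by
  rcases eq_or_lt_of_le hk with rfl | hk3
  · obtain ⟨i, rfl⟩ : ∃ i, j = i + 1 := ⟨j - 1, by omega⟩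
    rw [show 3 * 2 + (i + 1) - 3 = i + 1 + 1 + 1 + 1 by omega, Nat.factorial_succ, Nat.factorial_succ, Nat.factorial_succ] at h
    have h0 := Nat.factorial_pos (i + 1)
    norm_num [Nat.factorial] at h
    have h24 : 24 ≤ (i + 4) * ((i + 3) * (i + 2)) :=
      Nat.mul_le_mul (show 4 ≤ i + 4 by omega) (Nat.mul_le_mul (show 3 ≤ i + 3 by omega) (show 2 ≤ i + 2 by omega))
    nlinarith [Nat.mul_le_mul_right ((i + 1) * i.factorial) h24, Nat.factorial_pos i]
  · have key : ∀ m, 3 ≤ m → 2 * 3 ^ m * m.factorial < 3 * (3 * m - 3).factorial := by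
      intro m hm
      induction m, hm using Nat.le_induction with
      | base => norm_num [Nat.factorial]
      | succ m hm ih =>
        obtain ⟨e, rfl⟩ : ∃ e, m = e + 3 := ⟨m - 3, by omega⟩
        rw [show 3 * (e + 3 + 1) - 3 = (3 * (e + 3) - 3) + 1 + 1 + 1 by omega, Nat.factorial_succ (e + 3), Nat.factorial_succ (3 * (e + 3) - 3 + 1 + 1), Nat.factorial_succ (3 * (e + 3) - 3 + 1), Nat.factorial_succ (3 * (e + 3) - 3), pow_succ]
        set F := (3 * (e + 3) - 3).factorial
        set X := 3 ^ (e + 3) * (e + 3).factorial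
        have ih' : 2 * X < 3 * F := by simpa [X, mul_assoc] using ih
        calc 2 * (3 ^ (e + 3) * 3) * ((e + 3 + 1) * (e + 3).factorial) = (3 * (e + 4)) * (2 * X) := by ring
          _ < (3 * (e + 4)) * (3 * F) := Nat.mul_lt_mul_of_pos_left ih' (by omega)
          _ ≤ 3 * ((3 * (e + 3) - 3 + 1 + 1 + 1) * ((3 * (e + 3) - 3 + 1 + 1) * ((3 * (e + 3) - 3 + 1) * F))) := by
            rw [show 3 * (e + 3) - 3 = 3 * e + 6 by omega]
            nlinarith [Nat.zero_le F, Nat.zero_le (e * F), Nat.zero_le (e * e * F), Nat.zero_le (e * e * e * F)]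
    have h1 := Nat.le_of_dvd (Nat.factorial_pos _) (Nat.factorial_mul_factorial_dvd_factorial_add (3 * k - 3) j)
    rw [show 3 * k - 3 + j = 3 * k + j - 3 by omega] at h1
    have h2 := Nat.mul_lt_mul_of_pos_right (key k hk3) (Nat.factorial_pos j)
    nlinarith [h1, h2, h]

theorem centralizer_bounds (x : ↥A) :
    Nat.card (centralizer ({(x : Perm (Fin n))} : Set (Perm (Fin n)))) ≤ 2 * Nat.card (centralizer ({x} : Set ↥A)) ∧
    ((∃ z, z ∈ centralizer ({(x : Perm (Fin n))} : Set (Perm (Fin n))) ∧ z ∉ alternatingGroup (Fin n)) →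
      Nat.card (centralizer ({(x : Perm (Fin n))} : Set (Perm (Fin n)))) = 2 * Nat.card (centralizer ({x} : Set ↥A))) := by
  classical
  set C := centralizer ({(x : Perm (Fin n))} : Set (Perm (Fin n)))
  set f := (Perm.sign).comp C.subtype
  have e : Nat.card f.ker = Nat.card (centralizer ({x} : Set ↥A)) := Nat.card_congr
    { toFun := fun z => ⟨⟨z.1.1, mem_alternatingGroup.2 z.2⟩, mem_centralizer_singleton_iff.2 (Subtype.ext (mem_centralizer_singleton_iff.1 z.1.2))⟩
      invFun := fun z => ⟨⟨z.1.1, mem_centralizer_singleton_iff.2 (congrArg Subtype.val (mem_centralizer_singleton_iff.1 z.2))⟩, mem_alternatingGroup.1 z.1.2⟩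
      left_inv := fun z => rfl
      right_inv := fun z => rfl }
  have h2 : Nat.card ℤˣ = 2 := by simp [Nat.card_eq_fintype_card]
  have hle : Nat.card f.range ≤ 2 := h2 ▸ Nat.card_le_card_of_injective _ Subtype.val_injective
  rw [← f.ker.card_mul_index, index_ker, e, mul_comm]
  refine ⟨Nat.mul_le_mul_right _ hle, fun ⟨z, hz, hzA⟩ => ?_⟩
  have hne : f.range ≠ ⊥ := fun hb => hzA (mem_alternatingGroup.2 ((eq_bot_iff_forall _).1 hb _ ⟨⟨z, hz⟩, rfl⟩))
  have := (one_lt_card_iff_ne_bot _).2 hne
  rw [show Nat.card f.range = 2 by omega]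

theorem map_three_cycle (hn : 4 ≤ n) (h6 : n ≠ 6) (φ : ↥A ≃* ↥A) {t : ↥A}
    (ht : (t : Perm (Fin n)).IsThreeCycle) : (φ t : Perm (Fin n)).IsThreeCycle := by
  classical
  set y := (φ t : Perm (Fin n)) with hy
  have ho : orderOf y = 3 := by
    rw [hy, Subgroup.orderOf_coe, MulEquiv.orderOf_eq, ← Subgroup.orderOf_coe, ht.orderOf]
  have hall : ∀ m ∈ y.cycleType, m = 3 := fun m hm => by
    have h1 := two_le_of_mem_cycleType hm
    have h2 := ho ▸ dvd_of_mem_cycleType hm
    rcases (Nat.dvd_prime Nat.prime_three).1 h2 with h | h <;> omega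
  have hrep := Multiset.eq_replicate.2 ⟨rfl, hall⟩
  set k := Multiset.card y.cycleType with hk
  have hsum : 3 * k ≤ n := by
    have h1 := sum_cycleType y
    rw [hrep, Multiset.sum_replicate, smul_eq_mul] at h1
    have h2 := Finset.card_le_univ y.support
    rw [Fintype.card_fin] at h2
    omega
  have hk1 : k ≠ 0 := fun h0 => by
    have : y = 1 := cycleType_eq_zero.1 (Multiset.card_eq_zero.1 (hk ▸ h0))
    rw [this, orderOf_one] at ho
    omega
  by_cases hk2 : k = 1
  · rw [IsThreeCycle, hrep, hk2]; rfl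
  exfalso
  have hn5 : 5 ≤ n := by omega
  obtain ⟨a, b, hab, hat, hbt⟩ : ∃ a b, a ≠ b ∧ a ∉ (t : Perm (Fin n)).support ∧ b ∉ (t : Perm (Fin n)).support := by
    have hc : 1 < ((t : Perm (Fin n)).support)ᶜ.card := by
      rw [Finset.card_compl, ht.card_support, Fintype.card_fin]; omega
    obtain ⟨a, ha, b, hb, hab⟩ := Finset.one_lt_card.1 hc
    exact ⟨a, b, hab, Finset.mem_compl.1 ha, Finset.mem_compl.1 hb⟩
  have hz : swap a b ∈ centralizer ({(t : Perm (Fin n))} : Set (Perm (Fin n))) := by
    refine mem_centralizer_singleton_iff.2 (Perm.Disjoint.commute ?_).eq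
    rw [Perm.disjoint_iff_disjoint_support, support_swap hab]
    simp [hat, hbt]
  have h1 := (centralizer_bounds t).2 ⟨_, hz, fun h => by
    rw [mem_alternatingGroup, sign_swap hab] at h
    exact absurd h (by decide)⟩
  have h2 := (centralizer_bounds (φ t)).1
  have e : Nat.card (centralizer ({t} : Set ↥A)) = Nat.card (centralizer ({φ t} : Set ↥A)) := Nat.card_congr
    (φ.toEquiv.subtypeEquiv fun z => by
      simp only [mem_centralizer_singleton_iff]
      exact ⟨fun h => by simpa using congrArg φ h, fun h => φ.injective (by simpa using h)⟩)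
  rw [nat_card_centralizer, ht.cycleType, Fintype.card_fin] at h1
  rw [← hy, nat_card_centralizer, hrep, Fintype.card_fin, Multiset.sum_replicate, Multiset.prod_replicate, smul_eq_mul,
    Multiset.toFinset_replicate, if_neg hk1, Finset.prod_singleton, Multiset.count_replicate_self] at h2
  simp [-Nat.card_eq_fintype_card] at h1
  refine arith_three (j := n - k * 3) (k := k) (by omega) (by omega) ?_
  rw [show 3 * k + (n - k * 3) - 3 = n - 3 by omega]
  calc 3 * (n - 3).factorial = 2 * Nat.card (centralizer ({t} : Set ↥A)) := by rw [← h1]; ring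
    _ = 2 * Nat.card (centralizer ({φ t} : Set ↥A)) := by rw [e]
    _ ≤ _ := ?_
  have h3 : 2 * Nat.card (centralizer ({φ t} : Set ↥A)) ≤ 2 * Nat.card (centralizer ({y} : Set (Perm (Fin n)))) := by
    refine Nat.mul_le_mul_left 2 ?_
    refine Nat.card_le_card_of_injective (fun z => ⟨z.1.1, mem_centralizer_singleton_iff.2
      (congrArg Subtype.val (mem_centralizer_singleton_iff.1 z.2))⟩) fun u v h => ?_
    exact Subtype.ext (Subtype.ext (congrArg Subtype.val h :))
  refine h3.trans_eq ?_
  rw [nat_card_centralizer, hrep, Fintype.card_fin, Multiset.sum_replicate, Multiset.prod_replicate, smul_eq_mul,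
    Multiset.toFinset_replicate, if_neg hk1, Finset.prod_singleton, Multiset.count_replicate_self]

theorem image_point (hn : 4 ≤ n) (φ : ↥A ≃* ↥A)
    (hφ : ∀ t : ↥A, (t : Perm (Fin n)).IsThreeCycle → (φ t : Perm (Fin n)).IsThreeCycle) (i : Fin n) :
    ∃ j, (incl i).range.map φ.toMonoidHom = (incl j).range := by
  classical
  let f : alternatingGroup {j : Fin n // j ≠ i} →* Perm (Fin n) :=
    (alternatingGroup (Fin n)).subtype.comp (φ.toMonoidHom.comp (incl i))
  have hf : Function.Injective f := Subtype.val_injective.comp (φ.injective.comp (incl_injective i))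
  set T := {s : alternatingGroup {j : Fin n // j ≠ i} | (s : Perm {j : Fin n // j ≠ i}).IsThreeCycle}
  have hT : closure T = ⊤ := by
    apply Subgroup.map_injective (alternatingGroup {j : Fin n // j ≠ i}).subtype_injective
    rw [MonoidHom.map_closure, ← MonoidHom.range_eq_map, Subgroup.range_subtype]
    refine Eq.trans ?_ (closure_three_cycles_eq_alternating (α := {j : Fin n // j ≠ i}))
    congr 1
    ext s
    exact ⟨fun ⟨z, hz, he⟩ => he ▸ hz, fun hs => ⟨⟨s, hs.mem_alternatingGroup⟩, hs, rfl⟩⟩
  have hr : closure (f '' T) = f.range := by rw [← MonoidHom.map_closure, hT, ← MonoidHom.range_eq_map]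
  have hne : T.Nonempty := by
    obtain ⟨k, hk⟩ : ∃ k : Fin n, k ≠ i := by
      haveI : Nontrivial (Fin n) := Fintype.one_lt_card_iff_nontrivial.1 (by simp; omega)
      exact exists_ne i
    obtain ⟨g, hg, hgi, -⟩ := exists_three_cycle hn hk.symm
    obtain ⟨z, rfl⟩ := mem_range_incl.2 hgi
    exact ⟨z, (cycleType_ofSubtype (g := (z : Perm {j : Fin n // j ≠ i}))).symm.trans hg⟩
  obtain ⟨j, hj⟩ := fix_point (S := f '' T)
    (by
      rintro _ ⟨s, hs, rfl⟩
      refine hφ (incl i s) ?_
      show (Perm.ofSubtype (s : Perm {j : Fin n // j ≠ i})).IsThreeCycle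
      rw [IsThreeCycle, cycleType_ofSubtype]
      exact hs)
    (hne.image f) (fun h => by
      haveI : Nontrivial (Fin n) := Fintype.one_lt_card_iff_nontrivial.1 (by simp; omega)
      have h1 := Nat.le_of_dvd Nat.card_pos (card_dvd_of_le h)
      rw [hr, ← Nat.card_congr (MonoidHom.ofInjective hf).toEquiv,
        Nat.card_congr (MonoidHom.ofInjective (incl_injective i)).toEquiv] at h1
      have h2 := two_card_incl hn i
      have h3 : 2 * Nat.card (alternatingGroup (Fin n)) = n.factorial := by
        rw [two_mul_nat_card_alternatingGroup, Nat.card_perm, Nat.card_fin]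
      have h4 : (n - 1).factorial < n.factorial := by
        conv_rhs => rw [show n = n - 1 + 1 by omega, Nat.factorial_succ]
        exact lt_mul_of_one_lt_left (Nat.factorial_pos _) (by omega)
      omega)
    (fun h7 => by
      haveI := alternatingGroup.isSimpleGroup (α := {j : Fin n // j ≠ i}) (by rw [Nat.card_eq_fintype_card]; simp; omega)
      rw [hr]
      exact (MonoidHom.ofInjective hf).symm.isSimpleGroup)
  refine ⟨j, eq_of_le_of_card_ge ?_ (le_of_eq ?_)⟩
  · rintro _ ⟨g, ⟨s, rfl⟩, rfl⟩
    exact mem_range_incl.2 (hj _ (hr.ge ⟨s, rfl⟩))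
  · rw [card_map_of_injective φ.injective]
    have := two_card_incl hn i
    have := two_card_incl hn j
    omega

theorem conjNormal_injective (hn : 4 ≤ n) :
    Function.Injective (MulAut.conjNormal : Perm (Fin n) →* MulAut ↥A) := by
  refine (injective_iff_map_eq_one _).2 fun σ hσ => Equiv.ext fun i => (range_incl_injective hn fun g hg => ?_).symm
  rw [mem_range_incl] at hg ⊢
  have h1 := congrArg Subtype.val (DFunLike.congr_fun hσ g)
  simp only [MulAut.conjNormal_apply, MulAut.one_apply] at h1
  have h2 := congrArg (fun p : Perm (Fin n) => p (σ i)) h1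
  simp only [Perm.mul_apply, Perm.coe_inv, Equiv.symm_apply_apply, hg] at h2
  exact h2.symm.trans (congrArg σ hg)

theorem exists_conjNormal_eq (hn : 4 ≤ n) (φ : MulAut ↥A)
    (hφ : ∀ t : ↥A, (t : Perm (Fin n)).IsThreeCycle → (φ t : Perm (Fin n)).IsThreeCycle) :
    ∃ σ : Perm (Fin n), MulAut.conjNormal σ = φ := by
  choose σ hσ using image_point hn φ hφ
  have hinj : Function.Injective σ := fun a b h => by
    have e : (incl a).range.map φ.toMonoidHom = (incl b).range.map φ.toMonoidHom := by rw [hσ, hσ, h]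
    exact range_incl_injective hn (Subgroup.map_injective φ.injective e).le
  let s : Perm (Fin n) := Equiv.ofBijective σ (Finite.injective_iff_bijective.1 hinj)
  have key : ∀ (g : ↥A) (i : Fin n), (φ g : Perm (Fin n)) (σ i) = σ ((g : Perm (Fin n)) i) := by
    intro g i
    refine range_incl_injective hn fun h hh => ?_
    rw [mem_range_incl] at hh
    have h1 : (φ g)⁻¹ * h * φ g ∈ (incl (σ i)).range := by
      rw [mem_range_incl]
      show (φ g : Perm (Fin n))⁻¹ ((h : Perm (Fin n)) ((φ g : Perm (Fin n)) (σ i))) = σ i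
      rw [hh]; simp
    rw [← hσ] at h1
    obtain ⟨k, hk, hke⟩ := h1
    rw [← hσ]
    refine ⟨g * k * g⁻¹, ?_, ?_⟩
    · rw [SetLike.mem_coe, mem_range_incl] at *
      show (g : Perm (Fin n)) ((k : Perm (Fin n)) ((g : Perm (Fin n))⁻¹ ((g : Perm (Fin n)) i))) = _
      simp [hk]
    · simp only [MulEquiv.coe_toMonoidHom, map_mul, map_inv] at hke ⊢
      rw [hke]
      group
  refine ⟨s, MulEquiv.ext fun g => Subtype.ext (Equiv.ext fun x => ?_)⟩
  obtain ⟨i, rfl⟩ := s.surjective x
  rw [MulAut.conjNormal_apply]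
  show s ((g : Perm (Fin n)) (s⁻¹ (s i))) = (φ g : Perm (Fin n)) (s i)
  rw [show s⁻¹ (s i) = i from s.symm_apply_apply i]
  exact (key g i).symm

theorem conjNormal_bijective (hn : 4 ≤ n) (h6 : n ≠ 6) :
    Function.Bijective (MulAut.conjNormal : Perm (Fin n) →* MulAut ↥A) :=
  ⟨conjNormal_injective hn, fun φ => exists_conjNormal_eq hn φ fun _ ht => map_three_cycle hn h6 φ ht⟩

end Cfsg.Lib.SolvStruct.AltAut
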