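/-
The Frattini quotient of a `2`-group acting faithfully on a space over a field of odd order.
-/
import Cfsg.Agent.SolvStruct.CrossCharDerived
import Cfsg.Agent.PGroups.SpecialCoprime
import Cfsg.Agent.PGroups.CyclicMaximal

set_option autoImplicit false
set_option linter.unusedSectionVars false
set_option linter.style.haveILetI false

namespace Cfsg.Lib.SolvStruct.TwoRank

open Subgroup Module
open scoped commutatorElement

universe u

theorem commute_squares {G : Type*} [Group G] {a b : G} (N : Subgroup G) (h : ∀ g : G, g * g ∈ N) [N.Normal] :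
    ⁅a, b⁆ ∈ N := by
  have e : ⁅a, b⁆ = (a * b) * (a * b) * ((b⁻¹ * a⁻¹ * b) * (b⁻¹ * a⁻¹ * b)) * (b⁻¹ * b⁻¹) := by
    rw [commutatorElement_def]; group
  rw [e]
  exact mul_mem (mul_mem (h _) (h _)) (h _)

/-- in a `2`-group every normal subgroup containing all squares contains the Frattini subgroup -/
theorem frattini_le_of_sq {G : Type u} [Group G] [Finite G] (N : Subgroup G) [N.Normal] (h : ∀ g : G, g * g ∈ N) :
    frattini G ≤ N := by
  haveI := Fact.mk Nat.prime_two
  refine Cfsg.Lib.PGroups.SpecialCoprime.frattini_le_of_elementary (p := 2) N (fun g => by rw [pow_two]; exact h g) ?_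
  rw [commutator_eq_closure, closure_le]
  rintro _ ⟨a, b, rfl⟩
  exact commute_squares N h

theorem sq_mem {G : Type u} [Group G] [Finite G] (hG : IsPGroup 2 G) (g : G) : g * g ∈ frattini G := by
  haveI := Fact.mk Nat.prime_two
  rw [← pow_two]; exact Cfsg.Lib.PGroups.pow_mem_frattini hG g

/-- extensions -/
theorem index_frattini_ext {G H : Type u} [Group G] [Group H] [Finite G] (hG : IsPGroup 2 G) (f : G →* H) :
    (frattini G).index ≤ (frattini f.range).index * (frattini f.ker).index := by
  haveI := Fact.mk Nat.prime_two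
  set Φ := frattini G
  haveI : Φ.Normal := inferInstance
  set π := f.rangeRestrict
  have hs : Function.Surjective π := f.rangeRestrict_surjective
  haveI : Finite f.range := Finite.of_surjective π hs
  haveI : (Φ.map π).Normal := Subgroup.Normal.map inferInstance π hs
  have h1 : (Φ.map π).index ≤ (frattini f.range).index := by
    refine Nat.le_of_dvd (Nat.pos_of_ne_zero index_ne_zero_of_finite) (index_dvd_of_le (frattini_le_of_sq _ fun y => ?_))
    obtain ⟨x, rfl⟩ := hs y
    exact ⟨x * x, sq_mem hG x, map_mul π x x⟩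
  rw [index_map, π.range_eq_top.2 hs, index_top, mul_one, MonoidHom.ker_rangeRestrict] at h1
  have h2 : Φ.relIndex f.ker ≤ (frattini f.ker).index := by
    haveI : (Φ.subgroupOf f.ker).Normal := inferInstance
    exact Nat.le_of_dvd (Nat.pos_of_ne_zero index_ne_zero_of_finite) (index_dvd_of_le (frattini_le_of_sq _ fun k =>
      mem_subgroupOf.2 (sq_mem hG (k : G))))
  rw [← relIndex_mul_index (le_sup_left : Φ ≤ Φ ⊔ f.ker), sup_comm, relIndex_sup_right, mul_comm]
  rw [sup_comm] at h1
  exact Nat.mul_le_mul h1 h2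

theorem index_frattini_le_card {G : Type u} [Group G] [Finite G] : (frattini G).index ≤ Nat.card G :=
  Nat.le_of_dvd Nat.card_pos (index_dvd_card _)

theorem index_frattini_congr {G H : Type u} [Group G] [Group H] [Finite G] (hG : IsPGroup 2 G) (f : G →* H)
    (hf : Function.Injective f) : (frattini G).index ≤ (frattini f.range).index := by
  have h := index_frattini_ext hG f
  have : (frattini f.ker).index ≤ 1 := by
    refine index_frattini_le_card.trans (le_of_eq ?_)
    rw [(MonoidHom.ker_eq_bot_iff f).2 hf, card_bot]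
  exact h.trans (by nlinarith)

/-- abelian: at most the number of solutions of `x ^ 2 = 1` -/
theorem index_frattini_abelian {G : Type u} [Group G] [Finite G] (hG : IsPGroup 2 G) (hc : ∀ a b : G, a * b = b * a) :
    (frattini G).index ≤ Nat.card {g : G // g * g = 1} := by
  letI : CommGroup G := { (inferInstance : Group G) with mul_comm := hc }
  let φ := powMonoidHom (α := G) 2
  have h1 : φ.range ≤ frattini G := by
    rintro _ ⟨x, rfl⟩
    show x ^ 2 ∈ _
    rw [pow_two]; exact sq_mem hG x
  refine (Nat.le_of_dvd (Nat.pos_of_ne_zero index_ne_zero_of_finite) (index_dvd_of_le h1)).trans (le_of_eq ?_)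
  have h3 : φ.range.index * Nat.card φ.range = Nat.card φ.ker * Nat.card φ.range := by
    rw [φ.range.index_mul_card, ← φ.ker.card_mul_index, index_ker]
  rw [Nat.eq_of_mul_eq_mul_right Nat.card_pos h3]
  exact Nat.card_congr (Equiv.subtypeEquivRight fun g => by
    show g ^ 2 = 1 ↔ _
    rw [pow_two])

theorem index_frattini_cyclic {G : Type u} [Group G] [Finite G] (hG : IsPGroup 2 G) [IsCyclic G] :
    (frattini G).index ≤ 2 := by
  classical
  haveI := Fintype.ofFinite G
  refine (index_frattini_abelian hG fun a b => IsCyclic.commGroup.mul_comm a b).trans ?_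
  rw [Nat.card_eq_fintype_card, Fintype.card_subtype]
  refine le_trans (le_of_eq (congrArg Finset.card (Finset.filter_congr fun g _ => ?_))) (IsCyclic.card_pow_eq_one_le (α := G) (n := 2) (by norm_num))
  rw [pow_two]

variable {F : Type*} [Field F] [Fintype F]

/-- a group with only cyclic normal abelian subgroups -/
theorem index_frattini_primitive {G : Type u} [Group G] [Finite G] (hG : IsPGroup 2 G)
    (h : ∀ A : Subgroup G, A.Normal → IsMulCommutative A → IsCyclic A) : (frattini G).index ≤ 8 := by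
  classical
  haveI := Fact.mk Nat.prime_two
  obtain ⟨A, hA, hmax⟩ := (Set.toFinite {A : Subgroup G | A.Normal ∧ IsMulCommutative A}).exists_maximal
    ⟨⊥, inferInstance, ⟨⟨fun a b => Subsingleton.elim _ _⟩⟩⟩
  haveI := hA.1
  haveI := hA.2
  have hcomm : ∀ a ∈ A, ∀ b ∈ A, a * b = b * a := fun a ha b hb =>
    congrArg Subtype.val (mul_comm' (⟨a, ha⟩ : A) ⟨b, hb⟩)
  have hself : centralizer (A : Set G) ≤ A := by
    by_contra hlt
    set π := QuotientGroup.mk' A with hπ
    set C := centralizer (A : Set G) with hC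
    haveI : (C.map π).Normal := Subgroup.Normal.map inferInstance π (QuotientGroup.mk'_surjective A)
    have hne : C.map π ≠ ⊥ := fun hb => hlt (by
      rwa [Subgroup.map_eq_bot_iff, hπ, QuotientGroup.ker_mk'] at hb)
    obtain ⟨c, hcC, hcz, hco⟩ := Cfsg.Lib.PGroups.exists_mem_center_of_normal_ne_bot (hG.to_quotient A) hne
    obtain ⟨x, hxC, rfl⟩ := hcC
    set B := (zpowers (π x)).comap π with hB
    have hBn : B.Normal := by
      haveI : (zpowers (π x)).Normal := ⟨fun y hy g => by
        obtain ⟨i, rfl⟩ := mem_zpowers_iff.1 hy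
        rw [← conj_zpow, mem_center_iff.1 hcz g, mul_inv_cancel_right]
        exact zpow_mem (mem_zpowers _) i⟩
      exact Subgroup.Normal.comap inferInstance π
    have hBd : ∀ b ∈ B, ∃ (a : G) (i : ℤ), a ∈ A ∧ b = x ^ i * a := fun b hb => by
      obtain ⟨i, hi⟩ := mem_zpowers_iff.1 hb
      refine ⟨(x ^ i)⁻¹ * b, i, ?_, by group⟩
      rw [← QuotientGroup.eq]
      rw [← map_zpow] at hi
      exact hi
    have hBab : IsMulCommutative B := ⟨⟨fun b b' => Subtype.ext (by
      obtain ⟨a, i, ha, e⟩ := hBd b b.2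
      obtain ⟨a', j, ha', e'⟩ := hBd b' b'.2
      show (b : G) * b' = b' * b
      rw [e, e']
      have c1 : Commute (x ^ i) a' := ((show Commute x a' from (mem_centralizer_iff.1 hxC a' ha').symm)).zpow_left i
      have c2 : Commute (x ^ j) a := ((show Commute x a from (mem_centralizer_iff.1 hxC a ha).symm)).zpow_left j
      have c3 : Commute a a' := hcomm a ha a' ha'
      have c4 : Commute (x ^ i) (x ^ j) := (Commute.refl x).zpow_zpow i j
      exact ((c4.mul_right c1).mul_left ((c2.symm).mul_right c3)).eq)⟩⟩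
    have hle : A ≤ B := fun a ha => by
      show π a ∈ zpowers (π x)
      rw [show π a = 1 from (QuotientGroup.eq_one_iff a).2 ha]
      exact one_mem _
    have hxA : x ∈ A := hmax ⟨hBn, hBab⟩ hle (mem_zpowers (π x) : π x ∈ zpowers (π x))
    rw [show π x = 1 from (QuotientGroup.eq_one_iff x).2 hxA, orderOf_one] at hco
    norm_num at hco
  haveI hAcyc := h A hA.1 hA.2
  obtain ⟨g₀, hg₀⟩ := hAcyc.exists_generator
  obtain ⟨k, hk⟩ := IsPGroup.iff_orderOf.1 (hG.to_subgroup A) g₀
  set θ : G →* MulAut A := MulAut.conjNormal with hθ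
  have hker : θ.ker ≤ A := fun g hg => hself (mem_centralizer_iff.2 fun a ha => by
    have := congrArg Subtype.val (DFunLike.congr_fun (MonoidHom.mem_ker.1 hg) (⟨a, ha⟩ : A))
    simp only [hθ, MulAut.conjNormal_apply, MulAut.one_apply] at this
    exact (mul_inv_eq_iff_eq_mul.1 this).symm)
  haveI : IsCyclic θ.ker := isCyclic_of_injective (inclusion hker) (inclusion_injective hker)
  refine (index_frattini_ext hG θ).trans ?_
  refine (Nat.mul_le_mul ?_ (index_frattini_cyclic (hG.to_subgroup θ.ker))).trans (by norm_num : 4 * 2 ≤ 8)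
  have hext : ∀ φ ψ : MulAut A, φ g₀ = ψ g₀ → φ = ψ := fun φ ψ e => MulEquiv.ext fun a => by
    obtain ⟨i, rfl⟩ := mem_zpowers_iff.1 (hg₀ a)
    rw [map_zpow, map_zpow, e]
  refine (index_frattini_abelian (hG.of_surjective θ.rangeRestrict θ.rangeRestrict_surjective) fun φ ψ =>
    Subtype.ext (hext _ _ ?_)).trans ?_
  · obtain ⟨i, hi⟩ := mem_zpowers_iff.1 (hg₀ ((φ : MulAut A) g₀))
    obtain ⟨j, hj⟩ := mem_zpowers_iff.1 (hg₀ ((ψ : MulAut A) g₀))
    show (φ : MulAut A) ((ψ : MulAut A) g₀) = (ψ : MulAut A) ((φ : MulAut A) g₀)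
    rw [← hi, ← hj, map_zpow, map_zpow, ← hi, ← hj, ← zpow_mul, ← zpow_mul, mul_comm]
  · let T : Finset A := {g₀, g₀⁻¹, g₀ ^ ((2 : ℤ) ^ (k - 1) + 1), g₀ ^ ((2 : ℤ) ^ (k - 1) - 1)}
    have hmem : ∀ φ : {φ : θ.range // φ * φ = 1}, ((φ.1 : MulAut A) g₀) ∈ T := by
      rintro ⟨φ, hφ⟩
      obtain ⟨i, hi⟩ := mem_zpowers_iff.1 (hg₀ ((φ : MulAut A) g₀))
      have h2 : g₀ ^ (i * i) = g₀ := by
        have := congrArg (fun ψ : MulAut A => ψ g₀) (congrArg Subtype.val hφ)
        simp only [Subgroup.coe_mul, MulAut.mul_apply, OneMemClass.coe_one, MulAut.one_apply] at this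
        rw [← hi, map_zpow, ← hi, ← zpow_mul] at this
        exact this
      have h3 : ((2 : ℤ) ^ k) ∣ i * i - 1 := by
        have : g₀ ^ (i * i - 1) = 1 := by rw [zpow_sub, h2, zpow_one, mul_inv_cancel]
        have h4 := orderOf_dvd_iff_zpow_eq_one.2 this
        rw [hk] at h4
        exact_mod_cast h4
      have heq : ∀ t : ℤ, (2 : ℤ) ^ k ∣ i - t → g₀ ^ i = g₀ ^ t := fun t ht => by
        rw [zpow_eq_zpow_iff_modEq, hk]
        push_cast
        exact (Int.modEq_iff_dvd.2 ht).symm
      show (φ : MulAut A) g₀ ∈ T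
      rw [← hi]
      simp only [T, Finset.mem_insert, Finset.mem_singleton]
      rcases Nat.eq_zero_or_pos k with rfl | hk1
      · left
        conv_rhs => rw [← zpow_one g₀]
        exact heq 1 (by rw [pow_zero]; exact one_dvd _)
      rcases Cfsg.Lib.CyclicMax.sq_one_cases hk1 h3 with h | h | ⟨-, h | h⟩
      · left
        conv_rhs => rw [← zpow_one g₀]
        exact heq 1 h
      · right; left
        rw [← zpow_neg_one]
        exact heq (-1) (by rwa [sub_neg_eq_add])
      · right; right; left; exact heq _ h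
      · right; right; right; exact heq _ h
    refine (Nat.card_le_card_of_injective (fun φ => (⟨_, hmem φ⟩ : T)) fun a b e =>
      Subtype.ext (Subtype.ext (hext _ _ (congrArg Subtype.val e :)))).trans ?_
    rw [Nat.card_eq_fintype_card, Fintype.card_coe]
    exact Finset.card_le_four

/-- growth conditions on the exponent bound -/
def Growth (g : ℕ → ℕ) : Prop :=
  g 1 = 1 ∧ (∀ a b, 1 ≤ a → 1 ≤ b → g a + g b ≤ g (a + b)) ∧ (∀ l, 2 ≤ l → 2 * g l + 1 ≤ g (2 * l)) ∧
    ∀ k, 3 ≤ k → 3 ≤ g k

theorem main (hodd : ¬ 2 ∣ Fintype.card F) (g : ℕ → ℕ) (hg : Growth g)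
    (base : g 2 < 3 → ∀ (V : Type u) [AddCommGroup V] [Module F V] [FiniteDimensional F V], finrank F V = 2 →
      ∀ (G : Type u) [Group G] [Finite G], IsPGroup 2 G → ∀ ρ : G →* (V ≃ₗ[F] V), Function.Injective ρ →
        (frattini G).index ≤ 2 ^ g 2) :
    ∀ (n : ℕ) (V : Type u) [AddCommGroup V] [Module F V] [FiniteDimensional F V], finrank F V = n →
      ∀ (G : Type u) [Group G] [Finite G], IsPGroup 2 G → ∀ ρ : G →* (V ≃ₗ[F] V), Function.Injective ρ →
        (frattini G).index ≤ 2 ^ g n := by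
  haveI := Fact.mk Nat.prime_two
  obtain ⟨g1, gadd, gdbl, g3⟩ := hg
  intro n
  induction n using Nat.strong_induction_on with
  | _ n ih =>
  intro V _ _ _ hn G _ _ hG ρ hρ
  classical
  have hact : ∀ (a b : G) (v : V), ρ (a * b) v = ρ a (ρ b v) := fun a b v => by rw [map_mul]; rfl
  have hinj : ∀ a : G, (∀ v, ρ a v = v) → a = 1 := fun a h => hρ (by rw [map_one]; exact LinearEquiv.ext h)
  match n, hn with
  | 0, hn =>
    refine index_frattini_le_card.trans (le_trans (le_of_eq ?_) (Nat.one_le_two_pow))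
    haveI : Subsingleton V := Module.finrank_zero_iff.1 hn
    haveI : Subsingleton G := ⟨fun a b => hρ (LinearEquiv.ext fun v => Subsingleton.elim _ _)⟩
    exact Nat.card_of_subsingleton 1
  | 1, hn =>
    rw [g1, pow_one]
    obtain ⟨v, hv⟩ := (finrank_pos_iff_exists_ne_zero (R := F) (M := V)).1 (by omega)
    have hsc : ∀ a : G, ∃ c : F, ρ a v = c • v := fun a => (exists_smul_eq_of_finrank_eq_one hn hv (ρ a v)).imp fun _ h => h.symm
    choose c hc using hsc
    have hdet : ∀ a (u : V), ρ a u = c a • u := fun a u => by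
      obtain ⟨t, rfl⟩ := exists_smul_eq_of_finrank_eq_one hn hv u
      rw [map_smul, hc, smul_comm]
    let χ : G →* F :=
      { toFun := c
        map_one' := smul_left_injective F hv (show c 1 • v = (1 : F) • v by rw [← hc, map_one, one_smul]; rfl)
        map_mul' := fun a b => smul_left_injective F hv (show c (a * b) • v = (c a * c b) • v by
          rw [← hc, hact, hdet b, map_smul, hdet a, smul_smul, mul_comm]) }
    haveI : IsCyclic G := isCyclic_of_subgroup_isDomain χ fun a b e => hρ (LinearEquiv.ext fun u => by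
      rw [hdet, hdet]; exact congrArg (· • u) e)
    exact index_frattini_cyclic hG
  | n + 2, hn =>
    set N := n + 2 with hN
    by_cases hbase : N = 2 ∧ g 2 < 3
    · rw [hbase.1] at hn ⊢
      exact base hbase.2 V hn G hG ρ hρ
    have g3' : 3 ≤ g N := by
      rcases Nat.lt_or_ge N 3 with h | h
      · have e : N = 2 := by omega
        rw [e] at hbase ⊢; omega
      · exact g3 N h
    have gdbl' : ∀ l, 1 ≤ l → N = 2 * l → 2 * g l + 1 ≤ g N := fun l hl e => by
      rcases Nat.lt_or_ge l 2 with h | h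
      · obtain rfl : l = 1 := by omega
        rw [g1]; omega
      · rw [e]; exact gdbl l h
    by_cases hred : ∃ W : Submodule F V, W ≠ ⊥ ∧ W ≠ ⊤ ∧ ∀ a : G, ∀ w ∈ W, ρ a w ∈ W
    · obtain ⟨W, hWb, hWt, hW⟩ := hred
      obtain ⟨U, hU, hUi⟩ := Cfsg.Lib.SolvStruct.CrossChar.exists_invariant_compl (p := 2) hodd hG ρ hW
      have hdim := Submodule.finrank_add_eq_of_isCompl hU
      rw [hn] at hdim
      have h1 : 0 < finrank F W := Nat.pos_of_ne_zero fun h => hWb (Submodule.finrank_eq_zero.1 h)
      have h2 : finrank F W < N := hn ▸ Submodule.finrank_lt hWt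
      set σ := Cfsg.Lib.SolvStruct.CrossChar.restrict ρ W hW
      haveI : Finite σ.range := Finite.of_surjective σ.rangeRestrict σ.rangeRestrict_surjective
      refine (index_frattini_ext hG σ).trans ((Nat.mul_le_mul (ih _ h2 W rfl σ.range
        (hG.of_surjective σ.rangeRestrict σ.rangeRestrict_surjective) σ.range.subtype σ.range.subtype_injective)
        (ih (finrank F U) (by omega) U rfl σ.ker (hG.to_subgroup _)
          ((Cfsg.Lib.SolvStruct.CrossChar.restrict ρ U hUi).comp σ.ker.subtype) ?_)).trans ?_)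
      · refine (injective_iff_map_eq_one _).2 fun a ha => Subtype.ext (hinj _ fun v => ?_)
        obtain ⟨w, hw, u, hu, rfl⟩ := Submodule.mem_sup.1 (hU.sup_eq_top.ge (Submodule.mem_top (x := v)))
        rw [map_add]
        exact congrArg₂ (· + ·) (Cfsg.Lib.SolvStruct.CrossChar.restrict_fix ρ W hW a.2 hw)
          (Cfsg.Lib.SolvStruct.CrossChar.restrict_fix ρ U hUi (MonoidHom.mem_ker.2 ha) hu)
      · rw [← pow_add]
        exact Nat.pow_le_pow_right two_pos (hdim ▸ gadd _ _ h1 (by omega))
    push Not at hred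
    have hirr : ∀ W : Submodule F V, (∀ a : G, ∀ w ∈ W, ρ a w ∈ W) → W = ⊥ ∨ W = ⊤ := fun W hW => by
      by_contra hc
      rw [not_or] at hc
      obtain ⟨a, w, hw, hnot⟩ := hred W hc.1 hc.2
      exact hnot (hW a w hw)
    by_cases hall : ∀ A : Subgroup G, A.Normal → IsMulCommutative A → IsCyclic A
    · exact (index_frattini_primitive hG hall).trans (le_trans (by norm_num) (Nat.pow_le_pow_right two_pos g3'))
    push Not at hall
    obtain ⟨A, hAn, hAc, hAnc⟩ := hall
    haveI := hAn
    have hAcomm : ∀ a ∈ A, ∀ b ∈ A, a * b = b * a := fun a ha b hb =>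
      congrArg Subtype.val (mul_comm' (⟨a, ha⟩ : A) ⟨b, hb⟩)
    let E : Subgroup G :=
      { carrier := {a | a ∈ A ∧ a ^ 2 = 1}
        one_mem' := ⟨one_mem _, one_pow _⟩
        mul_mem' := fun {a b} ha hb => ⟨mul_mem ha.1 hb.1, by
          rw [(show Commute a b from hAcomm a ha.1 b hb.1).mul_pow, ha.2, hb.2, one_mul]⟩
        inv_mem' := fun {a} ha => ⟨inv_mem ha.1, by rw [inv_pow, ha.2, inv_one]⟩ }
    have hEn : E.Normal := ⟨fun a ha t => ⟨hAn.conj_mem a ha.1 t, by rw [conj_pow, ha.2, mul_one, mul_inv_cancel]⟩⟩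
    haveI := hEn
    have hA1 : A ≠ ⊥ := fun h => hAnc (by subst h; infer_instance)
    have hEne : E ≠ ⊥ := fun h => by
      obtain ⟨z, hzA, -, hzo⟩ := Cfsg.Lib.PGroups.exists_mem_center_of_normal_ne_bot hG hA1
      have hzE : z ∈ E := ⟨hzA, by rw [← hzo, pow_orderOf_eq_one]⟩
      rw [h, Subgroup.mem_bot] at hzE
      rw [hzE, orderOf_one] at hzo
      norm_num at hzo
    obtain ⟨z, hzE, hzc, hzo⟩ := Cfsg.Lib.PGroups.exists_mem_center_of_normal_ne_bot hG hEne
    set Z := zpowers z with hZ
    haveI hZn : Z.Normal := ⟨fun y hy t => by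
      obtain ⟨i, rfl⟩ := mem_zpowers_iff.1 hy
      rw [← conj_zpow, mem_center_iff.1 hzc t, mul_inv_cancel_right]
      exact zpow_mem (mem_zpowers _) i⟩
    have hEZ : ¬ E ≤ Z := fun hle => by
      refine hAnc (Cfsg.Lib.SolvStruct.CrossChar.isCyclic_of_omega (p := 2) (hG.to_subgroup A) fun S hS => ?_)
      refine le_trans ?_ (le_of_eq (show Nat.card Z = 2 by rw [hZ, Nat.card_zpowers, hzo]))
      exact Nat.card_le_card_of_injective (fun a : S => (⟨(a : A), hle ⟨(a : A).2, congrArg Subtype.val (hS a a.2)⟩⟩ : Z))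
        fun a b h => Subtype.ext (Subtype.ext (congrArg (fun t : Z => (t : G)) h))
    set π := QuotientGroup.mk' Z with hπ
    haveI : (E.map π).Normal := hEn.map π (QuotientGroup.mk'_surjective Z)
    obtain ⟨wb, hwbE, hwbc, hwbo⟩ := Cfsg.Lib.PGroups.exists_mem_center_of_normal_ne_bot (hG.to_quotient Z)
      (fun hb : E.map π = ⊥ => hEZ (by rwa [Subgroup.map_eq_bot_iff, hπ, QuotientGroup.ker_mk'] at hb))
    obtain ⟨w, hwE, rfl⟩ := hwbE
    have hwZ : w ∉ Z := fun h => by
      rw [show π w = 1 from (QuotientGroup.eq_one_iff w).2 h, orderOf_one] at hwbo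
      norm_num at hwbo
    have hz2 : z * z = 1 := by rw [← pow_two, ← hzo, pow_orderOf_eq_one]
    have hw2 : w * w = 1 := by rw [← pow_two]; exact hwE.2
    have hconjw : ∀ t : G, t * w * t⁻¹ = w ∨ t * w * t⁻¹ = w * z := fun t => by
      have h1 : π (w⁻¹ * (t * w * t⁻¹)) = 1 := by
        rw [map_mul, map_mul, map_mul, map_inv, map_inv, mem_center_iff.1 hwbc (π t)]; group
      obtain ⟨c, hc⟩ := mem_zpowers_iff.1 ((QuotientGroup.eq_one_iff _).1 h1)
      have hzz : z ^ (2 : ℤ) = 1 := by rw [zpow_two, hz2]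
      rcases Int.even_or_odd c with ⟨d, rfl⟩ | ⟨d, rfl⟩
      · left
        rw [← two_mul, zpow_mul, hzz, one_zpow] at hc
        exact (inv_mul_eq_one.1 hc.symm).symm
      · right
        rw [zpow_add, zpow_mul, hzz, one_zpow, one_mul, zpow_one] at hc
        rw [hc]; group
    have hzneg : ∀ v, ρ z v = -v := fun v => by
      let W : Submodule F V := LinearMap.ker ((ρ z).toLinearMap - LinearMap.id)
      have hWm : ∀ u, u ∈ W ↔ ρ z u = u := fun u => by simp [W, sub_eq_zero]
      have hW : W = ⊥ := by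
        refine (hirr W fun a u hu => ?_).resolve_right fun htop => ?_
        · rw [hWm] at hu ⊢
          rw [← hact, ← mem_center_iff.1 hzc a, hact, hu]
        · rw [hinj z fun u => (hWm u).1 (htop.ge Submodule.mem_top), orderOf_one] at hzo
          norm_num at hzo
      have : v + ρ z v ∈ W := by
        rw [hWm, map_add, ← hact, hz2, map_one]
        exact add_comm _ _
      rw [hW, Submodule.mem_bot] at this
      exact eq_neg_of_add_eq_zero_right this
    let V₀ : Submodule F V := LinearMap.ker ((ρ w).toLinearMap - LinearMap.id)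
    let V₁ : Submodule F V := LinearMap.ker ((ρ w).toLinearMap + LinearMap.id)
    have hV0 : ∀ u, u ∈ V₀ ↔ ρ w u = u := fun u => by simp [V₀, sub_eq_zero]
    have hV1 : ∀ u, u ∈ V₁ ↔ ρ w u = -u := fun u => by simp [V₁, eq_neg_iff_add_eq_zero]
    have h2F : (2 : F) ≠ 0 := fun h => hodd (by
      obtain ⟨c, hchar⟩ := CharP.exists F
      haveI := hchar
      obtain ⟨d, hcp, hcd⟩ := FiniteField.card F c
      have h' : ((2 : ℕ) : F) = 0 := by exact_mod_cast h
      rw [hcd, (Nat.prime_dvd_prime_iff_eq hcp Nat.prime_two).1 ((CharP.cast_eq_zero_iff F c 2).1 h')]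
      exact dvd_pow_self 2 d.ne_zero)
    have hdec : ∀ v : V, ∃ a ∈ V₀, ∃ b ∈ V₁, a + b = v := fun v => by
      have hww : ρ w (ρ w v) = v := by rw [← hact, hw2, map_one]; rfl
      refine ⟨(2 : F)⁻¹ • (v + ρ w v), ?_, (2 : F)⁻¹ • (v - ρ w v), ?_, ?_⟩
      · rw [hV0, map_smul, map_add, hww, add_comm]
      · rw [hV1, map_smul, map_sub, hww, ← smul_neg, neg_sub]
      · rw [← smul_add, show v + ρ w v + (v - ρ w v) = (2 : F) • v by rw [two_smul]; abel, smul_smul, inv_mul_cancel₀ h2F, one_smul]
    have hdis : V₀ ⊓ V₁ = ⊥ := (Submodule.eq_bot_iff _).2 fun v hv => by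
      have h1 := (hV0 v).1 hv.1
      rw [(hV1 v).1 hv.2, neg_eq_iff_add_eq_zero, ← two_smul F, smul_eq_zero] at h1
      exact h1.resolve_left h2F
    -- the centralizer of `w`
    let Q : Subgroup G :=
      { carrier := {t | t * w * t⁻¹ = w}
        one_mem' := by simp
        mul_mem' := fun {a b} (ha : a * w * a⁻¹ = w) (hb : b * w * b⁻¹ = w) =>
          show a * b * w * (a * b)⁻¹ = w by
            calc a * b * w * (a * b)⁻¹ = a * (b * w * b⁻¹) * a⁻¹ := by group
              _ = w := by rw [hb, ha]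
        inv_mem' := fun {a} (ha : a * w * a⁻¹ = w) => show a⁻¹ * w * a⁻¹⁻¹ = w by
          conv_lhs => rw [← ha]
          group }
    have hQ0 : ∀ a : Q, ∀ u ∈ V₀, (ρ.comp Q.subtype) a u ∈ V₀ := fun a u hu => by
      rw [hV0] at hu ⊢
      show ρ w (ρ a u) = ρ a u
      rw [← hact, ← (mul_inv_eq_iff_eq_mul.1 a.2), hact, hu]
    have hQ1 : ∀ a : Q, ∀ u ∈ V₁, (ρ.comp Q.subtype) a u ∈ V₁ := fun a u hu => by
      rw [hV1] at hu ⊢
      show ρ w (ρ a u) = -ρ a u
      rw [← hact, ← (mul_inv_eq_iff_eq_mul.1 a.2), hact, hu, map_neg]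
    obtain ⟨t, ht⟩ : ∃ t : G, t * w * t⁻¹ = w * z := by
      by_contra! hno
      have hQall : ∀ a : G, a ∈ Q := fun a => (hconjw a).resolve_right (hno a)
      have hall0 : ∀ a : G, ∀ u ∈ V₀, ρ a u ∈ V₀ := fun a => hQ0 ⟨a, hQall a⟩
      rcases hirr V₀ hall0 with h | h
      · refine hwZ ?_
        have : w = z := hρ (LinearEquiv.ext fun v => by
          obtain ⟨a, ha, b, hb, rfl⟩ := hdec v
          rw [h, Submodule.mem_bot] at ha
          rw [ha, zero_add, (hV1 b).1 hb, hzneg])
        rw [this]; exact mem_zpowers z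
      · refine hwZ ?_
        rw [hinj w fun v => (hV0 v).1 (h.ge Submodule.mem_top)]
        exact one_mem _
    have hswap0 : ∀ u ∈ V₀, ρ t u ∈ V₁ := fun u hu => by
      rw [hV0] at hu; rw [hV1]
      have h1 : ρ (t * w) u = ρ (w * z * t) u := by rw [← ht]; group
      rw [hact, hu, hact, hact, hzneg, map_neg] at h1
      exact (neg_eq_iff_eq_neg.1 h1.symm)
    have hswap1 : ∀ u ∈ V₁, ρ t u ∈ V₀ := fun u hu => by
      rw [hV1] at hu; rw [hV0]
      have h1 : ρ (t * w) u = ρ (w * z * t) u := by rw [← ht]; group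
      rw [hact, hu, hact, hact, hzneg, map_neg, map_neg, neg_inj] at h1
      exact h1.symm
    have hQidx : Q.index ≤ 2 := by
      have : ∀ a b : G, a ∉ Q → b ∉ Q → a⁻¹ * b ∈ Q := fun a b ha hb => by
        have h1 := (hconjw a).resolve_left ha
        have h2 := (hconjw b).resolve_left hb
        show a⁻¹ * b * w * (a⁻¹ * b)⁻¹ = w
        calc a⁻¹ * b * w * (a⁻¹ * b)⁻¹ = a⁻¹ * (b * w * b⁻¹) * a := by group
          _ = a⁻¹ * (a * w * a⁻¹) * a := by rw [h1, h2]
          _ = w := by group
      rw [index_eq_card]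
      refine le_trans (Nat.card_le_card_of_surjective (fun b : Bool => (QuotientGroup.mk (if b then t else 1) : G ⧸ Q)) fun x => ?_) (le_of_eq (by simp))
      obtain ⟨x, rfl⟩ := QuotientGroup.mk_surjective x
      by_cases hx : x ∈ Q
      · exact ⟨false, QuotientGroup.eq.2 (by simpa using hx)⟩
      · refine ⟨true, QuotientGroup.eq.2 (this t x (fun htQ => hwZ ?_) hx)⟩
        exfalso
        have h1 : w = w * z := (htQ : t * w * t⁻¹ = w).symm.trans ht
        rw [left_eq_mul] at h1
        rw [h1, orderOf_one] at hzo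
        norm_num at hzo
    haveI hQn : Q.Normal := by
      rcases Nat.lt_or_ge Q.index 2 with h | h
      · have : Q.index = 1 := by have := Nat.pos_of_ne_zero (index_ne_zero_of_finite (H := Q)); omega
        rw [index_eq_one.1 this]; infer_instance
      · exact normal_of_index_eq_two (by omega)
    have hl : finrank F V₀ = finrank F V₁ := le_antisymm
      (LinearMap.finrank_le_finrank_of_injective (f := LinearMap.codRestrict V₁ ((ρ t).toLinearMap.comp V₀.subtype) fun u => hswap0 u u.2)
        fun a b h => Subtype.ext ((ρ t).injective (congrArg Subtype.val h :)))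
      (LinearMap.finrank_le_finrank_of_injective (f := LinearMap.codRestrict V₀ ((ρ t).toLinearMap.comp V₁.subtype) fun u => hswap1 u u.2)
        fun a b h => Subtype.ext ((ρ t).injective (congrArg Subtype.val h :)))
    have hdim : finrank F V₀ + finrank F V₁ = N := by
      rw [← hn, Submodule.finrank_add_eq_of_isCompl ⟨disjoint_iff.2 hdis, codisjoint_iff.2 (eq_top_iff.2 fun v _ => Submodule.mem_sup.2 (hdec v))⟩]
    set σ := Cfsg.Lib.SolvStruct.CrossChar.restrict (ρ.comp Q.subtype) V₀ hQ0
    haveI : Finite σ.range := Finite.of_surjective σ.rangeRestrict σ.rangeRestrict_surjective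
    have hQb : (frattini Q).index ≤ 2 ^ g (finrank F V₀) * 2 ^ g (finrank F V₀) := by
      refine (index_frattini_ext (hG.to_subgroup Q) σ).trans (Nat.mul_le_mul
        (ih _ (by omega) V₀ rfl σ.range ((hG.to_subgroup Q).of_surjective σ.rangeRestrict σ.rangeRestrict_surjective)
          σ.range.subtype σ.range.subtype_injective)
        (hl ▸ ih (finrank F V₁) (by omega) V₁ rfl σ.ker ((hG.to_subgroup Q).to_subgroup _)
          ((Cfsg.Lib.SolvStruct.CrossChar.restrict (ρ.comp Q.subtype) V₁ hQ1).comp σ.ker.subtype) ?_))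
      refine (injective_iff_map_eq_one _).2 fun a ha => Subtype.ext (Subtype.ext (hinj _ fun v => ?_))
      obtain ⟨u, hu, u', hu', rfl⟩ := hdec v
      rw [map_add]
      exact congrArg₂ (· + ·) (Cfsg.Lib.SolvStruct.CrossChar.restrict_fix _ V₀ hQ0 a.2 hu)
        (Cfsg.Lib.SolvStruct.CrossChar.restrict_fix _ V₁ hQ1 (MonoidHom.mem_ker.2 ha) hu')
    have hGb : (frattini G).index ≤ 2 * (frattini Q).index := by
      have h1 : (frattini (QuotientGroup.mk' Q).ker).index = (frattini Q).index := by rw [QuotientGroup.ker_mk']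
      refine (index_frattini_ext hG (QuotientGroup.mk' Q)).trans ?_
      rw [h1]
      refine Nat.mul_le_mul_right _ (index_frattini_le_card.trans ?_)
      refine (Nat.card_le_card_of_injective _ Subtype.val_injective).trans ?_
      rwa [← index_eq_card]
    refine hGb.trans ((Nat.mul_le_mul_left 2 hQb).trans ?_)
    rw [← pow_add, ← pow_succ']
    refine Nat.pow_le_pow_right two_pos ?_
    have := gdbl' (finrank F V₀) (by omega) (by omega)
    omega

end Cfsg.Lib.SolvStruct.TwoRank

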