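import Mathlib
import Cfsg.Prelude
import Cfsg.Agent.Components.Cores

/-!
The behaviour of the upper `p`-series under surjective homomorphisms.
-/

set_option linter.style.haveILetI false
set_option linter.unusedSectionVars false

namespace Cfsg.Lib.PLengthSeries

open Subgroup

universe u v

variable {G : Type u} [Group G] [Finite G] {H : Type v} [Group H] [Finite H] {p : ℕ}

theorem map_pCore_le (f : G →* H) (hf : Function.Surjective f) :
    (Cfsg.pCore p G).map f ≤ Cfsg.pCore p H := by
  haveI := Subgroup.Normal.map (Cfsg.Lib.Components.pCore_normal' (G := G) p) f hf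
  exact Cfsg.Lib.Components.le_pCore ((Cfsg.Lib.Components.isPGroup_pCore p).map f)

theorem map_pPrimeCore_le (f : G →* H) (hf : Function.Surjective f) :
    (Cfsg.pPrimeCore p G).map f ≤ Cfsg.pPrimeCore p H := by
  haveI := Subgroup.Normal.map (Cfsg.Lib.Components.pPrimeCore_normal' (G := G) p) f hf
  exact Cfsg.Lib.Components.le_pPrimeCore
    (Nat.Coprime.coprime_dvd_left (card_map_dvd _ f) (Cfsg.Lib.Components.coprime_card_pPrimeCore p))

/-- One step of the series. -/
theorem map_step_le (f : G →* H) (hf : Function.Surjective f) {a b : ℕ} (hab : Even a ↔ Even b)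
    (h : (Cfsg.upperPSeries p G a).1.map f ≤ (Cfsg.upperPSeries p H b).1) :
    (Cfsg.upperPSeries p G (a + 1)).1.map f ≤ (Cfsg.upperPSeries p H (b + 1)).1 := by
  haveI := (Cfsg.upperPSeries p G a).2
  haveI := (Cfsg.upperPSeries p H b).2
  set φ := QuotientGroup.map (Cfsg.upperPSeries p G a).1 (Cfsg.upperPSeries p H b).1 f (map_le_iff_le_comap.1 h) with hφ
  have hφs : Function.Surjective φ := by
    intro y
    obtain ⟨y, rfl⟩ := QuotientGroup.mk_surjective y
    obtain ⟨x, rfl⟩ := hf y
    exact ⟨QuotientGroup.mk x, rfl⟩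
  rintro _ ⟨x, hx, rfl⟩
  rw [Cfsg.upperPSeries] at hx ⊢
  by_cases ha : Even a
  · rw [if_pos ha] at hx; rw [if_pos (hab.1 ha)]
    exact map_pPrimeCore_le φ hφs ⟨_, hx, rfl⟩
  · rw [if_neg ha] at hx; rw [if_neg (fun hb => ha (hab.2 hb))]
    exact map_pCore_le φ hφs ⟨_, hx, rfl⟩

theorem map_le (f : G →* H) (hf : Function.Surjective f) (n : ℕ) :
    (Cfsg.upperPSeries p G n).1.map f ≤ (Cfsg.upperPSeries p H n).1 := by
  induction n with
  | zero => simp [Cfsg.upperPSeries]
  | succ n ih => exact map_step_le f hf Iff.rfl ih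

theorem map_shift_le (f : G →* H) (hf : Function.Surjective f)
    (hker : (Cfsg.upperPSeries p G 2).1 ≤ f.ker) (n : ℕ) :
    (Cfsg.upperPSeries p G (n + 2)).1.map f ≤ (Cfsg.upperPSeries p H n).1 := by
  induction n with
  | zero =>
    rw [(Subgroup.map_eq_bot_iff _).2 hker]
    exact bot_le
  | succ n ih => exact map_step_le f hf (by simp [Nat.even_add]) ih

theorem pLengthLE_map (f : G →* H) (hf : Function.Surjective f) {k : ℕ} (h : Cfsg.PLengthLE p k G) :
    Cfsg.PLengthLE p k H := by
  have h1 := map_le (p := p) f hf (2 * k + 1)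
  rw [show (Cfsg.upperPSeries p G (2 * k + 1)).1 = ⊤ from h, map_top_of_surjective f hf] at h1
  exact top_le_iff.1 h1

theorem pLengthLE_map_pred (f : G →* H) (hf : Function.Surjective f)
    (hker : (Cfsg.upperPSeries p G 2).1 ≤ f.ker) {k : ℕ} (h : Cfsg.PLengthLE p (k + 1) G) :
    Cfsg.PLengthLE p k H := by
  have h1 := map_shift_le (p := p) f hf hker (2 * k + 1)
  rw [show (Cfsg.upperPSeries p G (2 * k + 1 + 2)).1 = ⊤ from h, map_top_of_surjective f hf] at h1
  exact top_le_iff.1 h1

theorem series_one : (Cfsg.upperPSeries p G 1).1 = Cfsg.pPrimeCore p G := by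
  haveI := (Cfsg.upperPSeries p G 0).2
  rw [Cfsg.upperPSeries, if_pos (by decide)]
  refine le_antisymm ?_ ?_
  · let e : G ⧸ (Cfsg.upperPSeries p G 0).1 ≃* G := QuotientGroup.quotientBot
    intro x hx
    have := map_pPrimeCore_le e.toMonoidHom e.surjective ⟨_, hx, rfl⟩
    exact this
  · exact map_le_iff_le_comap.1 (map_pPrimeCore_le _ (QuotientGroup.mk'_surjective _))

theorem series_two_le (h : Cfsg.pPrimeCore p G = ⊥) : (Cfsg.upperPSeries p G 2).1 ≤ Cfsg.pCore p G := by
  haveI := (Cfsg.upperPSeries p G 1).2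
  rw [Cfsg.upperPSeries, if_neg (by decide)]
  have h1 : (Cfsg.upperPSeries p G 1).1 = ⊥ := series_one.trans h
  let e : G ⧸ (Cfsg.upperPSeries p G 1).1 ≃* G :=
    (QuotientGroup.quotientMulEquivOfEq h1).trans QuotientGroup.quotientBot
  intro x hx
  have := map_pCore_le e.toMonoidHom e.surjective ⟨_, hx, rfl⟩
  exact this

theorem pLengthLE_zero_iff : Cfsg.PLengthLE p 0 G ↔ (Nat.card G).Coprime p := by
  show (Cfsg.upperPSeries p G 1).1 = ⊤ ↔ _
  rw [series_one]
  constructor
  · intro h
    have := Cfsg.Lib.Components.coprime_card_pPrimeCore (G := G) p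
    rwa [h, card_top] at this
  · intro h
    exact top_le_iff.1 (Cfsg.Lib.Components.le_pPrimeCore (by rwa [card_top]))

/-- A normal subgroup whose image modulo an even term is a `p'`-group lies in the next term. -/
theorem le_succ_of_coprime {a : ℕ} (ha : Even a) {X : Subgroup G} [X.Normal]
    (h : ((Cfsg.upperPSeries p G a).1.relIndex X).Coprime p) : X ≤ (Cfsg.upperPSeries p G (a + 1)).1 := by
  haveI := (Cfsg.upperPSeries p G a).2
  rw [Cfsg.upperPSeries, if_pos ha]
  have hs := QuotientGroup.mk'_surjective (Cfsg.upperPSeries p G a).1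
  haveI := Subgroup.Normal.map ‹X.Normal› _ hs
  refine map_le_iff_le_comap.1 (Cfsg.Lib.Components.le_pPrimeCore ?_)
  rwa [← Subgroup.relIndex_ker, QuotientGroup.ker_mk']

/-- A normal subgroup whose image modulo an odd term is a `p`-group lies in the next term. -/
theorem le_succ_of_pow [Fact p.Prime] {a : ℕ} (ha : ¬ Even a) {X : Subgroup G} [X.Normal]
    (h : ∃ m, (Cfsg.upperPSeries p G a).1.relIndex X = p ^ m) : X ≤ (Cfsg.upperPSeries p G (a + 1)).1 := by
  haveI := (Cfsg.upperPSeries p G a).2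
  rw [Cfsg.upperPSeries, if_neg ha]
  have hs := QuotientGroup.mk'_surjective (Cfsg.upperPSeries p G a).1
  haveI := Subgroup.Normal.map ‹X.Normal› _ hs
  obtain ⟨m, hm⟩ := h
  refine map_le_iff_le_comap.1 (Cfsg.Lib.Components.le_pCore (IsPGroup.of_card (n := m) ?_))
  rwa [← Subgroup.relIndex_ker, QuotientGroup.ker_mk']

theorem series_le_succ [Fact p.Prime] (a : ℕ) :
    (Cfsg.upperPSeries p G a).1 ≤ (Cfsg.upperPSeries p G (a + 1)).1 := by
  haveI := (Cfsg.upperPSeries p G a).2
  by_cases ha : Even a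
  · exact le_succ_of_coprime ha (by rw [relIndex_self]; exact Nat.coprime_one_left p)
  · exact le_succ_of_pow ha ⟨0, by rw [relIndex_self, pow_zero]⟩

theorem relIndex_succ_even {a : ℕ} (ha : Even a) :
    ((Cfsg.upperPSeries p G a).1.relIndex (Cfsg.upperPSeries p G (a + 1)).1).Coprime p := by
  haveI := (Cfsg.upperPSeries p G a).2
  rw [Cfsg.upperPSeries, if_pos ha]
  nth_rewrite 1 [← QuotientGroup.ker_mk' (Cfsg.upperPSeries p G a).1]
  rw [Subgroup.relIndex_ker, map_comap_eq_self_of_surjective (QuotientGroup.mk'_surjective _)]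
  exact Cfsg.Lib.Components.coprime_card_pPrimeCore p

theorem relIndex_succ_odd [Fact p.Prime] {a : ℕ} (ha : ¬ Even a) :
    ∃ m, (Cfsg.upperPSeries p G a).1.relIndex (Cfsg.upperPSeries p G (a + 1)).1 = p ^ m := by
  haveI := (Cfsg.upperPSeries p G a).2
  rw [Cfsg.upperPSeries, if_neg ha]
  nth_rewrite 1 [← QuotientGroup.ker_mk' (Cfsg.upperPSeries p G a).1]
  rw [Subgroup.relIndex_ker, map_comap_eq_self_of_surjective (QuotientGroup.mk'_surjective _)]
  exact IsPGroup.iff_card.1 (Cfsg.Lib.Components.isPGroup_pCore p)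

/-- One step of the series, pulled back along any homomorphism. -/
theorem comap_step_le [Fact p.Prime] (f : G →* H) {a b : ℕ} (hab : Even a ↔ Even b)
    (h : (Cfsg.upperPSeries p H b).1.comap f ≤ (Cfsg.upperPSeries p G a).1) :
    (Cfsg.upperPSeries p H (b + 1)).1.comap f ≤ (Cfsg.upperPSeries p G (a + 1)).1 := by
  haveI := (Cfsg.upperPSeries p H (b + 1)).2
  set X := (Cfsg.upperPSeries p H (b + 1)).1.comap f with hX
  have hd : (Cfsg.upperPSeries p G a).1.relIndex X ∣
      (Cfsg.upperPSeries p H b).1.relIndex (Cfsg.upperPSeries p H (b + 1)).1 := by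
    refine (relIndex_dvd_of_le_left _ h).trans ?_
    rw [hX, Subgroup.relIndex_comap]
    haveI := (Cfsg.upperPSeries p H b).2
    rw [← QuotientGroup.ker_mk' (Cfsg.upperPSeries p H b).1, Subgroup.relIndex_ker, Subgroup.relIndex_ker]
    exact card_dvd_of_le (Subgroup.map_mono (map_comap_le f _))
  by_cases ha : Even a
  · exact le_succ_of_coprime ha (Nat.Coprime.coprime_dvd_left hd (relIndex_succ_even (hab.1 ha)))
  · obtain ⟨m, hm⟩ := relIndex_succ_odd (p := p) (G := H) (fun hb => ha (hab.2 hb))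
    rw [hm] at hd
    obtain ⟨k, -, hk⟩ := (Nat.dvd_prime_pow Fact.out).1 hd
    exact le_succ_of_pow ha ⟨k, hk⟩

theorem comap_le_of_injective [Fact p.Prime] (f : G →* H) (hf : Function.Injective f) (n : ℕ) :
    (Cfsg.upperPSeries p H n).1.comap f ≤ (Cfsg.upperPSeries p G n).1 := by
  induction n with
  | zero => simp [Cfsg.upperPSeries, f.ker_eq_bot_iff.2 hf]
  | succ n ih => exact comap_step_le f Iff.rfl ih

theorem pLengthLE_of_injective [Fact p.Prime] (f : G →* H) (hf : Function.Injective f) {k : ℕ}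
    (h : Cfsg.PLengthLE p k H) : Cfsg.PLengthLE p k G := by
  have h1 := comap_le_of_injective (p := p) f hf (2 * k + 1)
  rw [show (Cfsg.upperPSeries p H (2 * k + 1)).1 = ⊤ from h, comap_top] at h1
  exact top_le_iff.1 h1

instance series_characteristic (n : ℕ) : (Cfsg.upperPSeries p G n).1.Characteristic :=
  characteristic_iff_map_le.2 fun e => map_le e.toMonoidHom e.surjective n

theorem series_map_subtype_le [Fact p.Prime] (N : Subgroup G) [N.Normal] (n : ℕ) :
    (Cfsg.upperPSeries p N n).1.map N.subtype ≤ (Cfsg.upperPSeries p G n).1 := by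
  induction n with
  | zero => simp [Cfsg.upperPSeries]
  | succ n ih =>
    haveI : ((Cfsg.upperPSeries p N (n + 1)).1.map N.subtype).Normal := ConjAct.normal_of_characteristic_of_normal
    have hd : (Cfsg.upperPSeries p G n).1.relIndex ((Cfsg.upperPSeries p N (n + 1)).1.map N.subtype) ∣
        (Cfsg.upperPSeries p N n).1.relIndex (Cfsg.upperPSeries p N (n + 1)).1 := by
      refine (relIndex_dvd_of_le_left _ ih).trans ?_
      rw [relIndex_map_map_of_injective _ _ N.subtype_injective]
    by_cases ha : Even n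
    · exact le_succ_of_coprime ha (Nat.Coprime.coprime_dvd_left hd (relIndex_succ_even ha))
    · obtain ⟨m, hm⟩ := relIndex_succ_odd (p := p) (G := N) ha
      rw [hm] at hd
      obtain ⟨k, -, hk⟩ := (Nat.dvd_prime_pow Fact.out).1 hd
      exact le_succ_of_pow ha ⟨k, hk⟩

/-- The `p`-length is subadditive. -/
theorem pLengthLE_extend [Fact p.Prime] (f : G →* H) {a b : ℕ}
    (ha : Cfsg.PLengthLE p a f.ker) (hb : Cfsg.PLengthLE p b H) : Cfsg.PLengthLE p (a + b) G := by
  have hN : f.ker ≤ (Cfsg.upperPSeries p G (2 * a + 1)).1 := by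
    have h1 := series_map_subtype_le (p := p) f.ker (2 * a + 1)
    rw [show (Cfsg.upperPSeries p f.ker (2 * a + 1)).1 = ⊤ from ha, ← MonoidHom.range_eq_map,
      Subgroup.range_subtype] at h1
    exact h1
  haveI := (Cfsg.upperPSeries p H 1).2
  set A := (Cfsg.upperPSeries p G (2 * a)).1
  set C := (Cfsg.upperPSeries p G (2 * a + 1)).1
  set X := (Cfsg.upperPSeries p H 1).1.comap f with hX
  haveI := (Cfsg.upperPSeries p G (2 * a)).2
  haveI := (Cfsg.upperPSeries p G (2 * a + 1)).2
  have hstart : X ≤ C := by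
    refine le_succ_of_coprime ⟨a, two_mul a⟩ ?_
    have h1 : A.relIndex X ∣ A.relIndex (X ⊔ C) := by
      rw [← QuotientGroup.ker_mk' A, Subgroup.relIndex_ker, Subgroup.relIndex_ker]
      exact card_dvd_of_le (Subgroup.map_mono le_sup_left)
    rw [← relIndex_mul_relIndex A C (X ⊔ C) (series_le_succ _) le_sup_right, relIndex_sup_right] at h1
    refine Nat.Coprime.coprime_dvd_left h1 (Nat.Coprime.mul_left (relIndex_succ_even ⟨a, two_mul a⟩) ?_)
    refine Nat.Coprime.coprime_dvd_left (relIndex_dvd_of_le_left _ hN) ?_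
    rw [Subgroup.relIndex_ker, hX]
    refine Nat.Coprime.coprime_dvd_left (card_dvd_of_le (map_comap_le f _)) ?_
    rw [series_one]
    exact Cfsg.Lib.Components.coprime_card_pPrimeCore p
  have key : ∀ j, (Cfsg.upperPSeries p H (j + 1)).1.comap f ≤ (Cfsg.upperPSeries p G (2 * a + 1 + j)).1 := by
    intro j
    induction j with
    | zero => exact hstart
    | succ j ih => exact comap_step_le f (by show Even (2 * a + 1 + j) ↔ Even (j + 1); rw [Nat.even_iff, Nat.even_iff]; omega) ih
  have h2 := key (2 * b)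
  rw [show (Cfsg.upperPSeries p H (2 * b + 1)).1 = ⊤ from hb, comap_top, top_le_iff] at h2
  show (Cfsg.upperPSeries p G (2 * (a + b) + 1)).1 = ⊤
  rw [show 2 * (a + b) + 1 = 2 * a + 1 + 2 * b by ring]
  exact h2

theorem pLengthLE_one_of_isPGroup [Fact p.Prime] (h : IsPGroup p G) : Cfsg.PLengthLE p 1 G := by
  refine top_le_iff.1 (le_trans ?_ (series_le_succ 2))
  obtain ⟨m, hm⟩ := IsPGroup.iff_card.1 h
  obtain ⟨k, -, hk⟩ := (Nat.dvd_prime_pow Fact.out).1 (hm ▸ relIndex_top_right (Cfsg.upperPSeries p G 1).1 ▸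
    (Cfsg.upperPSeries p G 1).1.index_dvd_card)
  exact le_succ_of_pow (by decide) ⟨k, hk⟩

end Cfsg.Lib.PLengthSeries
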