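/-
Wielandt's theorem: in a finite group the join of two subnormal subgroups is subnormal.
-/
import Mathlib

set_option linter.style.haveILetI false
set_option linter.unusedSectionVars false

namespace Cfsg.Lib.SolvStruct

open Subgroup

universe u

variable {G : Type u} [Group G]

/-- The intersection of the conjugates of `L` by the elements of `B`. -/
def coreIn (L B : Subgroup G) : Subgroup G := ⨅ b : B, L.map (MulAut.conj (b : G)).toMonoidHom

theorem mem_coreIn {L B : Subgroup G} {x : G} : x ∈ coreIn L B ↔ ∀ b ∈ B, b⁻¹ * x * b ∈ L := by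
  simp only [coreIn, mem_iInf, mem_map, MulEquiv.coe_toMonoidHom, MulAut.conj_apply, Subtype.forall]
  constructor
  · intro h b hb
    obtain ⟨y, hy, hyx⟩ := h b hb
    rw [← hyx]
    simpa [mul_assoc] using hy
  · intro h b hb
    exact ⟨_, h b hb, by group⟩

theorem coreIn_mono {L M B : Subgroup G} (h : L ≤ M) : coreIn L B ≤ coreIn M B :=
  fun _ hx => mem_coreIn.2 fun b hb => h (mem_coreIn.1 hx b hb)

theorem le_normalizer_coreIn [Finite G] (L B : Subgroup G) :
    B ≤ normalizer (coreIn L B : Set G) := fun c hc => by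
  refine mem_normalizer_iff.2 fun x => ⟨fun hx => mem_coreIn.2 fun b hb => ?_, fun hx => mem_coreIn.2 fun b hb => ?_⟩
  · have := mem_coreIn.1 hx (c⁻¹ * b) (mul_mem (inv_mem hc) hb)
    simpa [mul_assoc] using this
  · have := mem_coreIn.1 hx (c * b) (mul_mem hc hb)
    simpa [mul_assoc] using this

theorem coreIn_eq_self [Finite G] {A B : Subgroup G} (h : B ≤ normalizer (A : Set G)) :
    coreIn A B = A := by
  refine le_antisymm (fun x hx => ?_) (fun x hx => mem_coreIn.2 fun b hb => ?_)
  · simpa using mem_coreIn.1 hx 1 (one_mem B)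
  · exact (mem_normalizer_iff''.1 (h hb) x).1 hx

/-- The join of a subnormal subgroup with a normalised subnormal one. -/
theorem isSubnormal_coreIn_sup [Finite G] {L : Subgroup G} (hL : L.IsSubnormal) {B : Subgroup G}
    (hB : B.IsSubnormal) : (coreIn L B ⊔ B).IsSubnormal := by
  induction hL with
  | top =>
    have : coreIn (⊤ : Subgroup G) B = ⊤ := eq_top_iff.2 fun x _ => mem_coreIn.2 fun b _ => mem_top _
    rw [this, top_sup_eq]
    exact IsSubnormal.top
  | step H K hle _ hN ih =>
    rw [normal_subgroupOf_iff_le_normalizer hle] at hN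
    set M := coreIn K B ⊔ B
    set N := coreIn H B
    have hNM : N ≤ M := (coreIn_mono hle).trans le_sup_left
    have hMN : M ≤ normalizer (N : Set G) := by
      refine sup_le (fun x hx => ?_) (le_normalizer_coreIn H B)
      have hxb : ∀ b ∈ B, ∀ y, b⁻¹ * y * b ∈ H ↔ b⁻¹ * (x * y * x⁻¹) * b ∈ H := by
        intro b hb y
        have h1 := mem_normalizer_iff.1 (hN (mem_coreIn.1 hx b hb)) (b⁻¹ * y * b)
        rwa [show b⁻¹ * x * b * (b⁻¹ * y * b) * (b⁻¹ * x * b)⁻¹ = b⁻¹ * (x * y * x⁻¹) * b by group]
          at h1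
      refine mem_normalizer_iff.2 fun y => ⟨fun hy => mem_coreIn.2 fun b hb => ?_,
        fun hy => mem_coreIn.2 fun b hb => ?_⟩
      · exact (hxb b hb y).1 (mem_coreIn.1 hy b hb)
      · exact (hxb b hb y).2 (mem_coreIn.1 hy b hb)
    haveI : (N.subgroupOf M).Normal := normal_subgroupOf_of_le_normalizer hMN
    refine IsSubnormal.trans (sup_le hNM le_sup_right) ?_ ih
    rw [subgroupOf_sup hNM le_sup_right]
    have h2 := ((hB.subgroupOf (K := M)).quotient (K := N.subgroupOf M)).comap
      (QuotientGroup.mk' (N.subgroupOf M))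
    rwa [comap_map_eq, QuotientGroup.ker_mk', sup_comm] at h2

theorem isSubnormal_sup_aux : ∀ (n : ℕ) {G : Type u} [Group G] [Finite G], Nat.card G = n →
    ∀ A B : Subgroup G, A.IsSubnormal → B.IsSubnormal → (A ⊔ B).IsSubnormal := by
  intro n
  induction n using Nat.strong_induction_on with
  | _ n ih =>
    intro G _ _ hn A B hA hB
    revert hA
    induction A using (IsWellFounded.wf (r := ((· > ·) : Subgroup G → Subgroup G → Prop))).induction with
    | _ A ihA => ?_
    intro hA
    rcases hA.lt_normal with rfl | ⟨K, hK, hAK, hKlt⟩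
    · rw [top_sup_eq]; exact IsSubnormal.top
    have hKn : Nat.card K < n := by
      rw [← hn, ← Nat.card_congr (Subgroup.topEquiv (G := G)).toEquiv]
      by_contra hc
      exact hKlt.ne (eq_of_le_of_card_ge le_top (not_lt.1 hc))
    classical
    haveI := Fintype.ofFinite B
    set C : Subgroup G := Finset.univ.sup fun b : B => A.map (MulAut.conj (b : G)).toMonoidHom with hC
    have hCsub : C ≤ K ∧ C.IsSubnormal := by
      refine Finset.sup_induction (p := fun X => X ≤ K ∧ X.IsSubnormal) ⟨bot_le, IsSubnormal.bot⟩ ?_ ?_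
      · rintro X ⟨hX, hXs⟩ Y ⟨hY, hYs⟩
        refine ⟨sup_le hX hY, IsSubnormal.trans (sup_le hX hY) ?_ hK.isSubnormal⟩
        rw [subgroupOf_sup hX hY]
        exact ih _ hKn rfl _ _ hXs.subgroupOf hYs.subgroupOf
      · intro b _
        refine ⟨?_, hA.map (MulAut.conj (b : G)).surjective⟩
        rintro _ ⟨x, hx, rfl⟩
        exact hK.conj_mem x (hAK hx) b
    have hAC : A ≤ C := fun x hx =>
      Finset.le_sup (f := fun b : B => A.map (MulAut.conj (b : G)).toMonoidHom) (Finset.mem_univ 1)
        ⟨x, hx, by simp⟩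
    have hCle : C ≤ A ⊔ B := by
      refine Finset.sup_le fun b _ => ?_
      rintro _ ⟨x, hx, rfl⟩
      exact mul_mem (mul_mem (mem_sup_right b.2) (mem_sup_left hx)) (inv_mem (mem_sup_right b.2))
    rcases hAC.lt_or_eq with hlt | heq
    · have := ihA C hlt hCsub.2
      rwa [le_antisymm (sup_le hCle le_sup_right) (sup_le_sup_right hAC B)] at this
    · have hBA : B ≤ normalizer (A : Set G) := by
        intro b hb
        rw [mem_normalizer_iff]
        intro x
        constructor
        · intro hx
          rw [heq]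
          exact Finset.le_sup (f := fun b : B => A.map (MulAut.conj (b : G)).toMonoidHom)
            (Finset.mem_univ ⟨b, hb⟩) ⟨x, hx, rfl⟩
        · intro hx
          rw [heq]
          exact Finset.le_sup (f := fun b : B => A.map (MulAut.conj (b : G)).toMonoidHom)
            (Finset.mem_univ ⟨b⁻¹, inv_mem hb⟩) ⟨_, hx, by
              show b⁻¹ * (b * x * b⁻¹) * (b⁻¹)⁻¹ = x
              group⟩
      have h := isSubnormal_coreIn_sup hA hB
      rwa [coreIn_eq_self hBA] at h

/-- **Wielandt**: the join of two subnormal subgroups of a finite group is subnormal. -/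
theorem isSubnormal_sup [Finite G] {A B : Subgroup G} (hA : A.IsSubnormal) (hB : B.IsSubnormal) :
    (A ⊔ B).IsSubnormal :=
  isSubnormal_sup_aux _ rfl A B hA hB

end Cfsg.Lib.SolvStruct
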