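/-
Wielandt-type lemmas on families of subnormal subgroups and permutable subgroups.
-/
import Cfsg.Agent.SolvStruct.Subnormal
import Cfsg.Agent.Transfer.Basic

set_option linter.style.haveILetI false
set_option linter.unusedSectionVars false

namespace Cfsg.Lib.SolvStruct

open Subgroup Cfsg.Lib.Transfer
open scoped Pointwise

universe u

variable {G : Type u} [Group G] [Finite G]

theorem conj_smul_eq_map (g : G) (H : Subgroup G) :
    MulAut.conj g • H = H.map (MulAut.conj g).toMonoidHom := rfl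

theorem mem_normalizer_of_conj_smul_le {g : G} {H : Subgroup G} (h : MulAut.conj g • H ≤ H) :
    g ∈ normalizer (H : Set G) :=
  map_conj_eq_self_iff.1 (eq_of_le_of_card_ge h (card_map_conj H g).ge)

theorem isSubnormal_sSup (s : Set (Subgroup G)) (h : ∀ U ∈ s, U.IsSubnormal) : (sSup s).IsSubnormal := by
  induction s, Set.toFinite s using Set.Finite.induction_on with
  | empty =>
    rw [sSup_empty]
    exact Subgroup.Normal.isSubnormal inferInstance
  | insert _ _ ih =>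
    rw [sSup_insert]
    exact isSubnormal_sup (h _ (Set.mem_insert _ _)) (ih fun U hU => h U (Set.mem_insert_of_mem _ hU))

/-- A non-normal subnormal subgroup is normalised by one of its other conjugates. -/
theorem exists_conj_le_normalizer {L : Subgroup G} (hL : L.IsSubnormal) : ∀ T : Subgroup G,
    T ≤ L → L ≤ normalizer (T : Set G) → normalizer (T : Set G) ≠ ⊤ →
    ∃ g : G, g ∉ normalizer (T : Set G) ∧ MulAut.conj g • T ≤ normalizer (T : Set G) := by
  induction hL with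
  | top => exact fun T _ h1 h2 => absurd (top_le_iff.1 h1) h2
  | step L K hLK hK hN ih =>
    intro T hTL hLT hne
    by_cases hKT : K ≤ normalizer (T : Set G)
    · exact ih T (hTL.trans hLK) hKT hne
    · obtain ⟨g, hgK, hg⟩ := SetLike.not_le_iff_exists.1 hKT
      refine ⟨g, hg, ?_⟩
      rintro _ ⟨t, ht, rfl⟩
      have h1 := hN.conj_mem ⟨t, hLK (hTL ht)⟩ (hTL ht) ⟨g, hgK⟩
      exact hLT h1

theorem exists_normalizes_sSup (S S₀ : Set (Subgroup G)) (hS : ∀ U ∈ S, U.IsSubnormal)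
    (hconj : ∀ U ∈ S, ∀ g : G, MulAut.conj g • U ∈ S) (h₀ : S₀ ⊂ S) :
    ∃ X ∈ S, X ∉ S₀ ∧ X ≤ normalizer ((sSup S₀ : Subgroup G) : Set G) := by
  set T := sSup S₀
  by_cases hN : normalizer (T : Set G) = ⊤
  · obtain ⟨X, hX, hX'⟩ := Set.exists_of_ssubset h₀
    exact ⟨X, hX, hX', hN ▸ le_top⟩
  obtain ⟨g, hg, hgT⟩ := exists_conj_le_normalizer (isSubnormal_sSup S₀ fun U hU => hS U (h₀.1 hU)) T le_rfl
    le_normalizer hN
  have h1 : ∃ U ∈ S₀, ¬ MulAut.conj g • U ≤ T := by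
    by_contra hno
    push Not at hno
    refine hg (mem_normalizer_of_conj_smul_le ?_)
    rw [conj_smul_eq_map, Subgroup.map_le_iff_le_comap]
    exact sSup_le fun U hU => Subgroup.map_le_iff_le_comap.1 (hno U hU)
  obtain ⟨U, hU, hUT⟩ := h1
  exact ⟨_, hconj U (h₀.1 hU) g, fun h => hUT (le_sSup h),
    le_trans (map_mono (le_sSup hU)) hgT⟩

theorem zipper (A : Subgroup G) (U : Set (Subgroup G)) (hU : U.Nonempty) (S : Subgroup G → Set (Subgroup G))
    (hS : ∀ V B : Subgroup G, B ∈ S V ↔ (∃ g : G, B = MulAut.conj g • A) ∧ B ≤ V ∧ (B.subgroupOf V).IsSubnormal)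
    (h2 : ∀ V ∈ U, ∀ W ∈ U, ∀ B ∈ S W, B ≤ V → B ∈ S V)
    (h3 : ∀ V ∈ U, ∀ W ∈ U, ∃ X ∈ U, normalizer ((sSup (S V ∩ S W) : Subgroup G) : Set G) ≤ X) :
    ∃ M ∈ U, ∀ V ∈ U, V ≤ M := by
  -- the family `S V` is invariant under `V`
  have hinv : ∀ V : Subgroup G, ∀ B ∈ S V, ∀ v ∈ V, MulAut.conj v • B ∈ S V := by
    intro V B hB v hv
    obtain ⟨⟨g, rfl⟩, hle, hsn⟩ := (hS V B).1 hB
    refine (hS V _).2 ⟨⟨v * g, ?_⟩, ?_, ?_⟩
    · rw [smul_smul, ← map_mul]
    · rintro _ ⟨b, hb, rfl⟩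
      exact mul_mem (mul_mem hv (hle hb)) (inv_mem hv)
    · have h1 := hsn.map (f := (MulAut.conj (⟨v, hv⟩ : V)).toMonoidHom) (MulEquiv.surjective _)
      convert h1 using 1
      ext x
      constructor
      · rintro ⟨b, hb, hbx⟩
        exact ⟨⟨b, hle hb⟩, hb, Subtype.ext hbx⟩
      · rintro ⟨b, hb, rfl⟩
        exact ⟨b, hb, rfl⟩
  -- maximal members
  let Mx : Set (Subgroup G) := {V | V ∈ U ∧ ∀ W ∈ U, V ≤ W → W = V}
  have hMx : ∀ V ∈ U, ∃ M ∈ Mx, V ≤ M := fun V hV => by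
    obtain ⟨M, hVM, hM⟩ := Finite.exists_le_maximal (p := fun W => W ∈ U) hV
    exact ⟨M, ⟨hM.prop, fun W hW hMW => le_antisymm (hM.le_of_ge hW hMW) hMW⟩, hVM⟩
  obtain ⟨V0, hV0⟩ := hU
  obtain ⟨M, hM, -⟩ := hMx V0 hV0
  refine ⟨M, hM.1, fun V hV => ?_⟩
  obtain ⟨M', hM', hVM'⟩ := hMx V hV
  suffices M' = M from this ▸ hVM'
  by_contra hne
  -- a pair of distinct maximal members with largest intersection
  let Pairs : Set (Subgroup G × Subgroup G) := {p | p.1 ∈ Mx ∧ p.2 ∈ Mx ∧ p.1 ≠ p.2}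
  obtain ⟨⟨V, W⟩, ⟨hV, hW, hVW⟩, hmax⟩ := Set.exists_max_image Pairs
    (fun p => (S p.1 ∩ S p.2).ncard) (Set.toFinite _) ⟨(M', M), hM', hM, hne⟩
  set T := sSup (S V ∩ S W) with hT
  obtain ⟨X, hX, hTX⟩ := h3 V hV.1 W hW.1
  obtain ⟨X', hX', hXX'⟩ := hMx X hX
  have side : ∀ V W : Subgroup G, V ∈ Mx → W ∈ Mx → (sSup (S V ∩ S W) : Subgroup G) = T →
      (∀ Y ∈ Mx, Y ≠ V → (S V ∩ S Y).ncard ≤ (S V ∩ S W).ncard) → X' = V := by
    intro V W hV hW hTe hmax'
    by_contra hne'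
    have hmem : ∀ B ∈ S V, B ≤ normalizer (T : Set G) → B ∈ S X' := fun B hB hBn =>
      h2 X' hX'.1 V hV.1 B hB ((hBn.trans hTX).trans hXX')
    have hsub : S V ∩ S W ⊆ S V ∩ S X' := fun B hB =>
      ⟨hB.1, hmem B hB.1 ((hTe ▸ le_sSup hB : B ≤ T).trans le_normalizer)⟩
    by_cases hall : S V ⊆ S W
    · refine hne' ?_
      refine (hV.2 X' hX'.1 (le_trans ?_ (hTX.trans hXX')))
      intro v hv
      rw [← hT, ← hTe]
      refine mem_normalizer_of_conj_smul_le ?_
      rw [conj_smul_eq_map, Subgroup.map_le_iff_le_comap]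
      refine sSup_le fun B hB => Subgroup.map_le_iff_le_comap.1 ?_
      have h1 := hinv V B hB.1 v hv
      exact le_sSup (show MulAut.conj v • B ∈ S V ∩ S W from ⟨h1, hall h1⟩)
    · -- use the normalizing lemma inside `V`
      let f : Subgroup G → Subgroup V := fun B => B.subgroupOf V
      have hfinj : ∀ B ∈ S V, ∀ C ∈ S V, f B = f C → B = C := by
        intro B hB C hC e
        have e' := congrArg (Subgroup.map V.subtype) e
        simp only [f, subgroupOf_map_subtype, inf_eq_left.2 ((hS V B).1 hB).2.1,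
          inf_eq_left.2 ((hS V C).1 hC).2.1] at e'
        exact e'
      obtain ⟨B0, hB0, hB0'⟩ := Set.not_subset.1 hall
      obtain ⟨Z, hZ, hZ', hZn⟩ := exists_normalizes_sSup (f '' S V) (f '' (S V ∩ S W))
        (by rintro _ ⟨B, hB, rfl⟩; exact ((hS V B).1 hB).2.2)
        (by
          rintro _ ⟨B, hB, rfl⟩ v
          refine ⟨MulAut.conj (v : G) • B, hinv V B hB v v.2, ?_⟩
          have hBV := ((hS V B).1 hB).2.1
          ext x
          constructor
          · rintro ⟨b, hb, hbx⟩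
            exact ⟨⟨b, hBV hb⟩, hb, Subtype.ext hbx⟩
          · rintro ⟨b, hb, rfl⟩
            exact ⟨b, hb, rfl⟩)
        ⟨Set.image_mono Set.inter_subset_left, fun hle => by
          obtain ⟨B, hB, hBe⟩ := hle ⟨B0, hB0, rfl⟩
          exact hB0' (hfinj B hB.1 B0 hB0 hBe ▸ hB.2)⟩
      obtain ⟨B, hB, rfl⟩ := hZ
      have hBN : B ≤ normalizer (T : Set G) := by
        intro b hb
        have hbV := ((hS V B).1 hB).2.1 hb
        have h1 : (⟨b, hbV⟩ : V) ∈ normalizer ((sSup (f '' (S V ∩ S W)) : Subgroup V) : Set V) := hZn hb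
        have h2' : (sSup (f '' (S V ∩ S W)) : Subgroup V).map V.subtype = T := by
          rw [← hTe, sSup_image, Subgroup.map_iSup, sSup_eq_iSup]
          refine iSup_congr fun C => ?_
          rw [Subgroup.map_iSup]
          exact iSup_congr fun hC => by
            rw [subgroupOf_map_subtype, inf_eq_left.2 ((hS V C).1 hC.1).2.1]
        refine mem_normalizer_of_conj_smul_le ?_
        rw [← h2']
        rintro _ ⟨_, ⟨t, ht, rfl⟩, rfl⟩
        exact ⟨_, (Subgroup.mem_normalizer_iff.1 h1 t).1 ht, rfl⟩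
      have hBnot : B ∉ S V ∩ S W := fun h => hZ' ⟨B, h, rfl⟩
      have hlt : (S V ∩ S W).ncard < (S V ∩ S X').ncard :=
        Set.ncard_lt_ncard ⟨hsub, fun hle => hBnot (hle ⟨hB, hmem B hB hBN⟩)⟩ (Set.toFinite _)
      have := hmax' X' hX' hne'
      omega
  have e1 : X' = V := side V W hV hW rfl fun Y hY hYV => hmax (V, Y) ⟨hV, hY, Ne.symm hYV⟩
  have e2 : X' = W := side W V hW hV (by rw [Set.inter_comm]) fun Y hY hYW => by
    rw [Set.inter_comm (S W) (S V)]
    exact hmax (W, Y) ⟨hW, hY, Ne.symm hYW⟩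
  exact hVW (e1.symm.trans e2)

theorem exists_sylow_normalized (p : ℕ) [Fact p.Prime] (Z Y : Subgroup G)
    (h : ∀ g : G, IsPGroup p ↥(⨆ y ∈ Y, MulAut.conj (y * g) • Z)) :
    ∃ P : Sylow p G, Y ≤ normalizer
      ((⨆ g ∈ {g : G | MulAut.conj g • Z ≤ (P : Subgroup G)}, MulAut.conj g • Z : Subgroup G) : Set G) := by
  let good : Set (Subgroup G) → Prop := fun Φ => (∀ U ∈ Φ, ∃ g : G, U = MulAut.conj g • Z) ∧
    (∀ y ∈ Y, ∀ U ∈ Φ, MulAut.conj y • U ∈ Φ) ∧ IsPGroup p ↥(sSup Φ)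
  obtain ⟨Φ, -, hΦ⟩ := Finite.exists_le_maximal (p := good) (a := ∅)
    ⟨by simp, by simp, by rw [sSup_empty]; exact IsPGroup.of_bot⟩
  obtain ⟨hΦ1, hΦ2, hΦ3⟩ := hΦ.prop
  set T := sSup Φ
  obtain ⟨P, hP⟩ := hΦ3.exists_le_sylow
  have hYT : Y ≤ normalizer (T : Set G) := fun y hy => by
    refine mem_normalizer_of_conj_smul_le ?_
    rw [conj_smul_eq_map, Subgroup.map_le_iff_le_comap]
    exact sSup_le fun U hU => Subgroup.map_le_iff_le_comap.1 (le_sSup (hΦ2 y hy U hU))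
  -- a conjugate of `Z` normalising `T` belongs to `Φ`
  have key : ∀ g : G, MulAut.conj g • Z ≤ normalizer (T : Set G) → MulAut.conj g • Z ≤ T := by
    intro g hg
    set O : Set (Subgroup G) := {U | ∃ y ∈ Y, U = MulAut.conj (y * g) • Z}
    set W := sSup O
    have hWN : W ≤ normalizer (T : Set G) := sSup_le fun U ⟨y, hy, hU⟩ => by
      rw [hU, map_mul, ← smul_smul]
      rintro _ ⟨w, hw, rfl⟩
      exact mul_mem (mul_mem (hYT hy) (hg hw)) (inv_mem (hYT hy))
    have hWp : IsPGroup p W := (h g).to_le (sSup_le fun U ⟨y, hy, hU⟩ =>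
      hU ▸ le_iSup₂ (f := fun y (_ : y ∈ Y) => MulAut.conj (y * g) • Z) y hy)
    have hgood : good (Φ ∪ O) := by
      refine ⟨?_, ?_, ?_⟩
      · rintro U (hU | ⟨y, -, rfl⟩)
        · exact hΦ1 U hU
        · exact ⟨_, rfl⟩
      · rintro y hy U (hU | ⟨z, hz, rfl⟩)
        · exact Or.inl (hΦ2 y hy U hU)
        · exact Or.inr ⟨y * z, mul_mem hy hz, by rw [smul_smul, ← map_mul, mul_assoc]⟩
      · rw [sSup_union]
        exact hΦ3.to_sup_of_normal_left' hWp hWN
    have h1 : MulAut.conj g • Z ∈ Φ :=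
      hΦ.le_of_ge hgood Set.subset_union_left (Or.inr ⟨1, one_mem _, by rw [one_mul]⟩)
    exact le_sSup h1
  have hPN : (P : Subgroup G) ≤ normalizer (T : Set G) := by
    by_contra hne
    haveI := P.2.isNilpotent
    set M : Subgroup P := (normalizer (T : Set G)).subgroupOf (P : Subgroup G)
    have hlt : M < ⊤ := by rw [lt_top_iff_ne_top, Ne, subgroupOf_eq_top]; exact hne
    obtain ⟨g, hg, hgM⟩ := SetLike.exists_of_lt (Group.normalizerCondition_of_isNilpotent _ hlt)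
    have hgT : ∀ t ∈ T, (g : G) * t * (g : G)⁻¹ ∈ normalizer (T : Set G) := fun t ht =>
      (Subgroup.mem_normalizer_iff.1 hg ⟨t, hP ht⟩).1 (le_normalizer ht)
    refine hgM (mem_normalizer_of_conj_smul_le ?_)
    rw [conj_smul_eq_map, Subgroup.map_le_iff_le_comap]
    refine sSup_le fun U hU => Subgroup.map_le_iff_le_comap.1 ?_
    obtain ⟨z, rfl⟩ := hΦ1 U hU
    rw [← conj_smul_eq_map, smul_smul, ← map_mul]
    refine key _ ?_
    rw [map_mul, ← smul_smul]
    rintro _ ⟨w, hw, rfl⟩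
    exact hgT w (le_sSup hU hw)
  refine ⟨P, ?_⟩
  suffices (⨆ g ∈ {g : G | MulAut.conj g • Z ≤ (P : Subgroup G)}, MulAut.conj g • Z : Subgroup G) = T by
    rw [this]; exact hYT
  refine le_antisymm (iSup₂_le fun g hg => key g (hg.trans hPN)) (sSup_le fun U hU => ?_)
  obtain ⟨g, rfl⟩ := hΦ1 U hU
  exact le_iSup₂ (f := fun g (_ : g ∈ {g : G | MulAut.conj g • Z ≤ (P : Subgroup G)}) => MulAut.conj g • Z) g
    ((le_sSup hU).trans hP)

theorem kegel_lemma (B : Subgroup G) : ∀ (n : ℕ) (A : Subgroup G), Nat.card G - Nat.card A = n →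
    (∀ x : G, ∃ S : Subgroup G, S ≠ ⊤ ∧ (S : Set G) = (A : Set G) * ((MulAut.conj x • B : Subgroup G) : Set G)) →
    ∃ N : Subgroup G, N.Normal ∧ N ≠ ⊤ ∧ (A ≤ N ∨ B ≤ N) := by
  intro n
  induction n using Nat.strong_induction_on with
  | _ n ih =>
  intro A hn h
  have hAS : ∀ {x : G} {S : Subgroup G},
      (S : Set G) = (A : Set G) * ((MulAut.conj x • B : Subgroup G) : Set G) → A ≤ S ∧ MulAut.conj x • B ≤ S := by
    intro x S hS
    constructor <;> intro a ha
    · rw [← SetLike.mem_coe, hS]; exact ⟨a, ha, 1, one_mem _, mul_one a⟩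
    · rw [← SetLike.mem_coe, hS]; exact ⟨1, one_mem _, a, ha, one_mul a⟩
  by_cases hAn : A.Normal
  · obtain ⟨S, hS, hSe⟩ := h 1
    exact ⟨A, hAn, fun e => hS (top_le_iff.1 (e.ge.trans (hAS hSe).1)), Or.inl le_rfl⟩
  by_cases hBn : ∀ x : G, MulAut.conj x • B ≤ normalizer (A : Set G)
  · refine ⟨normalClosure (B : Set G), inferInstance, fun e => hAn (normalizer_eq_top_iff.1
      (top_le_iff.1 (e.ge.trans ?_))), Or.inr subset_normalClosure⟩
    rw [normalClosure, closure_le]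
    intro y hy
    obtain ⟨b, hb, hby⟩ := Group.mem_conjugatesOfSet_iff.1 hy
    obtain ⟨c, hc⟩ := isConj_iff.1 hby
    exact hBn c ⟨b, hb, hc⟩
  push Not at hBn
  obtain ⟨x, hx⟩ := hBn
  obtain ⟨b, hbB, hb⟩ := SetLike.not_le_iff_exists.1 hx
  obtain ⟨S, hS, hSe⟩ := h x
  obtain ⟨hAleS, hBleS⟩ := hAS hSe
  set A' := MulAut.conj b • A
  set A1 := A ⊔ A'
  have hA1S : A1 ≤ S := sup_le hAleS (by
    rintro _ ⟨a, ha, rfl⟩
    exact mul_mem (mul_mem (hBleS hbB) (hAleS ha)) (inv_mem (hBleS hbB)))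
  have hlt : Nat.card A < Nat.card A1 := by
    refine lt_of_le_of_ne (card_le_of_le le_sup_left) fun e => hb (mem_normalizer_of_conj_smul_le ?_)
    exact le_sup_right.trans (eq_of_le_of_card_ge le_sup_left e.ge).ge
  obtain ⟨N, hN, hNt, hle⟩ := ih _ (by have := card_le_card_group A1; omega) A1 rfl (by
    intro y
    set By := MulAut.conj y • B
    -- generators of `A1` permute with `By`
    have hperm : ∀ a ∈ A1, ∀ β ∈ By, ∃ a' ∈ A1, ∃ β' ∈ By, β * a = a' * β' := by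
      intro a ha
      have hA1eq : A1 = closure ((A : Set G) ∪ (A' : Set G)) := by
        rw [Subgroup.closure_union, Subgroup.closure_eq, Subgroup.closure_eq]
      rw [hA1eq] at ha
      have hgen : ∀ u ∈ (A : Set G) ∪ (A' : Set G), ∀ β ∈ By, ∃ a' ∈ A1, ∃ β' ∈ By, β * u = a' * β' := by
        rintro u (hu | ⟨a, ha, rfl⟩) β hβ
        · obtain ⟨T, -, hTe⟩ := h y
          obtain ⟨h1, h2⟩ := hAS hTe
          have h3 : β * u ∈ (T : Set G) := mul_mem (h2 hβ) (h1 hu)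
          rw [hTe] at h3
          obtain ⟨a', ha', β', hβ', e⟩ := h3
          exact ⟨a', mem_sup_left ha', β', hβ', e.symm⟩
        · obtain ⟨T, -, hTe⟩ := h (b⁻¹ * y)
          obtain ⟨h1, h2⟩ := hAS hTe
          have hβ' : b⁻¹ * β * b ∈ MulAut.conj (b⁻¹ * y) • B := by
            obtain ⟨c, hc, rfl⟩ := hβ
            exact ⟨c, hc, by simp [mul_assoc]⟩
          have h3 : b⁻¹ * β * b * a ∈ (T : Set G) := mul_mem (h2 hβ') (h1 ha)
          rw [hTe] at h3
          obtain ⟨a', ha', β', ⟨c, hc, hc'⟩, e⟩ := h3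
          refine ⟨b * a' * b⁻¹, mem_sup_right ⟨a', ha', rfl⟩, y * c * y⁻¹, ⟨c, hc, rfl⟩, ?_⟩
          calc β * (b * a * b⁻¹) = b * (b⁻¹ * β * b * a) * b⁻¹ := by group
            _ = b * (a' * β') * b⁻¹ := by rw [show b⁻¹ * β * b * a = a' * β' from e.symm]
            _ = _ := by rw [← hc']; simp only [MulAut.conj_apply, MulEquiv.coe_toMonoidHom,
                  MulDistribMulAction.toMonoidEnd_apply, MulDistribMulAction.toMonoidHom_apply,
                  MulAut.smul_def]; group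
      induction ha using closure_induction'' with
      | mem u hu => exact hgen u hu
      | inv_mem u hu => exact hgen u⁻¹ (hu.imp (fun h => inv_mem h) (fun h => inv_mem h))
      | one => exact fun β hβ => ⟨1, one_mem _, β, hβ, by simp⟩
      | mul u v _ _ hu hv =>
        intro β hβ
        obtain ⟨a', ha', β', hβ', e⟩ := hu β hβ
        obtain ⟨a'', ha'', β'', hβ'', e'⟩ := hv β' hβ'
        exact ⟨a' * a'', mul_mem ha' ha'', β'', hβ'', by rw [← mul_assoc, e, mul_assoc, e', mul_assoc]⟩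
    let S' : Subgroup G :=
      { carrier := (A1 : Set G) * (By : Set G)
        one_mem' := ⟨1, one_mem _, 1, one_mem _, one_mul 1⟩
        mul_mem' := by
          rintro _ _ ⟨a, ha, β, hβ, rfl⟩ ⟨a', ha', β', hβ', rfl⟩
          obtain ⟨a'', ha'', β'', hβ'', e⟩ := hperm a' ha' β hβ
          refine ⟨a * a'', mul_mem ha ha'', β'' * β', mul_mem hβ'' hβ', ?_⟩
          show a * a'' * (β'' * β') = a * β * (a' * β')
          rw [show a * β * (a' * β') = a * (β * a') * β' by group, e]; group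
        inv_mem' := by
          rintro _ ⟨a, ha, β, hβ, rfl⟩
          obtain ⟨a', ha', β', hβ', e⟩ := hperm a⁻¹ (inv_mem ha) β⁻¹ (inv_mem hβ)
          exact ⟨a', ha', β', hβ', by rw [mul_inv_rev, e]⟩ }
    refine ⟨S', fun htop => hS (eq_top_iff.2 fun g _ => ?_), rfl⟩
    have hBy : By ≤ S := by
      obtain ⟨a, ha, β, ⟨c, hc, rfl⟩, e⟩ := (htop.ge (mem_top (x * y⁻¹)) : x * y⁻¹ ∈ S')
      -- `x = a * y * c`
      have hx' : x = a * y * c := by
        calc x = (x * y⁻¹) * y := by group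
          _ = a * (y * c * y⁻¹) * y := by rw [← e]; rfl
          _ = _ := by group
      rintro _ ⟨d, hd, rfl⟩
      show y * d * y⁻¹ ∈ S
      have h1 : x * (c⁻¹ * d * c) * x⁻¹ ∈ S :=
        hBleS ⟨_, mul_mem (mul_mem (inv_mem hc) hd) hc, rfl⟩
      have h2 := mul_mem (mul_mem (inv_mem (hA1S ha)) h1) (hA1S ha)
      rwa [hx', show a⁻¹ * (a * y * c * (c⁻¹ * d * c) * (a * y * c)⁻¹) * a = y * d * y⁻¹ by group] at h2
    obtain ⟨a, ha, β, hβ, rfl⟩ := (htop.ge (mem_top g) : g ∈ S')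
    exact mul_mem (hA1S ha) (hBy hβ))
  exact ⟨N, hN, hNt, hle.imp_left le_sup_left.trans⟩

end Cfsg.Lib.SolvStruct
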