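import Cfsg.Agent.Components.ZJ.Glauberman
import Cfsg.Agent.Components.ZJ.FullCenter
import Cfsg.Agent.Components.Functor.Fusion
import Cfsg.Agent.Fusion.Qd

/-!
`Z(J(P))` controls strong fusion in groups without a section `SL(2,p)`.
-/

set_option linter.style.haveILetI false
set_option linter.unusedSectionVars false

namespace Cfsg.Lib.SolvStruct

open Subgroup

universe u

variable {p : ℕ} [Fact p.Prime]

/-- the functor `Q ↦ Z(J(Q))` -/
def zjFn (p : ℕ) (Q : Type u) [Group Q] : Subgroup Q := Cfsg.centerThompsonOf p (⊤ : Subgroup Q)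

theorem induced_zjFn {G : Type u} [Group G] [Finite G] (T : Subgroup G) :
    Cfsg.inducedFunctor (G := G) (fun Q inst => @zjFn p Q inst) T = Cfsg.centerThompsonOf p T := by
  show (Cfsg.centerThompsonOf p (⊤ : Subgroup T)).map T.subtype = _
  rw [Cfsg.Lib.ZJ.centerThompsonOf_map_injOn T.subtype_injective.injOn, ← MonoidHom.range_eq_map, range_subtype]

theorem zjFn_charP : Cfsg.IsCharPFunctor.{u} p (fun Q inst => @zjFn p Q inst) := by
  refine ⟨fun Q _ _ hQ _ => ?_, fun Q R _ _ _ _ φ => ?_⟩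
  · have h : IsPGroup p (⊤ : Subgroup Q) := hQ.of_equiv Subgroup.topEquiv.symm
    exact Cfsg.Lib.Thompson.center_ne_bot
      (h.to_le (Cfsg.Lib.Thompson.thompsonSubgroupOf_le (p := p) _))
      (Cfsg.Lib.Thompson.thompsonSubgroupOf_ne_bot h top_ne_bot)
  · haveI : Finite R := Finite.of_equiv Q φ.toEquiv
    show (Cfsg.centerThompsonOf p ⊤).map _ = Cfsg.centerThompsonOf p ⊤
    rw [Cfsg.Lib.ZJ.centerThompsonOf_map_injOn φ.injective.injOn,
      Subgroup.map_top_of_surjective (f := φ.toMonoidHom) φ.surjective]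

/-- `Z(J(P))` controls fusion of subsets of `P` when no `Qd(p)` is involved -/
theorem exists_mem_normalizer_zj (hp : p ≠ 2) {G : Type u} [Group G] [Finite G]
    (hqd : ¬ Cfsg.Involves ↥(Cfsg.qd p) G) (P : Sylow p G) {A : Set G} (hA : A ⊆ (P : Set G)) {g : G}
    (hg : ∀ a ∈ A, g * a * g⁻¹ ∈ (P : Subgroup G)) :
    ∃ c ∈ normalizer (Cfsg.centerThompsonOf p (P : Subgroup G) : Set G),
      ∀ a ∈ A, c * a * c⁻¹ = g * a * g⁻¹ := by
  have h : Cfsg.Lib.Functor.CtrlAll p {fun Q inst => @zjFn p Q inst} G := by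
    refine Cfsg.Lib.Functor.ctrl_main (fun W hW => ?_) _ G rfl fun L _ _ hL hc => ?_
    · rw [Set.mem_singleton_iff.mp hW]
      exact zjFn_charP
    · refine Cfsg.Lib.Functor.ctrlAll_of_normal fun T => ?_
      rw [induced_zjFn]
      exact Cfsg.Lib.ZJ.centerThompson_normal hp (Cfsg.Lib.CtrlD.stable_section hp hqd hL) hc T
  obtain ⟨c, hc, hcg⟩ := h P A g hA (Cfsg.Lib.Control.img_subset_iff.mpr hg)
  rw [show Cfsg.Lib.Functor.ind ({fun Q inst => @zjFn p Q inst} : Set (∀ (Q : Type u) [Group Q], Subgroup Q)) G =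
    {Cfsg.inducedFunctor (G := G) fun Q inst => @zjFn p Q inst} from Set.image_singleton] at hc
  exact ⟨c, induced_zjFn (p := p) (P : Subgroup G) ▸ (Cfsg.Lib.Control.chain_singleton hc).2, hcg⟩

open Cfsg.Lib.Fusion in
/-- `Qd(p)` maps onto `SL(2,p)` -/
theorem exists_qd_onto : ∃ f : Cfsg.qd p →* Matrix.SpecialLinearGroup (Fin 2) (ZMod p),
    Function.Surjective f := by
  choose F v hv using fun a : Cfsg.qd p => exists_eq_aff a
  refine ⟨MonoidHom.mk' F fun a b => ?_, fun M => ⟨aff M 0, ?_⟩⟩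
  · exact (aff_inj ((hv (a * b)).symm.trans
      ((congrArg₂ (· * ·) (hv a) (hv b)).trans (aff_mul _ _ _ _)))).1
  · exact (aff_inj (hv (aff M 0))).1.symm

/-- no section `SL(2,p)` forbids `Qd(p)` -/
theorem not_involves_qd {G : Type u} [Group G]
    (hfree : ¬ ∃ (H K : Subgroup G) (_ : (K.subgroupOf H).Normal),
      Nonempty ((H ⧸ K.subgroupOf H) ≃* Matrix.SpecialLinearGroup (Fin 2) (ZMod p))) :
    ¬ Cfsg.Involves ↥(Cfsg.qd p) G := by
  rintro ⟨K, R, hR, ⟨e⟩⟩
  haveI := hR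
  obtain ⟨f, hf⟩ := exists_qd_onto (p := p)
  set φ := f.comp (e.toMonoidHom.comp (QuotientGroup.mk' (R.subgroupOf K))) with hφ
  have hφs : Function.Surjective φ := hf.comp (e.surjective.comp (QuotientGroup.mk'_surjective _))
  have he : (φ.ker.map K.subtype).subgroupOf K = φ.ker := comap_map_eq_self_of_injective K.subtype_injective _
  haveI hN : ((φ.ker.map K.subtype).subgroupOf K).Normal := by rw [he]; infer_instance
  exact hfree ⟨K, φ.ker.map K.subtype, hN,
    ⟨(QuotientGroup.quotientMulEquivOfEq he).trans (QuotientGroup.quotientKerEquivOfSurjective φ hφs)⟩⟩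

end Cfsg.Lib.SolvStruct
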