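import Cfsg.Agent.Components.KInf.Stable

/-!
The lower K-infinity subgroup of a `p`-subgroup containing `O_p` agrees with that of `O_p` in `p`-stable groups of
characteristic `p`.
-/

set_option linter.style.haveILetI false
set_option linter.unusedSectionVars false

namespace Cfsg.Lib.KInfCore

open Subgroup Cfsg.Lib.KInf
open scoped commutatorElement

universe u

variable {G : Type u} [Group G] [Finite G] {p : ℕ} [Fact p.Prime]

/-- translation of the abstract criterion to a `p`-subgroup containing `O_p` -/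
theorem induced_eq_core (S : Subgroup G) (hS : IsPGroup p S) (hTS : Cfsg.pCore p G ≤ S) (A : Subgroup G) [A.Normal] (hAT : A ≤ Cfsg.pCore p G)
    (hA2 : ⁅⁅A, A⁆, A⁆ = ⊥) (hTA : ⁅Cfsg.pCore p G, A⁆ ≤ zc A)
    (hA' : ∀ A' : Subgroup G, A' ≤ S → A' ∈ Cfsg.classTwoSubgroups G →
      A ≤ normalizer (A' : Set G) → ⁅A, ⁅A', A'⁆⁆ = ⊥ → ⁅⁅zc A, A'⁆, A'⁆ = ⊥ → A' ≤ Cfsg.pCore p G)
    (hB : ∀ B : Subgroup G, B ≤ S → B ∈ Cfsg.classTwoSubgroups G →
      A ≤ normalizer (B : Set G) →
      (∀ A' ∈ Cfsg.classTwoSubgroups G, A' ≤ A → B ≤ normalizer (A' : Set G) → ⁅B, ⁅A', A'⁆⁆ = ⊥ →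
        ⁅⁅zc B, A'⁆, A'⁆ = ⊥ → ⁅B, A'⁆ ≤ zc B) → B ≤ Cfsg.pCore p G) :
    Cfsg.inducedFunctor Cfsg.kInfLower S = Cfsg.inducedFunctor Cfsg.kInfLower (Cfsg.pCore p G) := by
  set T := Cfsg.pCore p G
  set f := S.subtype
  have hf : Function.Injective f := S.subtype_injective
  have hAS : (A.subgroupOf S).map f = A := by
    rw [subgroupOf_map_subtype, inf_eq_left.mpr (hAT.trans hTS)]
  have hTS' : (T.subgroupOf S).map f = T := by
    rw [subgroupOf_map_subtype, inf_eq_left.mpr hTS]
  have key := terms_le (T.subgroupOf S) (A.subgroupOf S)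
    (by rw [← map_classTwo hf, hAS, mem_classTwo]; exact hA2)
    (by
      rw [← map_le_map_iff_of_injective hf, map_commutator, map_zc hf, hAS, hTS', commutator_comm]
      exact hTA)
    (fun A' h1 h2 h3 h4 => by
      rw [← map_le_map_iff_of_injective hf, hTS']
      refine hA' _ (map_subtype_le A') ((map_classTwo hf).mpr h1) ?_ ?_ ?_
      · have := (map_normalizer_iff hf).mpr h2
        rwa [hAS] at this
      · rw [← hAS, ← map_commutator, ← map_commutator, h3, Subgroup.map_bot]
      · rw [← hAS, ← map_zc hf, ← map_commutator, ← map_commutator, h4, Subgroup.map_bot])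
    (fun B h1 h2 h3 => by
      rw [← map_le_map_iff_of_injective hf, hTS']
      refine hB _ (map_subtype_le B) ((map_classTwo hf).mpr h1) ?_ ?_
      · have := (map_normalizer_iff hf).mpr h2
        rwa [hAS] at this
      · intro A' hA'2 hA'A hBA' hc1 hc2
        have hA'S : (A'.subgroupOf S).map f = A' := by
          rw [subgroupOf_map_subtype, inf_eq_left.mpr (hA'A.trans (hAT.trans hTS))]
        rw [← hA'S] at hA'2 hA'A hBA' hc1 hc2 ⊢
        rw [← hAS, map_le_map_iff_of_injective hf] at hA'A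
        rw [← map_commutator, ← map_commutator, map_eq_bot_iff_of_injective _ hf] at hc1
        rw [← map_zc hf, ← map_commutator, ← map_commutator, map_eq_bot_iff_of_injective _ hf] at hc2
        rw [← map_zc hf, ← map_commutator]
        exact map_mono (h3 _ ((map_classTwo hf).mp hA'2) hA'A ((map_normalizer_iff hf).mp hBA') hc1 hc2))
  obtain ⟨h1, -⟩ := map_kInf_of_le (T.subgroupOf S) key
  have hTp : IsPGroup p (T.subgroupOf S) := hS.to_subgroup _
  conv_rhs => rw [← hTS', ← Cfsg.Lib.Functor.map_induced isCharPFunctor_lower hTp hf.injOn]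
  show (Cfsg.kInfLower S).map f = ((Cfsg.kInfLower (T.subgroupOf S)).map (T.subgroupOf S).subtype).map f
  rw [h1]

/-- K-infinity of a `p`-subgroup containing `O_p` -/
theorem kInf_eq_core (hst : ∀ (N : Subgroup G) [N.Normal], Cfsg.IsNormalizerPStable p (G ⧸ N))
    (hc : centralizer (Cfsg.pCore p G : Set G) ≤ Cfsg.pCore p G) (S : Subgroup G) (hS : IsPGroup p S) (hTS : Cfsg.pCore p G ≤ S) :
    Cfsg.inducedFunctor Cfsg.kInfLower S = Cfsg.inducedFunctor Cfsg.kInfLower (Cfsg.pCore p G) := by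
  set T := Cfsg.pCore p G
  have hTp : IsPGroup p T := Cfsg.Lib.Components.isPGroup_pCore p
  obtain ⟨A₀, hchar, h1, h2, h3⟩ := Cfsg.Lib.SolvStruct.exists_critical hTp
  haveI := hchar
  set A := A₀.map T.subtype with hA
  have hAT : A ≤ T := map_subtype_le _
  haveI : A.Normal := inferInstance
  have hAp : IsPGroup p A := hTp.to_le hAT
  have hA2₀ : ⁅⁅A₀, A₀⁆, A₀⁆ = ⊥ := by
    rw [commutator_eq_bot_iff_le_centralizer]
    refine le_trans ?_ h1
    rw [← map_subtype_commutator]
    exact map_mono (Cfsg.Lib.PGroups.commutator_le_frattini (hTp.to_subgroup A₀))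
  have hA2 : ⁅⁅A, A⁆, A⁆ = ⊥ := by rw [← map_commutator, ← map_commutator, hA2₀, Subgroup.map_bot]
  have hTA : ⁅T, A⁆ ≤ zc A := by
    have h := map_mono (f := T.subtype) h2
    rw [map_commutator, ← MonoidHom.range_eq_map, range_subtype, commutator_comm] at h
    exact h.trans (map_zc T.subtype_injective A₀).le
  have hCA : centralizer (A : Set G) ≤ T := by
    refine Cfsg.Lib.Components.le_pCore fun ⟨x, hx⟩ => ?_
    obtain ⟨a, y, -, hy, hay, ⟨j, hj⟩, hcop⟩ := Cfsg.Lib.Transfer.exists_pPart p x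
    have hyA : y ∈ centralizer (A : Set G) := zpowers_le.mpr hx hy
    let φ : MulAut T := MulAut.conjNormal y
    have hφ : φ = 1 := Cfsg.Agent.S0121.result hTp A₀ hchar h1 h2 h3 φ
      (hcop.coprime_dvd_left (orderOf_map_dvd MulAut.conjNormal y)) fun z hz => Subtype.ext (by
        show ((MulAut.conjNormal y z : T) : G) = z
        rw [MulAut.conjNormal_apply, ← mem_centralizer_iff.mp hyA (z : G) (mem_map_of_mem T.subtype hz),
          mul_inv_cancel_right])
    have hyT : y ∈ T := hc (mem_centralizer_iff.mpr fun z hz => by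
      have h5 : ((MulAut.conjNormal y (⟨z, hz⟩ : T) : T) : G) = z := by
        rw [show MulAut.conjNormal y = φ from rfl, hφ]; rfl
      rw [MulAut.conjNormal_apply] at h5
      conv_lhs => rw [← h5]
      group)
    obtain ⟨i, hi⟩ := IsPGroup.iff_orderOf.mp hTp ⟨y, hyT⟩
    rw [Subgroup.orderOf_mk] at hi
    have hy1 : y = 1 := orderOf_eq_one_iff.mp (Nat.eq_one_of_dvd_coprimes (hcop.pow_right i) dvd_rfl hi.dvd)
    refine ⟨j, Subtype.ext ?_⟩
    show x ^ p ^ j = 1
    rw [← hay, hy1, mul_one, ← hj, pow_orderOf_eq_one]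
  have hst0 : Cfsg.IsNormalizerPStable p G :=
    normalizerPStable_of_injective (QuotientGroup.quotientBot (G := G)).symm.toMonoidHom
      (QuotientGroup.quotientBot (G := G)).symm.injective (hst ⊥)
  haveI hZn : (zc A).Normal := inferInstanceAs (A ⊓ centralizer (A : Set G)).Normal
  refine induced_eq_core S hS hTS A hAT hA2 hTA (fun A' hA'S hA'2 hAN h3' h4' => ?_) (fun B hBS hB2 hAB htest => ?_)
  · intro g hg
    have hgp : IsPGroup p (zpowers g) := (hS.to_le hA'S).to_le (zpowers_le.mpr hg)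
    have hgA' : zpowers g ≤ A' := zpowers_le.mpr hg
    refine pk_le_pCore hCA (pk_of_series (V := zc A) (hAp.to_le (zc_le A))
      (mem_pk_of_quadratic hst0 (zc A) (hAp.to_le (zc_le A)) hgp
        (le_bot_iff.mp ((commutator_mono (commutator_mono le_rfl hgA') hgA').trans h4'.le))) ?_)
    haveI : (A.map (QuotientGroup.mk' (zc A))).Normal :=
      Subgroup.Normal.map inferInstance _ (QuotientGroup.mk'_surjective _)
    refine mem_pk_of_quadratic (hst (zc A)) _ (hAp.map _) ?_ ?_
    · rw [← MonoidHom.map_zpowers]; exact hgp.map _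
    · rw [← MonoidHom.map_zpowers, ← map_commutator, ← map_commutator, Subgroup.map_eq_bot_iff,
        QuotientGroup.ker_mk']
      refine le_inf ((commutator_mono (commutator_le_left A _) le_rfl).trans (commutator_le_left A _)) ?_
      refine le_trans (commutator_mono ((commutator_mono le_rfl hgA').trans
        (le_normalizer_iff_commutator_le_right.mp hAN)) hgA') ?_
      exact le_centralizer_iff.mp (commutator_eq_bot_iff_le_centralizer.mp h3')
  have hBp : IsPGroup p B := hS.to_le hBS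
  have hAzB : A ≤ normalizer (zc B : Set G) := hAB.trans (Cfsg.Lib.Thompson.normalizer_le_normalizer_center B)
  have hzBT : zc B ≤ T := fun z hz => by
    refine pk_le_pCore hCA (mem_pk_of_quadratic hst0 A hAp (hBp.to_le (zpowers_le.mpr (zc_le B hz))) ?_)
    rw [eq_bot_iff, ← commutator_zc_self B]
    refine commutator_mono ?_ (zpowers_le.mpr (zc_le B hz))
    exact (commutator_mono le_rfl (zpowers_le.mpr hz)).trans (le_normalizer_iff_commutator_le_right.mp hAzB)
  have hBz : ⁅zc B, A⁆ ≤ zc A := (commutator_mono hzBT le_rfl).trans hTA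
  have hBZ : B ≤ pk p (zc A) := by
    haveI : IsMulCommutative (zc A) := ⟨⟨fun x y => Subtype.ext
      (mem_centralizer_iff.mp y.2.2 x x.2.1)⟩⟩
    have h := htest (zc A) (normal_abelian_classTwo _) (zc_le A) le_normalizer_of_normal
      (by
        rw [show ⁅zc A, zc A⁆ = ⊥ from le_bot_iff.mp
          ((commutator_mono le_rfl (zc_le A)).trans (commutator_zc_self A).le), commutator_bot_right])
      (le_bot_iff.mp ((commutator_mono (commutator_le_right (zc B) (zc A)) (zc_le A)).trans
        (commutator_zc_self A).le))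
    intro b hb
    refine mem_pk_of_quadratic hst0 (zc A) (hAp.to_le (zc_le A)) (hBp.to_le (zpowers_le.mpr hb)) ?_
    rw [eq_bot_iff, ← commutator_zc_self B]
    refine commutator_mono ?_ (zpowers_le.mpr hb)
    rw [commutator_comm] at h
    exact (commutator_mono le_rfl (zpowers_le.mpr hb)).trans h
  obtain ⟨U, ⟨hUn, hZU, hUA, hUB⟩, hmax⟩ := Set.exists_max_image
    {U : Subgroup G | ∃ _ : U.Normal, zc A ≤ U ∧ U ≤ A ∧ B ≤ pk p U} (fun U => Nat.card U) (Set.toFinite _)
    ⟨zc A, hZn, le_rfl, zc_le A, hBZ⟩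
  haveI := hUn
  rcases eq_or_lt_of_le hUA with h | h
  · subst h; exact hUB.trans (pk_le_pCore hCA)
  exfalso
  obtain ⟨U', ⟨hU'n, hlt, hU'A⟩, hmin⟩ := Set.exists_min_image
    {U' : Subgroup G | U'.Normal ∧ U < U' ∧ U' ≤ A} (fun U => Nat.card U) (Set.toFinite _)
    ⟨A, inferInstance, h, le_rfl⟩
  haveI := hU'n
  have hstep := chief_step hst hAp hA2 hBp hB2 hAB hBz htest hZU hlt hU'A (fun N hN h1 h2 => by
    rcases eq_or_lt_of_le h1 with e | e
    · exact Or.inl e.symm
    · exact Or.inr (eq_of_le_of_card_ge h2 (hmin N ⟨hN, e, h2.trans hU'A⟩))) hUB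
  have := hmax U' ⟨hU'n, hZU.trans hlt.le, hU'A, fun b hb => pk_of_series (hAp.to_le hUA) (hUB hb) ?_⟩
  · exact absurd (eq_of_le_of_card_ge hlt.le this) hlt.ne
  · haveI : (U'.map (QuotientGroup.mk' U)).Normal :=
      Subgroup.Normal.map inferInstance _ (QuotientGroup.mk'_surjective _)
    refine centralizer_le_pk _ (mem_centralizer_iff.mpr ?_)
    rintro _ ⟨u, hu, rfl⟩
    have h1 : QuotientGroup.mk' U (b * u * b⁻¹ * u⁻¹) = 1 := (QuotientGroup.eq_one_iff _).mpr (hstep b hb u hu)
    rw [map_mul, map_mul, map_mul, map_inv, map_inv, mul_inv_eq_one, mul_inv_eq_iff_eq_mul] at h1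
    exact h1.symm

end Cfsg.Lib.KInfCore
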