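import Mathlib

/-! Class size multiplicities detect nilpotency: if a finite group has the same class sizes
(with multiplicities) as a nilpotent group, it is nilpotent. -/

set_option autoImplicit false

namespace Cfsg.Lib.ClassSizesNilpotent

open Subgroup

universe u v

variable {G : Type u} [Group G] [Finite G]

/-- The class size of an element, as a centralizer index. -/
noncomputable abbrev csz (x : G) : ℕ := (centralizer ({x} : Set G)).index

theorem card_carrier (x : G) : Nat.card (ConjClasses.mk x).carrier = csz x := by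
  rw [← ConjAct.orbit_eq_carrier_conjClasses, Nat.card_coe_set_eq,
    ← MulAction.index_stabilizer (ConjAct G) x, ConjAct.stabilizer_eq_centralizer]
  rfl

/-- The number of elements whose class size satisfies `P`. -/
noncomputable abbrev cnt (G : Type u) [Group G] (P : ℕ → Prop) : ℕ := Nat.card {x : G // P (csz x)}

theorem cnt_eq_sum (G : Type u) [Group G] [Fintype G] [DecidableRel (α := G) IsConj] [Fintype (ConjClasses G)]
    (P : ℕ → Prop) [DecidablePred P] {N : ℕ} (hN : Fintype.card G < N) :
    cnt G P = ∑ k ∈ (Finset.range N).filter P, k * Nat.card {C : ConjClasses G // Nat.card C.carrier = k} := by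
  classical
  have h1 : cnt G P = ∑ C : ConjClasses G with P (Nat.card C.carrier), Nat.card C.carrier := by
    rw [cnt, Nat.card_eq_fintype_card, Fintype.card_subtype,
      Finset.card_eq_sum_card_fiberwise (f := ConjClasses.mk)
        (t := {C : ConjClasses G | P (Nat.card C.carrier)}) ?_]
    · refine Finset.sum_congr rfl fun C hC => ?_
      rw [Nat.card_eq_fintype_card, ← Set.toFinset_card]
      congr 1
      ext x
      simp only [Finset.mem_filter, Finset.mem_univ, true_and, Set.mem_toFinset, ConjClasses.mem_carrier_iff_mk_eq]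
      refine ⟨fun h => h.2, fun h => ⟨?_, h⟩⟩
      rw [← card_carrier, h]
      exact (Finset.mem_filter.1 hC).2
    · intro x hx
      simp only [Finset.coe_filter, Finset.mem_univ, true_and, Set.mem_setOf_eq] at hx ⊢
      rwa [card_carrier]
  rw [h1, ← Finset.sum_fiberwise_of_maps_to (g := fun C : ConjClasses G => Nat.card C.carrier)
    (t := (Finset.range N).filter P) ?_]
  · refine Finset.sum_congr rfl fun k hk => ?_
    rw [Finset.sum_congr rfl (fun C hC => (Finset.mem_filter.1 hC).2), Finset.sum_const, smul_eq_mul,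
      mul_comm, Nat.card_eq_fintype_card, Fintype.card_subtype, Finset.filter_filter]
    congr 2
    ext C
    simp only [Finset.mem_filter, Finset.mem_univ, true_and]
    exact ⟨fun h => h.2, fun h => ⟨h ▸ (Finset.mem_filter.1 hk).2, h⟩⟩
  · intro C hC
    refine Finset.mem_filter.2 ⟨Finset.mem_range.2 (lt_of_le_of_lt ?_ hN), (Finset.mem_filter.1 hC).2⟩
    rw [Nat.card_eq_fintype_card]
    exact set_fintype_card_le_univ _

theorem cnt_eq {H : Type v} [Group H] [Finite H]
    (h : ∀ k : ℕ, Nat.card {C : ConjClasses G // Nat.card C.carrier = k} =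
      Nat.card {C : ConjClasses H // Nat.card C.carrier = k}) (P : ℕ → Prop) : cnt G P = cnt H P := by
  classical
  cases nonempty_fintype G
  cases nonempty_fintype H
  rw [cnt_eq_sum G P (N := Fintype.card G + Fintype.card H + 1) (by omega),
    cnt_eq_sum H P (N := Fintype.card G + Fintype.card H + 1) (by omega)]
  simp only [h]

theorem card_eq {H : Type v} [Group H] [Finite H]
    (h : ∀ k : ℕ, Nat.card {C : ConjClasses G // Nat.card C.carrier = k} =
      Nat.card {C : ConjClasses H // Nat.card C.carrier = k}) : Nat.card G = Nat.card H := by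
  have h1 := cnt_eq h (fun _ => True)
  rwa [cnt, cnt, Nat.card_congr (Equiv.subtypeUnivEquiv fun _ => trivial),
    Nat.card_congr (Equiv.subtypeUnivEquiv fun _ => trivial)] at h1

theorem cnt_one (G : Type u) [Group G] [Finite G] : cnt G (· = 1) = Nat.card (center G) := by
  refine Nat.card_congr (Equiv.subtypeEquivRight fun x => ?_)
  show csz x = 1 ↔ _
  rw [csz, index_eq_one, centralizer_eq_top_iff_subset, Set.singleton_subset_iff]
  rfl

variable {p : ℕ} [hp : Fact p.Prime]

theorem mem_of_le_centralizer (P : Sylow p G) {y : G} (hy : IsPGroup p (zpowers y))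
    (h : (P : Subgroup G) ≤ centralizer ({y} : Set G)) : y ∈ (P : Subgroup G) := by
  have hc : zpowers y ≤ normalizer ((P : Subgroup G) : Set G) := by
    refine zpowers_le.2 (mem_normalizer_fintype fun g hg => ?_)
    have := mem_centralizer_singleton_iff.1 (h hg)
    rw [← this, mul_inv_cancel_right]
    exact hg
  have h1 : IsPGroup p ((zpowers y ⊔ (P : Subgroup G) : Subgroup G)) := hy.to_sup_of_normal_right' P.2 hc
  rw [← P.3 h1 le_sup_right]
  exact (le_sup_left : zpowers y ≤ _) (mem_zpowers y)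

open Pointwise in
theorem mul_eq_univ (P : Sylow p G) {y : G} {j : ℕ} (hy : csz y ∣ p ^ j) :
    (((P : Subgroup G) : Set G) * (centralizer ({y} : Set G) : Set G)) = Set.univ := by
  set C := centralizer ({y} : Set G)
  obtain ⟨i, -, hi⟩ := (Nat.dvd_prime_pow hp.out).1 hy
  obtain ⟨k, hk⟩ := IsPGroup.iff_card.1 (P.2.to_le (inf_le_left : (P : Subgroup G) ⊓ C ≤ _))
  have h1 : Nat.card ((P : Subgroup G) ⊓ C : Subgroup G) * C.index ∣ Nat.card (P : Subgroup G) := by
    have h2 : Nat.card ((P : Subgroup G) ⊓ C : Subgroup G) * C.index ∣ Nat.card (P : Subgroup G) * (P : Subgroup G).index := by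
      rw [(P : Subgroup G).card_mul_index, ← C.card_mul_index]
      exact Nat.mul_dvd_mul_right (card_dvd_of_le inf_le_right) _
    refine Nat.Coprime.dvd_of_dvd_mul_right ?_ h2
    rw [hk, show C.index = p ^ i from hi, ← pow_add]
    exact (hp.out.coprime_iff_not_dvd.2 P.not_dvd_index).pow_left _
  have h3 : C.index ≤ C.relIndex (P : Subgroup G) := by
    have e := relIndex_mul_relIndex ⊥ ((P : Subgroup G) ⊓ C) (P : Subgroup G) bot_le inf_le_left
    rw [relIndex_bot_left, relIndex_bot_left, inf_relIndex_left] at e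
    exact Nat.le_of_mul_le_mul_left (e.symm ▸ Nat.le_of_dvd Nat.card_pos h1) Nat.card_pos
  have h4 : Nat.card (MulAction.orbit (P : Subgroup G) ((1 : G) : G ⧸ C)) = C.relIndex (P : Subgroup G) := by
    rw [Nat.card_coe_set_eq, ← MulAction.index_stabilizer]
    refine congrArg Subgroup.index ?_
    ext a
    rw [MulAction.mem_stabilizer_iff, mem_subgroupOf]
    show ((((a : G) * 1 : G)) : G ⧸ C) = ((1 : G) : G ⧸ C) ↔ _
    rw [QuotientGroup.eq, mul_one, mul_one, inv_mem_iff]
  have h5 : MulAction.orbit (P : Subgroup G) ((1 : G) : G ⧸ C) = Set.univ := by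
    refine Set.eq_of_subset_of_ncard_le (Set.subset_univ _) ?_
    rw [Set.ncard_univ, ← index_eq_card, ← Nat.card_coe_set_eq, h4]
    exact h3
  refine Set.eq_univ_of_forall fun g => ?_
  obtain ⟨a, ha⟩ := (h5.ge (Set.mem_univ (g : G ⧸ C)) : ((g : G) : G ⧸ C) ∈ _)
  refine ⟨a, a.2, (a : G)⁻¹ * g, ?_, by group⟩
  have ha' : (((a : G) * 1 : G) : G ⧸ C) = (g : G ⧸ C) := ha
  rw [mul_one] at ha'
  exact QuotientGroup.eq.1 ha'

/-- an element of `p'`-class size is centralized by a Sylow `p`-subgroup -/
theorem exists_sylow_le {x : G} (hx : ¬ p ∣ csz x) : ∃ P : Sylow p G, (P : Subgroup G) ≤ centralizer ({x} : Set G) := by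
  obtain ⟨Q⟩ : Nonempty (Sylow p (centralizer ({x} : Set G))) := inferInstance
  refine ⟨(Q.2.map (centralizer ({x} : Set G)).subtype).toSylow ?_, ?_⟩
  · rw [index_map_subtype]
    exact hp.out.not_dvd_mul Q.not_dvd_index hx
  · exact map_subtype_le _

theorem not_dvd_of_le (P : Sylow p G) {x : G} (h : (P : Subgroup G) ≤ centralizer ({x} : Set G)) : ¬ p ∣ csz x :=
  fun hd => P.not_dvd_index (hd.trans (index_dvd_of_le h))

theorem card_inf_center (P : Sylow p G) :
    Nat.card ((P : Subgroup G) ⊓ center G : Subgroup G) = p ^ (Nat.card (center G)).factorization p := by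
  obtain ⟨R⟩ : Nonempty (Sylow p (center G)) := inferInstance
  have hR : (R : Subgroup (center G)).map (center G).subtype = (P : Subgroup G) ⊓ center G := by
    refine le_antisymm ?_ ?_
    · rintro _ ⟨r, hr, rfl⟩
      refine ⟨mem_of_le_centralizer P ?_ fun g _ => mem_centralizer_singleton_iff.2 (mem_center_iff.1 r.2 g), r.2⟩
      exact (R.2.to_le (zpowers_le.2 hr)).map (center G).subtype |>.to_le (by rw [MonoidHom.map_zpowers])
    · have h1 : IsPGroup p (((P : Subgroup G) ⊓ center G : Subgroup G).subgroupOf (center G)) :=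
        (P.2.to_le inf_le_left).of_equiv (subgroupOfEquivOfLe inf_le_right).symm
      have h2 : (R : Subgroup (center G)) ≤ ((P : Subgroup G) ⊓ center G : Subgroup G).subgroupOf (center G) := by
        intro r hr
        refine ⟨mem_of_le_centralizer P ?_ fun g _ => mem_centralizer_singleton_iff.2 (mem_center_iff.1 r.2 g), r.2⟩
        exact (R.2.to_le (zpowers_le.2 hr)).map (center G).subtype |>.to_le (by rw [MonoidHom.map_zpowers])
      intro g hg
      exact ⟨⟨g, hg.2⟩, (R.3 h1 h2).le hg, rfl⟩
  rw [← hR, card_map_of_injective (center G).subtype_injective]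
  exact R.card_eq_multiplicity

omit [Finite G] in
/-- in a nilpotent group, counts for a prime -/
theorem of_nilpotent {H : Type v} [Group H] [Finite H] (hH : Group.IsNilpotent H) (P : Sylow p H) :
    cnt H (fun k => ¬ p ∣ k) * Nat.card (P : Subgroup H) = Nat.card H * p ^ (Nat.card (center H)).factorization p ∧
    Nat.card (P : Subgroup H) * Nat.card (center H) ≤
      cnt H (fun k => ∃ j, k = p ^ j) * p ^ (Nat.card (center H)).factorization p := by
  have hall : ∀ (q : ℕ) (_ : Fact q.Prime) (Q : Sylow q H), (Q : Subgroup H).Normal :=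
    ((Group.isNilpotent_of_finite_tfae (G := H)).out 0 3).1 hH
  haveI hPn := hall p hp P
  have hPun : ∀ Q : Sylow p H, Q = P := fun Q => by
    haveI := Sylow.unique_of_normal P hPn
    exact Subsingleton.elim Q P
  -- other Sylows centralize `P`
  have hQP : ∀ (q : ℕ) (_ : Fact q.Prime) (Q : Sylow q H), q ≠ p →
      (Q : Subgroup H) ≤ centralizer ((P : Subgroup H) : Set H) := by
    intro q hq Q hqp a ha b hb
    have hdj := IsPGroup.disjoint_of_ne q p hqp _ _ Q.2 P.2
    exact ((commute_of_normal_of_disjoint _ _ (hall q hq Q) hPn hdj a b ha hb).eq).symm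
  set C := centralizer ((P : Subgroup H) : Set H)
  have hPC : (P : Subgroup H) ⊔ C = ⊤ := by
    refine index_eq_one.1 (Nat.eq_one_iff_not_exists_prime_dvd.2 fun q hq hd => ?_)
    haveI := Fact.mk hq
    by_cases hqp : q = p
    · subst hqp
      exact P.not_dvd_index (hd.trans (index_dvd_of_le le_sup_left))
    · obtain ⟨Q⟩ : Nonempty (Sylow q H) := inferInstance
      exact Q.not_dvd_index (hd.trans (index_dvd_of_le ((hQP q ⟨hq⟩ Q hqp).trans le_sup_right)))
  have hint : (P : Subgroup H) ⊓ C = (P : Subgroup H) ⊓ center H := by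
    refine le_antisymm (fun g hg => ⟨hg.1, ?_⟩) (inf_le_inf_left _ (center_le_centralizer _))
    refine mem_center_iff.2 fun a => ?_
    have ha : a ∈ (((P : Subgroup H) ⊔ C : Subgroup H) : Set H) := by rw [hPC]; exact mem_top a
    rw [normal_mul] at ha
    obtain ⟨b, hb, c, hc, rfl⟩ := Set.mem_mul.1 ha
    have h1 : b * g = g * b := hg.2 b hb
    have h2 : g * c = c * g := hc g hg.1
    rw [mul_assoc, ← h2, ← mul_assoc, h1, mul_assoc]
  constructor
  · have hT : cnt H (fun k => ¬ p ∣ k) = Nat.card C := by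
      refine Nat.card_congr (Equiv.subtypeEquivRight fun x => ⟨fun hx => ?_, fun hx => ?_⟩)
      · obtain ⟨Q, hQ⟩ := exists_sylow_le hx
        rw [hPun Q] at hQ
        intro a ha
        exact mem_centralizer_singleton_iff.1 (hQ ha)
      · exact not_dvd_of_le P fun a ha => mem_centralizer_singleton_iff.2 (hx a ha)
    have e := relIndex_mul_index (H := C) (K := (P : Subgroup H) ⊔ C) le_sup_right
    rw [relIndex_sup_right, hPC, index_top, mul_one] at e
    have e2 := relIndex_mul_relIndex ⊥ ((P : Subgroup H) ⊓ C) (P : Subgroup H) bot_le inf_le_left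
    rw [relIndex_bot_left, relIndex_bot_left, inf_relIndex_left, hint, card_inf_center] at e2
    rw [hT, ← e2, ← C.card_mul_index, e]
    ring
  · have hsub : ∀ x ∈ (P : Subgroup H) ⊔ center H, ∃ j, csz x = p ^ j := by
      intro x hx
      refine ⟨_, Nat.eq_prime_pow_of_unique_prime_dvd index_ne_zero_of_finite ?_⟩
      · intro q hq hd
        by_contra hqp
        haveI := Fact.mk hq
        obtain ⟨Q⟩ : Nonempty (Sylow q H) := inferInstance
        have h1 : (P : Subgroup H) ⊔ center H ≤ centralizer ((Q : Subgroup H) : Set H) := by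
          refine sup_le ?_ (center_le_centralizer _)
          intro a ha b hb
          exact (hQP q ⟨hq⟩ Q hqp hb a ha).symm
        exact not_dvd_of_le Q (fun a ha => mem_centralizer_singleton_iff.2 (h1 hx a ha)) hd
    have h2 : Nat.card ((P : Subgroup H) ⊔ center H : Subgroup H) ≤ cnt H (fun k => ∃ j, k = p ^ j) :=
      Nat.card_le_card_of_injective (fun x => ⟨x.1, hsub x.1 x.2⟩) fun x y hxy => Subtype.ext (by simpa using congrArg Subtype.val hxy)
    refine le_trans (le_of_eq ?_) (Nat.mul_le_mul_right _ h2)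
    have e := relIndex_mul_relIndex ⊥ (center H) ((P : Subgroup H) ⊔ center H) bot_le le_sup_right
    rw [relIndex_bot_left, relIndex_bot_left, relIndex_sup_right] at e
    have e2 := relIndex_mul_relIndex ⊥ ((P : Subgroup H) ⊓ center H) (P : Subgroup H) bot_le inf_le_left
    rw [relIndex_bot_left, relIndex_bot_left, inf_relIndex_left, card_inf_center] at e2
    rw [← e, ← e2]
    ring

/-- the mod `q` counting: the Sylow centre is central -/
theorem center_sylow (Q : Sylow p G)
    (hcount : cnt G (fun k => ¬ p ∣ k) * Nat.card (Q : Subgroup G) =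
      Nat.card G * p ^ (Nat.card (center G)).factorization p) :
    (Q : Subgroup G) ⊓ centralizer ((Q : Subgroup G) : Set G) ≤ center G := by
  set Z₀ := (Q : Subgroup G) ⊓ center G
  haveI hZn : Z₀.Normal := ⟨fun n hn g => by
    rw [mem_center_iff.1 hn.2 g, mul_inv_cancel_right]; exact hn⟩
  set T : Set G := {x | ¬ p ∣ csz x}
  have hsat : ∀ x y : G, (x : G ⧸ Z₀) = y → (x ∈ T → y ∈ T) := by
    intro x y hxy hx
    have hz := mem_center_iff.1 (QuotientGroup.eq.1 hxy).2
    have : centralizer ({y} : Set G) = centralizer ({x} : Set G) := by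
      ext g
      rw [mem_centralizer_singleton_iff, mem_centralizer_singleton_iff,
        show y = x * (x⁻¹ * y) by group, ← mul_assoc g, mul_assoc x _ g, ← hz g, ← mul_assoc x g]
      exact ⟨fun h => mul_right_cancel h, fun h => by rw [h]⟩
    show ¬ p ∣ csz y
    rw [csz, this]; exact hx
  set Tb : Set (G ⧸ Z₀) := QuotientGroup.mk '' T
  have hTcard : Nat.card Tb * Nat.card Z₀ = Nat.card T := by
    rw [← Nat.card_prod]
    refine Nat.card_congr ((Equiv.prodComm _ _).trans (Equiv.trans ?_
      (QuotientGroup.preimageMkEquivSubgroupProdSet Z₀ Tb).symm |>.trans (Equiv.setCongr ?_)))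
    · exact Equiv.refl _
    · ext x
      exact ⟨fun ⟨y, hy, hyx⟩ => hsat y x hyx hy, fun hx => ⟨x, hx, rfl⟩⟩
  have hTb : ¬ p ∣ Nat.card Tb := by
    have h1 : Nat.card Tb * Nat.card (Q : Subgroup G) = Nat.card G := by
      refine Nat.eq_of_mul_eq_mul_right (pow_pos hp.out.pos ((Nat.card (center G)).factorization p)) ?_
      rw [← hcount, show cnt G (fun k => ¬ p ∣ k) = Nat.card T from rfl, ← hTcard, card_inf_center Q]
      ring
    have h2 : Nat.card Tb = (Q : Subgroup G).index := by
      refine Nat.eq_of_mul_eq_mul_right (Nat.card_pos (α := (Q : Subgroup G))) ?_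
      rw [h1, mul_comm, card_mul_index]
    rw [h2]; exact Q.not_dvd_index
  letI act : MulAction (Q : Subgroup G) Tb :=
  { smul := fun g t => ⟨(g : G) * t.1 * ((g : G) : G ⧸ Z₀)⁻¹, by
      obtain ⟨x, hx, hxt⟩ := t.2
      refine ⟨(g : G) * x * (g : G)⁻¹, ?_, by rw [← hxt]; rfl⟩
      show ¬ p ∣ csz _
      rw [← card_carrier, ConjClasses.mk_eq_mk_iff_isConj.2 (isConj_iff.2 ⟨(g : G)⁻¹, by group⟩ : IsConj _ x),
        card_carrier]
      exact hx⟩
    one_smul := fun t => Subtype.ext (by show ((1 : G) : G ⧸ Z₀) * t.1 * ((1 : G) : G ⧸ Z₀)⁻¹ = t.1; simp)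
    mul_smul := fun g h t => Subtype.ext (by
      show (((g * h : (Q : Subgroup G)) : G) : G ⧸ Z₀) * t.1 * _ = ((g : G) : G ⧸ Z₀) * (((h : G) : G ⧸ Z₀) * t.1 * _) * _
      rw [Subgroup.coe_mul, QuotientGroup.mk_mul, mul_inv_rev]; group) }
  have hmod := Q.2.card_modEq_card_fixedPoints Tb
  set C := centralizer ((Q : Subgroup G) : Set G)
  have hfix : Nat.card (MulAction.fixedPoints (Q : Subgroup G) Tb) = Z₀.relIndex C := by
    have hle : Z₀ ≤ C := inf_le_right.trans (center_le_centralizer _)
    have e : Nat.card (C.map (QuotientGroup.mk' Z₀)) = Z₀.relIndex C := by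
      have h1 := relIndex_mul_index hle
      have h2 := (C.map (QuotientGroup.mk' Z₀)).card_mul_index
      rw [index_map_eq _ (QuotientGroup.mk'_surjective _) (by rwa [QuotientGroup.ker_mk']), ← index_eq_card, ← h1] at h2
      exact Nat.eq_of_mul_eq_mul_right (Nat.pos_of_ne_zero index_ne_zero_of_finite) h2
    rw [← e]
    have hto : ∀ t : Tb, t ∈ MulAction.fixedPoints (Q : Subgroup G) Tb → t.1 ∈ C.map (QuotientGroup.mk' Z₀) := by
      intro t ht
      obtain ⟨x, hx, hxt⟩ := t.2
      refine ⟨x, ?_, hxt⟩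
      intro g hg
      have h1 : ((g : G) : G ⧸ Z₀) * t.1 * ((g : G) : G ⧸ Z₀)⁻¹ = t.1 := congrArg Subtype.val (ht ⟨g, hg⟩)
      rw [← hxt] at h1
      have hz : x⁻¹ * (g * x * g⁻¹) ∈ Z₀ := QuotientGroup.eq.1 h1.symm
      set N := centralizer ({x} : Set G)
      set z := x⁻¹ * (g * x * g⁻¹) with hzdef
      have hzc := mem_center_iff.1 hz.2
      have hgN : g ∈ normalizer (N : Set G) := by
        refine mem_normalizer_fintype fun a ha => mem_centralizer_singleton_iff.2 ?_
        have e1 : g * x * g⁻¹ = x * z := by rw [hzdef]; group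
        have e2 : a * x = x * a := mem_centralizer_singleton_iff.1 ha
        have e3 : g * a * g⁻¹ * (x * z) = x * z * (g * a * g⁻¹) := by
          rw [← e1, show g * a * g⁻¹ * (g * x * g⁻¹) = g * (a * x) * g⁻¹ by group, e2]; group
        rw [← mul_assoc, mul_assoc x z, ← hzc, ← mul_assoc x] at e3
        exact mul_right_cancel e3
      set M := normalizer (N : Set G)
      set φ := QuotientGroup.mk' (N.subgroupOf M)
      have hd1 : orderOf (φ ⟨g, hgN⟩) ∣ Nat.card (Q : Subgroup G) := by
        refine (orderOf_map_dvd φ _).trans ?_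
        rw [Subgroup.orderOf_mk]
        exact Subgroup.orderOf_dvd_natCard _ hg
      have hd2 : orderOf (φ ⟨g, hgN⟩) ∣ csz x := by
        refine (_root_.orderOf_dvd_natCard _).trans ?_
        rw [← index_eq_card]
        exact relIndex_dvd_index_of_le le_normalizer
      obtain ⟨k, hk⟩ := IsPGroup.iff_card.1 Q.2
      rw [hk] at hd1
      have hcop : Nat.Coprime (p ^ k) (csz x) := (hp.out.coprime_iff_not_dvd.2 hx).pow_left k
      have h3 : φ ⟨g, hgN⟩ = 1 := orderOf_eq_one_iff.1
        (Nat.dvd_one.1 (hcop.gcd_eq_one ▸ Nat.dvd_gcd hd1 hd2))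
      have h4 : (⟨g, hgN⟩ : M) ∈ N.subgroupOf M := (QuotientGroup.ker_mk' _).le ((MonoidHom.mem_ker).2 h3)
      exact mem_centralizer_singleton_iff.1 h4
    have hfrom : ∀ c ∈ C, c ∈ T := fun c hc =>
      not_dvd_of_le Q fun g hg => mem_centralizer_singleton_iff.2 (hc g hg)
    refine Nat.card_congr (Equiv.ofBijective (fun t => ⟨t.1.1, hto t.1 t.2⟩) ⟨?_, ?_⟩)
    · intro a b hab
      exact Subtype.ext (Subtype.ext (congrArg (fun u : C.map (QuotientGroup.mk' Z₀) => u.1) hab))
    · rintro ⟨_, c, hc, rfl⟩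
      refine ⟨⟨⟨_, c, hfrom c hc, rfl⟩, fun g => Subtype.ext ?_⟩, rfl⟩
      show ((g : G) : G ⧸ Z₀) * (c : G ⧸ Z₀) * ((g : G) : G ⧸ Z₀)⁻¹ = (c : G ⧸ Z₀)
      rw [← QuotientGroup.mk_mul, hc g g.2, QuotientGroup.mk_mul, mul_inv_cancel_right]
  have hnd : ¬ p ∣ Z₀.relIndex C := by
    rw [← hfix]
    intro hd
    exact hTb (Nat.modEq_zero_iff_dvd.1 (hmod.trans (Nat.modEq_zero_iff_dvd.2 hd)))
  have hle1 : Z₀ ≤ (Q : Subgroup G) ⊓ C := inf_le_inf_left _ (center_le_centralizer _)
  have hd3 : Z₀.relIndex ((Q : Subgroup G) ⊓ C) ∣ Z₀.relIndex C :=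
    ⟨_, (relIndex_mul_relIndex _ _ _ hle1 inf_le_right).symm⟩
  obtain ⟨k, hk⟩ := IsPGroup.iff_card.1 (Q.2.to_le (inf_le_left : (Q : Subgroup G) ⊓ C ≤ _))
  have hd4 : Z₀.relIndex ((Q : Subgroup G) ⊓ C) ∣ p ^ k := hk ▸ relIndex_dvd_card _ _
  have hcop : Nat.Coprime (p ^ k) (Z₀.relIndex C) := (hp.out.coprime_iff_not_dvd.2 hnd).pow_left k
  exact (relIndex_eq_one.1 (Nat.dvd_one.1 (hcop.gcd_eq_one ▸ Nat.dvd_gcd hd4 hd3))).trans inf_le_right

theorem isNilpotent {H : Type v} [Group H] [Finite H] (hH : Group.IsNilpotent H)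
    (h : ∀ k : ℕ, Nat.card {C : ConjClasses G // Nat.card C.carrier = k} =
      Nat.card {C : ConjClasses H // Nat.card C.carrier = k}) : Group.IsNilpotent G := by
  refine ((Group.isNilpotent_of_finite_tfae (G := G)).out 0 3).2 fun p hp P => ?_
  haveI hpF : Fact p.Prime := hp
  have hG := card_eq h
  have hZ : Nat.card (center G) = Nat.card (center H) := by rw [← cnt_one, ← cnt_one, cnt_eq h]
  have hcard : ∀ (q : ℕ) (_ : Fact q.Prime) (Q : Sylow q G) (R : Sylow q H),
      Nat.card (Q : Subgroup G) = Nat.card (R : Subgroup H) := fun q _ Q R => by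
    rw [Q.card_eq_multiplicity, R.card_eq_multiplicity, hG]
  have hcen : ∀ (q : ℕ) (_ : Fact q.Prime) (Q : Sylow q G),
      (Q : Subgroup G) ⊓ centralizer ((Q : Subgroup G) : Set G) ≤ center G := by
    intro q hq Q
    obtain ⟨R⟩ : Nonempty (Sylow q H) := inferInstance
    exact center_sylow Q (by rw [cnt_eq h, hcard q hq Q R, hG, hZ]; exact (of_nilpotent hH R).1)
  -- elements of `p`-power class size lie in `O_p(G) Z(G)`
  set K := (P : Subgroup G).normalCore
  haveI : K.Normal := normalCore_normal _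
  have hS : ∀ x : G, (∃ j, csz x = p ^ j) → x ∈ K ⊔ center G := by
    intro x hx
    set D := (K ⊔ center G) ⊓ zpowers x
    have hD : Nat.card (zpowers x) ∣ Nat.card D := by
      rw [Nat.dvd_iff_prime_pow_dvd_dvd]
      intro q k hq hd
      haveI := Fact.mk hq
      rcases eq_or_ne k 0 with rfl | hk
      · simp
      rw [Nat.card_zpowers] at hd
      obtain ⟨c, hc⟩ := hd
      set y := x ^ c
      have hy : orderOf y = q ^ k := by
        have hc0 : c ≠ 0 := fun e => (orderOf_pos x).ne' (by rw [hc, e, mul_zero])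
        rw [orderOf_pow_of_dvd hc0 ⟨q ^ k, by rw [hc, mul_comm]⟩, hc, Nat.mul_div_cancel _ (Nat.pos_of_ne_zero hc0)]
      have hyp : IsPGroup q (zpowers y) := IsPGroup.of_card (by rw [Nat.card_zpowers, hy])
      have hle : centralizer ({x} : Set G) ≤ centralizer ({y} : Set G) := fun g hg =>
        mem_centralizer_singleton_iff.2 (Commute.pow_right (mem_centralizer_singleton_iff.1 hg) c)
      obtain ⟨j, hj⟩ := hx
      have hyd : csz y ∣ p ^ j := hj ▸ index_dvd_of_le hle
      have hmem : y ∈ K ⊔ center G := by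
        rcases eq_or_ne q p with rfl | hqp
        · refine (le_sup_left : K ≤ _) ?_
          -- a Sylow containing `y`
          obtain ⟨P', hP'⟩ := hyp.exists_le_sylow
          have hyP : y ∈ (P' : Subgroup G) := hP' (mem_zpowers y)
          have hall : ∀ g : G, g * y * g⁻¹ ∈ (P' : Subgroup G) := by
            intro g
            obtain ⟨a, ha, b, hb, rfl⟩ := Set.mem_mul.1 ((mul_eq_univ P' hyd).ge (Set.mem_univ g))
            rw [show a * b * y * (a * b)⁻¹ = a * (b * y * b⁻¹) * a⁻¹ by group,
              mem_centralizer_singleton_iff.1 hb, mul_inv_cancel_right]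
            exact mul_mem (mul_mem ha hyP) (inv_mem ha)
          intro g
          obtain ⟨a, rfl⟩ := MulAction.exists_smul_eq G P' P
          rw [Sylow.coe_subgroup_smul, Subgroup.mem_pointwise_smul_iff_inv_smul_mem, ← map_inv]
          show a⁻¹ * (g * y * g⁻¹) * a⁻¹⁻¹ ∈ (P' : Subgroup G)
          have := hall (a⁻¹ * g)
          rwa [show a⁻¹ * g * y * (a⁻¹ * g)⁻¹ = a⁻¹ * (g * y * g⁻¹) * a⁻¹⁻¹ by group] at this
        · refine (le_sup_right : center G ≤ _) ?_
          have hnd : ¬ q ∣ csz y := fun hd => hqp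
            ((Nat.prime_dvd_prime_iff_eq hq hp.out).1 (hq.dvd_of_dvd_pow (hd.trans hyd)))
          obtain ⟨Q, hQ⟩ := exists_sylow_le hnd
          exact hcen q ⟨hq⟩ Q ⟨mem_of_le_centralizer Q hyp hQ, fun g hg => mem_centralizer_singleton_iff.1 (hQ hg)⟩
      rw [← hy]
      exact Subgroup.orderOf_dvd_natCard D ⟨hmem, pow_mem (mem_zpowers x) c⟩
    have hDeq : D = zpowers x := eq_of_le_of_card_ge inf_le_right (Nat.le_of_dvd Nat.card_pos hD)
    exact (hDeq.ge (mem_zpowers x)).1
  -- counting
  obtain ⟨R⟩ : Nonempty (Sylow p H) := inferInstance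
  have h1 := (of_nilpotent hH R).2
  rw [← cnt_eq h, ← hZ, ← hcard p hp P R] at h1
  have h2 : cnt G (fun k => ∃ j, k = p ^ j) ≤ Nat.card (K ⊔ center G : Subgroup G) :=
    Nat.card_le_card_of_injective (fun x => ⟨x.1, hS x.1 x.2⟩) fun x y hxy =>
      Subtype.ext (congrArg (fun u : (K ⊔ center G : Subgroup G) => u.1) hxy)
  have e := relIndex_mul_relIndex ⊥ K (K ⊔ center G) bot_le le_sup_left
  rw [relIndex_bot_left, relIndex_bot_left, relIndex_sup_left] at e
  have e2 := relIndex_mul_relIndex ⊥ (K ⊓ center G) (center G) bot_le inf_le_right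
  rw [relIndex_bot_left, relIndex_bot_left, inf_relIndex_right] at e2
  have hKZ : K ⊓ center G = (P : Subgroup G) ⊓ center G := by
    refine le_antisymm (inf_le_inf_right _ (normalCore_le _)) (le_inf ?_ inf_le_right)
    haveI : ((P : Subgroup G) ⊓ center G).Normal := ⟨fun n hn g => by
      rw [mem_center_iff.1 hn.2 g, mul_inv_cancel_right]; exact hn⟩
    exact normal_le_normalCore.2 inf_le_left
  rw [hKZ, card_inf_center P] at e2
  have hPK : Nat.card (P : Subgroup G) ≤ Nat.card K := by
    have h3 : Nat.card (P : Subgroup G) * Nat.card (center G) ≤ Nat.card K * Nat.card (center G) := by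
      calc _ ≤ Nat.card (K ⊔ center G : Subgroup G) * p ^ (Nat.card (center G)).factorization p :=
            le_trans h1 (Nat.mul_le_mul_right _ h2)
        _ = Nat.card K * (p ^ (Nat.card (center G)).factorization p * K.relIndex (center G)) := by rw [← e]; ring
        _ = _ := by rw [e2]
    exact Nat.le_of_mul_le_mul_right h3 Nat.card_pos
  rw [← eq_of_le_of_card_ge (normalCore_le (P : Subgroup G)) hPK]
  exact normalCore_normal _

end Cfsg.Lib.ClassSizesNilpotent
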