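/-
Itô's theorem on finite groups with exactly two conjugacy class sizes.
-/
import Mathlib

set_option autoImplicit false
set_option linter.unusedSectionVars false
set_option linter.style.haveILetI false

namespace Cfsg.Lib.SolvStruct.TwoSizes

open Subgroup

universe u

/-- in an abelian group two commuting fixed-point-free automorphisms of order `p` spanning a group of
order `p²` force exponent `p` modulo the central part -/
theorem product_identity {A : Type*} [CommGroup A] (W : Subgroup A) {p : ℕ} [hp : Fact p.Prime] (α β : MulAut A)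
    (hα : α ^ p = 1) (hβ : β ^ p = 1) (hc : Commute α β)
    (h1 : ∀ a, β a = a → a ∈ W) (h2 : ∀ (j : ℕ) a, (α * β ^ j) a = a → a ∈ W) (hfix : ∀ w ∈ W, α w = w)
    (a : A) : a ^ p ∈ W := by
  classical
  haveI : NeZero p := ⟨hp.out.ne_zero⟩
  have per : ∀ (γ : MulAut A), γ ^ p = 1 → ∀ i j : ZMod p, γ ^ (i + j).val = γ ^ i.val * γ ^ j.val := fun γ hγ i j => by
    rw [← pow_add, ZMod.val_add, ← pow_eq_pow_mod _ hγ]
  have orb : ∀ (γ : MulAut A), γ ^ p = 1 → ∀ a : A, γ (∏ i : ZMod p, (γ ^ i.val) a) = ∏ i : ZMod p, (γ ^ i.val) a := by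
    intro γ hγ a
    rw [map_prod]
    refine (Finset.prod_congr rfl fun i _ => ?_).trans (Equiv.prod_comp (Equiv.addLeft (1 : ZMod p)) fun i => (γ ^ i.val) a)
    show γ ((γ ^ i.val) a) = (γ ^ (1 + i).val) a
    rw [per γ hγ, ZMod.val_one, pow_one]; rfl
  have hγ : ∀ j : ℕ, (α * β ^ j) ^ p = 1 := fun j => by
    rw [(hc.pow_right j).mul_pow, hα, ← pow_mul, mul_comm, pow_mul, hβ, one_pow, one_mul]
  have hNW : ∏ j : ZMod p, (β ^ j.val) a ∈ W := h1 _ (orb β hβ a)
  have key : ∏ j : ZMod p, ∏ i : ZMod p, ((α * β ^ j.val) ^ i.val) a ∈ W :=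
    prod_mem fun j _ => h2 _ _ (orb _ (hγ _) a)
  have e : ∀ i j : ZMod p, ((α * β ^ j.val) ^ i.val) a = (α ^ i.val) ((β ^ (i * j).val) a) := fun i j => by
    rw [(hc.pow_right _).mul_pow, ← pow_mul, mul_comm j.val, ZMod.val_mul, ← pow_eq_pow_mod _ hβ]
    rfl
  simp only [e] at key
  rw [Finset.prod_comm, ← Finset.mul_prod_erase Finset.univ _ (Finset.mem_univ (0 : ZMod p))] at key
  have e0 : ∏ j : ZMod p, (α ^ (0 : ZMod p).val) ((β ^ (0 * j).val) a) = a ^ p := by
    simp [ZMod.card]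
  rw [e0] at key
  refine (mul_mem_cancel_right (prod_mem fun i hi => ?_)).1 key
  have hi0 : i ≠ 0 := (Finset.mem_erase.1 hi).1
  have e1 : ∏ j : ZMod p, (α ^ i.val) ((β ^ (i * j).val) a) = (α ^ i.val) (∏ j : ZMod p, (β ^ j.val) a) := by
    rw [map_prod]
    exact Equiv.prod_comp (Equiv.mulLeft₀ i hi0) fun j => (α ^ i.val) ((β ^ j.val) a)
  rw [e1]
  have hpow : ∀ k : ℕ, (α ^ k) (∏ j : ZMod p, (β ^ j.val) a) = ∏ j : ZMod p, (β ^ j.val) a := by
    intro k
    induction k with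
    | zero => rfl
    | succ k ih => rw [pow_succ', MulAut.mul_apply, ih, hfix _ hNW]
  rw [hpow]
  exact hNW

variable {G : Type u} [Group G] [Finite G] {n : ℕ}

local notation "cen" g:max => Subgroup.centralizer ({g} : Set _)

/-- the hypothesis: all noncentral classes have size `n` -/
def TwoSizes (G : Type u) [Group G] (n : ℕ) : Prop :=
  1 < n ∧ ∀ x : G, x ∉ center G → (Subgroup.centralizer ({x} : Set G)).index = n

theorem mem_center_of_cen_top {x : G} (h : (cen x).index = 1) : x ∈ center G :=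
  mem_center_iff.2 fun g => mem_centralizer_singleton_iff.1 ((index_eq_one.1 h).ge (mem_top g))

theorem cen_eq (h : TwoSizes G n) {a b : G} (ha : a ∉ center G) (hb : b ∉ center G) (hle : cen a ≤ cen b) :
    (cen a : Subgroup G) = cen b := by
  refine eq_of_le_of_card_ge hle (le_of_eq ?_)
  have h1 := (cen a : Subgroup G).card_mul_index
  rw [← (cen b : Subgroup G).card_mul_index, h.2 a ha, h.2 b hb] at h1
  exact (Nat.eq_of_mul_eq_mul_right (zero_lt_one.trans h.1) h1).symm

theorem cen_le_pow (a : G) (k : ℕ) : (cen a : Subgroup G) ≤ cen (a ^ k) := fun g hg =>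
  mem_centralizer_singleton_iff.2 ((show Commute g a from mem_centralizer_singleton_iff.1 hg).pow_right k).eq

theorem commute_mul_coprime {g x y : G} {a b : ℕ} (hxy : Commute x y) (hx : x ^ a = 1) (hy : y ^ b = 1)
    (hab : a.Coprime b) (hg : Commute g (x * y)) : Commute g x := by
  have h1 : Commute g (x ^ b) := by
    have := hg.pow_right b
    rwa [hxy.mul_pow, hy, mul_one] at this
  have e : x = (x ^ (b : ℤ)) ^ (Nat.gcdB a b) := by
    conv_lhs => rw [← zpow_one x, show (1 : ℤ) = ((a.gcd b : ℕ) : ℤ) by rw [hab.gcd_eq_one]; rfl, Nat.gcd_eq_gcd_ab,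
      zpow_add, zpow_mul, zpow_natCast x a, hx, one_zpow, one_mul, zpow_mul]
  rw [e, zpow_natCast]
  exact h1.zpow_right _

/-- centralizer of a noncentral element equals that of a commuting one of coprime order -/
theorem cen_coprime (h : TwoSizes G n) {x y : G} {a b : ℕ} (hxy : Commute x y) (hx : x ^ a = 1) (hy : y ^ b = 1)
    (hab : a.Coprime b) (hxc : x ∉ center G) (hyc : y ∉ center G) : (cen x : Subgroup G) = cen y := by
  have hxyc : x * y ∉ center G := fun hc => hxc (mem_center_iff.2 fun g =>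
    (commute_mul_coprime hxy hx hy hab (mem_center_iff.1 hc g : Commute g (x * y))).eq)
  have h1 : (cen (x * y) : Subgroup G) = cen x := cen_eq h hxyc hxc fun g hg =>
    mem_centralizer_singleton_iff.2 (commute_mul_coprime hxy hx hy hab (mem_centralizer_singleton_iff.1 hg)).eq
  have h2 : (cen (x * y) : Subgroup G) = cen y := cen_eq h hxyc hyc fun g hg => by
    refine mem_centralizer_singleton_iff.2 (commute_mul_coprime hxy.symm hy hx hab.symm ?_).eq
    rw [← hxy.eq]
    exact mem_centralizer_singleton_iff.1 hg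
  exact h1.symm.trans h2

theorem exists_primary (g : G) (hg : g ∉ center G) :
    ∃ (r e m : ℕ), r.Prime ∧ g ^ m ∉ center G ∧ (g ^ m) ^ (r ^ e) = 1 := by
  have key : ∀ d : ℕ, ∀ h : G, h ^ d = 1 → d ≠ 0 → h ∉ center G →
      ∃ (r e m : ℕ), r.Prime ∧ h ^ m ∉ center G ∧ (h ^ m) ^ (r ^ e) = 1 := by
    intro d
    induction d using Nat.recOnPosPrimePosCoprime with
    | zero => intro h _ h0; exact absurd rfl h0
    | one =>
      intro h h1 _ hc
      rw [pow_one] at h1
      exact absurd (h1 ▸ one_mem _) hc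
    | prime_pow r e hr he =>
      intro h h1 _ hc
      exact ⟨r, e, 1, hr, by rwa [pow_one], by rwa [pow_one]⟩
    | coprime a b ha hb hab iha ihb =>
      intro h h1 _ hc
      by_cases hA : h ^ a ∈ center G
      · by_cases hB : h ^ b ∈ center G
        · refine absurd ?_ hc
          have : (1 : ℤ) = ((a.gcd b : ℕ) : ℤ) := by rw [hab.gcd_eq_one]; rfl
          rw [← zpow_one h, this, Nat.gcd_eq_gcd_ab, zpow_add, zpow_mul, zpow_mul, zpow_natCast, zpow_natCast]
          exact mul_mem (zpow_mem hA _) (zpow_mem hB _)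
        · obtain ⟨r, e, m, hr, hm, hme⟩ := iha (h ^ b) (by rw [← pow_mul, mul_comm, h1]) (by omega) hB
          exact ⟨r, e, b * m, hr, by rwa [pow_mul], by rwa [pow_mul h b]⟩
      · obtain ⟨r, e, m, hr, hm, hme⟩ := ihb (h ^ a) (by rw [← pow_mul, h1]) (by omega) hA
        exact ⟨r, e, a * m, hr, by rwa [pow_mul], by rwa [pow_mul h a]⟩
  exact key _ g (pow_orderOf_eq_one g) (orderOf_pos g).ne' hg

/-- `x` noncentral in the second centre of a Sylow subgroup `P`, of order `p` modulo the centre -/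
def Special (p : ℕ) (P : Subgroup G) (x : G) : Prop :=
  x ∈ P ∧ x ∉ center G ∧ x ^ p ∈ center G ∧ ∀ g ∈ P, g * x * g⁻¹ * x⁻¹ ∈ center G

theorem exists_special {p : ℕ} [hp : Fact p.Prime] {P : Subgroup G} (hP : IsPGroup p P) (hne : ¬ P ≤ center G) :
    ∃ x, Special p P x := by
  set π := QuotientGroup.mk' (center G)
  have hQ : IsPGroup p (P.map π) := hP.map π
  haveI : Nontrivial (P.map π) := (nontrivial_iff_ne_bot _).2 fun hb => hne (by
    rwa [Subgroup.map_eq_bot_iff, QuotientGroup.ker_mk'] at hb)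
  obtain ⟨i, hi⟩ := IsPGroup.iff_card.1 (hQ.to_subgroup (center (P.map π)))
  haveI := hQ.center_nontrivial
  have h1 : 1 < Nat.card (center (P.map π)) := Finite.one_lt_card
  obtain ⟨z, hz⟩ := exists_prime_orderOf_dvd_card' p (show p ∣ Nat.card (center (P.map π)) by
    rw [hi]; exact dvd_pow_self p (fun h0 => by rw [hi, h0] at h1; simp at h1))
  rw [← Subgroup.orderOf_coe, ← Subgroup.orderOf_coe] at hz
  obtain ⟨x, hxP, hxe⟩ := z.1.2
  refine ⟨x, hxP, fun hc => ?_, ?_, fun g hg => ?_⟩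
  · rw [← hxe, show π x = 1 from (QuotientGroup.eq_one_iff x).2 hc, orderOf_one] at hz
    exact hp.out.one_lt.ne hz
  · rw [← QuotientGroup.eq_one_iff]
    show π (x ^ p) = 1
    rw [map_pow, hxe, ← hz, pow_orderOf_eq_one]
  · rw [← QuotientGroup.eq_one_iff]
    show π (g * x * g⁻¹ * x⁻¹) = 1
    have := congrArg Subtype.val (mem_center_iff.1 z.2 ⟨π g, mem_map_of_mem π hg⟩)
    simp only [Subgroup.coe_mul] at this
    rw [← hxe] at this
    rw [map_mul, map_mul, map_mul, map_inv, map_inv, this]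
    group

theorem normalizes_cen {p : ℕ} {P : Subgroup G} {x g : G} (hs : Special p P x) (hg : g ∈ P) {a : G}
    (ha : a ∈ cen x) : g * a * g⁻¹ ∈ (cen x : Subgroup G) := by
  have hz := hs.2.2.2 g⁻¹ (inv_mem hg)
  rw [inv_inv] at hz
  rw [mem_centralizer_singleton_iff] at ha ⊢
  set z := g⁻¹ * x * g * x⁻¹ with hzd
  have e : x = g * (z * x) * g⁻¹ := by rw [hzd]; group
  calc g * a * g⁻¹ * x = g * (a * (z * x)) * g⁻¹ := by conv_lhs => rw [e]
                                                       group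
    _ = g * ((z * x) * a) * g⁻¹ := by
      have e2 : a * (z * x) = (z * x) * a := by rw [← mul_assoc, mem_center_iff.1 hz a, mul_assoc, ha, ← mul_assoc]
      rw [e2]
    _ = x * (g * a * g⁻¹) := by conv_rhs => rw [e]
                                group

/-- outside `C(x)` the `p`-th powers are central -/
theorem pow_mem_center (h : TwoSizes G n) {p : ℕ} {P : Subgroup G} {x : G} (hs : Special p P x) {g : G}
    (hg : g ∈ P) (hgx : g ∉ (cen x : Subgroup G)) : g ^ p ∈ center G := by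
  by_contra hgp
  have hgc : g ∉ center G := fun hc => hgp (pow_mem hc p)
  set π := QuotientGroup.mk' (center G)
  have hcom : Commute (π g) (π x) := by
    rw [← commutatorElement_eq_one_iff_commute, ← map_commutatorElement]
    exact (QuotientGroup.eq_one_iff _).2 (by rw [commutatorElement_def]; exact hs.2.2.2 g hg)
  have hq : π ((g * x) ^ p) = π (g ^ p) := by
    rw [map_pow, map_mul, hcom.mul_pow, ← map_pow, ← map_pow, show π (x ^ p) = 1 from
      (QuotientGroup.eq_one_iff _).2 hs.2.2.1, mul_one]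
  have hz : ((g * x) ^ p)⁻¹ * g ^ p ∈ center G := QuotientGroup.eq.1 hq
  have hle : (cen (g * x) : Subgroup G) ≤ cen (g ^ p) := fun w hw => by
    refine mem_centralizer_singleton_iff.2 ?_
    rw [show g ^ p = (g * x) ^ p * (((g * x) ^ p)⁻¹ * g ^ p) by group]
    exact ((show Commute w (g * x) from mem_centralizer_singleton_iff.1 hw).pow_right p).mul_right
      (mem_center_iff.1 hz w)
  have h1 : g * x ∈ (cen g : Subgroup G) := by
    rw [cen_eq h hgc hgp (cen_le_pow g p)]
    exact hle (mem_centralizer_singleton_iff.2 rfl)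
  refine hgx (mem_centralizer_singleton_iff.2 ?_)
  have h2 : g * x * g = g * (g * x) := mem_centralizer_singleton_iff.1 h1
  rw [mul_assoc] at h2
  exact (mul_left_cancel h2).symm

theorem not_dvd_of_central {p : ℕ} [hp : Fact p.Prime] (P : Sylow p G) {y : G}
    (h : (P : Subgroup G) ≤ cen y) : ¬ p ∣ (cen y : Subgroup G).index := fun hd =>
  P.not_dvd_index (hd.trans (index_dvd_of_le h))

theorem one_prime (h : TwoSizes G n) {p : ℕ} [hp : Fact p.Prime] {g₀ : G} (hg₀ : g₀ ∉ center G)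
    (hcent : ∀ y : G, (orderOf y).Coprime p → y ∈ center G) :
    ∃ a : ℕ, n = p ^ a ∧ ∀ P : Sylow p G, (P : Subgroup G).Normal ∧
      (∃ N : Subgroup G, N.Normal ∧ N.IsComplement' (P : Subgroup G) ∧ IsMulCommutative N ∧
        ∀ x ∈ N, ∀ y ∈ (P : Subgroup G), x * y = y * x) ∧
      ∃ A : Subgroup (P : Subgroup G), A.Normal ∧ IsMulCommutative A ∧ ∀ y : (P : Subgroup G), y ^ p ∈ A := by
  classical
  obtain ⟨e, m, hm, hcard⟩ := Nat.exists_eq_pow_mul_and_not_dvd (Nat.card_pos (α := G)).ne' p hp.out.ne_one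
  have hmp : m.Coprime p := (hp.out.coprime_iff_not_dvd.2 hm).symm
  let N : Subgroup G :=
    { carrier := {y | y ∈ center G ∧ y ^ m = 1}
      one_mem' := ⟨one_mem _, one_pow m⟩
      mul_mem' := fun {a b} ha hb => ⟨mul_mem ha.1 hb.1, by
        rw [(show Commute a b from mem_center_iff.1 hb.1 a).mul_pow, ha.2, hb.2, one_mul]⟩
      inv_mem' := fun {a} ha => ⟨inv_mem ha.1, by rw [inv_pow, ha.2, inv_one]⟩ }
  have hNn : N.Normal := ⟨fun a ha g => by rw [mem_center_iff.1 ha.1 g, mul_inv_cancel_right]; exact ha⟩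
  have hdec : ∀ g : G, ∃ a ∈ N, ∃ b : G, b ^ (p ^ e) = 1 ∧ a * b = g := fun g => by
    have hg : g ^ (p ^ e * m) = 1 := hcard ▸ pow_card_eq_one'
    obtain ⟨s, t, hst⟩ := (Int.isCoprime_iff_gcd_eq_one (m := ((p ^ e : ℕ) : ℤ)) (n := (m : ℤ))).2
      (show Int.gcd _ _ = 1 from (hmp.symm.pow_left e).gcd_eq_one)
    refine ⟨g ^ (s * ((p ^ e : ℕ) : ℤ)), ⟨hcent _ ?_, ?_⟩, g ^ (t * (m : ℤ)), ?_, ?_⟩
    · refine Nat.Coprime.coprime_dvd_left ?_ hmp
      refine orderOf_dvd_of_pow_eq_one ?_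
      rw [← zpow_natCast, ← zpow_mul, mul_assoc, ← Nat.cast_mul, mul_comm, zpow_mul, zpow_natCast, hg, one_zpow]
    · rw [← zpow_natCast, ← zpow_mul, mul_assoc, ← Nat.cast_mul, mul_comm, zpow_mul, zpow_natCast, hg, one_zpow]
    · rw [← zpow_natCast, ← zpow_mul, mul_assoc, ← Nat.cast_mul, mul_comm, zpow_mul, zpow_natCast, mul_comm m, hg, one_zpow]
    · rw [← zpow_add, hst, zpow_one]
  have hnorm : ∀ P : Sylow p G, (P : Subgroup G).Normal := fun P => by
    refine normalizer_eq_top_iff.1 (eq_top_of_card_eq _ (Nat.dvd_antisymm (card_subgroup_dvd_card _) ?_))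
    rw [Nat.dvd_iff_prime_pow_dvd_dvd]
    intro r k hr hk
    haveI := Fact.mk hr
    by_cases hrp : r = p
    · subst hrp
      exact (P.pow_dvd_card_of_pow_dvd_card hk).trans (card_dvd_of_le le_normalizer)
    obtain ⟨R⟩ := (inferInstance : Nonempty (Sylow r G))
    refine (R.pow_dvd_card_of_pow_dvd_card hk).trans (card_dvd_of_le fun y hy => center_le_normalizer _ (hcent y ?_))
    obtain ⟨j, hj⟩ := IsPGroup.iff_orderOf.1 R.2 ⟨y, hy⟩
    rw [Subgroup.orderOf_mk] at hj
    rw [hj]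
    exact Nat.Coprime.pow_left j ((Nat.coprime_primes hr hp.out).2 hrp)
  have hmemP : ∀ (P : Sylow p G) (b : G), b ^ (p ^ e) = 1 → b ∈ (P : Subgroup G) := fun P b hb => by
    have hz : IsPGroup p (zpowers b) := fun y => ⟨e, Subtype.ext (by
      obtain ⟨i, hi⟩ := mem_zpowers_iff.1 y.2
      rw [SubgroupClass.coe_pow, ← hi, ← zpow_natCast, ← zpow_mul, mul_comm, zpow_mul, zpow_natCast, hb, one_zpow]
      rfl)⟩
    haveI := hnorm P
    obtain ⟨R, hR⟩ := hz.exists_le_sylow
    haveI := Sylow.unique_of_normal P inferInstance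
    rw [Subsingleton.elim P R]
    exact hR (mem_zpowers b)
  obtain ⟨P₀⟩ := (inferInstance : Nonempty (Sylow p G))
  obtain ⟨a, -, ha⟩ : ∃ a ≤ e, n = p ^ a := by
    refine (Nat.dvd_prime_pow hp.out).1 ?_
    have hcop : Nat.Coprime n m := by
      refine Nat.coprime_of_dvd fun r hr hrn hrm => ?_
      haveI := Fact.mk hr
      have hrp : r ≠ p := fun h' => hm (h' ▸ hrm)
      obtain ⟨R⟩ := (inferInstance : Nonempty (Sylow r G))
      refine not_dvd_of_central R (y := g₀) (fun y hy => mem_centralizer_singleton_iff.2 ?_) (h.2 g₀ hg₀ ▸ hrn)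
      obtain ⟨j, hj⟩ := IsPGroup.iff_orderOf.1 R.2 ⟨y, hy⟩
      rw [Subgroup.orderOf_mk] at hj
      exact (mem_center_iff.1 (hcent y (by rw [hj]; exact Nat.Coprime.pow_left j ((Nat.coprime_primes hr hp.out).2 hrp))) g₀).symm
    refine hcop.dvd_of_dvd_mul_right ?_
    rw [← hcard, ← h.2 g₀ hg₀]
    exact index_dvd_card _
  refine ⟨a, ha, fun P => ⟨hnorm P, ⟨N, hNn, ?_, ⟨⟨fun u v => Subtype.ext (mem_center_iff.1 v.2.1 u)⟩⟩,
    fun u hu v _ => (mem_center_iff.1 hu.1 v).symm⟩, ?_⟩⟩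
  · refine isComplement'_of_disjoint_and_mul_eq_univ (disjoint_iff.2 ((eq_bot_iff_forall _).2 fun y hy => ?_))
      (Set.eq_univ_of_forall fun g => ?_)
    · obtain ⟨hyN, hyP⟩ := mem_inf.1 hy
      obtain ⟨j, hj⟩ := IsPGroup.iff_orderOf.1 P.2 ⟨y, hyP⟩
      rw [Subgroup.orderOf_mk] at hj
      exact orderOf_eq_one_iff.1 (Nat.eq_one_of_dvd_coprimes (hmp.pow_right j) (orderOf_dvd_of_pow_eq_one hyN.2) hj.dvd)
    · obtain ⟨u, hu, v, hv, huv⟩ := hdec g
      exact ⟨u, hu, v, hmemP P v hv, huv⟩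
  · obtain ⟨x, hs⟩ := exists_special P.2 (fun hle => hg₀ (by
      obtain ⟨u, hu, v, hv, huv⟩ := hdec g₀
      rw [← huv]
      exact mul_mem hu.1 (hle (hmemP P v hv))))
    let A : Subgroup (P : Subgroup G) :=
      { carrier := {a | (a : G) ∈ cen x ∧ ∀ b : (P : Subgroup G), (b : G) ∈ cen x → a * b = b * a}
        one_mem' := ⟨one_mem _, fun b _ => by simp⟩
        mul_mem' := fun {a b} ha hb => ⟨mul_mem ha.1 hb.1, fun c hc =>
          ((show Commute a c from ha.2 c hc).mul_left (hb.2 c hc)).eq⟩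
        inv_mem' := fun {a} ha => ⟨inv_mem ha.1, fun c hc => (show Commute a c from ha.2 c hc).inv_left.eq⟩ }
    refine ⟨A, ⟨fun u hu g => ⟨normalizes_cen hs g.2 hu.1, fun b hb => ?_⟩⟩,
      ⟨⟨fun u v => Subtype.ext (u.2.2 v v.2.1)⟩⟩, fun y => ?_⟩
    · have hb' : ((g⁻¹ * b * g : (P : Subgroup G)) : G) ∈ cen x := by
        have := normalizes_cen hs (inv_mem g.2) hb
        rwa [inv_inv] at this
      calc g * u * g⁻¹ * b = g * (u * (g⁻¹ * b * g)) * g⁻¹ := by group
        _ = g * ((g⁻¹ * b * g) * u) * g⁻¹ := by rw [hu.2 _ hb']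
        _ = b * (g * u * g⁻¹) := by group
    by_cases hyp : ((y ^ p : (P : Subgroup G)) : G) ∈ center G
    · exact ⟨mem_centralizer_singleton_iff.2 (mem_center_iff.1 hyp x).symm,
        fun b _ => Subtype.ext (mem_center_iff.1 hyp b).symm⟩
    have hyx : (y : G) ∈ cen x := by
      by_contra hny
      exact hyp (pow_mem_center h hs y.2 hny)
    have hyc : (y : G) ∉ center G := fun hc => hyp (pow_mem hc p)
    have hle : (cen (y : G) : Subgroup G) ≤ cen x := fun w hw => by
      obtain ⟨u, hu, v, hv, rfl⟩ := hdec w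
      have hvy : v ∈ cen (y : G) := by
        have hu' : u⁻¹ ∈ cen (y : G) := mem_centralizer_singleton_iff.2 (mem_center_iff.1 (inv_mem hu.1) (y : G)).symm
        have := mul_mem hu' hw
        rwa [inv_mul_cancel_left] at this
      refine mul_mem (mem_centralizer_singleton_iff.2 (mem_center_iff.1 hu.1 x).symm) ?_
      by_contra hvx
      have h1 : v * (y : G) ∉ cen x := fun h' => hvx (by simpa using mul_mem h' (inv_mem hyx))
      have h2 := pow_mem_center h hs (mul_mem (hmemP P v hv) y.2) h1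
      rw [(show Commute v (y : G) from mem_centralizer_singleton_iff.1 hvy).mul_pow] at h2
      exact hyp (by simpa using mul_mem (inv_mem (pow_mem_center h hs (hmemP P v hv) hvx)) h2)
    refine ⟨pow_mem hyx p, fun b hb => Subtype.ext ?_⟩
    rw [← cen_eq h hyc hs.2.1 hle] at hb
    exact ((show Commute (b : G) y from mem_centralizer_singleton_iff.1 hb).pow_right p).eq.symm

theorem exists_noncentral_pElement (h : TwoSizes G n) {p : ℕ} [hp : Fact p.Prime] {x y : G} {e : ℕ}
    (hx : x ∉ center G) (hxe : x ^ (p ^ e) = 1) (hy : y ∉ center G) :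
    ∃ v ∈ (cen y : Subgroup G), v ∉ center G ∧ ∃ f : ℕ, v ^ (p ^ f) = 1 := by
  by_contra! hall
  obtain ⟨S⟩ := (inferInstance : Nonempty (Sylow p (cen y : Subgroup G)))
  set S' := (S : Subgroup (cen y : Subgroup G)).map (cen y : Subgroup G).subtype with hS'
  have hS'p : IsPGroup p S' := S.2.map _
  have hS'c : S' ≤ center G := fun v hv => by
    by_contra hvc
    obtain ⟨f, hf⟩ := hS'p ⟨v, hv⟩
    exact hall v (map_subtype_le _ hv) hvc f (congrArg Subtype.val hf)
  haveI : S'.Normal := ⟨fun v hv g => by rw [mem_center_iff.1 (hS'c hv) g, mul_inv_cancel_right]; exact hv⟩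
  have hz : IsPGroup p (zpowers x) := fun v => ⟨e, Subtype.ext (by
    obtain ⟨i, hi⟩ := mem_zpowers_iff.1 v.2
    rw [SubgroupClass.coe_pow, ← hi, ← zpow_natCast, ← zpow_mul, mul_comm, zpow_mul, zpow_natCast, hxe, one_zpow]
    rfl)⟩
  obtain ⟨k, hk⟩ := IsPGroup.iff_card.1 (hS'p.to_sup_of_normal_left hz)
  have hle : S' ⊔ zpowers x ≤ cen x := sup_le (fun v hv => mem_centralizer_singleton_iff.2 (mem_center_iff.1 (hS'c hv) x).symm)
    (zpowers_le.2 (mem_centralizer_singleton_iff.2 rfl))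
  have he : Nat.card (cen x : Subgroup G) = Nat.card (cen y : Subgroup G) := by
    have h1 := (cen x : Subgroup G).card_mul_index
    rw [← (cen y : Subgroup G).card_mul_index, h.2 x hx, h.2 y hy] at h1
    exact Nat.eq_of_mul_eq_mul_right (zero_lt_one.trans h.1) h1
  have h1 : p ^ k ∣ Nat.card S := S.pow_dvd_card_of_pow_dvd_card (by rw [← hk, ← he]; exact card_dvd_of_le hle)
  have h2 : S' = S' ⊔ zpowers x := eq_of_le_of_card_ge le_sup_left (by
    rw [hk, hS', card_map_of_injective (cen y : Subgroup G).subtype_injective]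
    exact Nat.le_of_dvd Nat.card_pos h1)
  exact hx (hS'c (h2 ▸ mem_sup_right (mem_zpowers x)))

/-- with two primes all noncentral centralizers are abelian and coincide on noncentral members -/
theorem cen_eq_of_mem (h : TwoSizes G n) {r₁ r₂ : ℕ} (hr₁ : r₁.Prime) (hr₂ : r₂.Prime) (hr : r₁ ≠ r₂)
    {x₁ x₂ : G} {e₁ e₂ : ℕ} (hx₁ : x₁ ∉ center G) (hx₂ : x₂ ∉ center G) (hxe₁ : x₁ ^ (r₁ ^ e₁) = 1) (hxe₂ : x₂ ^ (r₂ ^ e₂) = 1)
    {g z : G} (hg : g ∉ center G) (hz : z ∉ center G) (hzg : z ∈ (cen g : Subgroup G)) :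
    (cen z : Subgroup G) = cen g := by
  obtain ⟨r, e, m, hrp, hw, hwe⟩ := exists_primary g hg
  obtain ⟨s, f, k, hsp, hv, hve⟩ := exists_primary z hz
  rw [cen_eq h hg hw (cen_le_pow g m)] at hzg ⊢
  rw [cen_eq h hz hv (cen_le_pow z k)]
  set w := g ^ m
  set v := z ^ k
  have hvw : Commute v w := (show Commute z w from mem_centralizer_singleton_iff.1 hzg).pow_left k
  by_cases hsr : s = r
  · obtain ⟨r', e', x', hr'p, hne, hx', hxe'⟩ : ∃ (r' e' : ℕ) (x' : G), r'.Prime ∧ r' ≠ r ∧ x' ∉ center G ∧ x' ^ (r' ^ e') = 1 := by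
      by_cases h1 : r₁ = r
      · exact ⟨r₂, e₂, x₂, hr₂, fun h2 => hr (h1.trans h2.symm), hx₂, hxe₂⟩
      · exact ⟨r₁, e₁, x₁, hr₁, h1, hx₁, hxe₁⟩
    haveI := Fact.mk hr'p
    obtain ⟨u, hu, huc, f', huf⟩ := exists_noncentral_pElement h hx' hxe' hw
    have huw : Commute u w := mem_centralizer_singleton_iff.1 hu
    have e1 : (cen u : Subgroup G) = cen w :=
      cen_coprime h huw huf hwe (Nat.Coprime.pow _ _ ((Nat.coprime_primes hr'p hrp).2 hne)) huc hw
    have hvu : v ∈ (cen u : Subgroup G) := e1 ▸ mem_centralizer_singleton_iff.2 hvw.eq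
    rw [← e1]
    exact cen_coprime h (show Commute v u from mem_centralizer_singleton_iff.1 hvu) hve huf
      (Nat.Coprime.pow _ _ ((Nat.coprime_primes hsp hr'p).2 (hsr ▸ hne.symm))) hv huc
  · exact cen_coprime h hvw hve hwe (Nat.Coprime.pow _ _ ((Nat.coprime_primes hsp hrp).2 hsr)) hv hw

theorem not_two_primes (h : TwoSizes G n) {r₁ r₂ : ℕ} (hr₁ : r₁.Prime) (hr₂ : r₂.Prime) (hr : r₁ < r₂)
    {x₁ x₂ : G} {e₁ e₂ : ℕ} (hx₁ : x₁ ∉ center G) (hx₂ : x₂ ∉ center G) (hxe₁ : x₁ ^ (r₁ ^ e₁) = 1)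
    (hxe₂ : x₂ ^ (r₂ ^ e₂) = 1) : False := by
  classical
  have part := fun {g z : G} (hg : g ∉ center G) (hz : z ∉ center G) (hzg : z ∈ (cen g : Subgroup G)) =>
    cen_eq_of_mem h hr₁ hr₂ hr.ne hx₁ hx₂ hxe₁ hxe₂ hg hz hzg
  have hab : ∀ g : G, g ∉ center G → ∀ a ∈ (cen g : Subgroup G), ∀ b ∈ (cen g : Subgroup G), Commute a b := fun g hg a ha b hb => by
    by_cases hbc : b ∈ center G
    · exact mem_center_iff.1 hbc a
    rw [← part hg hbc hb] at ha
    exact mem_centralizer_singleton_iff.1 ha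
  set π := QuotientGroup.mk' (center G) with hπ
  have hπ1 : ∀ g : G, π g = 1 ↔ g ∈ center G := fun g => QuotientGroup.eq_one_iff g
  -- Sylow data for a prime divisor of `n`
  have data : ∀ p : ℕ, p.Prime → p ∣ n → ∃ (P : Subgroup G) (x u : G), IsPGroup p P ∧ (∀ k, p ^ k ∣ Nat.card G → p ^ k ∣ Nat.card P) ∧
      Special p P x ∧ u ∈ P ∧ u ∉ (cen x : Subgroup G) := by
    intro p hp hpn
    haveI := Fact.mk hp
    obtain ⟨P⟩ := (inferInstance : Nonempty (Sylow p G))
    have hnc : ¬ (P : Subgroup G) ≤ center G := fun hle => not_dvd_of_central P (y := x₁)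
      (fun y hy => mem_centralizer_singleton_iff.2 (mem_center_iff.1 (hle hy) x₁).symm) (h.2 x₁ hx₁ ▸ hpn)
    obtain ⟨x, hs⟩ := exists_special P.2 hnc
    obtain ⟨u, hu, hux⟩ := SetLike.not_le_iff_exists.1 fun hle : (P : Subgroup G) ≤ cen x =>
      not_dvd_of_central P hle (h.2 x hs.2.1 ▸ hpn)
    exact ⟨P, x, u, P.2, fun k hk => P.pow_dvd_card_of_pow_dvd_card hk, hs, hu, hux⟩
  -- every centralizer contains noncentral elements for both primes
  have hsq : ∀ p : ℕ, p.Prime → ¬ p ^ 2 ∣ n := by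
    intro p hp hp2
    haveI := Fact.mk hp
    obtain ⟨P, x, u, hPp, hPc, hs, hu, hux⟩ := data p hp ((dvd_pow_self p two_ne_zero).trans hp2)
    set C := (cen x : Subgroup G) with hC
    haveI hMn : (C.subgroupOf P).Normal := ⟨fun a ha g => normalizes_cen hs g.2 ha⟩
    set M := C.subgroupOf P with hM
    have hpow : ∀ v : P, (v : G) ∉ C → (v : G) ^ p ∈ center G := fun v hv => pow_mem_center h hs v.2 hv
    have hcenM : ∀ v : P, (v : G) ∈ center G → v ∈ M := fun v hv =>
      mem_centralizer_singleton_iff.2 (mem_center_iff.1 hv x).symm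
    obtain ⟨v, hv⟩ : ∃ v : P, v ∉ M ⊔ zpowers (⟨u, hu⟩ : P) := by
      by_contra! hall
      have htop : M ⊔ zpowers (⟨u, hu⟩ : P) = ⊤ := eq_top_iff.2 fun v _ => hall v
      set u' : P := ⟨u, hu⟩
      have hd : M.index ∣ p := by
        rw [← relIndex_top_right, ← htop, sup_comm, relIndex_sup_right]
        have hle : zpowers (u' ^ p) ≤ M ⊓ zpowers u' := zpowers_le.2 (mem_inf.2 ⟨hcenM _ (hpow u' hux), pow_mem (mem_zpowers _) p⟩)
        refine (inf_relIndex_right M (zpowers u') ▸ relIndex_dvd_of_le_left (zpowers u') hle).trans ?_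
        have h1 := relIndex_mul_relIndex (⊥ : Subgroup P) (zpowers (u' ^ p)) (zpowers u') bot_le (hle.trans inf_le_right)
        rw [relIndex_bot_left, relIndex_bot_left, Nat.card_zpowers, Nat.card_zpowers, orderOf_pow] at h1
        have h3 : orderOf u' / (orderOf u').gcd p * (orderOf u').gcd p = orderOf u' := Nat.div_mul_cancel (Nat.gcd_dvd_left _ _)
        conv_rhs at h1 => rw [← h3]
        rw [Nat.eq_of_mul_eq_mul_left (Nat.div_pos (Nat.le_of_dvd (orderOf_pos u') (Nat.gcd_dvd_left _ _))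
          (Nat.gcd_pos_of_pos_left p (orderOf_pos u'))) h1]
        exact Nat.gcd_dvd_right _ _
      obtain ⟨k, hk⟩ := IsPGroup.iff_card.1 (hPp.to_subgroup M)
      have h1 : p ^ (2 + k) ∣ Nat.card G := by
        rw [← C.card_mul_index, hC, h.2 x hs.2.1, pow_add, mul_comm]
        refine Nat.mul_dvd_mul ?_ hp2
        rw [← hk, ← Nat.card_congr (Equiv.refl M), hM, subgroupOf, ← card_map_of_injective P.subtype_injective]
        exact card_dvd_of_le (map_comap_le _ _)
      have h2 := hPc _ h1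
      rw [← M.card_mul_index, hk, add_comm, pow_add] at h2
      have h4 := Nat.le_of_dvd hp.pos ((Nat.dvd_of_mul_dvd_mul_left (pow_pos hp.pos k) h2).trans hd)
      have := hp.two_le
      nlinarith
    have hvC : (v : G) ∉ C := fun hvC => hv (mem_sup_left hvC)
    have hxnc := hs.2.1
    -- conjugation on `C`
    letI : CommGroup C := { (inferInstance : Group C) with
      mul_comm := fun a b => Subtype.ext (hab x hxnc a a.2 b b.2).eq }
    let act : P → MulAut C := fun g =>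
      { toFun := fun a => ⟨g * a * (g : G)⁻¹, normalizes_cen hs g.2 a.2⟩
        invFun := fun a => ⟨(g : G)⁻¹ * a * g, by simpa using normalizes_cen hs (inv_mem g.2) a.2⟩
        left_inv := fun a => Subtype.ext (by show (g : G)⁻¹ * (g * a * (g : G)⁻¹) * g = a; group)
        right_inv := fun a => Subtype.ext (by show (g : G) * ((g : G)⁻¹ * a * g) * (g : G)⁻¹ = a; group)
        map_mul' := fun a b => Subtype.ext (by
          show (g : G) * (a * b) * (g : G)⁻¹ = (g * a * (g : G)⁻¹) * (g * b * (g : G)⁻¹)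
          group) }
    have act_mul : ∀ g g' : P, act (g * g') = act g * act g' := fun g g' => MulEquiv.ext fun a => Subtype.ext (by
      show ((g * g' : P) : G) * a * ((g * g' : P) : G)⁻¹ = g * (g' * a * (g' : G)⁻¹) * (g : G)⁻¹
      rw [Subgroup.coe_mul]; group)
    have act_C : ∀ g : P, (g : G) ∈ C → act g = 1 := fun g hg => MulEquiv.ext fun a => Subtype.ext (by
      show (g : G) * a * (g : G)⁻¹ = a
      rw [(hab x hxnc g hg a a.2).eq, mul_inv_cancel_right])
    let φ : P →* MulAut C := MonoidHom.mk' act act_mul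
    have hP' : ∀ g : P, (g : G) ∉ C → φ g ^ p = 1 := fun g hg => by
      rw [← map_pow]; exact act_C _ (by rw [SubgroupClass.coe_pow]; exact hcenM (g ^ p) (hpow g hg))
    have hfix : ∀ g : P, (g : G) ∉ C → ∀ a : C, φ g a = a → (a : G) ∈ center G := by
      intro g hg a ha
      by_contra hac
      have hgc : (g : G) ∉ center G := fun hc => hg (hcenM g hc)
      have hag : (a : G) ∈ (cen (g : G) : Subgroup G) :=
        mem_centralizer_singleton_iff.2 (mul_inv_eq_iff_eq_mul.1 (congrArg Subtype.val ha : (g : G) * a * (g : G)⁻¹ = a)).symm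
      refine hg ?_
      rw [hC, ← part hxnc hac a.2, part hgc hac hag]
      exact mem_centralizer_singleton_iff.2 rfl
    obtain ⟨q, eq', y, hqp, hne, hy, hye⟩ : ∃ (q e : ℕ) (y : G), q.Prime ∧ q ≠ p ∧ y ∉ center G ∧ y ^ (q ^ e) = 1 := by
      by_cases h1 : r₁ = p
      · exact ⟨r₂, e₂, x₂, hr₂, fun h2 => hr.ne (h1.trans h2.symm), hx₂, hxe₂⟩
      · exact ⟨r₁, e₁, x₁, hr₁, h1, hx₁, hxe₁⟩
    haveI := Fact.mk hqp
    obtain ⟨a, haC, hac, f, haf⟩ := exists_noncentral_pElement h hy hye hxnc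
    have key := product_identity ((center G).subgroupOf C) (φ ⟨u, hu⟩) (φ v) (hP' _ hux) (hP' _ hvC) ?_
      (fun a ha => hfix v hvC a ha) ?_ (fun w hw => Subtype.ext (by
        show u * (w : G) * u⁻¹ = w
        rw [mem_center_iff.1 (mem_subgroupOf.1 hw) u, mul_inv_cancel_right])) ⟨a, haC⟩
    · rw [mem_subgroupOf, SubgroupClass.coe_pow] at key
      refine hac ?_
      have hcop : (p : ℕ).Coprime (q ^ f) := Nat.Coprime.pow_right f ((Nat.coprime_primes hp hqp).2 hne.symm)
      have : (1 : ℤ) = ((p.gcd (q ^ f) : ℕ) : ℤ) := by rw [hcop.gcd_eq_one]; rfl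
      rw [← zpow_one a, this, Nat.gcd_eq_gcd_ab, zpow_add, zpow_mul, zpow_mul, zpow_natCast, zpow_natCast, haf, one_zpow, mul_one]
      exact zpow_mem key _
    · rw [commute_iff_eq, ← map_mul, ← map_mul]
      set u' : P := ⟨u, hu⟩
      have hc : (u' * v)⁻¹ * (v * u') ∈ M := by
        refine mem_centralizer_singleton_iff.2 ?_
        have hzu := hs.2.2.2 u hu
        have hzv := hs.2.2.2 v v.2
        set zu := u * x * u⁻¹ * x⁻¹ with hzud
        set zv := (v : G) * x * (v : G)⁻¹ * x⁻¹ with hzvd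
        have e1 : u * v * x * (u * v)⁻¹ = zv * zu * x := by
          calc u * v * x * (u * v)⁻¹ = u * (zv * x) * u⁻¹ := by rw [hzvd]; group
            _ = u * zv * x * u⁻¹ := by rw [← mul_assoc]
            _ = zv * u * x * u⁻¹ := by rw [mem_center_iff.1 hzv u]
            _ = zv * zu * x := by rw [hzud]; group
        have e2 : v * u * x * ((v : G) * u)⁻¹ = zu * zv * x := by
          calc (v : G) * u * x * ((v : G) * u)⁻¹ = v * (zu * x) * (v : G)⁻¹ := by rw [hzud]; group
            _ = v * zu * x * (v : G)⁻¹ := by rw [← mul_assoc]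
            _ = zu * v * x * (v : G)⁻¹ := by rw [mem_center_iff.1 hzu v]
            _ = zu * zv * x := by rw [hzvd]; group
        have e3 : u * v * x * (u * v)⁻¹ = v * u * x * ((v : G) * u)⁻¹ := by
          rw [e1, e2, mem_center_iff.1 hzu zv]
        show ((u * v)⁻¹ * ((v : G) * u)) * x = x * ((u * v)⁻¹ * ((v : G) * u))
        calc ((u * v)⁻¹ * ((v : G) * u)) * x = (u * v)⁻¹ * (v * u * x * ((v : G) * u)⁻¹) * ((v : G) * u) := by group
          _ = (u * v)⁻¹ * (u * v * x * (u * v)⁻¹) * ((v : G) * u) := by rw [e3]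
          _ = x * ((u * v)⁻¹ * ((v : G) * u)) := by group
      symm
      rw [show v * u' = (u' * v) * ((u' * v)⁻¹ * (v * u')) by group, map_mul, show φ ((u' * v)⁻¹ * (v * u')) = 1 from act_C _ hc, mul_one]
    · intro j b hb
      rw [← map_pow, ← map_mul] at hb
      refine hfix _ (fun hj => ?_) b hb
      set u' : P := ⟨u, hu⟩
      have hj' : u' * v ^ j ∈ M := hj
      by_cases hpj : p ∣ j
      · obtain ⟨i, rfl⟩ := hpj
        have hvp : v ^ (p * i) ∈ M := by rw [pow_mul]; exact pow_mem (hcenM _ (by rw [SubgroupClass.coe_pow]; exact hpow v hvC)) i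
        exact hux ((mul_mem_cancel_right hvp).1 hj' : u' ∈ M)
      · have h1 : v ^ j ∈ M ⊔ zpowers u' := by
          have := mul_mem (mem_sup_right (S := M) (inv_mem (mem_zpowers u'))) (mem_sup_left (T := zpowers u') hj')
          rwa [inv_mul_cancel_left] at this
        have h2 : v ^ p ∈ M ⊔ zpowers u' := mem_sup_left (hcenM _ (by rw [SubgroupClass.coe_pow]; exact hpow v hvC))
        have hcop : Nat.Coprime j p := ((hp.coprime_iff_not_dvd).2 hpj).symm
        have : (1 : ℤ) = ((j.gcd p : ℕ) : ℤ) := by rw [hcop.gcd_eq_one]; rfl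
        refine hv ?_
        rw [← zpow_one v, this, Nat.gcd_eq_gcd_ab, zpow_add, zpow_mul, zpow_mul, zpow_natCast, zpow_natCast]
        exact mul_mem (zpow_mem h1 _) (zpow_mem h2 _)
  -- the order of `C/Z`
  have hdvd : ∀ (g : G), g ∉ center G → ∀ r : ℕ, r.Prime → ∀ (y : G) (e : ℕ), y ∉ center G → y ^ (r ^ e) = 1 →
      r ∣ (center G).relIndex (cen g) := by
    intro g hg r hrp y e hy hye
    haveI := Fact.mk hrp
    obtain ⟨v, hv, hvc, f, hvf⟩ := exists_noncentral_pElement h hy hye hg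
    obtain ⟨i, -, hi⟩ := (Nat.dvd_prime_pow hrp).1 (orderOf_dvd_of_pow_eq_one
      (show (π v) ^ (r ^ f) = 1 by rw [← map_pow, hvf, map_one]))
    have hi0 : i ≠ 0 := fun h0 => hvc ((hπ1 v).1 (orderOf_eq_one_iff.1 (by rw [hi, h0, pow_zero])))
    have h1 := Subgroup.orderOf_dvd_natCard ((cen g : Subgroup G).map π) (mem_map_of_mem π hv)
    rw [← relIndex_ker, hπ, QuotientGroup.ker_mk', ← hπ, hi] at h1
    exact (dvd_pow_self r hi0).trans h1
  have hcn : ∀ g : G, g ∉ center G → (center G).relIndex (cen g) ≤ n := by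
    intro g hg
    obtain ⟨v, hv⟩ : ∃ v : G, v ∉ (cen g : Subgroup G) := by
      by_contra! hall
      exact hg (mem_center_iff.2 fun w => mem_centralizer_singleton_iff.1 (hall w))
    have hvc : v ∉ center G := fun hc => hv (mem_centralizer_singleton_iff.2 (mem_center_iff.1 hc g).symm)
    have e : (cen v : Subgroup G) ⊓ cen g = center G := by
      refine le_antisymm (fun w hw => ?_) (le_inf ?_ ?_)
      · by_contra hwc
        refine hv ?_
        rw [← part hg hwc (mem_inf.1 hw).2, part hvc hwc (mem_inf.1 hw).1]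
        exact mem_centralizer_singleton_iff.2 rfl
      · exact fun w hw => mem_centralizer_singleton_iff.2 (mem_center_iff.1 hw v).symm
      · exact fun w hw => mem_centralizer_singleton_iff.2 (mem_center_iff.1 hw g).symm
    rw [← e, inf_relIndex_right, ← h.2 v hvc]
    calc (cen v : Subgroup G).relIndex (cen g) ≤ (cen v : Subgroup G).relIndex ⊤ := relIndex_le_of_le_right le_top (by rw [relIndex_top_right]; exact index_ne_zero_of_finite)
      _ = (cen v : Subgroup G).index := relIndex_top_right _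
  have hnc : ∀ g : G, g ∉ center G → (center G).relIndex (cen g) = n := by
    intro g hg
    have hpos : 0 < (center G).relIndex (cen g) := Nat.pos_of_ne_zero FiniteIndex.index_ne_zero
    refine le_antisymm (hcn g hg) (Nat.le_of_dvd hpos ?_)
    rw [Nat.dvd_iff_prime_pow_dvd_dvd]
    intro p k hp hk
    match k, hk with
    | 0, _ => simp
    | 1, hk =>
      rw [pow_one] at hk ⊢
      obtain ⟨P, x, u, hPp, -, hs, -, -⟩ := data p hp hk
      obtain ⟨f, hf⟩ := hPp ⟨x, hs.1⟩
      exact hdvd g hg p hp x f hs.2.1 (congrArg Subtype.val hf)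
    | k + 2, hk => exact absurd ((pow_dvd_pow p (by omega : 2 ≤ k + 2)).trans hk) (hsq p hp)
  -- a `r₂`-element acting on a group of order `r₁`
  have hr₂n : r₂ ∣ n := hnc x₁ hx₁ ▸ hdvd x₁ hx₁ r₂ hr₂ x₂ e₂ hx₂ hxe₂
  haveI := Fact.mk hr₁
  haveI := Fact.mk hr₂
  obtain ⟨Q, x, u, hQp, -, hs, hu, hux⟩ := data r₂ hr₂ hr₂n
  obtain ⟨v, hvC, hvc, f, hvf⟩ := exists_noncentral_pElement h hx₁ hxe₁ hs.2.1
  obtain ⟨i, -, hi⟩ := (Nat.dvd_prime_pow hr₁).1 (orderOf_dvd_of_pow_eq_one
    (show (π v) ^ (r₁ ^ f) = 1 by rw [← map_pow, hvf, map_one]))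
  have hi0 : i ≠ 0 := fun h0 => hvc ((hπ1 v).1 (orderOf_eq_one_iff.1 (by rw [hi, h0, pow_zero])))
  obtain ⟨a, haC, hac, haf, hao⟩ : ∃ a ∈ (cen x : Subgroup G), a ∉ center G ∧ a ^ (r₁ ^ f) = 1 ∧ orderOf (π a) = r₁ := by
    obtain ⟨i', rfl⟩ : ∃ i', i = i' + 1 := ⟨i - 1, by omega⟩
    refine ⟨v ^ (r₁ ^ i'), pow_mem hvC _, fun hc => ?_, by rw [← pow_mul, mul_comm, pow_mul, hvf, one_pow], ?_⟩
    · have h1 := Nat.le_of_dvd (pow_pos hr₁.pos _) (hi ▸ orderOf_dvd_of_pow_eq_one (show (π v) ^ (r₁ ^ i') = 1 by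
        rw [← map_pow]; exact (hπ1 _).2 hc))
      exact absurd h1 (not_le.2 (Nat.pow_lt_pow_right hr₁.one_lt (by omega)))
    · rw [map_pow, orderOf_pow, hi, Nat.gcd_eq_right (pow_dvd_pow _ (by omega)), pow_succ, Nat.mul_div_cancel_left _ (pow_pos hr₁.pos _)]
  set C := (cen x : Subgroup G) with hC
  set B := C.map π with hB
  have hBc : Nat.card B = n := by rw [hB, ← relIndex_ker, hπ, QuotientGroup.ker_mk', hC, hnc x hs.2.1]
  let T : Subgroup (G ⧸ center G) :=
    { carrier := {b | b ∈ B ∧ b ^ r₁ = 1}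
      one_mem' := ⟨one_mem _, one_pow _⟩
      mul_mem' := fun {b c} hb hc => ⟨mul_mem hb.1 hc.1, by
        obtain ⟨b', hb', rfl⟩ := hb.1
        obtain ⟨c', hc', rfl⟩ := hc.1
        rw [((hab x hs.2.1 b' hb' c' hc').map π).mul_pow, hb.2, hc.2, one_mul]⟩
      inv_mem' := fun {b} hb => ⟨inv_mem hb.1, by rw [inv_pow, hb.2, inv_one]⟩ }
  have haT : π a ∈ T := ⟨mem_map_of_mem π haC, hao ▸ pow_orderOf_eq_one (π a)⟩
  have hTle : T = zpowers (π a) := by
    refine (eq_of_le_of_card_ge (zpowers_le.2 haT) ?_).symm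
    rw [Nat.card_zpowers, hao]
    obtain ⟨k, hk⟩ := IsPGroup.iff_card.1 (show IsPGroup r₁ T from fun b => ⟨1, Subtype.ext (by
      rw [pow_one, SubgroupClass.coe_pow]; exact b.2.2)⟩)
    rw [hk]
    have hdn : r₁ ^ k ∣ n := hk ▸ hBc ▸ card_dvd_of_le (fun b hb => hb.1)
    have hk1 : k ≤ 1 := by
      by_contra hlt
      exact hsq r₁ hr₁ ((pow_dvd_pow r₁ (by omega)).trans hdn)
    calc r₁ ^ k ≤ r₁ ^ 1 := Nat.pow_le_pow_right hr₁.pos hk1
      _ = r₁ := pow_one _
  have hconj : π u * π a * (π u)⁻¹ ∈ T := by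
    refine ⟨?_, by rw [conj_pow, haT.2, mul_one, mul_inv_cancel]⟩
    rw [← map_inv, ← map_mul, ← map_mul]
    exact mem_map_of_mem π (normalizes_cen hs hu haC)
  rw [hTle] at hconj
  obtain ⟨k, hk : (π a) ^ k = π u * π a * (π u)⁻¹⟩ := (mem_powers_iff_mem_zpowers (x := π a)).2 hconj
  have hiter : ∀ j : ℕ, (π u) ^ j * π a * ((π u) ^ j)⁻¹ = (π a) ^ (k ^ j) := by
    intro j
    induction j with
    | zero => simp
    | succ j ih =>
      rw [pow_succ' (π u), show π u * (π u) ^ j * π a * (π u * (π u) ^ j)⁻¹ = π u * ((π u) ^ j * π a * ((π u) ^ j)⁻¹) * (π u)⁻¹ by group,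
        ih, ← conj_pow, ← hk, ← pow_mul, pow_succ']
  have huq : u ^ r₂ ∈ center G := pow_mem_center h hs hu hux
  have hkq : ((k : ZMod r₁)) ^ r₂ = 1 := by
    have h1 := hiter r₂
    rw [← map_pow, (hπ1 _).2 huq, one_mul, inv_one, mul_one] at h1
    have h2 : (π a) ^ 1 = (π a) ^ (k ^ r₂) := by rw [pow_one, ← h1]
    rw [pow_eq_pow_iff_modEq, hao, ← ZMod.natCast_eq_natCast_iff, Nat.cast_one, Nat.cast_pow] at h2
    exact h2.symm
  have hk1 : (k : ZMod r₁) = 1 := by
    have hk0 : (k : ZMod r₁) ≠ 0 := fun h0 => by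
      rw [h0, zero_pow hr₂.ne_zero] at hkq
      exact zero_ne_one hkq
    have hd1 := orderOf_dvd_of_pow_eq_one hkq
    have hd2 := orderOf_dvd_of_pow_eq_one (ZMod.pow_card_sub_one_eq_one hk0)
    refine orderOf_eq_one_iff.1 (Nat.eq_one_of_dvd_coprimes ?_ hd1 hd2)
    refine hr₂.coprime_iff_not_dvd.2 fun hd => ?_
    have := Nat.le_of_dvd (Nat.sub_pos_of_lt hr₁.one_lt) hd
    omega
  have hfix : π u * π a * (π u)⁻¹ = π a := by
    rw [← hk]
    conv_rhs => rw [← pow_one (π a)]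
    rw [pow_eq_pow_iff_modEq, hao, ← ZMod.natCast_eq_natCast_iff, hk1, Nat.cast_one]
  set z := u * a * u⁻¹ * a⁻¹ with hz
  have hzc : z ∈ center G := by
    rw [← hπ1, hz, map_mul, map_mul, map_mul, map_inv, map_inv, hfix, mul_inv_cancel]
  have hzit : ∀ j : ℕ, u ^ j * a * (u ^ j)⁻¹ = z ^ j * a := by
    intro j
    induction j with
    | zero => simp
    | succ j ih =>
      rw [pow_succ' u, show u * u ^ j * a * (u * u ^ j)⁻¹ = u * (u ^ j * a * (u ^ j)⁻¹) * u⁻¹ by group, ih,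
        ← mul_assoc, mem_center_iff.1 (pow_mem hzc j) u, pow_succ, hz]
      group
  have hzq : z ^ r₂ = 1 := by
    have h1 := hzit r₂
    rw [← mem_center_iff.1 huq a, mul_inv_cancel_right] at h1
    exact mul_eq_right.1 h1.symm
  have hzp : z ^ (r₁ ^ f) = 1 := by
    have h1 : (z * a) ^ (r₁ ^ f) = 1 := by
      rw [show z * a = u * a * u⁻¹ by rw [hz]; group, conj_pow, haf, mul_one, mul_inv_cancel]
    rwa [(show Commute z a from (mem_center_iff.1 hzc a).symm).mul_pow, haf, mul_one] at h1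
  have hz1 : z = 1 := orderOf_eq_one_iff.1 (Nat.eq_one_of_dvd_coprimes
    (Nat.Coprime.pow_right f ((Nat.coprime_primes hr₂ hr₁).2 hr.ne'))
    (orderOf_dvd_of_pow_eq_one hzq) (orderOf_dvd_of_pow_eq_one hzp))
  have hau : a ∈ (cen u : Subgroup G) := mem_centralizer_singleton_iff.2
    (mul_inv_eq_iff_eq_mul.1 (mul_inv_eq_one.1 (hz.symm.trans hz1))).symm
  have huc : u ∉ center G := fun hc => hux (mem_centralizer_singleton_iff.2 (mem_center_iff.1 hc x).symm)
  refine hux ?_
  rw [hC, ← part hs.2.1 hac haC, part huc hac hau]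
  exact mem_centralizer_singleton_iff.2 rfl

theorem main (hn : 1 < n)
    (h : ∀ x : G, (cen x : Subgroup G).index = 1 ∨ (cen x : Subgroup G).index = n)
    (hex : ∃ x : G, (cen x : Subgroup G).index = n) :
    ∃ (p : ℕ) (_ : Fact p.Prime) (a : ℕ), n = p ^ a ∧ ∀ P : Sylow p G, (P : Subgroup G).Normal ∧
      (∃ N : Subgroup G, N.Normal ∧ N.IsComplement' (P : Subgroup G) ∧ IsMulCommutative N ∧
        ∀ x ∈ N, ∀ y ∈ (P : Subgroup G), x * y = y * x) ∧
      ∃ A : Subgroup (P : Subgroup G), A.Normal ∧ IsMulCommutative A ∧ ∀ y : (P : Subgroup G), y ^ p ∈ A := by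
  have hT : TwoSizes G n := ⟨hn, fun x hx => (h x).resolve_left fun h1 => hx (mem_center_of_cen_top h1)⟩
  obtain ⟨g, hg⟩ := hex
  have hgc : g ∉ center G := fun hc => by
    have : (cen g : Subgroup G) = ⊤ := eq_top_iff.2 fun w _ => mem_centralizer_singleton_iff.2 (mem_center_iff.1 hc w)
    rw [this, index_top] at hg
    omega
  obtain ⟨p, e, m, hp, hw, hwe⟩ := exists_primary g hgc
  haveI := Fact.mk hp
  refine ⟨p, inferInstance, one_prime hT hgc fun y hy => ?_⟩
  by_contra hyc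
  obtain ⟨q, f, k, hq, hv, hvf⟩ := exists_primary y hyc
  have hqp : q ≠ p := by
    rintro rfl
    refine hv ?_
    have h1 : y ^ k = 1 := orderOf_eq_one_iff.1 (Nat.eq_one_of_dvd_coprimes (hy.pow_right f)
      (orderOf_pow_dvd k) (orderOf_dvd_of_pow_eq_one hvf))
    rw [h1]
    exact one_mem _
  rcases lt_or_gt_of_ne hqp with hlt | hlt
  · exact not_two_primes hT hq hp hlt hv hw hvf hwe
  · exact not_two_primes hT hp hq hlt hw hv hwe hvf

end Cfsg.Lib.SolvStruct.TwoSizes
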