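/-
Itô: two primes never dividing a common class size.
-/
import Mathlib
import Cfsg.Prelude

set_option linter.style.haveILetI false
set_option linter.unusedSectionVars false

namespace Cfsg.Lib.SolvStruct.ItoClasses

open Subgroup MulAction
open scoped Pointwise

variable {G : Type*} [Group G] [Finite G]

theorem exists_sylow_centralizing {p : ℕ} [Fact p.Prime] (x : G) (h : ¬ p ∣ (centralizer ({x} : Set G)).index) :
    ∃ P : Sylow p G, x ∈ centralizer ((P : Subgroup G) : Set G) := by
  obtain ⟨R⟩ : Nonempty (Sylow p (centralizer ({x} : Set G))) := inferInstance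
  have hidx : ¬ p ∣ ((R : Subgroup (centralizer ({x} : Set G))).map (centralizer ({x} : Set G)).subtype).index := by
    rw [index_map_subtype]
    exact (Fact.out : p.Prime).not_dvd_mul R.not_dvd_index h
  refine ⟨(R.2.map _).toSylow hidx, mem_centralizer_iff.2 ?_⟩
  rintro _ ⟨r, -, rfl⟩
  exact mem_centralizer_singleton_iff.1 r.2

theorem sum_bound {p : ℕ} [Fact p.Prime] [Fintype (Sylow p G)] (h : ∀ P : Sylow p G, ¬ normalizer ((P : Subgroup G) : Set G) ≤ centralizer ((P : Subgroup G) : Set G)) :
    2 * ∑ P : Sylow p G, Nat.card (centralizer ((P : Subgroup G) : Set G)) ≤ Nat.card G := by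
  have hb : ∀ P : Sylow p G, 2 * Nat.card (centralizer ((P : Subgroup G) : Set G)) * Nat.card (Sylow p G) ≤ Nat.card G := by
    intro P
    have hCN : centralizer ((P : Subgroup G) : Set G) ≤ normalizer ((P : Subgroup G) : Set G) := centralizer_le_normalizer _
    have h2 := relIndex_mul_relIndex (⊥ : Subgroup G) _ _ bot_le hCN
    rw [relIndex_bot_left, relIndex_bot_left] at h2
    have h3 : 2 ≤ (centralizer ((P : Subgroup G) : Set G)).relIndex (normalizer ((P : Subgroup G) : Set G)) := by
      have h4 : (centralizer ((P : Subgroup G) : Set G)).relIndex (normalizer ((P : Subgroup G) : Set G)) ≠ 0 :=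
        index_ne_zero_of_finite
      have h5 : (centralizer ((P : Subgroup G) : Set G)).relIndex (normalizer ((P : Subgroup G) : Set G)) ≠ 1 :=
        fun e => h P (relIndex_eq_one.1 e)
      omega
    rw [P.card_eq_index_normalizer, ← Sylow.coe_coe, ← (normalizer ((P : Subgroup G) : Set G)).card_mul_index]
    refine Nat.mul_le_mul_right _ ?_
    rw [← h2, mul_comm 2]
    exact Nat.mul_le_mul_left _ h3
  obtain ⟨P₀⟩ : Nonempty (Sylow p G) := inferInstance
  have hn : 0 < Nat.card (Sylow p G) := Nat.card_pos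
  refine Nat.le_of_mul_le_mul_right ?_ hn
  rw [Finset.mul_sum, Finset.sum_mul]
  refine (Finset.sum_le_sum fun P _ => hb P).trans ?_
  rw [Finset.sum_const, Finset.card_univ, smul_eq_mul, ← Nat.card_eq_fintype_card, mul_comm]

theorem normal_complement_or {p q : ℕ} (hp : p.Prime) (hq : q.Prime) (hpq : p ≠ q)
    (h : ∀ x : G, ¬ p * q ∣ (centralizer ({x} : Set G)).index) :
    Cfsg.HasNormalPComplement p G ∨ Cfsg.HasNormalPComplement q G := by
  classical
  haveI := Fact.mk hp
  haveI := Fact.mk hq
  haveI := Fintype.ofFinite G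
  haveI := Fintype.ofFinite (Sylow p G)
  haveI := Fintype.ofFinite (Sylow q G)
  by_cases hP : ∃ P : Sylow p G, normalizer ((P : Subgroup G) : Set G) ≤ centralizer ((P : Subgroup G) : Set G)
  · obtain ⟨P, hP⟩ := hP
    exact Or.inl ⟨P, _, inferInstance, MonoidHom.ker_transferSylow_isComplement' P hP⟩
  by_cases hQ : ∃ Q : Sylow q G, normalizer ((Q : Subgroup G) : Set G) ≤ centralizer ((Q : Subgroup G) : Set G)
  · obtain ⟨Q, hQ⟩ := hQ
    exact Or.inr ⟨Q, _, inferInstance, MonoidHom.ker_transferSylow_isComplement' Q hQ⟩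
  push Not at hP hQ
  exfalso
  let fp : Sylow p G → Finset G := fun P => (Finset.univ.filter (· ∈ centralizer ((P : Subgroup G) : Set G))).erase 1
  let fq : Sylow q G → Finset G := fun Q => (Finset.univ.filter (· ∈ centralizer ((Q : Subgroup G) : Set G))).erase 1
  have hcover : (Finset.univ : Finset G).erase 1 ⊆ Finset.univ.biUnion fp ∪ Finset.univ.biUnion fq := by
    intro x hx
    have hx1 := (Finset.mem_erase.1 hx).1
    rcases not_and_or.1 (fun hh : p ∣ (centralizer ({x} : Set G)).index ∧ q ∣ (centralizer ({x} : Set G)).index =>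
      h x (((Nat.coprime_primes hp hq).2 hpq).mul_dvd_of_dvd_of_dvd hh.1 hh.2)) with hd | hd
    · obtain ⟨P, hP'⟩ := exists_sylow_centralizing x hd
      exact Finset.mem_union_left _ (Finset.mem_biUnion.2 ⟨P, Finset.mem_univ _,
        Finset.mem_erase.2 ⟨hx1, Finset.mem_filter.2 ⟨Finset.mem_univ _, hP'⟩⟩⟩)
    · obtain ⟨Q, hQ'⟩ := exists_sylow_centralizing x hd
      exact Finset.mem_union_right _ (Finset.mem_biUnion.2 ⟨Q, Finset.mem_univ _,
        Finset.mem_erase.2 ⟨hx1, Finset.mem_filter.2 ⟨Finset.mem_univ _, hQ'⟩⟩⟩)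
  have h1 := (Finset.card_le_card hcover).trans ((Finset.card_union_le _ _).trans
    (Nat.add_le_add Finset.card_biUnion_le Finset.card_biUnion_le))
  rw [Finset.card_erase_of_mem (Finset.mem_univ _), Finset.card_univ, ← Nat.card_eq_fintype_card] at h1
  have hcard : ∀ H : Subgroup G, ((Finset.univ.filter (· ∈ H)).erase 1).card + 1 = Nat.card H := by
    intro H
    rw [Finset.card_erase_add_one (Finset.mem_filter.2 ⟨Finset.mem_univ _, one_mem H⟩), Nat.card_eq_fintype_card,
      Fintype.card_subtype]
  have e1 : (∑ P : Sylow p G, (fp P).card) + Fintype.card (Sylow p G) =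
      ∑ P : Sylow p G, Nat.card (centralizer ((P : Subgroup G) : Set G)) := by
    rw [← Finset.card_univ, Finset.card_eq_sum_ones, ← Finset.sum_add_distrib]
    exact Finset.sum_congr rfl fun P _ => hcard _
  have e2 : (∑ Q : Sylow q G, (fq Q).card) + Fintype.card (Sylow q G) =
      ∑ Q : Sylow q G, Nat.card (centralizer ((Q : Subgroup G) : Set G)) := by
    rw [← Finset.card_univ, Finset.card_eq_sum_ones, ← Finset.sum_add_distrib]
    exact Finset.sum_congr rfl fun P _ => hcard _
  have b1 := sum_bound hP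
  have b2 := sum_bound hQ
  have n1 : 0 < Fintype.card (Sylow p G) := Fintype.card_pos
  have n2 : 0 < Fintype.card (Sylow q G) := Fintype.card_pos
  omega

end Cfsg.Lib.SolvStruct.ItoClasses
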