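/-
Splitting and conjugacy of complements of an abelian normal subgroup by averaging over cosets.
-/
import Mathlib

set_option linter.style.haveILetI false
set_option linter.unusedSectionVars false

namespace Cfsg.Lib.SolvStruct

open Subgroup
open scoped Pointwise

universe u

variable {G : Type u} [Group G] [Finite G] {K U : Subgroup G}

theorem exists_root (hcop : (Nat.card K).Coprime U.index) (e : K) : ∃ k : K, k ^ U.index = e :=
  ⟨(powCoprime hcop).symm e, (powCoprime hcop).apply_symm_apply e⟩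

theorem exists_complement_averaging [hn : K.Normal] [IsMulCommutative K]
    (hKU : K ≤ U) (hcop : (Nat.card K).Coprime U.index)
    (A : Subgroup G) (hAU : A ≤ U) (hAK : A ⊓ K = ⊥) (hKA : K ⊔ A = U) :
    ∃ H : Subgroup G, IsComplement' K H := by
  letI : CommGroup K := { (inferInstance : Group K) with mul_comm := fun a b => mul_comm' a b }
  haveI : Fintype (G ⧸ U) := Fintype.ofFinite _
  let t : G ⧸ U → G := Quotient.out
  have ht : ∀ c, ((t c : G) : G ⧸ U) = c := fun c => QuotientGroup.out_eq' c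
  have hex : ∀ (g : G) (c : G ⧸ U), ∃ a ∈ A, ∃ ψ : K, g = t (g • c) * a * (t c)⁻¹ * ψ := by
    intro g c
    have hu : (t (g • c))⁻¹ * (g * t c) ∈ U := by
      rw [← QuotientGroup.eq, ht]
      calc g • c = g • ((t c : G) : G ⧸ U) := by rw [ht]
        _ = _ := rfl
    have hu' : (t (g • c))⁻¹ * (g * t c) ∈ K ⊔ A := hKA.ge hu
    obtain ⟨k, hk, a, ha, he⟩ := mem_sup_of_normal_left.1 hu'
    refine ⟨a, ha, ⟨(t c) * (a⁻¹ * k * a) * (t c)⁻¹, hn.conj_mem _ (hn.conj_mem' _ hk _) _⟩, ?_⟩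
    calc g = t (g • c) * (k * a) * (t c)⁻¹ := by rw [he]; group
      _ = _ := by group
  choose a ha ψ hψ using hex
  have huniq : ∀ g c, ∀ a' ∈ A, ∀ ψ' : K, g = t (g • c) * a' * (t c)⁻¹ * ψ' → ψ g c = ψ' := by
    intro g c a' ha' ψ' h'
    have e := (hψ g c).symm.trans h'
    have e1 : a g c * (t c)⁻¹ * (ψ g c : G) = a' * (t c)⁻¹ * (ψ' : G) := by
      simpa [mul_assoc] using e
    have e2 : a'⁻¹ * a g c = (t c)⁻¹ * ((ψ' : G) * (ψ g c : G)⁻¹) * t c := by
      calc a'⁻¹ * a g c = a'⁻¹ * (a g c * (t c)⁻¹ * (ψ g c : G)) * (ψ g c : G)⁻¹ * t c := by group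
        _ = _ := by rw [e1]; group
    have e3 : a'⁻¹ * a g c ∈ A ⊓ K := ⟨A.mul_mem (A.inv_mem ha') (ha g c),
      show _ ∈ K from e2 ▸ hn.conj_mem' _ (K.mul_mem ψ'.2 (K.inv_mem (ψ g c).2)) _⟩
    rw [hAK, mem_bot, inv_mul_eq_one] at e3
    rw [← e3] at e1
    exact Subtype.ext (mul_left_cancel e1)
  let σ : G → (K →* K) := fun h => (MulAut.conjNormal h⁻¹ : MulAut K).toMonoidHom
  have hσ : ∀ h (x : K), (σ h x : G) = h⁻¹ * x * h := fun h x => by
    simp [σ]
  have hcoc : ∀ g h c, ψ (g * h) c = ψ h c * σ h (ψ g (h • c)) := by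
    intro g h c
    refine huniq _ _ (a g (h • c) * a h c) (mul_mem (ha _ _) (ha _ _)) _ ?_
    rw [Subgroup.coe_mul, hσ, ← smul_smul]
    have e1 := hψ g (h • c)
    have e2 := hψ h c
    generalize (ψ g (h • c) : G) = x at e1 ⊢
    generalize (ψ h c : G) = y at e2 ⊢
    generalize a g (h • c) = a1 at e1 ⊢
    generalize a h c = a2 at e2 ⊢
    generalize t (g • h • c) = t1 at e1 ⊢
    generalize t (h • c) = t2 at e1 e2
    generalize t c = t3 at e2 ⊢
    calc g * h = g * x⁻¹ * h * (h⁻¹ * x * h) := by group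
      _ = (t1 * a1 * t2⁻¹ * x) * x⁻¹ * (t2 * a2 * t3⁻¹ * y) * (h⁻¹ * x * h) := by rw [← e1, ← e2]
      _ = _ := by group
  let Φ : G → K := fun g => ∏ c, ψ g c
  have hmul : ∀ g h, Φ (g * h) = Φ h * σ h (Φ g) := by
    intro g h
    simp only [Φ, hcoc, Finset.prod_mul_distrib, map_prod]
    congr 1
    exact Equiv.prod_comp (MulAction.toPerm h) (fun c => σ h (ψ g c))
  have hK : ∀ k : K, Φ (k : G) = k ^ U.index := by
    intro k
    have : ∀ c, ψ (k : G) c = k := fun c => by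
      refine huniq _ _ 1 (one_mem A) k ?_
      have hc : (k : G) • c = c := by
        conv_lhs => rw [← ht c]
        conv_rhs => rw [← ht c]
        show (((k : G) * t c : G) : G ⧸ U) = _
        rw [QuotientGroup.eq]
        refine hKU ?_
        have := hn.conj_mem' _ (inv_mem k.2) (t c)
        simpa [mul_assoc] using this
      rw [hc]
      group
    simp only [Φ, this, Finset.prod_const, Finset.card_univ, ← Nat.card_eq_fintype_card]
    rfl
  have h1 : Φ 1 = 1 := by simpa using hK 1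
  let H : Subgroup G :=
    { carrier := {g | Φ g = 1}
      one_mem' := h1
      mul_mem' := fun {x y} (hx : Φ x = 1) (hy : Φ y = 1) => show Φ (x * y) = 1 by
        rw [hmul, hx, hy, map_one, one_mul]
      inv_mem' := fun {x} (hx : Φ x = 1) => show Φ x⁻¹ = 1 by
        have h := hmul x⁻¹ x
        rw [inv_mul_cancel, h1, hx, one_mul] at h
        have h' := congrArg Subtype.val h
        rw [hσ] at h'
        refine Subtype.ext ?_
        calc (Φ x⁻¹ : G) = x * (x⁻¹ * (Φ x⁻¹ : G) * x) * x⁻¹ := by group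
          _ = 1 := by rw [← h']; simp }
  refine ⟨H, isComplement'_of_disjoint_and_mul_eq_univ ?_ ?_⟩
  · rw [disjoint_iff, eq_bot_iff]
    rintro x ⟨hxK, hxH⟩
    have h : Φ ((⟨x, hxK⟩ : K) : G) = 1 := hxH
    rw [hK] at h
    have h2 : (⟨x, hxK⟩ : K) = 1 := (powCoprime hcop).injective (by simpa using h)
    exact congrArg Subtype.val h2
  · refine Set.eq_univ_of_forall fun g => ?_
    obtain ⟨k, hk⟩ := exists_root hcop (σ g⁻¹ (Φ g))
    refine ⟨k, k.2, (k : G)⁻¹ * g, ?_, mul_inv_cancel_left _ _⟩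
    show Φ ((k : G)⁻¹ * g) = 1
    have hi : Φ ((k : G)⁻¹) = (k ^ U.index)⁻¹ := by
      rw [← inv_pow, ← hK]
      rfl
    rw [hmul, hi, hk, map_inv, mul_inv_eq_one]
    refine Subtype.ext ?_
    rw [hσ, hσ]
    group

theorem complements_conj_averaging [hn : K.Normal] [IsMulCommutative K]
    (hKU : K ≤ U) (hcop : (Nat.card K).Coprime U.index)
    (H₀ H₁ : Subgroup G) (h₀ : IsComplement' K H₀) (h₁ : IsComplement' K H₁) (hU : H₀ ⊓ U = H₁ ⊓ U) :
    ∃ g : G, MulAut.conj g • H₀ = H₁ := by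
  letI : CommGroup K := { (inferInstance : Group K) with mul_comm := fun a b => mul_comm' a b }
  haveI : Fintype (G ⧸ U) := Fintype.ofFinite _
  have hD : ∀ x : G, ∃ D : K, x⁻¹ * (D : G) ∈ H₁ := by
    intro x
    obtain ⟨k, hk, h, hh, he⟩ := h₁.mul_eq.ge (Set.mem_univ x⁻¹)
    exact ⟨⟨x * k⁻¹ * x⁻¹, hn.conj_mem _ (inv_mem hk) _⟩, by
      rw [show x⁻¹ * (x * k⁻¹ * x⁻¹) = k⁻¹ * x⁻¹ by group, ← he]; simpa using hh⟩
  choose D hD using hD
  have huniq : ∀ x (D' : K), x⁻¹ * (D' : G) ∈ H₁ → D x = D' := by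
    intro x D' h'
    have h2 : (D x : G)⁻¹ * (D' : G) ∈ K ⊓ H₁ := ⟨K.mul_mem (K.inv_mem (D x).2) D'.2, by
      have := mul_mem (inv_mem (hD x)) h'
      rwa [show (x⁻¹ * (D x : G))⁻¹ * (x⁻¹ * (D' : G)) = (D x : G)⁻¹ * (D' : G) by group] at this⟩
    rw [(disjoint_iff.1 h₁.disjoint), mem_bot, inv_mul_eq_one] at h2
    exact Subtype.ext h2
  let σ : G → (K →* K) := fun h => (MulAut.conjNormal h : MulAut K).toMonoidHom
  have hσ : ∀ h (x : K), (σ h x : G) = h * x * h⁻¹ := fun h x => by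
    simp [σ, MulAut.conjNormal_apply]
  have hmul : ∀ x y, D (x * y) = σ x (D y) * D x := fun x y => huniq _ _ (by
    rw [Subgroup.coe_mul, hσ]
    have := mul_mem (hD y) (hD x)
    rwa [show (x * y)⁻¹ * (x * (D y : G) * x⁻¹ * (D x : G)) = y⁻¹ * (D y : G) * (x⁻¹ * (D x : G)) by group])
  have hDU : ∀ u ∈ H₀ ⊓ U, D u = 1 := fun u hu => huniq _ _ (by
    rw [Subgroup.coe_one, mul_one]
    exact inv_mem (hU.le hu).1)
  have hrep : ∀ c : G ⧸ U, ∃ r ∈ H₀, ((r : G) : G ⧸ U) = c := by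
    intro c
    obtain ⟨k, hk, h, hh, he⟩ := h₀.mul_eq.ge (Set.mem_univ c.out)
    refine ⟨h, hh, ?_⟩
    conv_rhs => rw [← QuotientGroup.out_eq' c, show c.out = k * h from he.symm]
    rw [QuotientGroup.eq, ← mul_assoc]
    exact hKU (hn.conj_mem' _ hk h)
  choose r hr hrc using hrep
  set E : K := ∏ c, D (r c)
  obtain ⟨k, hk⟩ := exists_root hcop E
  have key : ∀ x ∈ H₀, σ x k * D x = k := by
    intro x hx
    refine (powCoprime hcop).injective ?_
    show (σ x k * D x) ^ U.index = k ^ U.index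
    rw [mul_pow, ← map_pow, hk]
    have hE : E = ∏ c, D (x * r c) := by
      rw [show E = ∏ c, D (r (x • c)) from (Equiv.prod_comp (MulAction.toPerm x) (fun c => D (r c))).symm]
      refine Finset.prod_congr rfl fun c _ => ?_
      have hu : (r (x • c))⁻¹ * (x * r c) ∈ H₀ ⊓ U := by
        refine ⟨H₀.mul_mem (H₀.inv_mem (hr _)) (H₀.mul_mem hx (hr _)), ?_⟩
        show _ ∈ U
        rw [← QuotientGroup.eq, hrc]
        calc x • c = x • ((r c : G) : G ⧸ U) := by rw [hrc]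
          _ = _ := rfl
      conv_rhs => rw [show x * r c = r (x • c) * ((r (x • c))⁻¹ * (x * r c)) by group, hmul, hDU _ hu, map_one, one_mul]
    conv_rhs => rw [hE]
    simp only [hmul, Finset.prod_mul_distrib, ← map_prod, Finset.prod_const, Finset.card_univ,
      ← Nat.card_eq_fintype_card]
    rfl
  refine ⟨(k : G)⁻¹, eq_of_le_of_card_ge ?_ (le_of_eq ?_)⟩
  · rintro _ ⟨x, hx, rfl⟩
    have hDx := hD x⁻¹
    have hk' : (k : G) = x⁻¹ * (k : G) * x * (D x⁻¹ : G) := by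
      have := congrArg Subtype.val (key x⁻¹ (inv_mem hx))
      rw [Subgroup.coe_mul, hσ, inv_inv] at this
      exact this.symm
    show (k : G)⁻¹ * x * (k : G)⁻¹⁻¹ ∈ H₁
    rw [inv_inv, mul_assoc]
    nth_rewrite 2 [hk']
    rw [inv_inv] at hDx
    rwa [show (k : G)⁻¹ * (x * (x⁻¹ * (k : G) * x * (D x⁻¹ : G))) = x * (D x⁻¹ : G) by group]
  · rw [show Nat.card (MulAut.conj (k : G)⁻¹ • H₀ : Subgroup G) = Nat.card H₀ from
      Subgroup.card_map_of_injective (MulEquiv.injective _)]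
    have e := h₀.card_mul_card
    rw [← h₁.card_mul_card] at e
    exact (Nat.eq_of_mul_eq_mul_left Nat.card_pos e).symm

end Cfsg.Lib.SolvStruct
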