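/-
The number of Sylow subgroups over a normal subgroup (P. Hall), and its prime parts in soluble groups.
-/
import Mathlib
import Cfsg.Agent.Coprime.Hall

set_option linter.style.haveILetI false
set_option linter.unusedSectionVars false

namespace Cfsg.Lib.SolvStruct.SylowNumber

open Subgroup MulAction
open scoped Pointwise

universe u

variable {G : Type u} [Group G]

theorem relIndex_eq_of_covers {S T M : Subgroup G} (hST : S ≤ T) (h : ∀ t ∈ T, ∃ s ∈ S, s⁻¹ * t ∈ M) :
    M.relIndex S = M.relIndex T := by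
  refine Nat.card_congr (Equiv.ofBijective _ ⟨(quotientSubgroupOfEmbeddingOfLE M hST).injective, ?_⟩)
  intro x
  induction x using QuotientGroup.induction_on with
  | H t =>
    obtain ⟨s, hs, hsm⟩ := h t t.2
    refine ⟨QuotientGroup.mk (⟨s, hs⟩ : S), ?_⟩
    rw [quotientSubgroupOfEmbeddingOfLE_apply_mk, QuotientGroup.eq, mem_subgroupOf]
    exact hsm

theorem relIndex_eq_sup {K A M : Subgroup G} [K.Normal] (hA : A ≤ M) :
    M.relIndex K = M.relIndex (A ⊔ K) := by
  refine relIndex_eq_of_covers le_sup_right fun t ht => ?_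
  rw [sup_comm, mem_sup_of_normal_left] at ht
  obtain ⟨k, hk, a, ha, rfl⟩ := ht
  exact ⟨k, hk, by simpa using hA ha⟩

theorem map_conj_normal (K : Subgroup G) [K.Normal] (g : G) : K.map ((MulAut.conj g : G ≃* G) : G →* G) = K :=
  Subgroup.mem_normalizer_iff_map_conj_eq.1 (by rw [Subgroup.normalizer_eq_top]; exact mem_top g)

variable [Finite G] {p : ℕ} [Fact p.Prime]

theorem card_sylow_of_surjective {H : Type*} [Group H] (P : Sylow p G) {f : G →* H} (hf : Function.Surjective f) :
    Nat.card (Sylow p H) = (normalizer (((P : Subgroup G) ⊔ f.ker : Subgroup G) : Set G)).index := by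
  haveI : Finite H := Finite.of_surjective f hf
  rw [(P.mapSurjective hf).card_eq_index_normalizer, ← Sylow.coe_coe, ← Subgroup.index_comap_of_surjective _ hf,
    Subgroup.comap_normalizer_eq_of_surjective _ hf, Sylow.coe_mapSurjective, Subgroup.comap_map_eq]

theorem card_sylow_of_le {S : Subgroup G} (P : Sylow p G) (h : (P : Subgroup G) ≤ S) :
    Nat.card (Sylow p S) = (normalizer ((P : Subgroup G) : Set G)).relIndex S := by
  rw [(P.subtype h).card_eq_index_normalizer, ← Sylow.coe_coe, Subgroup.relIndex, Subgroup.subgroupOf_normalizer_eq h,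
    Sylow.coe_subtype]

theorem relIndex_normalizer_sup (P : Sylow p G) (K : Subgroup G) [K.Normal] :
    (normalizer ((P : Subgroup G) : Set G)).relIndex ((P : Subgroup G) ⊔ K) *
      Nat.card (Sylow p (G ⧸ K)) = Nat.card (Sylow p G) := by
  rw [card_sylow_of_surjective P (QuotientGroup.mk'_surjective K), QuotientGroup.ker_mk',
    P.card_eq_index_normalizer]
  set S := (P : Subgroup G) ⊔ K with hS
  have hle : normalizer ((P : Subgroup G) : Set G) ≤ normalizer (S : Set G) := by
    intro g hg
    refine Subgroup.mem_normalizer_iff_map_conj_eq.mpr ?_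
    rw [hS, Subgroup.map_sup, Subgroup.mem_normalizer_iff_map_conj_eq.1 hg, map_conj_normal]
  have hcov : (normalizer ((P : Subgroup G) : Set G)).relIndex S =
      (normalizer ((P : Subgroup G) : Set G)).relIndex (normalizer (S : Set G)) := by
    refine relIndex_eq_of_covers le_normalizer fun g hg => ?_
    have hgP : ((g • P : Sylow p G) : Subgroup G) ≤ S := by
      rw [Sylow.coe_subgroup_smul, ← Subgroup.mem_normalizer_iff_map_conj_eq.1 hg]
      exact Subgroup.map_mono le_sup_left
    obtain ⟨s, hs⟩ := MulAction.exists_smul_eq S ((g • P).subtype hgP) (P.subtype le_sup_left)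
    rw [Sylow.smul_subtype] at hs
    have h2 := Sylow.subtype_injective hs
    rw [Subgroup.smul_def, smul_smul, Sylow.smul_eq_iff_mem_normalizer] at h2
    exact ⟨(s : G)⁻¹, inv_mem s.2, by rwa [inv_inv]⟩
  rw [hcov, Sylow.coe_coe] at *
  rw [← relIndex_top_right, ← relIndex_top_right, relIndex_mul_relIndex _ _ _ hle le_top]

theorem card_sylow_normal (P : Sylow p G) (K : Subgroup G) [K.Normal] :
    Nat.card (Sylow p K) =
      (normalizer (((P : Subgroup G) ⊓ K : Subgroup G) : Set G)).relIndex ((P : Subgroup G) ⊔ K) := by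
  have hp : ¬ p ∣ (((P : Subgroup G) ⊓ K).subgroupOf K).index := by
    rw [← Subgroup.relIndex, Subgroup.inf_relIndex_right, relIndex_eq_sup (le_refl (P : Subgroup G))]
    exact fun h => P.not_dvd_index (h.trans ⟨_, (relIndex_mul_index le_sup_left).symm⟩)
  have hP : IsPGroup p (((P : Subgroup G) ⊓ K).subgroupOf K) :=
    (P.2.to_le inf_le_left).comap_of_injective K.subtype K.subtype_injective
  rw [(hP.toSylow hp).card_eq_index_normalizer, ← Sylow.coe_coe]
  have hc : ((hP.toSylow hp : Sylow p K) : Subgroup K) = ((P : Subgroup G) ⊓ K).subgroupOf K := rfl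
  rw [hc, ← Subgroup.subgroupOf_normalizer_eq inf_le_right, ← Subgroup.relIndex]
  refine relIndex_eq_sup fun g hg => ?_
  refine Subgroup.mem_normalizer_iff_map_conj_eq.mpr ?_
  rw [Subgroup.map_inf _ _ _ (MulAut.conj g).injective,
    Subgroup.mem_normalizer_iff_map_conj_eq.1 (le_normalizer hg), map_conj_normal]

theorem hall_formula (P : Sylow p G) (K N : Subgroup G) [K.Normal]
    (hN : N = ((P : Subgroup G) ⊔ K) ⊓ normalizer (((P : Subgroup G) ⊓ K : Subgroup G) : Set G))
    [(((P : Subgroup G) ⊓ K).subgroupOf N).Normal] :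
    Nat.card (Sylow p G) = Nat.card (Sylow p (G ⧸ K)) * Nat.card (Sylow p K) *
      Nat.card (Sylow p (N ⧸ ((P : Subgroup G) ⊓ K).subgroupOf N)) := by
  set D := (P : Subgroup G) ⊓ K
  set S := (P : Subgroup G) ⊔ K
  have hPD : (P : Subgroup G) ≤ normalizer (D : Set G) := fun g hg => by
    refine Subgroup.mem_normalizer_iff_map_conj_eq.mpr ?_
    rw [Subgroup.map_inf _ _ _ (MulAut.conj g).injective,
      Subgroup.mem_normalizer_iff_map_conj_eq.1 (le_normalizer hg), map_conj_normal]
  have hPN : (P : Subgroup G) ≤ N := hN ▸ le_inf le_sup_left hPD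
  have hle : normalizer ((P : Subgroup G) : Set G) ⊓ S ≤ N := by
    rw [hN]
    refine le_inf inf_le_right fun g hg => ?_
    refine Subgroup.mem_normalizer_iff_map_conj_eq.mpr ?_
    rw [Subgroup.map_inf _ _ _ (MulAut.conj g).injective,
      Subgroup.mem_normalizer_iff_map_conj_eq.1 (Subgroup.mem_inf.1 hg).1, map_conj_normal]
  have hQ : Nat.card (Sylow p (N ⧸ D.subgroupOf N)) = (normalizer ((P : Subgroup G) : Set G)).relIndex N := by
    rw [card_sylow_of_surjective (P.subtype hPN) (QuotientGroup.mk'_surjective (D.subgroupOf N)),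
      QuotientGroup.ker_mk', Sylow.coe_subtype,
      sup_eq_left.2 (show D.subgroupOf N ≤ (P : Subgroup G).subgroupOf N from fun x hx => (Subgroup.mem_inf.1 hx).1),
      Subgroup.relIndex, Subgroup.subgroupOf_normalizer_eq hPN]
  have h1 : (normalizer ((P : Subgroup G) : Set G)).relIndex N =
      (normalizer ((P : Subgroup G) : Set G) ⊓ S).relIndex N := by
    rw [← Subgroup.inf_relIndex_right, ← Subgroup.inf_relIndex_right (H := _ ⊓ S)]
    congr 1
    rw [inf_assoc, inf_eq_right.2 (hN ▸ inf_le_left : N ≤ S)]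
  have h2 : (normalizer ((P : Subgroup G) : Set G) ⊓ S).relIndex N * N.relIndex S =
      (normalizer ((P : Subgroup G) : Set G)).relIndex S := by
    rw [relIndex_mul_relIndex _ _ _ hle (hN ▸ inf_le_left), Subgroup.inf_relIndex_right]
  rw [hQ, h1, card_sylow_normal P K, ← relIndex_normalizer_sup P K, ← h2]
  have : N.relIndex S = (normalizer (D : Set G)).relIndex S := by
    rw [hN, inf_comm, Subgroup.inf_relIndex_right]
  rw [this]
  ring

theorem prime_pow_modEq_one {r a x : ℕ} (hx : x.Coprime p) (h : r ^ a * x ≡ x [MOD p]) :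
    r ^ a ≡ 1 [MOD p] :=
  Nat.ModEq.cancel_right_of_coprime (Nat.Coprime.symm hx) (by rwa [one_mul])

/-- Sylow numbers of a group with an abelian normal subgroup of prime power order. -/
theorem relIndex_normalizer_prime_pow {r n : ℕ} (hr : r.Prime) (P : Sylow p G) (K : Subgroup G) [K.Normal]
    (hcard : Nat.card K = r ^ n) (hrp : r ≠ p) :
    ∃ a : ℕ, (normalizer ((P : Subgroup G) : Set G)).relIndex K = r ^ a ∧ r ^ a ≡ 1 [MOD p] := by
  letI : MulAction (P : Subgroup G) K :=
    MulAction.compHom K ((MulAut.conjNormal : G →* MulAut K).comp (P : Subgroup G).subtype)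
  have hmod := P.2.card_modEq_card_fixedPoints K
  have hsmul : ∀ (x : (P : Subgroup G)) (k : K), ((x • k : K) : G) = x * k * (x : G)⁻¹ := fun x k => rfl
  set C := (normalizer ((P : Subgroup G) : Set G)).subgroupOf K
  have hdisj : (P : Subgroup G) ⊓ K = ⊥ :=
    (Subgroup.inf_eq_bot_of_coprime ?_)
  swap
  · obtain ⟨m, hm⟩ := IsPGroup.iff_card.1 P.2
    rw [hm, hcard]
    exact Nat.Coprime.pow _ _ ((Nat.coprime_primes Fact.out hr).2 hrp.symm)
  have hfix : Nat.card (fixedPoints (P : Subgroup G) K) = Nat.card C := by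
    refine Nat.card_congr (Equiv.subtypeEquivRight fun k => ?_)
    rw [mem_fixedPoints, mem_subgroupOf]
    constructor
    · intro h
      refine Subgroup.centralizer_le_normalizer _ (Subgroup.mem_centralizer_iff.2 fun x hx => ?_)
      have := congrArg Subtype.val (h ⟨x, hx⟩)
      rw [hsmul] at this
      exact mul_inv_eq_iff_eq_mul.1 this
    · intro h x
      apply Subtype.ext
      rw [hsmul]
      have h1 : (x : G) * k * (x : G)⁻¹ * (k : G)⁻¹ ∈ (P : Subgroup G) ⊓ K := by
        refine Subgroup.mem_inf.mpr ⟨?_, mul_mem (Subgroup.Normal.conj_mem inferInstance _ k.2 _) (inv_mem k.2)⟩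
        rw [mul_assoc, mul_assoc]
        refine mul_mem x.2 ?_
        rw [← mul_assoc]
        exact (Subgroup.mem_normalizer_iff.1 h _).1 (inv_mem x.2)
      rw [hdisj, mem_bot, mul_inv_eq_one] at h1
      exact h1
  obtain ⟨b, -, hb⟩ := (Nat.dvd_prime_pow hr).1 (hcard ▸ Subgroup.card_subgroup_dvd_card C)
  obtain ⟨a, -, ha⟩ := (Nat.dvd_prime_pow hr).1 (hcard ▸ (Subgroup.index_dvd_card C))
  refine ⟨a, ha, prime_pow_modEq_one (x := Nat.card C) ?_ ?_⟩
  · rw [hb]
    exact Nat.Coprime.pow_left _ ((Nat.coprime_primes hr Fact.out).2 hrp)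
  · rw [← ha, Subgroup.index_mul_card, ← hfix]
    exact hmod

theorem exists_minimal (G : Type u) [Group G] [Finite G] [Nontrivial G] (hG : Group.IsSolvable G) :
    ∃ r : ℕ, r.Prime ∧ ∃ K : Subgroup G, K.Normal ∧ K ≠ ⊥ ∧ IsMulCommutative K ∧
      ∃ m : ℕ, Nat.card K = r ^ m := by
  haveI := hG
  obtain ⟨N, -, hNn, hNb, hmin⟩ :=
    Cfsg.Lib.Coprime.exists_minimal_normal (K := (⊤ : Subgroup G)) inferInstance top_ne_bot
  haveI := hNn
  obtain ⟨hc, r, hr, hrN, -⟩ := Cfsg.Lib.Coprime.minimal_normal_solvable inferInstance hNb hmin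
  haveI := Fact.mk hr
  exact ⟨r, hr, N, hNn, hNb, hc, IsPGroup.iff_card.1 hrN⟩

theorem part_congr_aux (ℓ : ℕ) (hℓ : ℓ.Prime) (p : ℕ) [Fact p.Prime] :
    ∀ (n : ℕ) (G : Type u) [Group G] [Finite G], Group.IsSolvable G → Nat.card G ≤ n →
      ℓ ^ (Nat.card (Sylow p G)).factorization ℓ ≡ 1 [MOD p] := by
  intro n
  induction n with
  | zero => intro G _ _ _ h; exact absurd h (by have := Nat.card_pos (α := G); omega)
  | succ n ih =>
    intro G _ _ hG hn
    rcases subsingleton_or_nontrivial G with h | h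
    · have : Subsingleton (Sylow p G) := ⟨fun P Q => Sylow.ext (Subsingleton.elim _ _)⟩
      rw [Nat.card_of_subsingleton (Classical.arbitrary (Sylow p G))]
      simp [Nat.ModEq.refl]
    obtain ⟨r, hr, K, hKn, hKne, -, m, hm⟩ := exists_minimal G hG
    obtain ⟨P⟩ : Nonempty (Sylow p G) := inferInstance
    have hlt : Nat.card (G ⧸ K) ≤ n := by
      have h1 := Subgroup.card_eq_card_quotient_mul_card_subgroup K
      have h2 : 1 < Nat.card K := (Subgroup.one_lt_card_iff_ne_bot K).2 hKne
      have h3 : 0 < Nat.card (G ⧸ K) := Nat.card_pos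
      nlinarith
    have hrest := ih (G ⧸ K) (haveI := hG; inferInstance) hlt
    have hmain := relIndex_normalizer_sup P K
    rw [← relIndex_eq_sup le_normalizer] at hmain
    rw [← hmain]
    by_cases hrp : r = p
    · have hKP : K ≤ (P : Subgroup G) :=
        le_sup_right.trans (P.3 (P.2.to_sup_of_normal_right (IsPGroup.of_card (p := p) (G := K) (n := m) (by rw [hm, hrp]))) le_sup_left).le
      rw [Subgroup.relIndex_eq_one.2 (hKP.trans le_normalizer), one_mul]
      exact hrest
    obtain ⟨a, ha, hmod⟩ := relIndex_normalizer_prime_pow hr P K hm hrp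
    rw [ha, Nat.factorization_mul (pow_ne_zero _ hr.ne_zero) Nat.card_pos.ne', Finsupp.add_apply,
      pow_add, hr.factorization_pow]
    rcases eq_or_ne r ℓ with rfl | hne
    · rw [Finsupp.single_eq_same]
      exact (hmod.mul hrest).trans (by rw [one_mul])
    · rw [Finsupp.single_eq_of_ne' hne, pow_zero, one_mul]
      exact hrest

end Cfsg.Lib.SolvStruct.SylowNumber
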