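/-
Huppert's supersolubility criterion, and groups whose subgroups satisfy the converse of Lagrange.
-/
import Cfsg.Agent.Components.HSub.Supersolvable
import Cfsg.Agent.SolvStruct.Supersolvable
import Cfsg.Agent.Coprime.Hall
import Cfsg.Agent.SolvStruct.Gaschuetz
import Cfsg.Agent.PGroups.Basic
import Cfsg.Agent.SolvStruct.SylowNumber

set_option linter.style.haveILetI false
set_option linter.unusedSectionVars false

namespace Cfsg.Lib.SolvStruct.Huppert

open Subgroup
open scoped commutatorElement

universe u

/-- An element of order prime to `p` stabilising a short series of an elementary step is trivial. -/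
theorem commute_of_stabilizes {G : Type u} [Group G] {p : ℕ} {c x l : G} (hc : (orderOf c).Coprime p)
    (hl : l ^ p = 1) (hcl : Commute c l) (h : c * x * c⁻¹ = x * l) : Commute c x := by
  have key : ∀ i : ℕ, c ^ i * x * (c ^ i)⁻¹ = x * l ^ i := by
    intro i
    induction i with
    | zero => simp
    | succ i ih =>
      calc c ^ (i + 1) * x * (c ^ (i + 1))⁻¹ = c * (c ^ i * x * (c ^ i)⁻¹) * c⁻¹ := by
            rw [pow_succ']; group
        _ = c * x * c⁻¹ * (c * l ^ i * c⁻¹) := by rw [ih]; group
        _ = x * l ^ (i + 1) := by rw [h, (hcl.pow_right i).eq, mul_inv_cancel_right, pow_succ', mul_assoc]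
  have h1 := key (orderOf c)
  rw [pow_orderOf_eq_one, one_mul, inv_one, mul_one] at h1
  have h2 : l ^ orderOf c = 1 := by simpa using h1.symm
  have h3 : l = 1 := orderOf_eq_one_iff.1 (Nat.eq_one_of_dvd_coprimes hc
    (orderOf_dvd_of_pow_eq_one h2) (orderOf_dvd_of_pow_eq_one hl))
  rw [h3, mul_one] at h
  exact mul_inv_eq_iff_eq_mul.1 h

/-- The kernel of the action on a chief series of a normal `p`-subgroup. -/
theorem exists_kernel (p : ℕ) [Fact p.Prime] : ∀ (n : ℕ) (X : Type u) [Group X] [Finite X],
    Nat.card X ≤ n → Cfsg.IsSupersolvable X → ∀ Q : Subgroup X, Q.Normal → IsPGroup p Q →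
    ∃ C : Subgroup X, C.Normal ∧ (∀ g h : X, ⁅g, h⁆ ∈ C) ∧ (∀ g : X, g ^ (p - 1) ∈ C) ∧
      ∀ c ∈ C, (orderOf c).Coprime p → ∀ x ∈ Q, Commute c x := by
  intro n
  induction n with
  | zero => intro X _ _ h; exact absurd h (by have := Nat.card_pos (α := X); omega)
  | succ n ih =>
    intro X _ _ hn hX Q hQn hQ
    haveI := hQn
    rcases eq_or_ne Q ⊥ with hQ1 | hQ1
    · refine ⟨⊤, inferInstance, fun g h => mem_top _, fun g => mem_top _, fun c _ _ x hx => ?_⟩
      rw [hQ1, mem_bot] at hx
      rw [hx]; exact Commute.one_right c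
    obtain ⟨L, hLn, hLQ, hLp⟩ := exists_normal_prime_le hX Q hQ1
    haveI := hLn
    obtain ⟨k, hk⟩ := IsPGroup.iff_card.1 (hQ.to_le hLQ)
    have hLc : Nat.card L = p := by
      rw [hk] at hLp ⊢
      rw [Nat.Prime.eq_one_of_pow hLp, pow_one]
    haveI : IsCyclic L := isCyclic_of_prime_card (p := p) hLc
    have hlt : Nat.card (X ⧸ L) ≤ n := by
      have := Cfsg.Lib.Coprime.card_quotient_lt (N := L) (fun h => hLp.ne_one (by rw [h, card_bot]))
      omega
    set π := QuotientGroup.mk' L
    obtain ⟨C', hC'n, hC'c, hC'e, hC'f⟩ := ih (X ⧸ L) hlt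
      (isSupersolvable_of_surjective hX π (QuotientGroup.mk'_surjective L)) (Q.map π)
      (hQn.map π (QuotientGroup.mk'_surjective L)) (hQ.map π)
    haveI := hC'n
    refine ⟨C'.comap π ⊓ centralizer (L : Set X), inferInstance, fun g h => ?_, fun g => ?_, fun c hc hcp x hx => ?_⟩
    · refine Subgroup.mem_inf.mpr ⟨?_, commutator_le_centralizer_of_cyclic L
        (commutator_mem_commutator (mem_top g) (mem_top h))⟩
      rw [mem_comap, map_commutatorElement]
      exact hC'c _ _
    · refine Subgroup.mem_inf.mpr ⟨?_, mem_centralizer_iff.2 fun y hy => ?_⟩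
      · rw [mem_comap, map_pow]; exact hC'e _
      by_cases hy1 : y = 1
      · rw [hy1, one_mul, mul_one]
      have hy' : zpowers y = L := by
        refine eq_of_le_of_card_ge (zpowers_le.2 hy) ?_
        rw [hLc, Nat.card_zpowers]
        rcases (Nat.dvd_prime (Fact.out : p.Prime)).1 (hLc ▸ Subgroup.orderOf_dvd_natCard L hy) with h | h
        · exact absurd (orderOf_eq_one_iff.1 h) hy1
        · rw [h]
      have ho : orderOf y = p := by rw [← Nat.card_zpowers, hy', hLc]
      exact (Cfsg.Lib.HSub.commute_pow_sub_one ho (hy' ▸ hLn.conj_mem y hy g)).symm.eq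
    · obtain ⟨hc1, hc2⟩ := Subgroup.mem_inf.1 hc
      have h1 := hC'f (π c) hc1 (Nat.Coprime.coprime_dvd_left (orderOf_map_dvd π c) hcp) (π x)
        (mem_map_of_mem π hx)
      have hl : x⁻¹ * (c * x * c⁻¹) ∈ L := by
        rw [← QuotientGroup.eq_one_iff]
        show π (x⁻¹ * (c * x * c⁻¹)) = 1
        rw [map_mul, map_mul, map_mul, map_inv, map_inv, h1.eq, mul_inv_cancel_right, inv_mul_cancel]
      refine commute_of_stabilizes hcp ?_ ?_ (mul_inv_cancel_left x (c * x * c⁻¹)).symm
      · have := congrArg Subtype.val (pow_card_eq_one' (x := (⟨_, hl⟩ : L)))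
        rwa [hLc] at this
      · exact ((mem_centralizer_iff.1 hc2) _ hl).symm

/-- Maximal subgroups of a finite supersolvable group have prime index. -/
theorem index_prime_of_isSupersolvable : ∀ (n : ℕ) (G : Type u) [Group G] [Finite G], Nat.card G ≤ n →
    Cfsg.IsSupersolvable G → ∀ M : Subgroup G, IsCoatom M → M.index.Prime := by
  intro n
  induction n with
  | zero => intro G _ _ h; exact absurd h (by have := Nat.card_pos (α := G); omega)
  | succ n ih =>
    intro G _ _ hn hG M hM
    haveI : Nontrivial G := by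
      by_contra h
      rw [not_nontrivial_iff_subsingleton] at h
      exact hM.1 (eq_top_iff.2 fun x _ => Subsingleton.elim (1 : G) x ▸ one_mem M)
    obtain ⟨C, hCn, hCp⟩ := Cfsg.Lib.Supersolvable.exists_normal_prime_card hG
    haveI := hCn
    by_cases hCM : C ≤ M
    · have hlt : Nat.card (G ⧸ C) ≤ n := by
        have := Cfsg.Lib.Coprime.card_quotient_lt (N := C) (fun h => hCp.ne_one (by rw [h, card_bot]))
        omega
      have hsur := QuotientGroup.mk'_surjective C
      have hco : (M.map (QuotientGroup.mk' C)).comap (QuotientGroup.mk' C) = M := by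
        rw [comap_map_eq_self]; rwa [QuotientGroup.ker_mk']
      have h1 := ih (G ⧸ C) hlt (isSupersolvable_of_surjective hG _ hsur) (M.map (QuotientGroup.mk' C))
        ⟨fun h => hM.1 (by rw [← hco, h, comap_top]), fun B hB => by
          have h2 : M < B.comap (QuotientGroup.mk' C) := by
            rw [← hco]; exact (comap_lt_comap_of_surjective hsur).2 hB
          exact comap_injective hsur ((hM.2 _ h2).trans (comap_top _).symm)⟩
      rwa [← Subgroup.index_comap_of_surjective _ hsur, hco] at h1
    · have htop : M ⊔ C = ⊤ := hM.2 _ (lt_of_le_of_ne le_sup_left (fun h => hCM (h ▸ le_sup_right)))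
      have h2 : M.relIndex (M ⊔ C) = M.index := by rw [htop, relIndex_top_right]
      have e1 := relIndex_mul_relIndex (⊥ : Subgroup G) M (M ⊔ C) bot_le le_sup_left
      have e2 := relIndex_mul_relIndex (⊥ : Subgroup G) C (M ⊔ C) bot_le le_sup_right
      have e3 := relIndex_mul_relIndex (⊥ : Subgroup G) (M ⊓ C) M bot_le inf_le_left
      rw [relIndex_bot_left, relIndex_bot_left] at e1 e2 e3
      rw [inf_relIndex_left] at e3
      rw [relIndex_sup_right, ← e1, h2, ← e3] at e2
      have hd : M.index ∣ Nat.card C :=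
        ⟨Nat.card (M ⊓ C : Subgroup G), Nat.eq_of_mul_eq_mul_right
          (Nat.pos_of_ne_zero (index_ne_zero_of_finite (H := C.subgroupOf M))) (by
            show Nat.card C * C.relIndex M = M.index * Nat.card (M ⊓ C : Subgroup G) * C.relIndex M
            rw [e2]; ring)⟩
      rcases hCp.eq_one_or_self_of_dvd _ hd with h | h
      · exact absurd (index_eq_one.1 h) hM.1
      · rwa [h]

theorem exists_complement_elementary {G : Type u} [Group G] [Finite G] {p : ℕ} [Fact p.Prime] (N P : Subgroup G)
    (hNP : N ≤ P) (hcomm : ∀ a ∈ P, ∀ b ∈ P, a * b = b * a) (hexp : ∀ a ∈ P, a ^ p = 1) :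
    ∃ A : Subgroup G, A ≤ P ∧ A ⊓ N = ⊥ ∧ N ⊔ A = P := by
  obtain ⟨A, ⟨hAP, hAN⟩, hmax⟩ := WellFounded.has_min (wellFounded_gt (α := Subgroup G))
    {A | A ≤ P ∧ A ⊓ N = ⊥} ⟨⊥, bot_le, bot_inf_eq N⟩
  refine ⟨A, hAP, hAN, le_antisymm (sup_le hNP hAP) fun x hx => by_contra fun hxA => ?_⟩
  have hnc : ∀ a ∈ P, zpowers a ≤ centralizer (P : Set G) := fun a ha => zpowers_le.2
    (mem_centralizer_iff.2 fun b hb => hcomm b hb a ha)
  have hsup : zpowers x ≤ normalizer (A : Set G) :=
    (hnc x hx).trans ((centralizer_le hAP).trans (centralizer_le_normalizer _))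
  refine hmax (A ⊔ zpowers x) ⟨sup_le hAP (zpowers_le.2 hx), (eq_bot_iff_forall _).2 fun y hy => ?_⟩
    (lt_of_le_of_ne le_sup_left fun h => hxA (mem_sup_right (h ▸ mem_sup_right (mem_zpowers x))))
  obtain ⟨hy1, hy2⟩ := Subgroup.mem_inf.1 hy
  obtain ⟨a, ha, b, hb, rfl⟩ : ∃ a ∈ A, ∃ b ∈ zpowers x, a * b = y := by
    have h := (Subgroup.coe_mul_of_right_le_normalizer_left A (zpowers x) hsup).le hy1
    exact h
  obtain ⟨i, rfl⟩ := mem_zpowers_iff.1 hb
  by_cases hi : (p : ℤ) ∣ i
  · obtain ⟨j, rfl⟩ := hi
    rw [zpow_mul, zpow_natCast, hexp x hx, one_zpow, mul_one] at hy2 ⊢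
    exact (eq_bot_iff_forall _).1 hAN a (Subgroup.mem_inf.mpr ⟨ha, hy2⟩)
  · exfalso
    apply hxA
    obtain ⟨u, v, huv⟩ := ((Nat.prime_iff_prime_int.1 Fact.out).coprime_iff_not_dvd.2 hi : IsCoprime (p : ℤ) i)
    have hxi : x ^ i ∈ N ⊔ A := by
      have : x ^ i = a⁻¹ * (a * x ^ i) := by group
      rw [this]
      exact mul_mem (mem_sup_right (inv_mem ha)) (mem_sup_left hy2)
    have : x = (x ^ (p : ℤ)) ^ u * (x ^ i) ^ v := by
      rw [← zpow_mul, ← zpow_mul, ← zpow_add, mul_comm (p : ℤ), mul_comm i, huv, zpow_one]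
    rw [this, zpow_natCast, hexp x hx, one_zpow, one_mul]
    exact zpow_mem hxi v

theorem huppert : ∀ (n : ℕ) (G : Type u) [Group G] [Finite G], Nat.card G ≤ n →
    (∀ M : Subgroup G, IsCoatom M → M.index.Prime) → Cfsg.IsSupersolvable G := by
  intro n
  induction n with
  | zero => intro G _ _ h; exact absurd h (by have := Nat.card_pos (α := G); omega)
  | succ n ih =>
    intro G _ _ hn hG
    rcases subsingleton_or_nontrivial G with hs | hs
    · exact isSupersolvable_of_cycTop (by rw [show (⊥ : Subgroup G) = ⊤ from Subsingleton.elim _ _]; exact .top)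
    have hquot : ∀ N : Subgroup G, [N.Normal] → N ≠ ⊥ → Cfsg.IsSupersolvable (G ⧸ N) := by
      intro N _ hN
      refine ih _ (by have := Cfsg.Lib.Coprime.card_quotient_lt hN; omega) fun M hM => ?_
      have hsur := QuotientGroup.mk'_surjective N
      rw [← Subgroup.index_comap_of_surjective _ hsur]
      refine hG _ ⟨fun h => hM.1 (comap_injective hsur (h.trans (comap_top _).symm)), fun B hB => ?_⟩
      have hNB : N ≤ B := le_trans (fun x hx => by
        rw [mem_comap, QuotientGroup.mk'_apply, (QuotientGroup.eq_one_iff x).2 hx]; exact one_mem _) hB.le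
      have hco : (B.map (QuotientGroup.mk' N)).comap (QuotientGroup.mk' N) = B := by
        rw [comap_map_eq_self]; rwa [QuotientGroup.ker_mk']
      rw [← hco, hM.2 (B.map (QuotientGroup.mk' N)) ((comap_lt_comap_of_surjective hsur).1 (by rwa [hco])), comap_top]
    -- the largest prime divisor
    obtain ⟨p, hp, hpd, hmax⟩ : ∃ p, p.Prime ∧ p ∣ Nat.card G ∧ ∀ q, q.Prime → q ∣ Nat.card G → q ≤ p := by
      have hne : (Nat.card G).primeFactors.Nonempty := by
        rw [Nat.nonempty_primeFactors]; exact Finite.one_lt_card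
      refine ⟨_, Nat.prime_of_mem_primeFactors (Finset.max'_mem _ hne),
        Nat.dvd_of_mem_primeFactors (Finset.max'_mem _ hne), fun q hq hqd => Finset.le_max' _ _ ?_⟩
      exact Nat.mem_primeFactors.2 ⟨hq, hqd, Nat.card_pos.ne'⟩
    haveI := Fact.mk hp
    obtain ⟨P⟩ : Nonempty (Sylow p G) := inferInstance
    have hPne : (P : Subgroup G) ≠ ⊥ := P.ne_bot_of_dvd_card hpd
    have hPn : (P : Subgroup G).Normal := by
      rw [← normalizer_eq_top_iff]
      by_contra hne
      obtain ⟨M, hM, hNM⟩ := (eq_top_or_exists_le_coatom _).resolve_left hne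
      have hPM : (P : Subgroup G) ≤ M := le_normalizer.trans hNM
      have h1 := card_sylow_modEq_one p G
      have h2 := card_sylow_modEq_one p M
      rw [P.card_eq_index_normalizer, ← Sylow.coe_coe] at h1
      rw [(P.subtype hPM).card_eq_index_normalizer, ← Sylow.coe_coe, Sylow.coe_subtype,
        ← subgroupOf_normalizer_eq hPM, ← relIndex] at h2
      rw [← relIndex_mul_index hNM] at h1
      have h3 : M.index ≡ 1 [MOD p] := ((h2.mul_right M.index).symm.trans h1 |> fun h => by rwa [one_mul] at h)
      have hq := hG M hM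
      have hle := hmax _ hq M.index_dvd_card
      rcases hle.lt_or_eq with hlt | heq
      · exact hq.ne_one (h3.eq_of_lt_of_lt hlt hp.one_lt)
      · rw [heq] at h3
        exact hp.ne_one (Nat.dvd_one.1 (Nat.modEq_zero_iff_dvd.1 ((h3.symm.trans (Nat.modEq_zero_iff_dvd.2 dvd_rfl)))))
    haveI := hPn
    have hPss := hquot (P : Subgroup G) hPne
    obtain ⟨N, hNP, hNn, hNne, hNmin⟩ := Cfsg.Lib.Coprime.exists_minimal_normal hPn hPne
    haveI := hNn
    have hNss := hquot N hNne
    -- a second minimal normal subgroup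
    by_cases hL : ∃ L : Subgroup G, L.Normal ∧ L ≠ ⊥ ∧ ¬ N ≤ L
    · obtain ⟨L, hLn, hLne, hNL⟩ := hL
      haveI := hLn
      have hNL' : N ⊓ L = ⊥ := (hNmin _ inferInstance inf_le_left).resolve_right fun h => hNL (h ▸ inf_le_right)
      refine isSupersolvable_of_injective (isSupersolvable_prod hNss (hquot L hLne))
        ((QuotientGroup.mk' N).prod (QuotientGroup.mk' L)) ?_
      rw [← MonoidHom.ker_eq_bot_iff, MonoidHom.ker_prod, QuotientGroup.ker_mk', QuotientGroup.ker_mk', hNL']
    push Not at hL
    -- a complement makes `N` of prime order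
    by_cases hM : ∃ M : Subgroup G, IsCoatom M ∧ N ⊓ M = ⊥
    · obtain ⟨M, hM, hNM⟩ := hM
      have htop : M ⊔ N = ⊤ := hM.2 _ (lt_of_le_of_ne le_sup_left fun h => hNne (by
        rw [← hNM]; exact (inf_eq_left.2 (h ▸ le_sup_right)).symm))
      have hc : Nat.card N = M.index := by
        have e1 := relIndex_mul_relIndex (⊥ : Subgroup G) M (M ⊔ N) bot_le le_sup_left
        have e2 := relIndex_mul_relIndex (⊥ : Subgroup G) N (M ⊔ N) bot_le le_sup_right
        rw [relIndex_bot_left, relIndex_bot_left] at e1 e2
        rw [relIndex_sup_right, ← inf_relIndex_right, hNM, relIndex_bot_left, ← e1, htop, relIndex_top_right,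
          mul_comm] at e2
        exact Nat.eq_of_mul_eq_mul_left Nat.card_pos e2
      haveI : IsCyclic N := by
        haveI := Fact.mk (hG M hM)
        exact isCyclic_of_prime_card hc
      exact isSupersolvable_of_quotient N hNss
    push Not at hM
    -- now `N` lies in the Frattini subgroup of `P`
    set F := (frattini (P : Subgroup G)).map (P : Subgroup G).subtype with hF
    have hFn : F.Normal := inferInstance
    have hNF : N ≤ F := by
      by_contra hNF
      have hFb : F = ⊥ := by_contra fun h => hNF (hL F hFn h)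
      have hΦ : frattini (P : Subgroup G) = ⊥ := by
        rwa [hF, Subgroup.map_eq_bot_iff, ker_subtype, le_bot_iff] at hFb
      have hexp : ∀ a ∈ (P : Subgroup G), a ^ p = 1 := fun a ha => by
        have := Cfsg.Lib.PGroups.pow_mem_frattini P.2 (⟨a, ha⟩ : (P : Subgroup G))
        rw [hΦ, mem_bot, Subtype.ext_iff] at this
        exact this
      have hcm : ∀ a ∈ (P : Subgroup G), ∀ b ∈ (P : Subgroup G), a * b = b * a := fun a ha b hb => by
        have := Cfsg.Lib.PGroups.commutator_le_frattini P.2
          (commutator_mem_commutator (mem_top (⟨a, ha⟩ : (P : Subgroup G))) (mem_top ⟨b, hb⟩))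
        rw [hΦ, mem_bot, commutatorElement_eq_one_iff_mul_comm, Subtype.ext_iff] at this
        exact this
      obtain ⟨A, hAP, hAN, hNA⟩ := exists_complement_elementary N (P : Subgroup G) hNP hcm hexp
      haveI : IsMulCommutative N := ⟨⟨fun a b => Subtype.ext (hcm a (hNP a.2) b (hNP b.2))⟩⟩
      have hcop : (Nat.card N).Coprime (P : Subgroup G).index :=
        Nat.Coprime.coprime_dvd_left (card_dvd_of_le hNP) P.card_coprime_index
      obtain ⟨K, hK⟩ := exists_complement_averaging hNP hcop A hAP hAN hNA
      have hKne : K ≠ ⊤ := fun h => hNne (by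
        have := hK.disjoint.eq_bot; rwa [h, inf_top_eq] at this)
      obtain ⟨M, hMc, hKM⟩ := (eq_top_or_exists_le_coatom K).resolve_left hKne
      refine hM M hMc ((hNmin _ ?_ inf_le_left).resolve_right fun h => hMc.1 (eq_top_iff.2 ?_))
      · rw [← normalizer_eq_top_iff, eq_top_iff, ← hK.sup_eq_top]
        refine sup_le (le_trans (fun a ha => ?_) (centralizer_le_normalizer _)) (hKM.trans fun g hg => ?_)
        · exact mem_centralizer_iff.2 fun b hb => hcm b (hNP (Subgroup.mem_inf.1 hb).1) a (hNP ha)
        · refine Subgroup.mem_normalizer_iff.2 fun b => ?_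
          rw [Subgroup.mem_inf, Subgroup.mem_inf, Subgroup.mul_mem_cancel_right _ (inv_mem hg),
            Subgroup.mul_mem_cancel_left _ hg]
          exact and_congr_left fun _ => ⟨fun h' => hNn.conj_mem b h' g, fun h' => by
            simpa [mul_assoc] using hNn.conj_mem _ h' g⁻¹⟩
      · rw [← hK.sup_eq_top]; exact sup_le (h ▸ inf_le_right) hKM
    -- the action of the quotient
    obtain ⟨C', hC'n, hC'c, hC'e, hC'f⟩ := exists_kernel p _ (G ⧸ N) le_rfl hNss
      ((P : Subgroup G).map (QuotientGroup.mk' N)) (hPn.map _ (QuotientGroup.mk'_surjective N)) (P.2.map _)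
    haveI := hC'n
    refine Cfsg.Lib.HSub.supersolvable_of_act (p := p) (Q := (P : Subgroup G))
      (C := C'.comap (QuotientGroup.mk' N)) P.2 (fun c hc hcp x hx => ?_)
      (fun g h => by rw [mem_comap, map_commutatorElement]; exact hC'c _ _)
      (fun g => by rw [mem_comap, map_pow]; exact hC'e _) hPss
    have hA : zpowers c ≤ centralizer ((P : Subgroup G) : Set G) := by
      refine Cfsg.Lib.Coprime.le_centralizer_of_frattini (by rw [normalizer_eq_top]; exact le_top) ?_ ?_
      · rw [Nat.card_zpowers]
        obtain ⟨k, hk⟩ := IsPGroup.iff_card.1 (P.2.to_subgroup (frattini (P : Subgroup G)))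
        rw [hk]
        exact hcp.pow_right k
      · intro a ha y hy
        apply hNF
        rw [← QuotientGroup.eq_one_iff]
        show QuotientGroup.mk' N (a * y * a⁻¹ * y⁻¹) = 1
        obtain ⟨i, rfl⟩ := mem_zpowers_iff.1 ha
        have := ((hC'f _ hc (Nat.Coprime.coprime_dvd_left (orderOf_map_dvd _ c) hcp) _
          (mem_map_of_mem (QuotientGroup.mk' N) hy)).zpow_left i).eq
        rw [map_mul, map_mul, map_mul, map_inv, map_inv, map_zpow, this, mul_inv_cancel_right, mul_inv_cancel]
    exact (mem_centralizer_iff.1 (hA (mem_zpowers c)) x hx).symm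

theorem isSolvable_of_isSupersolvable' {X : Type u} [Group X] [Finite X] (h : Cfsg.IsSupersolvable X) :
    Group.IsSolvable X := by
  haveI := isNilpotent_commutator_of_isSupersolvable h
  exact solvable_of_ker_le_range (commutator X).subtype Abelianization.of
    (by rw [Abelianization.ker_of, range_subtype])

theorem everyOrder : ∀ (n : ℕ) (G : Type u) [Group G] [Finite G], Nat.card G ≤ n →
    (∀ H : Subgroup G, Cfsg.HasSubgroupOfEveryOrder H) → Cfsg.IsSupersolvable G := by
  intro n
  induction n with
  | zero => intro G _ _ h; exact absurd h (by have := Nat.card_pos (α := G); omega)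
  | succ n ih =>
    intro G _ _ hn hG
    rcases subsingleton_or_nontrivial G with hs | hs
    · exact isSupersolvable_of_cycTop (by rw [show (⊥ : Subgroup G) = ⊤ from Subsingleton.elim _ _]; exact .top)
    have hsub : ∀ K : Subgroup G, K ≠ ⊤ → Cfsg.IsSupersolvable K := by
      intro K hK
      refine ih K ?_ fun H d hd => ?_
      · have h1 := K.card_mul_index
        have h2 : 1 < K.index := Subgroup.one_lt_index_of_ne_top hK
        have h3 : 0 < Nat.card K := Nat.card_pos
        nlinarith
      · let e := H.equivMapOfInjective K.subtype K.subtype_injective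
        obtain ⟨D, hD⟩ := hG (H.map K.subtype) d (by rwa [← Nat.card_congr e.toEquiv])
        exact ⟨D.map e.symm.toMonoidHom, by
          rw [Subgroup.card_map_of_injective (K := D) e.symm.injective, hD]⟩
    have hlag : ∀ (H : Subgroup G) (d : ℕ), d ∣ Nat.card H → ∃ D : Subgroup G, D ≤ H ∧ Nat.card D = d := by
      intro H d hd
      obtain ⟨D, hD⟩ := hG H d hd
      exact ⟨D.map H.subtype, map_subtype_le D, by rw [card_map_of_injective H.subtype_injective, hD]⟩
    -- a normal subgroup of the smallest prime index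
    set r := (Nat.card G).minFac with hr
    have hc1 : Nat.card G ≠ 1 := Finite.one_lt_card.ne'
    have hrp : r.Prime := Nat.minFac_prime hc1
    have hrd : r ∣ Nat.card G := Nat.minFac_dvd _
    obtain ⟨K, -, hK⟩ := hlag ⊤ (Nat.card G / r) (by rw [card_top]; exact Nat.div_dvd_of_dvd hrd)
    have hKi : K.index = r := by
      have h1 := K.card_mul_index
      rw [hK] at h1
      exact Nat.eq_of_mul_eq_mul_left (Nat.div_pos (Nat.le_of_dvd Nat.card_pos hrd) hrp.pos)
        (h1.trans (Nat.div_mul_cancel hrd).symm)
    haveI hKn : K.Normal := Subgroup.normal_of_index_eq_minFac_card (hr ▸ hKi)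
    have hKss := hsub K (fun h => hrp.ne_one (by rw [← hKi, h, index_top]))
    refine huppert _ G le_rfl fun M hM => ?_
    -- the largest prime divisor
    obtain ⟨p, hp, hpd, hmax⟩ : ∃ p, p.Prime ∧ p ∣ Nat.card G ∧ ∀ q, q.Prime → q ∣ Nat.card G → q ≤ p := by
      have hne : (Nat.card G).primeFactors.Nonempty := by
        rw [Nat.nonempty_primeFactors]; exact Finite.one_lt_card
      refine ⟨_, Nat.prime_of_mem_primeFactors (Finset.max'_mem _ hne),
        Nat.dvd_of_mem_primeFactors (Finset.max'_mem _ hne), fun q hq hqd => Finset.le_max' _ _ ?_⟩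
      exact Nat.mem_primeFactors.2 ⟨hq, hqd, Nat.card_pos.ne'⟩
    haveI := Fact.mk hp
    rcases (Nat.minFac_le_of_dvd hp.two_le hpd).eq_or_lt with hrp' | hlt
    · -- a group of prime power order
      have hGp : IsPGroup p G := by
        refine IsPGroup.of_card (n := (Nat.card G).primeFactorsList.length)
          (Nat.eq_prime_pow_of_unique_prime_dvd Nat.card_pos.ne' fun {q} hq hqd => ?_)
        exact le_antisymm (hmax q hq hqd) (hrp' ▸ Nat.minFac_le_of_dvd hq.two_le hqd)
      haveI := hGp.isNilpotent
      haveI : M.Normal := (Group.normalizerCondition_of_isNilpotent).normal_of_coatom M hM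
      have hdvd := M.index_dvd_card
      obtain ⟨k, hk⟩ := IsPGroup.iff_card.1 hGp
      obtain ⟨j, -, hj⟩ := (Nat.dvd_prime_pow hp).1 (hk ▸ hdvd)
      have hj0 : j ≠ 0 := fun h => hM.1 (index_eq_one.1 (by rw [hj, h, pow_zero]))
      obtain ⟨x, hx⟩ := exists_prime_orderOf_dvd_card' p (G := G ⧸ M) (by rw [← index_eq_card, hj]; exact dvd_pow_self p hj0)
      have hx' : (zpowers x).comap (QuotientGroup.mk' M) = ⊤ := hM.2 _ (by
        refine lt_of_le_of_ne (fun y hy => ?_) fun h => ?_
        · rw [mem_comap, QuotientGroup.mk'_apply, (QuotientGroup.eq_one_iff y).2 hy]; exact one_mem _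
        · obtain ⟨y, rfl⟩ := QuotientGroup.mk_surjective x
          have : y ∈ M := h.ge (mem_comap.2 (mem_zpowers _))
          rw [(QuotientGroup.eq_one_iff y).2 this, orderOf_one] at hx
          exact hp.ne_one hx.symm)
      have h1 : zpowers x = ⊤ := comap_injective (QuotientGroup.mk'_surjective M) (hx'.trans (comap_top _).symm)
      have h2 : M.index = p := by rw [index_eq_card, ← card_top (G := G ⧸ M), ← h1, Nat.card_zpowers, hx]
      rw [h2]; exact hp
    obtain ⟨P, hPn⟩ : ∃ P : Sylow p G, (P : Subgroup G).Normal := by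
      obtain ⟨T, hTn, hTge, hTlt⟩ := Cfsg.Lib.Supersolvable.exists_normal_hall_ge hKss p
      haveI := hTn
      have hTp : IsPGroup p T := by
        refine IsPGroup.of_card (n := (Nat.card T).primeFactorsList.length)
          (Nat.eq_prime_pow_of_unique_prime_dvd Nat.card_pos.ne' fun {q} hq hqd => ?_)
        exact le_antisymm (hmax q hq (hqd.trans ((card_subgroup_dvd_card T).trans (card_subgroup_dvd_card K))))
          (hTge q hq hqd)
      have hTc : T.Characteristic := by
        rw [characteristic_iff_map_eq]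
        intro φ
        have hS : ¬ p ∣ T.index := fun h => lt_irrefl p (hTlt p hp h)
        have e : (hTp.toSylow hS : Sylow p K) = (hTp.map φ.toMonoidHom).toSylow (by
            rw [index_map_of_bijective φ.bijective]; exact hS) := by
          haveI : ((hTp.toSylow hS : Sylow p K) : Subgroup K).Normal := hTn
          haveI := Sylow.unique_of_normal (hTp.toSylow hS : Sylow p K) ‹((hTp.toSylow hS : Sylow p K) : Subgroup K).Normal›
          exact Subsingleton.elim _ _
        exact (congrArg Sylow.toSubgroup e).symm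
      haveI := hTc
      refine ⟨(hTp.map K.subtype).toSylow ?_, (inferInstance : (T.map K.subtype).Normal)⟩
      rw [index_map_subtype, hKi]
      refine hp.not_dvd_mul (fun h => lt_irrefl p (hTlt p hp h)) fun h => ?_
      have := (Nat.prime_dvd_prime_iff_eq hp hrp).1 h
      omega
    haveI := hPn
    obtain ⟨k, hk⟩ := IsPGroup.iff_card.1 P.2
    by_cases hPM : (P : Subgroup G) ≤ M
    · -- pass to the quotient by `P`
      have hsur := QuotientGroup.mk'_surjective (P : Subgroup G)
      have hss : Cfsg.IsSupersolvable (G ⧸ (P : Subgroup G)) := by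
        refine ih _ (by
          have := Cfsg.Lib.Coprime.card_quotient_lt (N := (P : Subgroup G)) (P.ne_bot_of_dvd_card hpd)
          omega) fun H d hd => ?_
        set π := QuotientGroup.mk' (P : Subgroup G)
        have hPH : (P : Subgroup G) ≤ H.comap π := fun x hx => by
          rw [mem_comap, QuotientGroup.mk'_apply, (QuotientGroup.eq_one_iff x).2 hx]; exact one_mem _
        have hHc : Nat.card (H.comap π) = Nat.card H * Nat.card (P : Subgroup G) :=
          (Cfsg.Lib.Coprime.card_comap_mk' H).trans (mul_comm _ _)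
        obtain ⟨D, hDH, hD⟩ := hlag (H.comap π) (d * Nat.card (P : Subgroup G)) (by rw [hHc]; exact mul_dvd_mul_right hd _)
        have hPD : (P : Subgroup G) ≤ D := by
          obtain ⟨S⟩ : Nonempty (Sylow p D) := inferInstance
          have hle : ((S : Subgroup D).map D.subtype) ≤ (P : Subgroup G) := by
            obtain ⟨Q, hQ⟩ := (S.2.map D.subtype).exists_le_sylow
            haveI := Sylow.unique_of_normal P hPn
            rwa [Subsingleton.elim Q P] at hQ
          have hcard : Nat.card (P : Subgroup G) ∣ Nat.card ((S : Subgroup D).map D.subtype) := by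
            rw [card_map_of_injective D.subtype_injective, S.card_eq_multiplicity, hk, hD, hk]
            exact Nat.pow_dvd_pow p ((Nat.Prime.pow_dvd_iff_le_factorization hp (Nat.mul_ne_zero
              (Nat.pos_of_dvd_of_pos hd Nat.card_pos).ne' (pow_ne_zero _ hp.ne_zero))).1 (dvd_mul_left _ _))
          rw [← eq_of_le_of_card_ge hle (Nat.le_of_dvd Nat.card_pos hcard)]
          exact map_subtype_le _
        refine ⟨(D.map π).subgroupOf H, ?_⟩
        have hle : D.map π ≤ H := (map_mono hDH).trans (map_comap_le _ _)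
        rw [Nat.card_congr (subgroupOfEquivOfLe hle).toEquiv]
        have h1 := Cfsg.Lib.Coprime.card_comap_mk' (D.map π)
        rw [comap_map_eq_self (by rwa [QuotientGroup.ker_mk']), hD] at h1
        rw [mul_comm d] at h1
        exact (Nat.eq_of_mul_eq_mul_left Nat.card_pos h1).symm
      have hco : (M.map (QuotientGroup.mk' (P : Subgroup G))).comap (QuotientGroup.mk' (P : Subgroup G)) = M := by
        rw [comap_map_eq_self]; rwa [QuotientGroup.ker_mk']
      have h1 := index_prime_of_isSupersolvable _ _ le_rfl hss (M.map (QuotientGroup.mk' (P : Subgroup G)))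
        ⟨fun h => hM.1 (by rw [← hco, h, comap_top]), fun B hB => by
          have h2 : M < B.comap (QuotientGroup.mk' (P : Subgroup G)) := by
            rw [← hco]; exact (comap_lt_comap_of_surjective hsur).2 hB
          exact comap_injective hsur ((hM.2 _ h2).trans (comap_top _).symm)⟩
      rwa [← Subgroup.index_comap_of_surjective _ hsur, hco] at h1
    · have hPMtop : (P : Subgroup G) ⊔ M = ⊤ := hM.2 _ (lt_of_le_of_ne le_sup_right fun h => hPM (h ▸ le_sup_left))
      set D := (P : Subgroup G) ⊓ M with hD
      -- `D` is normal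
      have hDlt : D.subgroupOf (P : Subgroup G) < ⊤ := lt_top_iff_ne_top.2 fun h =>
        hPM ((subgroupOf_eq_top.1 h).trans inf_le_right)
      have hMD : M ≤ normalizer (D : Set G) := fun g hg => by
        refine Subgroup.mem_normalizer_iff.2 fun b => ?_
        rw [hD, Subgroup.mem_inf, Subgroup.mem_inf, Subgroup.mul_mem_cancel_right _ (inv_mem hg),
          Subgroup.mul_mem_cancel_left _ hg]
        exact and_congr_left fun _ => ⟨fun h' => hPn.conj_mem b h' g, fun h' => by
          simpa [mul_assoc] using hPn.conj_mem _ h' g⁻¹⟩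
      have hDn : D.Normal := by
        rw [← normalizer_eq_top_iff]
        haveI := P.2.isNilpotent
        obtain ⟨u, hu, huD⟩ := SetLike.exists_of_lt
          (Group.normalizerCondition_of_isNilpotent (D.subgroupOf (P : Subgroup G)) hDlt)
        refine hM.2 _ (lt_of_le_of_ne hMD fun h => huD ?_)
        rw [← subgroupOf_normalizer_eq inf_le_left, mem_subgroupOf, ← h] at hu
        rw [mem_subgroupOf, hD]
        exact Subgroup.mem_inf.mpr ⟨u.2, hu⟩
      haveI := hDn
      -- a complement of `P`, inside `M`
      have hMc : Nat.card M = Nat.card D * (P : Subgroup G).index := by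
        have e1 := relIndex_mul_relIndex (⊥ : Subgroup G) D M bot_le inf_le_right
        rw [relIndex_bot_left, relIndex_bot_left, hD, inf_relIndex_right,
          ← relIndex_sup_left M (P : Subgroup G), hPMtop, relIndex_top_right, ← hD] at e1
        exact e1.symm
      obtain ⟨H, hHM, hHc⟩ : ∃ H : Subgroup G, H ≤ M ∧ Nat.card H = (P : Subgroup G).index := by
        refine hlag M _ (hMc ▸ dvd_mul_left _ _)
      -- a minimal `H`-invariant subgroup outside `M`
      obtain ⟨W, ⟨hWP, hWH, hWM⟩, hWmin⟩ := WellFounded.has_min (wellFounded_lt (α := Subgroup G))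
        {W | W ≤ (P : Subgroup G) ∧ H ≤ normalizer (W : Set G) ∧ ¬ W ≤ M}
        ⟨(P : Subgroup G), le_rfl, by rw [normalizer_eq_top]; exact le_top, hPM⟩
      -- it has a subgroup of index `p` invariant under `H`
      have hcopWH : (Nat.card W).Coprime (Nat.card H) := by
        rw [hHc]; exact Nat.Coprime.coprime_dvd_left (card_dvd_of_le hWP) P.card_coprime_index
      have hdisj : W ⊓ H = ⊥ := Subgroup.inf_eq_bot_of_coprime hcopWH
      set X := W ⊔ H with hX
      have hWX : X ≤ normalizer (W : Set G) := sup_le le_normalizer hWH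
      have hXc : Nat.card X = Nat.card W * Nat.card H := by
        have e2 := relIndex_mul_relIndex (⊥ : Subgroup G) W X bot_le le_sup_left
        have e3 : W.relIndex X = W.relIndex H := by
          rw [hX, sup_comm]
          refine (Cfsg.Lib.SolvStruct.SylowNumber.relIndex_eq_of_covers le_sup_left fun t ht => ?_).symm
          have h := (Subgroup.coe_mul_of_left_le_normalizer_right H W hWH).le ht
          obtain ⟨h', hh', w, hw, rfl⟩ := h
          exact ⟨h', hh', by simpa using hw⟩
        rw [relIndex_bot_left, relIndex_bot_left, e3, ← inf_relIndex_right, hdisj, relIndex_bot_left] at e2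
        exact e2.symm
      have hWne : W ≠ ⊥ := fun h => hWM (h ▸ bot_le)
      obtain ⟨a, -, ha⟩ := (Nat.dvd_prime_pow hp).1 (hk ▸ card_dvd_of_le hWP)
      obtain ⟨b, rfl⟩ : ∃ b, a = b + 1 := Nat.exists_eq_succ_of_ne_zero fun h => hWne (card_eq_one.1 (by rw [ha, h, pow_zero]))
      obtain ⟨Y, hYX, hYc⟩ := hlag X (p ^ b * Nat.card H) (by
        rw [hXc, ha]; exact mul_dvd_mul_right (pow_dvd_pow p (Nat.le_succ b)) _)
      haveI : Group.IsSolvable X := by
        by_cases hXtop : X = ⊤
        · haveI := isSolvable_of_isSupersolvable' hKss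
          have hcyc : IsCyclic (G ⧸ K) := by
            haveI := Fact.mk hrp
            exact isCyclic_of_prime_card (by rw [← index_eq_card, hKi])
          haveI : IsMulCommutative (G ⧸ K) := IsCyclic.isMulCommutative (α := G ⧸ K)
          haveI : Group.IsSolvable (G ⧸ K) := inferInstance
          haveI : Group.IsSolvable G := solvable_of_ker_le_range K.subtype (QuotientGroup.mk' K)
            (by rw [QuotientGroup.ker_mk', range_subtype])
          infer_instance
        · exact isSolvable_of_isSupersolvable' (hsub X hXtop)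
      set π : Set ℕ := {q | q ∣ Nat.card H}
      obtain ⟨L, hL, hLY⟩ : ∃ L : Subgroup X, Cfsg.IsPiHall π L ∧ L.map X.subtype ≤ Y := by
        obtain ⟨L, hLY, hLc⟩ := hlag Y (Nat.card H) (by rw [hYc]; exact dvd_mul_left _ _)
        refine ⟨L.subgroupOf X, Cfsg.Lib.Coprime.isPiHall_of_card_eq (n := Nat.card W)
          (by rw [hXc, mul_comm]) hcopWH.symm ?_, ?_⟩
        · rw [Nat.card_congr (subgroupOfEquivOfLe (hLY.trans hYX)).toEquiv, hLc]
        · rw [subgroupOf_map_subtype]; exact inf_le_left.trans hLY
      obtain ⟨g, hg⟩ := Cfsg.Lib.Coprime.le_conj_piHall hL (K := H.subgroupOf X) (by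
        intro q hq hqd
        rwa [Nat.card_congr (subgroupOfEquivOfLe (le_sup_right : H ≤ X)).toEquiv] at hqd)
      set Y' := Y.map (MulAut.conj (g : G)).toMonoidHom
      have hHY : H ≤ Y' := by
        intro x hx
        obtain ⟨l, hl, hlx⟩ := hg (show (⟨x, le_sup_right (α := Subgroup G) hx⟩ : X) ∈ H.subgroupOf X from hx)
        exact ⟨l, hLY ⟨l, hl, rfl⟩, congrArg Subtype.val hlx⟩
      have hY'X : Y' ≤ X := by
        rintro _ ⟨y, hy, rfl⟩
        exact mul_mem (mul_mem g.2 (hYX hy)) (inv_mem g.2)
      set W1 := W ⊓ Y'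
      have hW1M : W1 ≤ M := by
        by_contra h
        refine hWmin W1 ⟨inf_le_left.trans hWP, fun t ht => ?_, h⟩ (lt_of_le_of_ne inf_le_left fun he => ?_)
        · refine Subgroup.mem_normalizer_iff.2 fun b => ?_
          rw [Subgroup.mem_inf, Subgroup.mem_inf, Subgroup.mul_mem_cancel_right _ (inv_mem (hHY ht)),
            Subgroup.mul_mem_cancel_left _ (hHY ht), (Subgroup.mem_normalizer_iff.1 (hWH ht) b)]
        · have h1 : X ≤ Y' := sup_le (he ▸ inf_le_right) hHY
          have h2 := Nat.le_of_dvd Nat.card_pos (card_dvd_of_le h1)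
          rw [hXc, ha, Subgroup.card_map_of_injective (MulAut.conj (g : G)).injective, hYc, pow_succ] at h2
          have := Nat.le_of_mul_le_mul_right h2 Nat.card_pos
          nlinarith [hp.two_le, pow_pos hp.pos b]
      -- hence `W` has index at most `p` over its intersection with `M`
      have hW1c : p ^ b ≤ Nat.card W1 := by
        have e1 := relIndex_mul_relIndex (⊥ : Subgroup G) W1 Y' bot_le inf_le_right
        rw [relIndex_bot_left, relIndex_bot_left, inf_relIndex_right] at e1
        have e2 : W.relIndex Y' ≤ Nat.card H := by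
          refine (relIndex_le_of_le_right hY'X (by exact index_ne_zero_of_finite)).trans ?_
          rw [show W.relIndex X = W.relIndex H by
            rw [hX, sup_comm]
            refine (Cfsg.Lib.SolvStruct.SylowNumber.relIndex_eq_of_covers le_sup_left fun t ht => ?_).symm
            have h := (Subgroup.coe_mul_of_left_le_normalizer_right H W hWH).le ht
            obtain ⟨h', hh', w, hw, rfl⟩ := h
            exact ⟨h', hh', by simpa using hw⟩]
          exact Nat.le_of_dvd Nat.card_pos (relIndex_dvd_card W H)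
        rw [Subgroup.card_map_of_injective (MulAut.conj (g : G)).injective, hYc] at e1
        exact Nat.le_of_mul_le_mul_right (e1.ge.trans (Nat.mul_le_mul_left _ e2)) Nat.card_pos
      have hWidx : M.relIndex W = p := by
        have e1 := relIndex_mul_relIndex (⊥ : Subgroup G) (M ⊓ W) W bot_le inf_le_right
        rw [relIndex_bot_left, relIndex_bot_left, inf_relIndex_right, ha] at e1
        have h1 : p ^ b ≤ Nat.card (M ⊓ W : Subgroup G) :=
          hW1c.trans (Nat.le_of_dvd Nat.card_pos (card_dvd_of_le (le_inf hW1M inf_le_left)))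
        have hne : M.relIndex W ≠ 1 := fun h => hWM (relIndex_eq_one.1 h)
        obtain ⟨j, -, hj⟩ := (Nat.dvd_prime_pow hp).1 (⟨_, e1.symm.trans (mul_comm _ _)⟩ : M.relIndex W ∣ p ^ (b + 1))
        have hj1 : j ≤ 1 := by
          rw [hj] at e1
          have h2 : p ^ b * p ^ j ≤ p ^ b * p ^ 1 :=
            (Nat.mul_le_mul_right _ h1).trans (e1.le.trans_eq (by ring))
          exact (Nat.pow_le_pow_iff_right hp.one_lt).1 (Nat.le_of_mul_le_mul_left h2 (pow_pos hp.pos b))
        rcases Nat.le_one_iff_eq_zero_or_eq_one.1 hj1 with rfl | rfl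
        · rw [pow_zero] at hj; exact absurd hj hne
        · rw [pow_one] at hj; exact hj
      have hMeq : D ⊔ H = M := by
        refine eq_of_le_of_card_ge (sup_le inf_le_right hHM) (le_of_eq ?_)
        have e1 := relIndex_mul_relIndex (⊥ : Subgroup G) D (D ⊔ H) bot_le le_sup_left
        rw [relIndex_bot_left, relIndex_bot_left, relIndex_sup_left, ← inf_relIndex_right,
          Subgroup.inf_eq_bot_of_coprime (H := D) (K := H) (by
            rw [hHc]; exact Nat.Coprime.coprime_dvd_left (card_dvd_of_le inf_le_left) P.card_coprime_index),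
          relIndex_bot_left, hHc, ← hMc] at e1
        exact e1
      set T := W ⊔ D
      have hMT : M ≤ normalizer (T : Set G) := by
        rw [← hMeq]
        refine sup_le (le_sup_right.trans le_normalizer) fun t ht => ?_
        refine Subgroup.mem_normalizer_iff_map_conj_eq.2 ?_
        rw [Subgroup.map_sup, Subgroup.mem_normalizer_iff_map_conj_eq.1 (hWH ht),
          Cfsg.Lib.SolvStruct.SylowNumber.map_conj_normal]
      have hTM : T ⊔ M = ⊤ := hM.2 _ (lt_of_le_of_ne le_sup_right fun h =>
        hWM (le_sup_left.trans ((le_sup_left : T ≤ T ⊔ M).trans h.ge)))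
      have hidx : M.index = M.relIndex W := by
        rw [← relIndex_top_right, ← hTM]
        have h1 : M.relIndex T = M.relIndex (T ⊔ M) := by
          refine Cfsg.Lib.SolvStruct.SylowNumber.relIndex_eq_of_covers le_sup_left fun t ht => ?_
          have h := (Subgroup.coe_mul_of_right_le_normalizer_left T M hMT).le ht
          obtain ⟨s, hs, m, hm, rfl⟩ := h
          exact ⟨s, hs, by simpa using hm⟩
        rw [← h1]
        refine (Cfsg.Lib.SolvStruct.SylowNumber.relIndex_eq_of_covers le_sup_left fun t ht => ?_).symm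
        obtain ⟨w, hw, d, hd, rfl⟩ := mem_sup_of_normal_right.1 ht
        exact ⟨w, hw, by simpa using (Subgroup.mem_inf.1 hd).2⟩
      rw [hidx, hWidx]
      exact hp

end Cfsg.Lib.SolvStruct.Huppert
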