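/-
Subnormalizers of `p`-subgroups (Casolo's counting formula).
-/
import Cfsg.Agent.Components.Supplement
import Cfsg.Agent.Components.Local
import Cfsg.Agent.Coprime.Basic

set_option linter.unusedSectionVars false

namespace Cfsg.Lib.Subnormalizer

open Subgroup

section Weights

variable {α : Type*} [SemilatticeSup α] [Finite α]

/-- weights with total `1` over every interval `(b, s]` -/
theorem exists_weight (b : α) : ∃ w : α → ℤ, ∀ s : α, b < s → ∀ (D : Finset α),
    (∀ r, r ∈ D ↔ b < r ∧ r ≤ s) → ∑ r ∈ D, w r = 1 := by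
  classical
  haveI := Fintype.ofFinite α
  let w : α → ℤ := (Finite.wellFounded_of_trans_of_irrefl (α := α) (· < ·)).fix fun s ih =>
    1 - ∑ r ∈ (Finset.univ.filter fun r => b < r ∧ r < s).attach, ih r.1 (Finset.mem_filter.1 r.2).2.2
  have hw : ∀ s, w s = 1 - ∑ r ∈ Finset.univ.filter (fun r => b < r ∧ r < s), w r := by
    intro s
    show WellFounded.fix _ _ s = _
    rw [WellFounded.fix_eq]
    congr 1
    exact Finset.sum_attach (Finset.univ.filter fun r => b < r ∧ r < s) w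
  refine ⟨w, fun s hs D hD => ?_⟩
  have : D = insert s (Finset.univ.filter fun r => b < r ∧ r < s) := by
    ext r
    rw [hD, Finset.mem_insert, Finset.mem_filter]
    constructor
    · rintro ⟨h1, h2⟩
      rcases h2.eq_or_lt with h | h
      · exact Or.inl h
      · exact Or.inr ⟨Finset.mem_univ _, h1, h⟩
    · rintro (rfl | ⟨-, h1, h2⟩)
      · exact ⟨hs, le_rfl⟩
      · exact ⟨h1, h2.le⟩
  rw [this, Finset.sum_insert (by simp), hw s]
  ring

/-- a downward closed set that is a cone with vertex `a` has total weight `1` -/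
theorem sum_weight_conical [DecidableEq α] (b a : α) (w : α → ℤ)
    (hw : ∀ s : α, b < s → ∀ (D : Finset α), (∀ r, r ∈ D ↔ b < r ∧ r ≤ s) → ∑ r ∈ D, w r = 1)
    (D : Finset α) (hD : ∀ r ∈ D, b < r) (hdown : ∀ r ∈ D, ∀ r', b < r' → r' ≤ r → r' ∈ D)
    (haD : a ∈ D) (hcone : ∀ r ∈ D, r ⊔ a ∈ D) : ∑ r ∈ D, w r = 1 := by
  classical
  haveI := Fintype.ofFinite α
  rw [← Finset.sum_fiberwise_of_maps_to (t := D.filter fun s => a ≤ s) (g := fun r => r ⊔ a)
    (fun r hr => Finset.mem_filter.2 ⟨hcone r hr, le_sup_right⟩) w]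
  have key : ∀ s, s ∈ D → a ≤ s → (∑ r ∈ D.filter (fun r => r ⊔ a = s), w r) = if s = a then 1 else 0 := by
    intro s
    induction s using (Finite.wellFounded_of_trans_of_irrefl (α := α) (· < ·)).induction with
    | _ s ih =>
    intro hsD has
    have h1 := hw s (hD s hsD) (Finset.univ.filter fun r => b < r ∧ r ≤ s) (by simp)
    rw [← Finset.sum_fiberwise_of_maps_to (t := D.filter fun u => a ≤ u ∧ u ≤ s) (g := fun r => r ⊔ a)
      (fun r hr => by
        rw [Finset.mem_filter] at hr ⊢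
        exact ⟨hcone r (hdown s hsD r hr.2.1 hr.2.2), le_sup_right, sup_le hr.2.2 has⟩) w] at h1
    have h2 : ∀ u ∈ D.filter (fun u => a ≤ u ∧ u ≤ s),
        ((Finset.univ.filter fun r => b < r ∧ r ≤ s).filter fun r => r ⊔ a = u) =
          D.filter fun r => r ⊔ a = u := by
      intro u hu
      rw [Finset.mem_filter] at hu
      ext r
      simp only [Finset.mem_filter, Finset.mem_univ, true_and]
      constructor
      · rintro ⟨⟨hr1, hr2⟩, he⟩
        exact ⟨hdown s hsD r hr1 hr2, he⟩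
      · rintro ⟨hr, he⟩
        exact ⟨⟨hD r hr, (le_sup_left.trans he.le).trans hu.2.2⟩, he⟩
    rw [Finset.sum_congr rfl (fun u hu => by rw [h2 u hu]),
      ← Finset.add_sum_erase _ _ (Finset.mem_filter.2 ⟨hsD, has, le_rfl⟩ :
        s ∈ D.filter fun u => a ≤ u ∧ u ≤ s)] at h1
    have h3 : ∑ u ∈ (D.filter fun u => a ≤ u ∧ u ≤ s).erase s, (∑ r ∈ D.filter (fun r => r ⊔ a = u), w r) =
        if s = a then 0 else 1 := by
      rw [Finset.sum_congr rfl (fun u hu => ih u
          (lt_of_le_of_ne (Finset.mem_filter.1 (Finset.mem_erase.1 hu).2).2.2 (Finset.mem_erase.1 hu).1)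
          (Finset.mem_filter.1 (Finset.mem_erase.1 hu).2).1
          (Finset.mem_filter.1 (Finset.mem_erase.1 hu).2).2.1), Finset.sum_ite_eq']
      by_cases hsa : s = a
      · simp [hsa]
      · rw [if_neg hsa, if_pos]
        exact Finset.mem_erase.2 ⟨Ne.symm hsa, Finset.mem_filter.2 ⟨haD, le_rfl, has⟩⟩
    rw [h3] at h1
    split_ifs at h1 ⊢ <;> omega
  rw [Finset.sum_congr rfl (fun s hs => key s (Finset.mem_filter.1 hs).1 (Finset.mem_filter.1 hs).2),
    Finset.sum_ite_eq', if_pos (Finset.mem_filter.2 ⟨haD, le_rfl⟩)]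

end Weights

variable {G : Type*} [Group G] [Finite G] {p : ℕ} [hp : Fact p.Prime]

/-- every subgroup of a nilpotent group is subnormal -/
theorem isSubnormal_of_nilpotent {U : Type*} [Group U] [Finite U] [Group.IsNilpotent U] :
    ∀ H : Subgroup U, H.IsSubnormal := by
  intro H
  induction H using WellFoundedGT.induction with
  | _ H ih =>
    by_cases h : H = ⊤
    · exact h ▸ IsSubnormal.top
    · have hlt := Group.normalizerCondition_of_isNilpotent H (lt_top_iff_ne_top.2 h)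
      exact IsSubnormal.step H _ hlt.le (ih _ hlt) normal_in_normalizer

/-- `g` normalizes some `p`-subgroup of `K` containing `H` -/
def Ext (p : ℕ) (K H : Subgroup G) (g : G) : Prop :=
  ∃ U : Subgroup G, IsPGroup p U ∧ H ≤ U ∧ U ≤ K ∧ g ∈ normalizer (U : Set G)

theorem isSubnormal_iff_ext (H : Subgroup G) (hH : IsPGroup p H) (g : G) :
    (H.subgroupOf (H ⊔ zpowers g)).IsSubnormal ↔ Ext p ⊤ H g := by
  constructor
  · intro h
    set K := H ⊔ zpowers g with hK
    have hle := Cfsg.Lib.Components.le_pCore_of_subnormal h (hH.comap_subtype : IsPGroup p (H.subgroupOf K))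
    refine ⟨(Cfsg.pCore p K).map K.subtype, (Cfsg.Lib.Components.isPGroup_pCore p).map _,
      fun x hx => ⟨⟨x, mem_sup_left hx⟩, hle hx, rfl⟩, le_top, ?_⟩
    have hn : (Cfsg.pCore p K).Normal := inferInstance
    refine mem_normalizer_iff.2 fun y => ⟨?_, ?_⟩
    · rintro ⟨z, hz, rfl⟩
      exact ⟨_, hn.conj_mem z hz ⟨g, mem_sup_right (mem_zpowers g)⟩, rfl⟩
    · rintro ⟨z, hz, hzy⟩
      refine ⟨_, hn.conj_mem z hz (⟨g, mem_sup_right (mem_zpowers g)⟩⁻¹), ?_⟩
      show g⁻¹ * (z : G) * g⁻¹⁻¹ = y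
      rw [show (z : G) = g * y * g⁻¹ from hzy]
      group
  · rintro ⟨U, hU, hHU, -, hg⟩
    set L := U ⊔ zpowers g with hL
    have hUn : (U.subgroupOf L).Normal :=
      (normal_subgroupOf_iff_le_normalizer le_sup_left).2 (sup_le le_normalizer (zpowers_le.2 hg))
    haveI : Group.IsNilpotent ↥(U.subgroupOf L) := (hU.comap_subtype : IsPGroup p (U.subgroupOf L)).isNilpotent
    have h1 : (H.subgroupOf L).IsSubnormal :=
      IsSubnormal.trans (K := U.subgroupOf L) (fun x hx => hHU hx) (isSubnormal_of_nilpotent _)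
        hUn.isSubnormal
    exact h1.comap (Subgroup.inclusion (sup_le (hHU.trans le_sup_left) le_sup_right : H ⊔ zpowers g ≤ L))

/-- the Sylow subgroups of `K`, as subgroups of `G` -/
def IsSyl (p : ℕ) (K Q : Subgroup G) : Prop :=
  Maximal (fun U : Subgroup G => IsPGroup p U ∧ U ≤ K) Q

theorem exists_isSyl {K U : Subgroup G} (hU : IsPGroup p U) (hUK : U ≤ K) :
    ∃ Q, U ≤ Q ∧ IsSyl p K Q :=
  exists_maximal_ge_of_wellFoundedGT (fun U : Subgroup G => IsPGroup p U ∧ U ≤ K) U ⟨hU, hUK⟩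

theorem le_isSyl_of_normal {K H Q : Subgroup G} (hH : IsPGroup p H) (hHK : H ≤ K)
    (hn : K ≤ normalizer (H : Set G)) (hQ : IsSyl p K Q) : H ≤ Q :=
  le_sup_left.trans (hQ.2 ⟨IsPGroup.to_sup_of_normal_left' hH hQ.1.1 (hQ.1.2.trans hn), sup_le hHK hQ.1.2⟩ le_sup_right)

/-- conjugation sum over the Sylow subgroups -/
theorem sum_normalizer [DecidableEq (Subgroup G)] (K : Subgroup G) (S : Finset (Subgroup G))
    (hS : ∀ Q, Q ∈ S ↔ IsSyl p K Q) :
    ∑ Q ∈ S, Nat.card ↥(K ⊓ normalizer (Q : Set G)) = Nat.card K := by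
  classical
  have e : ∀ P : Sylow p K, IsSyl p K ((P : Subgroup K).map K.subtype) := fun P => by
    refine ⟨⟨P.2.map _, map_subtype_le _⟩, fun U hU hle => ?_⟩
    intro u hu
    have h1 := P.3 (hU.1.comap_of_injective K.subtype K.subtype_injective)
      (fun x hx => hle ⟨x, hx, rfl⟩)
    exact ⟨⟨u, hU.2 hu⟩, h1.le (show (⟨u, hU.2 hu⟩ : K) ∈ U.comap K.subtype from hu), rfl⟩
  have hinj : Function.Injective fun P : Sylow p K => (P : Subgroup K).map K.subtype := fun P Q h =>
    Sylow.ext (map_injective K.subtype_injective h)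
  haveI := Fintype.ofFinite (Sylow p K)
  have himg : S = Finset.univ.image fun P : Sylow p K => (P : Subgroup K).map K.subtype := by
    ext Q
    rw [hS, Finset.mem_image]
    constructor
    · intro hQ
      obtain ⟨P, hP⟩ := (hQ.1.1.comap_of_injective K.subtype K.subtype_injective).exists_le_sylow
      refine ⟨P, Finset.mem_univ _, le_antisymm (hQ.2 ⟨P.2.map _, map_subtype_le _⟩ ?_) ?_⟩ <;>
        exact fun x hx => ⟨⟨x, hQ.1.2 hx⟩, hP hx, rfl⟩
    · rintro ⟨P, -, rfl⟩
      exact e P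
  rw [himg, Finset.sum_image fun P _ Q _ h => hinj h]
  obtain ⟨P₀⟩ := (inferInstance : Nonempty (Sylow p K))
  have hcard : ∀ P : Sylow p K,
      Nat.card ↥(K ⊓ normalizer (((P : Subgroup K).map K.subtype : Subgroup G) : Set G)) =
        Nat.card ↥(normalizer ((P : Subgroup K) : Set K)) := by
    intro P
    refine Eq.trans (congrArg (fun X : Subgroup G => Nat.card ↥X) ?_) (card_map_of_injective K.subtype_injective)
    ext g
    constructor
    · rintro ⟨hgK, hg⟩
      refine ⟨⟨g, hgK⟩, mem_normalizer_iff.2 fun y => ?_, rfl⟩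
      rw [← mem_map_iff_mem K.subtype_injective (K := (P : Subgroup K)),
        ← mem_map_iff_mem K.subtype_injective (K := (P : Subgroup K)) (x := _ * y * _)]
      exact mem_normalizer_iff.1 hg y
    · rintro ⟨k, hk, rfl⟩
      refine ⟨k.2, mem_normalizer_iff.2 fun y => ⟨?_, ?_⟩⟩
      · rintro ⟨z, hz, rfl⟩
        exact ⟨_, (mem_normalizer_iff.1 hk z).1 hz, rfl⟩
      · rintro ⟨z, hz, hzy⟩
        refine ⟨k⁻¹ * z * k, ?_, ?_⟩
        · refine (mem_normalizer_iff.1 hk _).2 ?_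
          rw [show k * (k⁻¹ * z * k) * k⁻¹ = z by group]
          exact hz
        · show (k : G)⁻¹ * (z : G) * k = y
          rw [show (z : G) = (k : G) * y * (k : G)⁻¹ from hzy]
          group
  have hconst : ∀ P : Sylow p K, Nat.card ↥(normalizer ((P : Subgroup K) : Set K)) =
      Nat.card ↥(normalizer ((P₀ : Subgroup K) : Set K)) := fun P => by
    have h1 := (normalizer ((P : Subgroup K) : Set K)).card_mul_index
    have h2 := (normalizer ((P₀ : Subgroup K) : Set K)).card_mul_index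
    rw [show (normalizer ((P : Subgroup K) : Set K)).index = Nat.card (Sylow p K) from
      P.card_eq_index_normalizer.symm] at h1
    rw [show (normalizer ((P₀ : Subgroup K) : Set K)).index = Nat.card (Sylow p K) from
      P₀.card_eq_index_normalizer.symm] at h2
    exact Nat.eq_of_mul_eq_mul_right Nat.card_pos (h1.trans h2.symm)
  rw [Finset.sum_congr rfl fun P _ => (hcard P).trans (hconst P), Finset.sum_const, Finset.card_univ,
    smul_eq_mul, ← Nat.card_eq_fintype_card, show Nat.card (Sylow p K) = (normalizer ((P₀ : Subgroup K) : Set K)).index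
    from P₀.card_eq_index_normalizer, Subgroup.index_mul_card]

/-- normalizers grow in `p`-groups -/
theorem lt_inf_normalizer {H Q : Subgroup G} (hQ : IsPGroup p Q) (hlt : H < Q) :
    H < Q ⊓ normalizer (H : Set G) := by
  refine lt_of_le_of_ne (le_inf hlt.le le_normalizer) fun he => ?_
  have hN : Group.IsNilpotent Q := hQ.isNilpotent
  have h1 : H.subgroupOf Q < ⊤ := lt_top_iff_ne_top.2 fun h => hlt.not_ge (subgroupOf_eq_top.1 h)
  have h2 := Group.normalizerCondition_of_isNilpotent _ h1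
  rw [← subgroupOf_normalizer_eq hlt.le] at h2
  refine h2.not_ge ?_
  intro z hz
  rw [mem_subgroupOf, he]
  exact ⟨z.2, hz⟩

/-- Casolo: the subnormalizer count, relative to a subgroup `K`. -/
theorem card_ext : ∀ (n : ℕ) (K H : Subgroup G), IsPGroup p H → H ≤ K → Nat.card K - Nat.card H = n →
    ∀ (A : Finset G), (∀ g, g ∈ A ↔ g ∈ K ∧ Ext p K H g) →
    ∀ (S : Finset (Subgroup G)), (∀ Q, Q ∈ S ↔ IsSyl p K Q ∧ H ≤ Q) →
      (A.card : ℤ) = ∑ Q ∈ S, (Nat.card ↥(K ⊓ normalizer (Q : Set G)) : ℤ) := by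
  classical
  haveI := Fintype.ofFinite G
  haveI := Fintype.ofFinite (Subgroup G)
  intro n
  induction n using Nat.strong_induction_on with
  | _ n ih =>
  intro K H hH hHK hn A hA S hS
  by_cases hsyl : IsSyl p K H
  · have hSeq : S = {H} := by
      ext Q
      rw [hS, Finset.mem_singleton]
      refine ⟨fun h => le_antisymm (hsyl.2 h.1.1 h.2) h.2, ?_⟩
      rintro rfl
      exact ⟨hsyl, le_rfl⟩
    rw [hSeq, Finset.sum_singleton, Nat.cast_inj, Nat.card_eq_fintype_card, Fintype.card_subtype]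
    congr 1
    ext g
    rw [Finset.mem_filter, and_iff_right (Finset.mem_univ _)]
    rw [hA, Subgroup.mem_inf]
    constructor
    · rintro ⟨hg, U, hU, hHU, hUK, hgU⟩
      rw [le_antisymm (hsyl.2 ⟨hU, hUK⟩ hHU) hHU] at hgU
      exact ⟨hg, hgU⟩
    · exact fun h => ⟨h.1, H, hH, le_rfl, hHK, h.2⟩
  set M := K ⊓ normalizer (H : Set G) with hM
  have hHM : H ≤ M := le_inf hHK le_normalizer
  obtain ⟨w, hw⟩ := exists_weight H
  set 𝒩 : Finset (Subgroup G) := Finset.univ.filter fun R => H < R ∧ IsPGroup p R ∧ R ≤ M with h𝒩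
  have hmem : ∀ R, R ∈ 𝒩 ↔ H < R ∧ IsPGroup p R ∧ R ≤ M := fun R => by simp [h𝒩]
  -- the induction hypothesis, summed against the weights
  have hsum : ∀ L : Subgroup G, M ≤ L → L ≤ K →
      ∑ g ∈ Finset.univ.filter (fun g => g ∈ L), ∑ R ∈ 𝒩.filter (fun R => Ext p L R g), w R =
        ∑ Q ∈ Finset.univ.filter (fun Q => IsSyl p L Q), (Nat.card ↥(L ⊓ normalizer (Q : Set G)) : ℤ) *
          ∑ R ∈ 𝒩.filter (fun R => R ≤ Q), w R := by
    intro L hML hLK
    simp only [Finset.sum_filter, Finset.mul_sum]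
    have : ∀ R ∈ 𝒩, (∑ g : G, if g ∈ L then (if Ext p L R g then w R else 0) else 0) =
        ∑ Q : Subgroup G, if IsSyl p L Q then
          (Nat.card ↥(L ⊓ normalizer (Q : Set G)) : ℤ) * (if R ≤ Q then w R else 0) else 0 := by
      intro R hR
      obtain ⟨hlt, hRp, hRM⟩ := (hmem R).1 hR
      have hRL : R ≤ L := hRM.trans hML
      have h1 := ih (Nat.card L - Nat.card R) (by
          have h1 : Nat.card H < Nat.card R := lt_of_le_of_ne (Nat.le_of_dvd Nat.card_pos
            (card_dvd_of_le hlt.le)) fun h => hlt.ne (eq_of_le_of_card_ge hlt.le h.ge)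
          have h2 : Nat.card L ≤ Nat.card K := Nat.le_of_dvd Nat.card_pos (card_dvd_of_le hLK)
          have h3 : Nat.card R ≤ Nat.card L := Nat.le_of_dvd Nat.card_pos (card_dvd_of_le hRL)
          omega) L R hRp hRL rfl
        (Finset.univ.filter fun g => g ∈ L ∧ Ext p L R g) (by simp)
        (Finset.univ.filter fun Q => IsSyl p L Q ∧ R ≤ Q) (by simp)
      calc _ = w R * ((Finset.univ.filter fun g => g ∈ L ∧ Ext p L R g).card : ℤ) := by
            rw [Finset.natCast_card_filter, Finset.mul_sum]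
            refine Finset.sum_congr rfl fun g _ => ?_
            by_cases h1 : g ∈ L <;> by_cases h2 : Ext p L R g <;> simp [h1, h2]
        _ = _ := by
            rw [h1, Finset.mul_sum, Finset.sum_filter]
            refine Finset.sum_congr rfl fun Q _ => ?_
            by_cases h1 : IsSyl p L Q <;> by_cases h2 : R ≤ Q <;> simp [h1, h2, mul_comm]
    calc _ = ∑ R ∈ 𝒩, ∑ g : G, if g ∈ L then (if Ext p L R g then w R else 0) else 0 := by
          rw [Finset.sum_comm]
          refine Finset.sum_congr rfl fun g _ => ?_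
          split_ifs with h <;> simp
      _ = ∑ R ∈ 𝒩, ∑ Q : Subgroup G, if IsSyl p L Q then
          (Nat.card ↥(L ⊓ normalizer (Q : Set G)) : ℤ) * (if R ≤ Q then w R else 0) else 0 :=
          Finset.sum_congr rfl this
      _ = _ := by
          rw [Finset.sum_comm]
          refine Finset.sum_congr rfl fun Q _ => ?_
          by_cases h1 : IsSyl p L Q <;> simp [h1]
  -- a Sylow subgroup through `H` meets the normalizer in a larger subgroup
  have hgrow : ∀ Q, IsSyl p K Q → H ≤ Q → H < Q ⊓ M := by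
    intro Q hQ hHQ
    have hlt : H < Q := lt_of_le_of_ne hHQ fun h => hsyl (h ▸ hQ)
    refine lt_of_lt_of_le (lt_inf_normalizer hQ.1.1 hlt) ?_
    exact le_inf inf_le_left (le_inf (inf_le_left.trans hQ.1.2) inf_le_right)
  have hone : ∀ T : Subgroup G, IsPGroup p T → T ≤ M → H < T → ∑ R ∈ 𝒩.filter (fun R => R ≤ T), w R = 1 := by
    intro T hT hTM hlt
    refine hw T hlt _ fun R => ?_
    rw [Finset.mem_filter, hmem]
    exact ⟨fun h => ⟨h.1.1, h.2⟩, fun h => ⟨⟨h.1, hT.to_le h.2, h.2.trans hTM⟩, h.2⟩⟩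
  have hright : ∑ Q ∈ Finset.univ.filter (fun Q => IsSyl p K Q), (Nat.card ↥(K ⊓ normalizer (Q : Set G)) : ℤ) *
      ∑ R ∈ 𝒩.filter (fun R => R ≤ Q), w R = ∑ Q ∈ S, (Nat.card ↥(K ⊓ normalizer (Q : Set G)) : ℤ) := by
    rw [← Finset.sum_subset (s₁ := S) (fun Q hQ => Finset.mem_filter.2 ⟨Finset.mem_univ _, ((hS Q).1 hQ).1⟩)]
    · refine Finset.sum_congr rfl fun Q hQ => ?_
      obtain ⟨h1, h2⟩ := (hS Q).1 hQ
      have h3 : 𝒩.filter (fun R => R ≤ Q) = 𝒩.filter (fun R => R ≤ Q ⊓ M) := by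
        ext R
        simp only [Finset.mem_filter, le_inf_iff]
        exact ⟨fun h => ⟨h.1, h.2, ((hmem R).1 h.1).2.2⟩, fun h => ⟨h.1, h.2.1⟩⟩
      rw [h3, hone _ (h1.1.1.to_le inf_le_left) inf_le_right (hgrow Q h1 h2), mul_one]
    · intro Q hQ hQS
      rw [Finset.sum_eq_zero, mul_zero]
      intro R hR
      rw [Finset.mem_filter, hmem] at hR
      exact absurd ((hS Q).2 ⟨(Finset.mem_filter.1 hQ).2, hR.1.1.le.trans hR.2⟩) hQS
  have hM' : ∑ Q ∈ Finset.univ.filter (fun Q => IsSyl p M Q), (Nat.card ↥(M ⊓ normalizer (Q : Set G)) : ℤ) *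
      ∑ R ∈ 𝒩.filter (fun R => R ≤ Q), w R = (Nat.card M : ℤ) := by
    rw [← sum_normalizer (p := p) M (Finset.univ.filter fun Q => IsSyl p M Q) (by simp), Nat.cast_sum]
    refine Finset.sum_congr rfl fun Q hQ => ?_
    have h1 := (Finset.mem_filter.1 hQ).2
    have hle := le_isSyl_of_normal hH hHM inf_le_right h1
    have hlt : H < Q := by
      refine lt_of_le_of_ne hle fun h => ?_
      obtain ⟨Q', hHQ', hQ'⟩ := exists_isSyl hH hHK
      have h2 := hgrow Q' hQ' hHQ'
      refine h2.not_ge ?_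
      rw [h]
      exact h1.2 ⟨hQ'.1.1.to_le inf_le_left, inf_le_right⟩ (h ▸ h2.le)
    rw [hone Q h1.1.1 h1.1.2 hlt, mul_one]
  -- the weights over the subgroups reachable by a given element
  have hcone : ∀ g ∈ K, Ext p K H g → g ∉ M → ∑ R ∈ 𝒩.filter (fun R => Ext p K R g), w R = 1 := by
    intro g hgK hg hgM
    obtain ⟨U₀, hU₀, hmin⟩ : ∃ U₀ : Subgroup G, (IsPGroup p U₀ ∧ H ≤ U₀ ∧ U₀ ≤ K ∧ g ∈ normalizer (U₀ : Set G)) ∧
        ∀ U : Subgroup G, IsPGroup p U → H ≤ U → U ≤ K → g ∈ normalizer (U : Set G) → U₀ ≤ U := by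
      obtain ⟨U₁, h1, h2, h3, h4⟩ := hg
      refine ⟨sInf {U : Subgroup G | IsPGroup p U ∧ H ≤ U ∧ U ≤ K ∧ g ∈ normalizer (U : Set G)},
        ⟨h1.to_le (sInf_le ⟨h1, h2, h3, h4⟩), le_sInf fun U hU => hU.2.1,
          le_trans (sInf_le ?_) h3, mem_normalizer_iff.2 fun y => ?_⟩,
        fun U a b c d => sInf_le ⟨a, b, c, d⟩⟩
      · exact ⟨h1, h2, h3, h4⟩
      rw [mem_sInf, mem_sInf]
      exact forall₂_congr fun U hU => mem_normalizer_iff.1 hU.2.2.2 y
    obtain ⟨hU₀p, hHU₀, hU₀K, hgU₀⟩ := hU₀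
    have hlt : H < U₀ := lt_of_le_of_ne hHU₀ fun h => hgM ⟨hgK, h ▸ hgU₀⟩
    set a := U₀ ⊓ normalizer (H : Set G) with ha
    have haM : a ≤ M := inf_le_inf_right _ hU₀K
    refine sum_weight_conical H a w hw _ (fun R hR => ((hmem R).1 (Finset.mem_filter.1 hR).1).1) ?_ ?_ ?_
    · intro R hR R' hR' hle
      rw [Finset.mem_filter, hmem] at hR ⊢
      obtain ⟨U, hU, hRU, hUK, hgU⟩ := hR.2
      exact ⟨⟨hR', hR.1.2.1.to_le hle, hle.trans hR.1.2.2⟩, U, hU, hle.trans hRU, hUK, hgU⟩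
    · rw [Finset.mem_filter, hmem]
      exact ⟨⟨lt_inf_normalizer hU₀p hlt, hU₀p.to_le inf_le_left, haM⟩, U₀, hU₀p, inf_le_left, hU₀K, hgU₀⟩
    · intro R hR
      rw [Finset.mem_filter, hmem] at hR ⊢
      obtain ⟨U, hU, hRU, hUK, hgU⟩ := hR.2
      have h1 : R ⊔ a ≤ U :=
        sup_le hRU (inf_le_left.trans (hmin U hU (hR.1.1.le.trans hRU) hUK hgU))
      exact ⟨⟨lt_of_lt_of_le hR.1.1 le_sup_left, hU.to_le h1, sup_le hR.1.2.2 haM⟩, U, hU, h1, hUK, hgU⟩
  -- elements of the normalizer see the same subgroups in `M`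
  have hsame : ∀ g ∈ M, ∀ R ∈ 𝒩, Ext p K R g ↔ Ext p M R g := by
    intro g hg R hR
    constructor
    · rintro ⟨U, hU, hRU, hUK, hgU⟩
      refine ⟨U ⊓ normalizer (H : Set G), hU.to_le inf_le_left,
        le_inf hRU (((hmem R).1 hR).2.2.trans inf_le_right), inf_le_inf_right _ hUK, ?_⟩
      refine mem_normalizer_iff.2 fun y => ?_
      rw [Subgroup.mem_inf, Subgroup.mem_inf, ← mem_normalizer_iff.1 hgU y]
      refine and_congr_right fun _ => ⟨fun hy => mul_mem (mul_mem hg.2 hy) (inv_mem hg.2), fun hy => ?_⟩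
      have h3 : g⁻¹ * (g * y * g⁻¹) * g ∈ normalizer (H : Set G) := mul_mem (mul_mem (inv_mem hg.2) hy) hg.2
      simpa [mul_assoc] using h3
    · rintro ⟨U, hU, hRU, hUM, hgU⟩
      exact ⟨U, hU, hRU, hUM.trans inf_le_left, hgU⟩
  have hK := hsum K inf_le_left le_rfl
  have hMsum := hsum M le_rfl inf_le_left
  rw [hright] at hK
  rw [hM'] at hMsum
  rw [← hK]
  have hsplit : Finset.univ.filter (fun g => g ∈ K) =
      Finset.univ.filter (fun g => g ∈ M) ∪ Finset.univ.filter (fun g => g ∈ K ∧ g ∉ M) := by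
    ext g
    simp only [Finset.mem_filter, Finset.mem_univ, true_and, Finset.mem_union]
    exact ⟨fun h => (em (g ∈ M)).imp_right fun h' => ⟨h, h'⟩,
      fun h => h.elim (fun h => h.1) fun h => h.1⟩
  rw [hsplit, Finset.sum_union (by
    rw [Finset.disjoint_filter]; exact fun g _ h h' => h'.2 h)]
  rw [Finset.sum_congr rfl fun g hg => Finset.sum_congr (Finset.filter_congr fun R hR => hsame g
    (Finset.mem_filter.1 hg).2 R hR) fun _ _ => rfl, hMsum]
  have hsplitA : A = Finset.univ.filter (fun g => g ∈ M) ∪ A.filter (fun g => g ∉ M) := by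
    ext g
    simp only [Finset.mem_filter, Finset.mem_univ, true_and, Finset.mem_union, hA]
    constructor
    · exact fun h => (em (g ∈ M)).imp_right fun h' => ⟨h, h'⟩
    · rintro (h | h)
      · exact ⟨h.1, H, hH, le_rfl, hHK, h.2⟩
      · exact h.1
  rw [hsplitA, Finset.card_union_of_disjoint (by
    rw [Finset.disjoint_left]; intro g h h'; exact (Finset.mem_filter.1 h').2 (Finset.mem_filter.1 h).2)]
  push_cast
  congr 1
  · rw [Nat.card_eq_fintype_card, Fintype.card_subtype]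
  · have hval : ∀ g ∈ A.filter (fun g => g ∉ M), (∑ R ∈ 𝒩.filter (fun R => Ext p K R g), w R) = 1 := by
      intro g hg
      rw [Finset.mem_filter, hA] at hg
      exact hcone g hg.1.1 hg.1.2 hg.2
    rw [← Finset.sum_subset (s₁ := A.filter fun g => g ∉ M), Finset.sum_congr rfl hval, Finset.sum_const,
      nsmul_one]
    · intro g hg
      rw [Finset.mem_filter, hA] at hg
      exact Finset.mem_filter.2 ⟨Finset.mem_univ _, hg.1.1, hg.2⟩
    · intro g hg hgA
      refine Finset.sum_eq_zero fun R hR => ?_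
      rw [Finset.mem_filter, hmem] at hR
      obtain ⟨U, hU, hRU, hUK, hgU⟩ := hR.2
      exact absurd (Finset.mem_filter.2 ⟨(hA g).2 ⟨(Finset.mem_filter.1 hg).2.1,
        U, hU, hR.1.1.le.trans hRU, hUK, hgU⟩, (Finset.mem_filter.1 hg).2.2⟩) hgA

end Cfsg.Lib.Subnormalizer

namespace Cfsg.Lib.Subnormalizer

open Subgroup

variable {G : Type*} [Group G] [Finite G] {p : ℕ} [hp : Fact p.Prime]

theorem isSyl_top_coe (Q : Sylow p G) : IsSyl p ⊤ (Q : Subgroup G) :=
  ⟨⟨Q.2, le_top⟩, fun _ hU hle => (Q.3 hU.1 hle).le⟩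

/-- The subnormalizer count in the whole group. -/
theorem card_subnormalizer (H : Subgroup G) (hH : IsPGroup p H) (P : Sylow p G) :
    Nat.card {g : G // (H.subgroupOf (H ⊔ zpowers g)).IsSubnormal} =
      Nat.card {Q : Sylow p G // H ≤ (Q : Subgroup G)} * Nat.card (normalizer ((P : Subgroup G) : Set G)) := by
  classical
  haveI := Fintype.ofFinite G
  haveI := Fintype.ofFinite (Subgroup G)
  haveI := Fintype.ofFinite (Sylow p G)
  have h := card_ext (p := p) _ ⊤ H hH le_top rfl (Finset.univ.filter fun g => g ∈ (⊤ : Subgroup G) ∧ Ext p ⊤ H g)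
    (by simp) (Finset.univ.filter fun Q => IsSyl p ⊤ Q ∧ H ≤ Q) (by simp)
  have h1 : (Finset.univ.filter fun g => g ∈ (⊤ : Subgroup G) ∧ Ext p ⊤ H g).card =
      Nat.card {g : G // (H.subgroupOf (H ⊔ zpowers g)).IsSubnormal} := by
    rw [Nat.card_eq_fintype_card, Fintype.card_subtype]
    congr 1
    ext g
    simp [isSubnormal_iff_ext H hH g]
  have h2 : (Finset.univ.filter fun Q => IsSyl p ⊤ Q ∧ H ≤ Q) =
      Finset.image (fun Q : Sylow p G => (Q : Subgroup G))
        (Finset.univ.filter fun Q : Sylow p G => H ≤ (Q : Subgroup G)) := by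
    ext Q
    simp only [Finset.mem_filter, Finset.mem_univ, true_and, Finset.mem_image]
    constructor
    · rintro ⟨hQ, hle⟩
      obtain ⟨P', hP'⟩ := hQ.1.1.exists_le_sylow
      have : (P' : Subgroup G) = Q := le_antisymm (hQ.2 ⟨P'.2, le_top⟩ hP') hP'
      exact ⟨P', this.symm ▸ hle, this⟩
    · rintro ⟨Q', hQ', rfl⟩
      exact ⟨isSyl_top_coe Q', hQ'⟩
  rw [h2, Finset.sum_image (fun _ _ _ _ h => Sylow.ext h), h1] at h
  have hconst : ∀ Q : Sylow p G, Nat.card ↥((⊤ : Subgroup G) ⊓ normalizer ((Q : Subgroup G) : Set G)) =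
      Nat.card (normalizer ((P : Subgroup G) : Set G)) := by
    intro Q
    rw [top_inf_eq]
    obtain ⟨c, rfl⟩ := MulAction.exists_smul_eq G P Q
    rw [Sylow.coe_subgroup_smul, Cfsg.Lib.Coprime.conj_smul_eq, Cfsg.Lib.Coprime.normalizer_conjMap,
      Cfsg.Lib.Coprime.card_conjMap]
  rw [Finset.sum_congr rfl (fun Q _ => by rw [hconst Q]), Finset.sum_const, nsmul_eq_mul] at h
  have h' : (Nat.card {g : G // (H.subgroupOf (H ⊔ zpowers g)).IsSubnormal} : ℤ) =
      ((Nat.card {Q : Sylow p G // H ≤ (Q : Subgroup G)} * Nat.card (normalizer ((P : Subgroup G) : Set G)) : ℕ) : ℤ) := by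
    rw [h, Nat.card_eq_fintype_card (α := {Q : Sylow p G // H ≤ (Q : Subgroup G)}), Fintype.card_subtype]
    push_cast
    ring
  exact_mod_cast h'

/-- the radical form of the subnormalizer -/
theorem ext_iff_radical (H : Subgroup G) (g : G) :
    Ext p ⊤ H g ↔ ∃ R : Subgroup G, H ≤ R ∧
      (Cfsg.pCore p (normalizer (R : Set G))).map (normalizer (R : Set G)).subtype = R ∧
      g ∈ normalizer (R : Set G) := by
  constructor
  · rintro ⟨U, hU, hHU, -, hg⟩
    obtain ⟨R, hUR, hR⟩ := exists_maximal_ge_of_wellFoundedGT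
      (fun R : Subgroup G => IsPGroup p R ∧ g ∈ normalizer (R : Set G)) U ⟨hU, hg⟩
    refine ⟨R, hHU.trans hUR, le_antisymm (hR.2 ⟨(Cfsg.Lib.Components.isPGroup_pCore p).map _, ?_⟩
      (Cfsg.Lib.Components.pGroup_le_pCore_normalizer hR.1.1)) (Cfsg.Lib.Components.pGroup_le_pCore_normalizer hR.1.1), hR.1.2⟩
    have hn : (Cfsg.pCore p (normalizer (R : Set G))).Normal := inferInstance
    refine mem_normalizer_iff.2 fun y => ⟨?_, ?_⟩
    · rintro ⟨z, hz, rfl⟩
      exact ⟨_, hn.conj_mem z hz ⟨g, hR.1.2⟩, rfl⟩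
    · rintro ⟨z, hz, hzy⟩
      refine ⟨_, hn.conj_mem z hz (⟨g, hR.1.2⟩⁻¹), ?_⟩
      show g⁻¹ * (z : G) * g⁻¹⁻¹ = y
      rw [show (z : G) = g * y * g⁻¹ from hzy]
      group
  · rintro ⟨R, hHR, hR, hg⟩
    exact ⟨R, hR ▸ (Cfsg.Lib.Components.isPGroup_pCore p).map _, hHR, le_top, hg⟩

/-- a radical subgroup is the intersection of the Sylow subgroups containing it -/
theorem sInf_sylow_le_radical (R : Subgroup G)
    (hR : (Cfsg.pCore p (normalizer (R : Set G))).map (normalizer (R : Set G)).subtype = R) :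
    sInf {K : Subgroup G | ∃ Q : Sylow p G, R ≤ (Q : Subgroup G) ∧ K = (Q : Subgroup G)} ≤ R := by
  set E := sInf {K : Subgroup G | ∃ Q : Sylow p G, R ≤ (Q : Subgroup G) ∧ K = (Q : Subgroup G)} with hE
  have hRp : IsPGroup p R := hR ▸ (Cfsg.Lib.Components.isPGroup_pCore p).map _
  have hRE : R ≤ E := le_sInf fun K ⟨Q, hQ, hK⟩ => hK ▸ hQ
  obtain ⟨Q₀, hQ₀⟩ := hRp.exists_le_sylow
  have hEp : IsPGroup p E := Q₀.2.to_le (sInf_le ⟨Q₀, hQ₀, rfl⟩)
  rcases hRE.eq_or_lt with h | hlt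
  · exact h.ge
  refine absurd ?_ (lt_inf_normalizer hEp hlt).not_ge
  set N := normalizer (R : Set G) with hN
  haveI hn : (E.subgroupOf N).Normal := ⟨fun a ha n => by
    rw [mem_subgroupOf, hE, mem_sInf] at ha ⊢
    rintro K ⟨Q, hQ, rfl⟩
    have h1 : R ≤ (((n : G)⁻¹ • Q : Sylow p G) : Subgroup G) := by
      intro r hr
      rw [Sylow.coe_subgroup_smul, Cfsg.Lib.Coprime.conj_smul_eq, Cfsg.Lib.Coprime.mem_conjMap, inv_inv]
      exact hQ ((mem_normalizer_iff.1 n.2 r).1 hr)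
    have h2 := ha _ ⟨_, h1, rfl⟩
    rw [Sylow.coe_subgroup_smul, Cfsg.Lib.Coprime.conj_smul_eq, Cfsg.Lib.Coprime.mem_conjMap, inv_inv] at h2
    exact h2⟩
  conv_rhs => rw [← hR]
  rw [← subgroupOf_map_subtype]
  exact Subgroup.map_mono (Cfsg.Lib.Components.le_pCore (N := E.subgroupOf N) hEp.comap_subtype)

end Cfsg.Lib.Subnormalizer
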