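/-
Prime graph and Sylow subgroups of the groups between `A_n` and `Aut A_n`.
-/
import Cfsg.Agent.SolvStruct.AltAut

set_option autoImplicit false
set_option linter.unusedSectionVars false
set_option linter.style.haveILetI false

namespace Cfsg.Lib.SolvStruct.AltAut

open Equiv Equiv.Perm Subgroup MulAction

variable {n : ℕ}

local notation "A" => alternatingGroup (Fin n)

/-- equal cycle type and an odd permutation in the centralizer give conjugacy in `A_n` -/
theorem isConj_alt {x y : ↥A} (h : (x : Perm (Fin n)).cycleType = (y : Perm (Fin n)).cycleType)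
    {z : Perm (Fin n)} (hz : Commute z (x : Perm (Fin n))) (hzA : z ∉ alternatingGroup (Fin n)) : IsConj x y := by
  obtain ⟨c, hc⟩ := isConj_iff.1 (isConj_iff_cycleType_eq.2 h)
  by_cases hcA : c ∈ alternatingGroup (Fin n)
  · exact isConj_iff.2 ⟨⟨c, hcA⟩, Subtype.ext hc⟩
  · refine isConj_iff.2 ⟨⟨c * z, ?_⟩, Subtype.ext ?_⟩
    · rw [mem_alternatingGroup] at hcA hzA ⊢
      rw [map_mul]
      rcases Int.units_eq_one_or (sign c) with h1 | h1
      · exact absurd h1 hcA
      rcases Int.units_eq_one_or (sign z) with h2 | h2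
      · exact absurd h2 hzA
      rw [h1, h2]; decide
    · show c * z * (x : Perm (Fin n)) * (c * z)⁻¹ = y
      rw [mul_assoc c z, hz.eq, ← hc]; group

theorem three_conj (hn : 5 ≤ n) {x y : ↥A} (hx : (x : Perm (Fin n)).IsThreeCycle)
    (hy : (y : Perm (Fin n)).IsThreeCycle) : IsConj x y := by
  have hc : 1 < ((x : Perm (Fin n)).support)ᶜ.card := by
    rw [Finset.card_compl, hx.card_support, Fintype.card_fin]; omega
  obtain ⟨a, ha, b, hb, hab⟩ := Finset.one_lt_card.1 hc
  rw [Finset.mem_compl] at ha hb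
  refine isConj_alt (hx.trans hy.symm) (z := swap a b) ?_ ?_
  · refine Perm.Disjoint.commute ?_
    rw [Perm.disjoint_iff_disjoint_support, support_swap hab]
    simp [ha, hb]
  · rw [mem_alternatingGroup, sign_swap hab]; decide

theorem double_conj {x y : ↥(alternatingGroup (Fin 6))}
    (hx : (x : Perm (Fin 6)).cycleType = Multiset.replicate 2 3)
    (hy : (y : Perm (Fin 6)).cycleType = Multiset.replicate 2 3) : IsConj x y := by
  obtain ⟨z, hz, hzA⟩ : ∃ z : Perm (Fin 6), Commute z x ∧ z ∉ alternatingGroup (Fin 6) := by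
    have hc := (centralizer_bounds x).1
    by_contra! hall
    have e : Nat.card (centralizer ({(x : Perm (Fin 6))} : Set (Perm (Fin 6)))) = Nat.card (centralizer ({x} : Set ↥(alternatingGroup (Fin 6)))) :=
      Nat.card_congr
        { toFun := fun z => ⟨⟨z.1, hall z.1 (mem_centralizer_singleton_iff.1 z.2)⟩, mem_centralizer_singleton_iff.2 (Subtype.ext (mem_centralizer_singleton_iff.1 z.2))⟩
          invFun := fun z => ⟨z.1.1, mem_centralizer_singleton_iff.2 (congrArg Subtype.val (mem_centralizer_singleton_iff.1 z.2))⟩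
          left_inv := fun z => rfl
          right_inv := fun z => rfl }
    have h18 : Nat.card (centralizer ({(x : Perm (Fin 6))} : Set (Perm (Fin 6)))) = 18 := by
      rw [nat_card_centralizer, hx]; rfl
    have h3 : Nat.card (centralizer ({x} : Set ↥(alternatingGroup (Fin 6)))) ∣ Nat.card ↥(alternatingGroup (Fin 6)) :=
      card_subgroup_dvd_card _
    rw [← e, h18] at h3
    have h4 : 2 * Nat.card ↥(alternatingGroup (Fin 6)) = 720 := by
      rw [two_mul_nat_card_alternatingGroup, Nat.card_perm, Nat.card_fin]; rfl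
    -- a Sylow 2-subgroup of the centralizer
    obtain ⟨w, hw⟩ := exists_prime_orderOf_dvd_card' (G := centralizer ({(x : Perm (Fin 6))} : Set (Perm (Fin 6)))) 2
      (h18 ▸ by norm_num)
    have hwA := hall w.1 (mem_centralizer_singleton_iff.1 w.2)
    rw [← Subgroup.orderOf_coe] at hw
    -- an even involution has cycle type 2,2 and moves exactly four points
    have hw2 : ∀ m ∈ (w : Perm (Fin 6)).cycleType, m = 2 := fun m hm => by
      have h1 := two_le_of_mem_cycleType hm
      have h2 := Nat.le_of_dvd (by norm_num) (hw ▸ dvd_of_mem_cycleType hm)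
      omega
    have hrep := Multiset.eq_replicate.2 ⟨rfl, hw2⟩
    have hs := sum_cycleType (w : Perm (Fin 6))
    rw [hrep, Multiset.sum_replicate, smul_eq_mul] at hs
    have hle := Finset.card_le_univ (w : Perm (Fin 6)).support
    rw [Fintype.card_fin] at hle
    have hsg := mem_alternatingGroup.1 hwA
    rw [sign_of_cycleType, hrep, Multiset.sum_replicate, smul_eq_mul, Multiset.card_replicate] at hsg
    -- `x` permutes the four moved points
    have hfix : (x : Perm (Fin 6)) ∈ centralizer ({(w : Perm (Fin 6))} : Set (Perm (Fin 6))) :=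
      mem_centralizer_singleton_iff.2 (mem_centralizer_singleton_iff.1 w.2).symm
    have hd : orderOf (x : Perm (Fin 6)) ∣ Nat.card (centralizer ({(w : Perm (Fin 6))} : Set (Perm (Fin 6)))) :=
      Subgroup.orderOf_dvd_natCard _ hfix
    rw [← lcm_cycleType, hx, nat_card_centralizer, hrep, Fintype.card_fin, Multiset.sum_replicate, Multiset.prod_replicate] at hd
    set k := Multiset.card (w : Perm (Fin 6)).cycleType
    have hk : k ≤ 3 := by omega
    interval_cases k
    · have : (w : Perm (Fin 6)) = 1 := cycleType_eq_zero.1 (by rw [hrep]; rfl)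
      rw [this, orderOf_one] at hw
      omega
    · exact absurd hsg (by decide)
    · revert hd; decide
    · exact absurd hsg (by decide)
  exact isConj_alt (hx.trans hy.symm) hz hzA

theorem sq_mem_range (hn : 5 ≤ n) (φ : MulAut ↥A) :
    φ * φ ∈ (MulAut.conjNormal : Perm (Fin n) →* MulAut ↥A).range := by
  by_cases h6 : n = 6
  swap
  · obtain ⟨σ, hσ⟩ := (conjNormal_bijective (by omega) h6).2 (φ * φ)
    exact ⟨σ, hσ⟩
  subst h6
  refine exists_conjNormal_eq (by norm_num) (φ * φ) fun t ht => ?_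
  have hdich : ∀ (ψ : MulAut ↥(alternatingGroup (Fin 6))) (t : ↥(alternatingGroup (Fin 6))),
      ((t : Perm (Fin 6)).IsThreeCycle ∨ (t : Perm (Fin 6)).cycleType = Multiset.replicate 2 3) →
      ((ψ t : Perm (Fin 6)).IsThreeCycle ∨ (ψ t : Perm (Fin 6)).cycleType = Multiset.replicate 2 3) := by
    intro ψ t ht
    have ho : orderOf (t : Perm (Fin 6)) = 3 := by
      rcases ht with h | h
      · exact h.orderOf
      · rw [← lcm_cycleType, h]; rfl
    have hy : orderOf (ψ t : Perm (Fin 6)) = 3 := by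
      rw [Subgroup.orderOf_coe, MulEquiv.orderOf_eq, ← Subgroup.orderOf_coe, ho]
    set y := (ψ t : Perm (Fin 6))
    have hall : ∀ m ∈ y.cycleType, m = 3 := fun m hm => by
      have h1 := two_le_of_mem_cycleType hm
      rcases (Nat.dvd_prime Nat.prime_three).1 (hy ▸ dvd_of_mem_cycleType hm) with h | h <;> omega
    have hrep := Multiset.eq_replicate.2 ⟨rfl, hall⟩
    have hs := sum_cycleType y
    rw [hrep, Multiset.sum_replicate, smul_eq_mul] at hs
    have hle := Finset.card_le_univ y.support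
    rw [Fintype.card_fin] at hle
    set k := Multiset.card y.cycleType
    have hk : k ≤ 2 := by omega
    interval_cases k
    · have : y = 1 := cycleType_eq_zero.1 (by rw [hrep]; rfl)
      rw [this, orderOf_one] at hy
      omega
    · exact Or.inl hrep
    · exact Or.inr hrep
  rcases hdich φ t (Or.inl ht) with h1 | h1
  · obtain ⟨g, hg⟩ := isConj_iff.1 (three_conj hn ht h1)
    have e : (φ * φ) t = φ g * φ t * (φ g)⁻¹ := by
      rw [MulAut.mul_apply, ← map_inv, ← map_mul, ← map_mul, hg]
    show ((φ * φ) t : Perm (Fin 6)).cycleType = {3}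
    rw [e]
    exact (Perm.cycleType_conj).trans h1
  · rcases hdich φ (φ t) (Or.inr h1) with h2 | h2
    · exact h2
    exfalso
    obtain ⟨g, hg⟩ := isConj_iff.1 (double_conj h2 h1)
    -- pull back by the automorphism
    have e : φ.symm g * φ t * (φ.symm g)⁻¹ = t := by
      refine φ.injective ?_
      rw [map_mul, map_mul, map_inv, MulEquiv.apply_symm_apply]
      exact hg
    have h3 : (t : Perm (Fin 6)).cycleType = Multiset.replicate 2 3 := by
      rw [← e]
      exact (Perm.cycleType_conj).trans h1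
    rw [ht] at h3
    exact absurd (congrArg Multiset.card h3) (by simp)

/-- `p`-subgroups of a symmetric group of degree `< p²` are abelian -/
theorem commute_of_lt_sq {p : ℕ} [hp : Fact p.Prime] (hn : n < p ^ 2) {P : Subgroup (Perm (Fin n))}
    (hP : IsPGroup p P) (g h : P) : g * h = h * g := by
  classical
  refine Subtype.ext (Equiv.ext fun x => ?_)
  obtain ⟨i, hi⟩ := hP.card_orbit x
  have hi1 : i ≤ 1 := by
    by_contra hlt
    have h1 : p ^ 2 ≤ p ^ i := Nat.pow_le_pow_right hp.out.pos (by omega)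
    have h2 : Nat.card (orbit P x) ≤ n := by
      have := Nat.card_le_card_of_injective (Subtype.val : orbit P x → Fin n) Subtype.val_injective
      rwa [Nat.card_fin] at this
    omega
  set f := MulAction.toPermHom P (orbit P x)
  obtain ⟨j, hj⟩ := IsPGroup.iff_card.1 (hP.of_surjective f.rangeRestrict f.rangeRestrict_surjective)
  have hd : Nat.card f.range ∣ (p ^ i).factorial := by
    rw [← hi, ← Nat.card_perm]
    exact card_subgroup_dvd_card _
  have hcyc : IsCyclic f.range := by
    have hle : j ≤ 1 := by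
      by_contra hlt
      have h1 : p * p ∣ p.factorial := by
        refine Dvd.dvd.trans ?_ (hd.trans (Nat.factorial_dvd_factorial ?_))
        · rw [hj, ← pow_two]; exact pow_dvd_pow p (by omega)
        · calc p ^ i ≤ p ^ 1 := Nat.pow_le_pow_right hp.out.pos hi1
            _ = p := pow_one p
      rw [← Nat.mul_factorial_pred hp.out.ne_zero] at h1
      have h3 := (Nat.Prime.dvd_factorial hp.out).1 (Nat.dvd_of_mul_dvd_mul_left hp.out.pos h1)
      have := hp.out.pos
      omega
    interval_cases j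
    · haveI : Subsingleton f.range := (Nat.card_eq_one_iff_unique.1 (by rw [hj, pow_zero])).1
      exact isCyclic_of_subsingleton
    · exact isCyclic_of_prime_card (p := p) (by rw [hj, pow_one])
  have hc : f g * f h = f h * f g := congrArg Subtype.val
    (IsCyclic.commGroup.mul_comm (⟨f g, g, rfl⟩ : f.range) ⟨f h, h, rfl⟩)
  exact congrArg Subtype.val (DFunLike.congr_fun hc ⟨x, MulAction.mem_orbit_self x⟩)

theorem orderOf_cycles {m : Multiset ℕ} (h2 : ∀ a ∈ m, 2 ≤ a) (hs : m.sum ≤ n)
    (he : Even (m.sum + Multiset.card m)) : ∃ g : ↥A, orderOf g = m.lcm := by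
  obtain ⟨g, hg⟩ := (Equiv.Perm.exists_with_cycleType_iff (Fin n)).2 ⟨by rwa [Fintype.card_fin], h2⟩
  refine ⟨⟨g, ?_⟩, ?_⟩
  · rw [mem_alternatingGroup, sign_of_cycleType, hg, he.neg_one_pow]
  · rw [Subgroup.orderOf_mk, ← lcm_cycleType, hg]

theorem sylow_abelian (hn : 5 ≤ n) (G : Subgroup (MulAut ↥A)) {p : ℕ} [hp : Fact p.Prime] (hp2 : p ≠ 2)
    (hlt : n < p ^ 2) (P : Sylow p G) : IsMulCommutative (P : Subgroup G) := by
  set Q := (((P : Subgroup G).map G.subtype)).comap (MulAut.conjNormal : Perm (Fin n) →* MulAut ↥A)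
  have hinj := conjNormal_injective (n := n) (by omega)
  have hQ : IsPGroup p Q := (P.2.map _).comap_of_injective _ hinj
  have hrange : ∀ x : (P : Subgroup G), ((x : G) : MulAut ↥A) ∈ (MulAut.conjNormal : Perm (Fin n) →* MulAut ↥A).range := by
    intro x
    obtain ⟨k, hk⟩ := P.2 x
    obtain ⟨m, hm⟩ : Odd (p ^ k) := (hp.out.odd_of_ne_two hp2).pow
    have e : x = (x * x) ^ (m + 1) := by
      rw [← pow_two, ← pow_mul, show 2 * (m + 1) = (2 * m + 1) + 1 by omega, pow_succ, ← hm, hk, one_mul]
    rw [e]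
    push_cast
    exact pow_mem (sq_mem_range hn _) _
  refine ⟨⟨fun a b => ?_⟩⟩
  obtain ⟨u, hu⟩ := hrange a
  obtain ⟨v, hv⟩ := hrange b
  have hu' : u ∈ Q := ⟨(a : G), a.2, hu.symm⟩
  have hv' : v ∈ Q := ⟨(b : G), b.2, hv.symm⟩
  have := congrArg Subtype.val (commute_of_lt_sq hlt hQ ⟨u, hu'⟩ ⟨v, hv'⟩)
  refine Subtype.ext (Subtype.ext ?_)
  show ((a : G) : MulAut ↥A) * ((b : G) : MulAut ↥A) = ((b : G) : MulAut ↥A) * ((a : G) : MulAut ↥A)
  rw [← hu, ← hv, ← map_mul, ← map_mul]
  exact congrArg _ this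

theorem prime_graph (hn : 5 ≤ n) (G : Subgroup (MulAut ↥A))
    (hG : (MulAut.conj : ↥A →* MulAut ↥A).range ≤ G) (p q : ℕ) [hp : Fact p.Prime] [hq : Fact q.Prime]
    (hpq : p ≠ q) (h : ∀ g : G, orderOf g ≠ p * q) :
    (∀ P : Sylow p G, IsMulCommutative (P : Subgroup G)) ∨ (∀ Q : Sylow q G, IsMulCommutative (Q : Subgroup G)) := by
  have hcon : ∀ g : ↥A, orderOf g ≠ p * q := fun g he => h ⟨MulAut.conj g, hG ⟨g, rfl⟩⟩ (by
    rw [Subgroup.orderOf_mk, orderOf_injective MulAut.conj ?_ g, he]
    intro a b hab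
    refine Subtype.ext (conjNormal_injective (n := n) (by omega) ?_)
    have e : ∀ c : ↥A, MulAut.conjNormal (c : Perm (Fin n)) = MulAut.conj c := fun c =>
      MulEquiv.ext fun d => Subtype.ext (by simp)
    rw [e, e, hab])
  by_cases h1 : p ≠ 2 ∧ n < p ^ 2
  · exact Or.inl (sylow_abelian hn G h1.1 h1.2)
  by_cases h2 : q ≠ 2 ∧ n < q ^ 2
  · exact Or.inr (sylow_abelian hn G h2.1 h2.2)
  exfalso
  have two : ∀ r : ℕ, r.Prime → r ≠ 2 → r ^ 2 ≤ n → ∃ g : ↥A, orderOf g = 2 * r := by
    intro r hr hr2 hrn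
    have hodd := hr.odd_of_ne_two hr2
    have h3 : 3 ≤ r := by have := hr.two_le; omega
    obtain ⟨g, hg⟩ := orderOf_cycles (n := n) (m := {2, 2, r}) (by simp; omega) (by
      simp only [Multiset.insert_eq_cons, Multiset.sum_cons, Multiset.sum_singleton]; nlinarith)
      (by
        simp only [Multiset.insert_eq_cons, Multiset.sum_cons, Multiset.sum_singleton, Multiset.card_cons, Multiset.card_singleton]
        obtain ⟨e, he⟩ := hodd
        exact ⟨e + 4, by omega⟩)
    refine ⟨g, hg.trans ?_⟩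
    simp only [Multiset.insert_eq_cons, Multiset.lcm_cons, Multiset.lcm_singleton, normalize_eq]
    show Nat.lcm 2 (Nat.lcm 2 r) = 2 * r
    rw [← Nat.lcm_assoc, Nat.lcm_self]
    exact Nat.Coprime.lcm_eq_mul (hodd.coprime_two_left)
  by_cases hp2 : p = 2
  · have hq2 : q ≠ 2 := fun e => hpq (hp2.trans e.symm)
    obtain ⟨g, hg⟩ := two q hq.out hq2 (not_lt.1 fun hl => h2 ⟨hq2, hl⟩)
    exact hcon g (by rw [hg, hp2])
  by_cases hq2 : q = 2
  · obtain ⟨g, hg⟩ := two p hp.out hp2 (not_lt.1 fun hl => h1 ⟨hp2, hl⟩)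
    exact hcon g (by rw [hg, hq2, mul_comm])
  have hpn : p ^ 2 ≤ n := not_lt.1 fun hl => h1 ⟨hp2, hl⟩
  have hqn : q ^ 2 ≤ n := not_lt.1 fun hl => h2 ⟨hq2, hl⟩
  have := hp.out.two_le
  have := hq.out.two_le
  obtain ⟨g, hg⟩ := orderOf_cycles (n := n) (m := {p, q}) (by simp; omega) (by
    simp only [Multiset.insert_eq_cons, Multiset.sum_cons, Multiset.sum_singleton]
    rcases le_total p q with hle | hle <;> nlinarith)
    (by
      simp only [Multiset.insert_eq_cons, Multiset.sum_cons, Multiset.sum_singleton, Multiset.card_cons, Multiset.card_singleton]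
      obtain ⟨a, ha⟩ := hp.out.odd_of_ne_two hp2
      obtain ⟨b, hb⟩ := hq.out.odd_of_ne_two hq2
      exact ⟨a + b + 2, by omega⟩)
  refine hcon g (hg.trans ?_)
  simp only [Multiset.insert_eq_cons, Multiset.lcm_cons, Multiset.lcm_singleton, normalize_eq]
  exact Nat.Coprime.lcm_eq_mul ((Nat.coprime_primes hp.out hq.out).2 hpq)

end Cfsg.Lib.SolvStruct.AltAut
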