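/-
Groups with a cyclic Sylow subgroup and a normal subgroup meeting it properly.
-/
import Cfsg.Agent.Transfer.Control
import Cfsg.Agent.Transfer.Frobenius
import Cfsg.Prelude.Def_Local

set_option linter.style.haveILetI false
set_option linter.unusedSectionVars false

namespace Cfsg.Lib.SolvStruct

open Subgroup Cfsg.Lib.Transfer
open scoped commutatorElement Pointwise

variable {G : Type*} [Group G] [Finite G] {p : ℕ} [hp : Fact p.Prime]

theorem sylow_cyclic_conj (P Q : Sylow p G) (hP : IsCyclic (P : Subgroup G)) :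
    IsCyclic (Q : Subgroup G) :=
  haveI := hP
  isCyclic_of_surjective (P.equiv Q).toMonoidHom (P.equiv Q).surjective

theorem cyclic_comm {P : Subgroup G} (hP : IsCyclic P) {x y : G} (hx : x ∈ P) (hy : y ∈ P) :
    x * y = y * x := by
  letI := hP.commGroup
  exact congrArg Subtype.val (mul_comm (⟨x, hx⟩ : P) ⟨y, hy⟩)

/-- An element normalising a cyclic Sylow `P`, with `⁅P, n⁆` in a proper subgroup, centralizes `P`. -/
theorem centralize_of_normalizer_cyclic (P : Sylow p G) (hP : IsCyclic (P : Subgroup G)) (n : G)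
    (hn : n ∈ normalizer (P : Set G)) (D : Subgroup G) (hD : D < (P : Subgroup G))
    (h : ∀ x ∈ (P : Subgroup G), ⁅x, n⁆ ∈ D) : n ∈ centralizer ((P : Subgroup G) : Set G) := by
  haveI := hP
  obtain ⟨a, b, ha, hb, hab, ⟨k, hk⟩, hbc⟩ := exists_pPart p n
  have haP : a ∈ (P : Subgroup G) := by
    have h1 := (IsPGroup.of_card (p := p) ((Nat.card_zpowers a).trans hk)).inf_normalizer_sylow P
    have h2 : a ∈ zpowers a ⊓ normalizer (P : Set G) := ⟨mem_zpowers a, (zpowers_le.2 hn) ha⟩
    rw [h1] at h2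
    exact h2.2
  have hac : a ∈ centralizer ((P : Subgroup G) : Set G) := fun x hx => cyclic_comm hP hx haP
  have hbn : b ∈ normalizer (P : Set G) := (zpowers_le.2 hn) hb
  have hbcent : b ∈ centralizer ((P : Subgroup G) : Set G) := by
    refine centralize_of_cyclic (P : Subgroup G) P.2 b hbn hbc D hD fun x hx => ?_
    have hbxb : b * x⁻¹ * b⁻¹ ∈ (P : Subgroup G) := (mem_normalizer_iff.1 hbn _).1 (inv_mem hx)
    have h1 : ⁅x, b⁆ = ⁅x, n⁆ := by
      rw [← hab, commutatorElement_def, commutatorElement_def]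
      calc x * b * x⁻¹ * b⁻¹ = x * (b * x⁻¹ * b⁻¹) := by group
        _ = x * (b * x⁻¹ * b⁻¹) * a * a⁻¹ := by group
        _ = x * (a * (b * x⁻¹ * b⁻¹)) * a⁻¹ := by rw [mul_assoc x, hac _ hbxb]
        _ = _ := by group
    exact h1 ▸ h x hx
  rw [← hab]
  exact mul_mem hac hbcent

theorem exists_adapted (H : Subgroup G) [H.Normal] :
    ∃ (P : Sylow p G) (S : Sylow p H), (P : Subgroup G) ⊓ H = (S : Subgroup H).map H.subtype := by
  obtain ⟨S⟩ : Nonempty (Sylow p H) := inferInstance
  obtain ⟨P, hP⟩ := (S.2.map H.subtype).exists_le_sylow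
  refine ⟨P, S, le_antisymm ?_ (le_inf hP (map_subtype_le _))⟩
  have h1 : ((P : Subgroup G) ⊓ H).subgroupOf H = S :=
    S.3 ((P.2.to_le inf_le_left).comap_subtype) fun x hx =>
      ⟨hP ⟨x, hx, rfl⟩, x.2⟩
  intro x hx
  exact ⟨⟨x, hx.2⟩, h1.le hx, rfl⟩

/-- An element of `H` normalising `P ⊓ H` centralises it. -/
theorem normalizer_inf_le_centralizer (P : Sylow p G) (hP : IsCyclic (P : Subgroup G))
    (H : Subgroup G) [H.Normal] (hlt : ¬ (P : Subgroup G) ≤ H) (n : G) (hnH : n ∈ H)
    (hn : n ∈ normalizer (((P : Subgroup G) ⊓ H : Subgroup G) : Set G)) :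
    n ∈ centralizer (((P : Subgroup G) ⊓ H : Subgroup G) : Set G) := by
  set P0 := (P : Subgroup G) ⊓ H
  set C := centralizer (P0 : Set G)
  set D := H ⊔ (P : Subgroup G)
  have hPCD : (P : Subgroup G) ≤ C ⊓ D :=
    le_inf (fun x hx y hy => cyclic_comm hP hy.1 hx) le_sup_right
  have hnPCD : ((n • P : Sylow p G) : Subgroup G) ≤ C ⊓ D := by
    intro x hx
    rw [sylow_smul_coe, mem_map_conj] at hx
    obtain ⟨h1, h2⟩ := Subgroup.mem_inf.1 (hPCD hx)
    refine Subgroup.mem_inf.2 ⟨fun y hy => ?_, ?_⟩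
    · have hy' : n⁻¹ * y * n ∈ P0 := by
        have := (mem_normalizer_iff.1 (inv_mem hn) y).1 hy
        rwa [inv_inv] at this
      calc y * x = n * ((n⁻¹ * y * n) * (n⁻¹ * x * n)) * n⁻¹ := by group
        _ = n * ((n⁻¹ * x * n) * (n⁻¹ * y * n)) * n⁻¹ := by rw [h1 _ hy']
        _ = _ := by group
    · have hnD : n ∈ D := mem_sup_left hnH
      have := mul_mem (mul_mem hnD h2) (inv_mem hnD)
      rwa [show n * (n⁻¹ * x * n) * n⁻¹ = x by group] at this
  obtain ⟨c, hc, hcP⟩ := exists_conj_mem_of_sylow_le _ P (n • P) hPCD hnPCD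
  obtain ⟨hcC, hcD⟩ := Subgroup.mem_inf.1 hc
  obtain ⟨h, hh, q, hq, rfl⟩ := mem_sup_of_normal_left.1 hcD
  have hhC : h ∈ C := by
    have := mul_mem hcC (inv_mem (Subgroup.mem_inf.1 (hPCD hq)).1)
    rwa [mul_inv_cancel_right] at this
  have hm : h⁻¹ * n ∈ normalizer (P : Set G) := Sylow.smul_eq_iff_mem_normalizer.1 (by
    rw [mul_smul, ← hcP, smul_smul, inv_mul_cancel_left]
    exact Sylow.smul_eq_iff_mem_normalizer.2 (le_normalizer hq))
  have hmH : h⁻¹ * n ∈ H := mul_mem (inv_mem hh) hnH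
  have hmC : h⁻¹ * n ∈ C := by
    refine centralizer_le inf_le_left (centralize_of_normalizer_cyclic P hP _ hm P0
      (inf_le_left.lt_of_ne fun e => hlt (inf_eq_left.1 e)) fun x hx => ?_)
    refine Subgroup.mem_inf.2 ⟨?_, ?_⟩
    · rw [commutatorElement_def, mul_assoc x (h⁻¹ * n), mul_assoc x]
      exact mul_mem hx ((mem_normalizer_iff.1 hm _).1 (inv_mem hx))
    · rw [commutatorElement_def]
      exact mul_mem (‹H.Normal›.conj_mem _ hmH x) (inv_mem hmH)
  have := mul_mem hhC hmC
  rwa [mul_inv_cancel_left] at this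

theorem hasNormalPComplement_normal_of_cyclic (P0 : Sylow p G) (hP0 : IsCyclic (P0 : Subgroup G))
    (H : Subgroup G) [H.Normal] (h2 : p ∣ H.index) : Cfsg.HasNormalPComplement p H := by
  obtain ⟨P, S, hPS⟩ := exists_adapted (p := p) H
  have hP := sylow_cyclic_conj P0 P hP0
  have hlt : ¬ (P : Subgroup G) ≤ H := fun h =>
    P.not_dvd_index (h2.trans (index_dvd_of_le h))
  haveI : (MonoidHom.transferSylow S ?_).ker.Normal := inferInstance
  · exact hasNormalPComplement_of_isComplement' (MonoidHom.ker_transferSylow_isComplement' S _)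
  intro n hn s hs
  have hsP : (s : G) ∈ (P : Subgroup G) ⊓ H := hPS.symm.le ⟨s, hs, rfl⟩
  refine Subtype.ext (normalizer_inf_le_centralizer P hP H hlt n n.2 ?_ s hsP)
  rw [mem_normalizer_iff]
  intro x
  rw [hPS]
  have key : ∀ m : H, m ∈ normalizer (S : Set H) → ∀ x ∈ (S : Subgroup H).map H.subtype,
      (m : G) * x * (m : G)⁻¹ ∈ (S : Subgroup H).map H.subtype := by
    rintro m hm _ ⟨y, hy, rfl⟩
    exact ⟨m * y * m⁻¹, (mem_normalizer_iff.1 hm y).1 hy, rfl⟩
  refine ⟨key n hn x, fun hx => ?_⟩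
  have := key n⁻¹ (inv_mem hn) _ hx
  simpa [mul_assoc] using this

theorem isPSolvable_of_cyclic (P0 : Sylow p G) (hP0 : IsCyclic (P0 : Subgroup G)) (H : Subgroup G)
    [H.Normal] (h1 : p ∣ Nat.card H) (h2 : p ∣ H.index) : Cfsg.IsPSolvable p G := by
  obtain ⟨P, S, hPS⟩ := exists_adapted (p := p) H
  have hP := sylow_cyclic_conj P0 P hP0
  obtain ⟨M', hM'n, hM'c⟩ :=
    exists_complement_of_hasNormalPComplement (hasNormalPComplement_normal_of_cyclic P0 hP0 H h2) S
  haveI := hM'n
  obtain ⟨hcop, kM, hkM⟩ := complement_props hM'c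
  have hM'eq := eq_pResidual_of_complement hcop hkM
  subst hM'eq
  set M := (Cfsg.pResidual p H).map H.subtype
  haveI hMn : M.Normal := inferInstance
  set P1 := (P : Subgroup G) ⊓ H
  set C := centralizer (P1 : Set G)
  set N1 := normalizer (P1 : Set G)
  have hPC : (P : Subgroup G) ≤ C := fun x hx y hy => cyclic_comm hP hy.1 hx
  -- `G = M N(P ⊓ H)`
  have hMN : M ⊔ N1 = ⊤ := by
    have hfr := Sylow.normalizer_sup_eq_top (N := H) S
    rw [← hPS] at hfr
    refine top_le_iff.1 (hfr.ge.trans (sup_le le_sup_right ?_))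
    intro x hx
    obtain ⟨m, hm, s, hs, hms⟩ := mem_sup_of_normal_left.1
      (hM'c.sup_eq_top.ge (mem_top (⟨x, hx⟩ : H)))
    rw [show x = (m : G) * (s : G) from (congrArg Subtype.val hms).symm]
    exact mul_mem (mem_sup_left ⟨m, hm, rfl⟩)
      (mem_sup_right (le_normalizer (hPS.symm.le ⟨s, hs, rfl⟩)))
  -- `C` has a normal `p`-complement
  set S' : Sylow p C := P.subtype hPC
  have hb : P1 ≠ ⊥ := by
    intro e
    rw [e] at hPS
    have := Sylow.dvd_card_of_dvd_card S h1
    rw [(map_eq_bot_iff_of_injective _ H.subtype_injective).1 hPS.symm, card_bot, Nat.dvd_one] at this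
    exact hp.out.ne_one this
  have hCnc : Cfsg.HasNormalPComplement p C := by
    haveI : (MonoidHom.transferSylow S' ?_).ker.Normal := inferInstance
    · exact hasNormalPComplement_of_isComplement' (MonoidHom.ker_transferSylow_isComplement' S' _)
    intro n hn s hs
    have hcjmem : ∀ m : C, m ∈ normalizer (S' : Set C) → ∀ x ∈ (P : Subgroup G),
        (m : G) * x * (m : G)⁻¹ ∈ (P : Subgroup G) := fun m hm x hx =>
      (mem_normalizer_iff.1 hm ⟨x, hPC hx⟩).1 hx
    have hnP : (n : G) ∈ normalizer (P : Set G) := by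
      refine Subgroup.mem_normalizer_iff.2 fun x => ⟨hcjmem n hn x, fun hx => ?_⟩
      have := hcjmem n⁻¹ (inv_mem hn) _ hx
      simpa [mul_assoc] using this
    -- the endomorphism `x ↦ ⁅x, n⁆` of `P` kills `P ⊓ H`
    let f : (P : Subgroup G) →* (P : Subgroup G) :=
      { toFun := fun x => ⟨⁅(x : G), (n : G)⁆, by
          rw [commutatorElement_def, mul_assoc (x : G) n, mul_assoc (x : G)]
          exact mul_mem x.2 ((mem_normalizer_iff.1 hnP _).1 (inv_mem x.2))⟩
        map_one' := Subtype.ext (by simp)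
        map_mul' := fun x y => Subtype.ext (by
          have hy' : ⁅(y : G), (n : G)⁆ ∈ (P : Subgroup G) := by
            rw [commutatorElement_def, mul_assoc (y : G) n, mul_assoc (y : G)]
            exact mul_mem y.2 ((mem_normalizer_iff.1 hnP _).1 (inv_mem y.2))
          have hx' : ⁅(x : G), (n : G)⁆ ∈ (P : Subgroup G) := by
            rw [commutatorElement_def, mul_assoc (x : G) n, mul_assoc (x : G)]
            exact mul_mem x.2 ((mem_normalizer_iff.1 hnP _).1 (inv_mem x.2))
          push_cast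
          rw [show ⁅(x : G) * y, (n : G)⁆ = x * ⁅(y : G), (n : G)⁆ * (x : G)⁻¹ * ⁅(x : G), (n : G)⁆ by
              simp only [commutatorElement_def]; group,
            cyclic_comm hP x.2 hy', mul_inv_cancel_right, cyclic_comm hP hy' hx']) }
    set D := f.range.map (P : Subgroup G).subtype
    have hker : f.ker ≠ ⊥ := by
      intro e
      obtain ⟨z, hz, hz1⟩ := (P1.bot_or_exists_ne_one).resolve_left hb
      have : (⟨z, hz.1⟩ : (P : Subgroup G)) ∈ f.ker := Subtype.ext (by
        show ⁅z, (n : G)⁆ = 1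
        exact commutatorElement_eq_one_iff_mul_comm.2 (n.2 z hz))
      rw [e, mem_bot] at this
      exact hz1 (congrArg Subtype.val this)
    have hD : D < (P : Subgroup G) := by
      refine (map_subtype_le _).lt_of_ne fun e => hker ?_
      have htop : f.range = ⊤ := by
        rw [eq_top_iff]
        intro x _
        obtain ⟨y, hy, hyx⟩ := e.ge x.2
        exact (Subtype.ext hyx : y = x) ▸ hy
      exact (MonoidHom.ker_eq_bot_iff f).2
        (Finite.injective_iff_surjective.2 (MonoidHom.range_eq_top.1 htop))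
    have h3 := centralize_of_normalizer_cyclic P hP n hnP D hD
      fun x hx => ⟨f ⟨x, hx⟩, ⟨⟨x, hx⟩, rfl⟩, rfl⟩
    exact Subtype.ext (h3 (s : G) hs)
  obtain ⟨K', hK'n, hK'c⟩ := exists_complement_of_hasNormalPComplement hCnc S'
  haveI := hK'n
  obtain ⟨hKcop, kK, hkK⟩ := complement_props hK'c
  have hK'eq := eq_pResidual_of_complement hKcop hkK
  subst hK'eq
  set K := (Cfsg.pResidual p C).map C.subtype
  have hCN : C ≤ N1 := centralizer_le_normalizer _
  have hKN : N1 ≤ normalizer (K : Set G) := by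
    intro g hg
    rw [← map_conj_eq_self_iff]
    have hgC : ∀ g ∈ N1, ∀ c ∈ C, g * c * g⁻¹ ∈ C := fun g hg c hc y hy => by
      have hy' : g⁻¹ * y * g ∈ P1 := by
        have := (mem_normalizer_iff.1 (inv_mem hg) y).1 hy
        rwa [inv_inv] at this
      calc y * (g * c * g⁻¹) = g * ((g⁻¹ * y * g) * c) * g⁻¹ := by group
        _ = g * (c * (g⁻¹ * y * g)) * g⁻¹ := by rw [hc _ hy']
        _ = _ := by group
    refine eq_of_le_of_card_ge ?_ (card_map_conj K g).ge
    rintro _ ⟨_, ⟨c, hc, rfl⟩, rfl⟩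
    let e : C →* C :=
      { toFun := fun c => ⟨g * c * g⁻¹, hgC g hg c c.2⟩
        map_one' := Subtype.ext (by simp)
        map_mul' := fun a b => Subtype.ext (by simp [mul_assoc]) }
    exact ⟨e c, pResidual_map_le e ⟨c, hc, rfl⟩, rfl⟩
  set N := M ⊔ K
  haveI hNn : N.Normal := by
    refine normalizer_eq_top_iff.1 (top_le_iff.1 (hMN.ge.trans (sup_le ?_ ?_)))
    · exact (le_sup_left : M ≤ N).trans le_normalizer
    · intro g hg
      rw [← map_conj_eq_self_iff, Subgroup.map_sup]
      congr 1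
      · exact map_conj_eq_self_iff.2 (by rw [normalizer_eq_top]; exact mem_top g)
      · exact map_conj_eq_self_iff.2 (hKN hg)
  set Ct := M ⊔ C
  haveI hCtn : Ct.Normal := by
    refine normalizer_eq_top_iff.1 (top_le_iff.1 (hMN.ge.trans (sup_le ?_ ?_)))
    · exact (le_sup_left : M ≤ Ct).trans le_normalizer
    · intro g hg
      rw [← map_conj_eq_self_iff, Subgroup.map_sup]
      congr 1
      · exact map_conj_eq_self_iff.2 (by rw [normalizer_eq_top]; exact mem_top g)
      · refine eq_of_le_of_card_ge ?_ (card_map_conj C g).ge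
        rintro _ ⟨c, hc, rfl⟩ y hy
        have hy' : g⁻¹ * y * g ∈ P1 := by
          have := (mem_normalizer_iff.1 (inv_mem hg) y).1 hy
          rwa [inv_inv] at this
        show y * (g * c * g⁻¹) = g * c * g⁻¹ * y
        calc y * (g * c * g⁻¹) = g * ((g⁻¹ * y * g) * c) * g⁻¹ := by group
          _ = g * (c * (g⁻¹ * y * g)) * g⁻¹ := by rw [hc _ hy']
          _ = _ := by group
  have hMc : (Nat.card M).Coprime p := by rwa [card_map_of_injective H.subtype_injective]
  have hKc : (Nat.card K).Coprime p := by rwa [card_map_of_injective C.subtype_injective]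
  have hNc : (Nat.card N).Coprime p := by
    have hd : Nat.card N ∣ Nat.card M * Nat.card K := by
      have hMi : M.relIndex N = M.relIndex K := by
        rw [show N = K ⊔ M from sup_comm _ _]; exact relIndex_sup_right _ _
      have hmul := relIndex_mul_relIndex (⊥ : Subgroup G) M N bot_le le_sup_left
      rw [relIndex_bot_left, relIndex_bot_left, hMi] at hmul
      rw [← hmul]
      exact Nat.mul_dvd_mul_left _ (relIndex_dvd_card _ _)
    exact (hMc.mul_left hKc).coprime_dvd_left hd
  have hNCt : N ≤ Ct := sup_le_sup_left (map_subtype_le _) _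
  have hrel : ∃ m, N.relIndex Ct = p ^ m := by
    have hle : Ct = N ⊔ (P : Subgroup G) := by
      refine le_antisymm (sup_le (le_sup_of_le_left le_sup_left) fun c hc => ?_)
        (sup_le hNCt (hPC.trans le_sup_right))
      obtain ⟨k, hk, s, hs, hks⟩ := mem_sup_of_normal_left.1
        (hK'c.sup_eq_top.ge (mem_top (⟨c, hc⟩ : C)))
      rw [show c = (k : G) * (s : G) from (congrArg Subtype.val hks).symm]
      exact mul_mem (mem_sup_left (mem_sup_right ⟨k, hk, rfl⟩)) (mem_sup_right hs)
    rw [hle, sup_comm, relIndex_sup_right]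
    obtain ⟨k, hk⟩ := P.2.exists_card_eq
    obtain ⟨i, -, hi⟩ := (Nat.dvd_prime_pow hp.out).1 (hk ▸ relIndex_dvd_card N (P : Subgroup G))
    exact ⟨i, hi⟩
  refine ⟨3, ![⊥, N, Ct, ⊤], rfl, rfl, ?_, ?_, ?_⟩
  · refine Fin.monotone_iff_le_succ.2 fun i => ?_
    fin_cases i
    · exact bot_le
    · exact hNCt
    · exact le_top
  · intro i
    fin_cases i
    · exact inferInstanceAs (⊥ : Subgroup G).Normal
    · exact hNn
    · exact hCtn
    · exact inferInstanceAs (⊤ : Subgroup G).Normal
  · intro i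
    fin_cases i
    · refine Or.inr ?_
      show ((⊥ : Subgroup G).relIndex N).Coprime p
      rwa [relIndex_bot_left]
    · exact Or.inl hrel
    · refine Or.inr ?_
      show (Ct.relIndex ⊤).Coprime p
      rw [relIndex_top_right]
      exact ((hp.out.coprime_iff_not_dvd.2 P.not_dvd_index).coprime_dvd_right
        (index_dvd_of_le (hPC.trans le_sup_right))).symm

end Cfsg.Lib.SolvStruct
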