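/-
Groups with cyclic Sylow `p`-subgroup and trivial `p'`-core.
-/
import Cfsg.Agent.SolvStruct.CyclicSylow
import Cfsg.Agent.SolvStruct.CyclicProduct
import Cfsg.Agent.Components.GenFitting
import Cfsg.Agent.Components.Structure
import Cfsg.Agent.Components.Supplement
import Cfsg.Agent.Components.PComponents
import Cfsg.Agent.PLocal.StableClosureApps
import Mathlib.RingTheory.ZMod.UnitsCyclic

set_option linter.style.haveILetI false
set_option linter.unusedSectionVars false

universe u

namespace Cfsg.Lib.SolvStruct

open Subgroup Cfsg.Lib.Transfer Cfsg.Lib.Components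
open scoped Pointwise

variable {K : Type u} [Group K] [Finite K] {p : ℕ} [hp : Fact p.Prime]

/-- a Sylow subgroup with `C(P)` containing it centrally: in a core-free group `C(P) = P` -/
theorem centralizer_eq_of_normal_cyclic (hO : Cfsg.pPrimeCore p K = ⊥) (P : Sylow p K) (hP : IsCyclic (P : Subgroup K))
    (hn : (P : Subgroup K).Normal) : centralizer ((P : Subgroup K) : Set K) = (P : Subgroup K) := by
  set C := centralizer ((P : Subgroup K) : Set K)
  haveI : C.Normal := inferInstance
  have hPC : (P : Subgroup K) ≤ C := fun x hx y hy => cyclic_comm hP hy hx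
  let S : Sylow p C := P.subtype hPC
  have hS : normalizer (S : Set C) ≤ centralizer (S : Set C) := fun n _ y hy => Subtype.ext (n.2 (y : K) hy)
  set N := (MonoidHom.transferSylow S hS).ker
  have hc : N.IsComplement' (S : Subgroup C) := MonoidHom.ker_transferSylow_isComplement' S hS
  have hcop : (Nat.card N).Coprime p := by
    rw [← hc.index_eq_card]
    exact (hp.out.coprime_iff_not_dvd.2 S.not_dvd_index).symm
  have hN : N.map C.subtype = ⊥ := by
    refine eq_bot_iff.2 (le_trans ((Subgroup.map_mono (le_pPrimeCore hcop)).trans ?_) hO.le)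
    rw [Cfsg.Lib.Components.pPrimeCore_map_subtype_eq (Subgroup.Normal.isSubnormal (H := C) inferInstance)]
    exact inf_le_left
  rw [map_eq_bot_iff_of_injective _ C.subtype_injective] at hN
  refine le_antisymm (fun x hx => ?_) hPC
  obtain ⟨n, hn', s, hs, hns⟩ := mem_sup_of_normal_left.1 (hc.sup_eq_top.ge (mem_top (⟨x, hx⟩ : C)))
  rw [hN, mem_bot] at hn'
  rw [hn', one_mul] at hns
  have h1 : (s : K) = x := congrArg Subtype.val hns
  rw [← h1]
  exact hs

theorem quotient_cyclic_index (P : Sylow p K) (hP : IsCyclic (P : Subgroup K)) [hn : (P : Subgroup K).Normal]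
    (hC : centralizer ((P : Subgroup K) : Set K) = (P : Subgroup K)) :
    IsCyclic (K ⧸ (P : Subgroup K)) ∧ (P : Subgroup K).index ∣ p - 1 := by
  haveI := hP
  let f : K →* MulAut (P : Subgroup K) := MulAut.conjNormal
  have hker : f.ker = (P : Subgroup K) := by
    conv_rhs => rw [← hC]
    ext g
    rw [MonoidHom.mem_ker, mem_centralizer_iff]
    constructor
    · intro h x hx
      have h1 : g * x * g⁻¹ = x := by
        simpa [f] using congrArg (fun e : MulAut (P : Subgroup K) => ((e ⟨x, hx⟩ : (P : Subgroup K)) : K)) h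
      exact (mul_inv_eq_iff_eq_mul.1 h1).symm
    · intro h
      refine MulEquiv.ext fun x => Subtype.ext ?_
      simp [f, ← h x x.2]
  let e1 : K ⧸ (P : Subgroup K) ≃* f.range :=
    (QuotientGroup.quotientMulEquivOfEq hker.symm).trans (QuotientGroup.quotientKerEquivRange f)
  let e2 := IsCyclic.mulAutMulEquiv (P : Subgroup K)
  obtain ⟨k, hk⟩ := IsPGroup.iff_card.1 P.2
  let R := f.range.map e2.toMonoidHom
  let e3 : f.range ≃* R := f.range.equivMapOfInjective _ e2.injective
  have hidx : (P : Subgroup K).index = Nat.card R := by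
    rw [Subgroup.index_eq_card, Nat.card_congr (e1.trans e3).toEquiv]
  have hcard : Nat.card (ZMod (Nat.card (P : Subgroup K)))ˣ = (p ^ k).totient := by
    rw [hk, Nat.card_eq_fintype_card, ZMod.card_units_eq_totient]
  have hcop : (P : Subgroup K).index.Coprime p := (hp.out.coprime_iff_not_dvd.2 P.not_dvd_index).symm
  have hdvd : (P : Subgroup K).index ∣ p - 1 := by
    have h1 : (P : Subgroup K).index ∣ (p ^ k).totient := hidx ▸ hcard ▸ card_subgroup_dvd_card R
    rcases Nat.eq_zero_or_pos k with rfl | hk0
    · rw [pow_zero, Nat.totient_one, Nat.dvd_one] at h1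
      rw [h1]
      exact one_dvd _
    · rw [Nat.totient_prime_pow hp.out hk0] at h1
      exact (hcop.pow_right _).dvd_of_dvd_mul_left h1
  refine ⟨?_, hdvd⟩
  by_cases h2 : p = 2
  · subst h2
    rw [Nat.dvd_one, Subgroup.index_eq_card] at hdvd
    haveI : Subsingleton (K ⧸ (P : Subgroup K)) := (Nat.card_eq_one_iff_unique.1 hdvd).1
    infer_instance
  · haveI : IsCyclic (ZMod (Nat.card (P : Subgroup K)))ˣ := by
      rw [hk]
      exact ZMod.isCyclic_units_of_prime_pow p hp.out h2 k
    haveI : IsCyclic R := Subgroup.isCyclic R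
    exact isCyclic_of_surjective (e1.trans e3).symm.toMonoidHom (e1.trans e3).symm.surjective

/-- a perfect group with a normal `p`-complement has order prime to `p` -/
theorem not_dvd_of_perfect {E : Subgroup K} (hE : ⁅E, E⁆ = E) (h : Cfsg.HasNormalPComplement p E) :
    ¬ p ∣ Nat.card E := by
  obtain ⟨P, N, hN, hc⟩ := h
  haveI := hN
  intro hd
  have hq : Group.IsSolvable (E ⧸ N) := by
    have hcard : Nat.card (E ⧸ N) = Nat.card (P : Subgroup E) := by
      rw [← Subgroup.index_eq_card, hc.symm.index_eq_card]
    obtain ⟨k, hk⟩ := IsPGroup.iff_card.1 P.2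
    haveI := (IsPGroup.of_card (hcard.trans hk)).isNilpotent
    infer_instance
  haveI : Nontrivial (E ⧸ N) := by
    rw [← Finite.one_lt_card_iff_nontrivial, ← Subgroup.index_eq_card, hc.symm.index_eq_card]
    exact hp.out.one_lt.trans_le (Nat.le_of_dvd Nat.card_pos (P.dvd_card_of_dvd_card hd))
  have htop : commutator (E ⧸ N) = ⊤ := by
    have h1 : commutator E = ⊤ := by
      refine map_injective E.subtype_injective ?_
      rw [commutator_def, map_commutator, ← MonoidHom.range_eq_map, range_subtype, hE]
    rw [commutator_def, ← MonoidHom.range_eq_top.2 (QuotientGroup.mk'_surjective N), MonoidHom.range_eq_map,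
      ← map_commutator, ← commutator_def, h1]
  exact absurd htop (Group.IsSolvable.commutator_lt_top_of_nontrivial (E ⧸ N)).ne

theorem cyclic_sylow_coreFree (hpK : p ∣ Nat.card K) (hO : Cfsg.pPrimeCore p K = ⊥) (P : Sylow p K)
    (hP : IsCyclic (P : Subgroup K)) :
    ((P : Subgroup K).Normal ∧ Subgroup.centralizer ((P : Subgroup K) : Set K) = (P : Subgroup K) ∧
      (∀ (_ : (P : Subgroup K).Normal), IsCyclic (K ⧸ (P : Subgroup K))) ∧ (P : Subgroup K).index ∣ p - 1) ∨
    (IsSimpleGroup ↥(Cfsg.generalizedFittingSubgroup K) ∧ ¬ IsMulCommutative ↥(Cfsg.generalizedFittingSubgroup K) ∧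
      ¬ p ∣ (Cfsg.generalizedFittingSubgroup K).index) := by
  set Q := Cfsg.pCore p K with hQ
  haveI : Q.Normal := Cfsg.Lib.Components.pCore_normal' p
  have hQp : IsPGroup p Q := isPGroup_pCore p
  by_cases hQ1 : Q = ⊥
  swap
  · left
    have hPeq : (P : Subgroup K) = Q := by
      have hQP : Q ≤ (P : Subgroup K) := by
        obtain ⟨S, hS⟩ := hQp.exists_le_sylow
        obtain ⟨g, rfl⟩ := MulAction.exists_smul_eq K S P
        intro x hx
        rw [Sylow.coe_subgroup_smul, mem_smul_pointwise_iff_exists]
        exact ⟨g⁻¹ * x * g, hS ((inferInstance : Q.Normal).conj_mem' x hx g), by simp [mul_assoc]⟩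
      by_contra hne
      have h1 : p ∣ Nat.card Q := by
        obtain ⟨k, hk⟩ := IsPGroup.iff_card.1 hQp
        rw [hk]
        refine dvd_pow_self p fun h0 => hQ1 (eq_bot_of_card_eq _ ?_)
        rw [hk, h0, pow_zero]
      have h2 : p ∣ Q.index := by
        rw [← relIndex_mul_index hQP]
        obtain ⟨k, hk⟩ := IsPGroup.iff_card.1 P.2
        obtain ⟨i, -, hi⟩ := (Nat.dvd_prime_pow hp.out).1 (hk ▸ Q.relIndex_dvd_card (P : Subgroup K))
        refine dvd_mul_of_dvd_left (hi ▸ dvd_pow_self p fun h0 => hne ?_) _
        refine le_antisymm (relIndex_eq_one.1 ?_) hQP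
        rw [hi, h0, pow_zero]
      have hsol := isPSolvable_of_cyclic P hP Q h1 h2
      have hCQ := Cfsg.Lib.StableClosure.centralizer_pCore_le_of_pSolvable hsol hO
      exact hne (le_antisymm (fun x hx => hCQ fun y hy => cyclic_comm hP (hQP hy) hx) hQP)
    have hn : (P : Subgroup K).Normal := hPeq ▸ inferInstance
    have hC := centralizer_eq_of_normal_cyclic hO P hP hn
    exact ⟨hn, hC, fun _ => (quotient_cyclic_index P hP hC).1, (quotient_cyclic_index P hP hC).2⟩
  · right
    have hF : Cfsg.fittingSubgroup K = ⊥ := by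
      rw [fitting_eq_iSup_pCore, iSup_eq_bot]
      rintro ⟨q, hq⟩
      haveI := Fact.mk hq
      by_cases h : q = p
      · subst h; exact hQ1
      · refine eq_bot_iff.2 (le_trans ?_ hO.le)
        haveI : (Cfsg.pCore q K).Normal := Cfsg.Lib.Components.pCore_normal' q
        refine le_pPrimeCore ?_
        obtain ⟨k, hk⟩ := IsPGroup.iff_card.1 (isPGroup_pCore (G := K) q)
        rw [hk]
        exact Nat.Coprime.pow_left _ ((Nat.coprime_primes hq hp.out).2 h)
    have hgen : Cfsg.generalizedFittingSubgroup K = Cfsg.layer K := by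
      show Cfsg.layer K ⊔ Cfsg.fittingSubgroup K = _
      rw [hF, sup_bot_eq]
    obtain ⟨L, hL⟩ : ∃ L : Subgroup K, Cfsg.IsComponent L := by
      by_contra! hno
      have h0 : Cfsg.generalizedFittingSubgroup K = ⊥ := by
        rw [hgen]
        exact eq_bot_iff.2 (sSup_le fun L hL => absurd hL (hno L))
      have := centralizer_genFitting_le (G := K)
      rw [h0, le_bot_iff] at this
      have htop : centralizer ((⊥ : Subgroup K) : Set K) = ⊤ := by
        rw [eq_top_iff]
        intro x _ y hy
        rw [SetLike.mem_coe, mem_bot] at hy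
        simp [hy]
      rw [htop] at this
      have hc := congrArg (fun H : Subgroup K => Nat.card H) this
      simp only [card_top, card_bot] at hc
      rw [hc] at hpK
      exact hp.out.not_dvd_one hpK
    have hpdvd : ∀ M : Subgroup K, Cfsg.IsComponent M → p ∣ Nat.card M := fun M hM => by
      by_contra h
      refine comp_ne_bot hM (eq_bot_iff.2 (le_trans ?_ hO.le))
      exact le_pPrimeCore_of_subnormal hM.1 (hp.out.coprime_iff_not_dvd.2 h).symm
    have hsimple : ∀ M : Subgroup K, Cfsg.IsComponent M → IsSimpleGroup M := by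
      intro M hM
      have hz : (center M).map M.subtype = ⊥ := by
        refine eq_bot_iff.2 (le_trans (le_fitting_of_subnormal
          (isSubnormal_map_subtype hM.1 (Subgroup.Normal.isSubnormal inferInstance)) ?_) hF.le)
        exact isNilpotent_map (letI : CommGroup (center M) := { (inferInstance : Group (center M)) with mul_comm := fun a b => Subtype.ext (mem_center_iff.1 b.2 a) }; CommGroup.isNilpotent) _
      rw [map_eq_bot_iff_of_injective _ M.subtype_injective] at hz
      haveI := hM.2.2
      exact ((QuotientGroup.quotientMulEquivOfEq hz).trans QuotientGroup.quotientBot).symm.isSimpleGroup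
    have huniq : ∀ M : Subgroup K, Cfsg.IsComponent M → M = L := by
      intro M hM
      by_contra hne
      have hcomm := comp_commute hM hL hne
      obtain ⟨⟨a, ha⟩, hao⟩ := exists_prime_orderOf_dvd_card' (G := M) p (hpdvd M hM)
      obtain ⟨⟨b, hb⟩, hbo⟩ := exists_prime_orderOf_dvd_card' (G := L) p (hpdvd L hL)
      rw [← Subgroup.orderOf_coe] at hao hbo
      simp only at hao hbo
      have hab : Commute a b := (commute_of_commutator_eq_bot hcomm ha hb)
      -- both lie in a conjugate of `P`
      set A := zpowers a ⊔ zpowers b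
      have hAp : IsPGroup p A := by
        refine IsPGroup.to_sup_of_normal_right' (IsPGroup.of_card (n := 1) ?_) (IsPGroup.of_card (n := 1) ?_) ?_
        · rw [Nat.card_zpowers, hao, pow_one]
        · rw [Nat.card_zpowers, hbo, pow_one]
        · refine (zpowers_le.2 ?_)
          rw [Subgroup.mem_normalizer_iff_map_conj_eq, MonoidHom.map_zpowers]
          show zpowers (a * b * a⁻¹) = _
          rw [hab.eq, mul_inv_cancel_right]
      obtain ⟨S, hS⟩ := hAp.exists_le_sylow
      haveI := sylow_cyclic_conj P S hP
      have haS : a ∈ (S : Subgroup K) := hS (mem_sup_left (mem_zpowers a))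
      have hbS : b ∈ (S : Subgroup K) := hS (mem_sup_right (mem_zpowers b))
      have heq : zpowers a = zpowers b :=
        Cfsg.Lib.SolvStruct.CyclicProduct.eq_of_card_eq_of_isCyclic (A := (S : Subgroup K)) (zpowers_le.2 haS) (zpowers_le.2 hbS)
          (by rw [Nat.card_zpowers, Nat.card_zpowers, hao, hbo])
      have haL : a ∈ L := zpowers_le.2 hb (heq ▸ mem_zpowers a)
      -- `a` is central in the simple group `L`
      haveI := hsimple L hL
      have hac : (⟨a, haL⟩ : L) ∈ center L :=
        mem_center_iff.2 fun l => Subtype.ext (commute_of_commutator_eq_bot hcomm ha l.2).symm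
      rcases (inferInstance : (center L).Normal).eq_bot_or_eq_top with hz | hz
      · rw [hz, mem_bot] at hac
        have : a = 1 := congrArg Subtype.val hac
        rw [this, orderOf_one] at hao
        exact hp.out.ne_one hao.symm
      · exact comp_not_isMulCommutative hL ⟨⟨fun x y => (mem_center_iff.1 (hz ▸ mem_top y) x)⟩⟩
    have hlay : Cfsg.layer K = L :=
      le_antisymm (sSup_le fun M hM => (huniq M hM).le) (comp_le_layer hL)
    rw [hgen, hlay]
    refine ⟨hsimple L hL, comp_not_isMulCommutative hL, fun hd => ?_⟩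
    haveI : L.Normal := hlay ▸ (inferInstance : (Cfsg.layer K).Normal)
    exact not_dvd_of_perfect (comp_perfect hL) (hasNormalPComplement_normal_of_cyclic P hP L hd) (hpdvd L hL)

end Cfsg.Lib.SolvStruct
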