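import Cfsg.Agent.OddLocal.RankTwo
import Cfsg.Agent.PGroups.Basic

/-!
`p`-groups without normal elementary abelian subgroups of order `p ^ 3`.
-/

set_option linter.style.haveILetI false

namespace Cfsg.Lib.SolvStruct

open Subgroup

variable {P : Type*} [Group P] [Finite P] {p : ℕ} [Fact p.Prime]

theorem exists_normal_card_pow_le (hP : IsPGroup p P) (A : Subgroup P) [A.Normal] :
    ∀ k : ℕ, p ^ k ≤ Nat.card A → ∃ B : Subgroup P, B.Normal ∧ B ≤ A ∧ Nat.card B = p ^ k := by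
  intro k
  induction k with
  | zero => exact fun _ => ⟨⊥, inferInstance, bot_le, by simp⟩
  | succ k ih =>
    intro h
    have hlt : p ^ k < Nat.card A :=
      lt_of_lt_of_le (Nat.pow_lt_pow_right (Fact.out : p.Prime).one_lt k.lt_succ_self) h
    obtain ⟨B, hBn, hBA, hB⟩ := ih hlt.le
    haveI := hBn
    have hne : B < A := lt_of_le_of_ne hBA fun he => hlt.ne (by rw [← hB, he])
    obtain ⟨K, hKn, hBK, hKA, hK⟩ := Cfsg.Lib.PGroups.exists_normal_relIndex_prime hP hne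
    refine ⟨K, hKn, hKA, ?_⟩
    have h1 := relIndex_mul_relIndex ⊥ B K bot_le hBK
    rw [relIndex_bot_left, relIndex_bot_left, hB, hK] at h1
    rw [← h1, pow_succ]

theorem pRank_le_two_of_no_normal_cube (hp : p ≠ 2) (hP : IsPGroup p P)
    (h : ∀ A : Subgroup P, A.Normal → IsMulCommutative A → (∀ a ∈ A, a ^ p = 1) → Nat.card A ≠ p ^ 3) :
    Cfsg.PRankLE p 2 P := by
  by_contra hr
  obtain ⟨A, hAn, -, hA, hself⟩ := Cfsg.Lib.OddP.exists_normal_elementary_ge hP hp (⊥ : Subgroup P)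
    ⟨⟨⟨fun a b => Subsingleton.elim _ _⟩⟩,
      fun a ha => by rw [mem_bot.mp ha, one_pow]⟩
  haveI := hAn
  obtain ⟨B, hBn, hBA, hB⟩ := exists_normal_card_pow_le hP A 3
    (Cfsg.Lib.OddP.cube_le_card hP hr hA hself)
  refine h B hBn ?_ (fun b hb => hA.2 b (hBA hb)) hB
  exact ⟨⟨fun a b => Subtype.ext (congrArg (Subtype.val : A → P)
    (hA.1.is_comm.comm (⟨a, hBA a.2⟩ : A) ⟨b, hBA b.2⟩) :)⟩⟩

end Cfsg.Lib.SolvStruct
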