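import Cfsg.Agent.Components.ZJ.FullCenter

/-!
The Glauberman-Thompson normal `p`-complement theorem for a Sylow `p`-subgroup.
The induction follows the one for strongly closed subgroups in `Components/ZJ/PCompl.lean`.
-/

set_option linter.style.haveILetI false
set_option linter.unusedSectionVars false

namespace Cfsg.Lib.SolvStruct

open Subgroup Cfsg.Lib.ZJ

universe u

variable {p : ℕ} [Fact p.Prime]

/-- short name for `Z(J(D))` -/
abbrev zjOf {G : Type u} [Group G] (p : ℕ) (D : Subgroup G) : Subgroup G :=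
  Cfsg.centerThompsonOf p D

theorem zjOf_le {G : Type u} [Group G] (D : Subgroup G) : zjOf p D ≤ D :=
  inf_le_left.trans (Cfsg.Lib.Thompson.thompsonSubgroupOf_le D)

theorem zjOf_map {G H : Type u} [Group G] [Group H] [Finite G] [Finite H] {f : G →* H} {D : Subgroup G}
    (hf : Set.InjOn f D) : (zjOf p D).map f = zjOf p (D.map f) :=
  Cfsg.Lib.ZJ.centerThompsonOf_map_injOn hf

theorem zjOf_ne_bot {G : Type u} [Group G] [Finite G] {D : Subgroup G} (hD : IsPGroup p D)
    (hne : D ≠ ⊥) : zjOf p D ≠ ⊥ :=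
  Cfsg.Lib.Thompson.center_ne_bot (hD.to_le (Cfsg.Lib.Thompson.thompsonSubgroupOf_le D))
    (Cfsg.Lib.Thompson.thompsonSubgroupOf_ne_bot hD hne)

theorem normalizer_le_normalizer_zjOf {G : Type u} [Group G] [Finite G] (E : Subgroup G) :
    normalizer (E : Set G) ≤ normalizer (zjOf p E : Set G) := fun g hg => by
  rw [← Cfsg.Lib.Transfer.map_conj_eq_self_iff, zjOf_map (MulAut.conj g).injective.injOn,
    Cfsg.Lib.Transfer.map_conj_eq_self_iff.mpr hg]

/-- **Glauberman-Thompson**: `N(Z(J(P)))` decides normal `p`-complements for odd `p`. -/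
theorem glauberman_thompson_aux (hp : p ≠ 2) (n : ℕ) :
    ∀ (G : Type u) [Group G] [Finite G], Nat.card G = n → ∀ (P : Sylow p G),
      Cfsg.HasNormalPComplement p ↥(normalizer (zjOf p (P : Subgroup G) : Set G)) →
      Cfsg.HasNormalPComplement p G := by
  induction n using Nat.strong_induction_on with
  | _ n ih =>
  intro G _ _ hG P hP
  by_contra hno
  -- induction inside a proper subgroup
  have ihsub : ∀ (H : Subgroup G), H ≠ ⊤ → ∀ R : Subgroup G, R ≤ H → IsPGroup p R → ¬ p ∣ R.relIndex H →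
      Cfsg.HasNormalPComplement p ↥(normalizer (zjOf p R : Set G)) → Cfsg.HasNormalPComplement p H := by
    intro H hH R hRH hR hnd hEN
    let R' : Sylow p H := (hR.comap_subtype (K := H)).toSylow hnd
    refine ih (Nat.card H) (hG ▸ lt_of_le_of_ne (card_le_card_group H)
      (fun h => hH (H.eq_top_of_card_eq h))) H rfl R' ?_
    have h1 : ∀ x ∈ normalizer (zjOf p (R.subgroupOf H) : Set H), (x : G) ∈ normalizer (zjOf p R : Set G) := by
      intro x hx
      rw [show zjOf p R = (zjOf p (R.subgroupOf H)).map H.subtype by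
        rw [zjOf_map H.subtype_injective.injOn, map_subgroupOf_eq_of_le hRH]]
      exact le_normalizer_map H.subtype (mem_map_of_mem H.subtype hx)
    exact Cfsg.Lib.Transfer.hasNormalPComplement_of_injective
      (MonoidHom.mk' (fun x => (⟨(x : H), h1 x x.2⟩ : normalizer (zjOf p R : Set G))) fun a b => rfl)
      (fun a b hab => Subtype.ext (Subtype.ext (congrArg Subtype.val hab :))) hEN
  have htop : ∀ K : Subgroup G, K = ⊤ → Cfsg.HasNormalPComplement p K → False := fun K hK h =>
    hno (by subst hK; exact (Cfsg.Lib.Transfer.hasNormalPComplement_congr topEquiv).mp h)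
  obtain ⟨U₁, hU₁, hU₁ne, hU₁no⟩ : ∃ U : Subgroup G, IsPGroup p U ∧ U ≠ ⊥ ∧
      ¬ Cfsg.HasNormalPComplement p ↥(normalizer (U : Set G)) := by
    by_contra h
    push Not at h
    exact hno (Cfsg.Lib.Transfer.hasNormalPComplement_of_normalizers h)
  let μ : Subgroup G → ℕ := fun U =>
    Cfsg.Lib.Thompson.pp p (normalizer (U : Set G)) * (Nat.card G + 1) + Nat.card U
  obtain ⟨U, ⟨hU, hUne, hUno⟩, hUmax⟩ := Set.exists_max_image
    {U : Subgroup G | IsPGroup p U ∧ U ≠ ⊥ ∧
      ¬ Cfsg.HasNormalPComplement p ↥(normalizer (U : Set G))} μ (Set.toFinite _)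
    ⟨U₁, hU₁, hU₁ne, hU₁no⟩
  have hbig : ∀ Q : Subgroup G, IsPGroup p Q → Q ≠ ⊥ →
      (Cfsg.Lib.Thompson.pp p (normalizer (U : Set G)) < Cfsg.Lib.Thompson.pp p (normalizer (Q : Set G)) ∨
        (Cfsg.Lib.Thompson.pp p (normalizer (U : Set G)) ≤ Cfsg.Lib.Thompson.pp p (normalizer (Q : Set G)) ∧
          Nat.card U < Nat.card Q)) →
      Cfsg.HasNormalPComplement p ↥(normalizer (Q : Set G)) := by
    intro Q hQ hQne h
    by_contra hQno
    have hle : μ Q ≤ μ U := hUmax Q ⟨hQ, hQne, hQno⟩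
    have hUG : Nat.card U ≤ Nat.card G := card_le_card_group U
    simp only [μ] at hle
    rcases h with h | ⟨h, h'⟩
    · have := Nat.mul_le_mul_right (Nat.card G + 1) h
      rw [Nat.succ_mul] at this
      omega
    · have := Nat.mul_le_mul_right (Nat.card G + 1) h
      omega
  have hUnorm : normalizer (U : Set G) = ⊤ := by
    by_contra hN
    set N := normalizer (U : Set G) with hNdef
    obtain ⟨S₀⟩ : Nonempty (Sylow p N) := inferInstance
    set S := (S₀ : Subgroup N).map N.subtype with hSdef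
    have hS : IsPGroup p S := S₀.2.map _
    obtain ⟨P', hP'⟩ := hS.exists_le_sylow
    have hUS : U ≤ S := by
      haveI : (U.subgroupOf N).Normal := normal_in_normalizer
      intro x hx
      exact ⟨⟨x, le_normalizer hx⟩,
        Cfsg.Lib.Thompson.le_sylow_of_normal (U := U.subgroupOf N) hU.comap_subtype S₀ hx, rfl⟩
    have hSN : S ≤ N := map_subtype_le _
    have hnd : ¬ p ∣ S.relIndex N := by
      rw [hSdef, relIndex, subgroupOf, comap_map_eq_self_of_injective N.subtype_injective]
      exact S₀.not_dvd_index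
    obtain ⟨g₀, hg₀⟩ := MulAction.exists_smul_eq G P P'
    have hP'e : (P' : Subgroup G) = (P : Subgroup G).map (MulAut.conj g₀).toMonoidHom := by
      rw [← hg₀, Cfsg.Lib.Transfer.sylow_smul_coe]
    have hP'c : Cfsg.HasNormalPComplement p ↥(normalizer (zjOf p (P' : Subgroup G) : Set G)) := by
      have h1 : ∀ x ∈ normalizer (zjOf p (P' : Subgroup G) : Set G),
          g₀⁻¹ * x * g₀ ∈ normalizer (zjOf p (P : Subgroup G) : Set G) := by
        intro x hx
        have he : zjOf p (P : Subgroup G) = (zjOf p (P' : Subgroup G)).map (MulAut.conj g₀⁻¹).toMonoidHom := by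
          rw [zjOf_map (MulAut.conj g₀⁻¹).injective.injOn, hP'e, map_map,
            show (MulAut.conj g₀⁻¹).toMonoidHom.comp (MulAut.conj g₀).toMonoidHom = MonoidHom.id G from
              MonoidHom.ext fun z => by simp [mul_assoc], Subgroup.map_id]
        rw [he]
        exact le_normalizer_map _ ⟨x, hx, by simp⟩
      exact Cfsg.Lib.Transfer.hasNormalPComplement_of_injective
        (MonoidHom.mk' (fun x => (⟨g₀⁻¹ * (x : G) * g₀, h1 x x.2⟩ : normalizer (zjOf p (P : Subgroup G) : Set G)))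
          fun a b => Subtype.ext (by show g₀⁻¹ * ((a : G) * b) * g₀ = g₀⁻¹ * a * g₀ * (g₀⁻¹ * b * g₀); group))
        (fun a b hab => Subtype.ext (mul_left_cancel (mul_right_cancel (congrArg Subtype.val hab :)))) hP
    refine hUno (ihsub N hN S hSN hS hnd ?_)
    rcases eq_or_lt_of_le hP' with h | h
    · rwa [h]
    set S' := (P' : Subgroup G) ⊓ normalizer (S : Set G) with hS'
    have hlt : Nat.card S < Nat.card S' := lt_of_not_ge fun hle' =>
      (Cfsg.Lib.Transfer.lt_inf_normalizer_of_lt P' h).ne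
        (eq_of_le_of_card_ge (Cfsg.Lib.Transfer.lt_inf_normalizer_of_lt P' h).le hle')
    have hppS : Cfsg.Lib.Thompson.pp p N = Nat.card S := by
      rw [hSdef, card_subtype, S₀.card_eq_multiplicity]; rfl
    have hSne : S ≠ ⊥ := fun h0 => hUne (le_bot_iff.mp (h0 ▸ hUS))
    exact hbig _ (hS.to_le (zjOf_le _)) (zjOf_ne_bot hS hSne) (Or.inl (by
      rw [hppS]
      exact hlt.trans_le (Cfsg.Lib.Thompson.card_le_pp (P'.2.to_le inf_le_left)
        (inf_le_right.trans (normalizer_le_normalizer_zjOf _)))))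
  haveI hUn : U.Normal := normalizer_eq_top_iff.mp hUnorm
  have hUP : U ≤ (P : Subgroup G) := Cfsg.Lib.Thompson.le_sylow_of_normal hU P
  have hbig' : ∀ Q : Subgroup G, IsPGroup p Q → U < Q →
      (P : Subgroup G) ≤ normalizer (Q : Set G) →
      Cfsg.HasNormalPComplement p ↥(normalizer (Q : Set G)) := fun Q hQ hUQ hPQ =>
    hbig Q hQ (ne_bot_of_gt hUQ) (Or.inr ⟨by
      refine le_trans (Cfsg.Lib.Thompson.pp_le _) (le_trans (le_of_eq P.card_eq_multiplicity.symm)
        (Cfsg.Lib.Thompson.card_le_pp P.2 hPQ)),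
      lt_of_not_ge fun hle => hUQ.ne (eq_of_le_of_card_ge hUQ.le hle)⟩)
  have hmax : ∀ Q : Subgroup G, Q.Normal → IsPGroup p Q → U ≤ Q → Q = U := by
    intro Q hQn hQ hUQ
    by_contra hne
    have h := hbig' Q hQ (lt_of_le_of_ne hUQ (Ne.symm hne)) (by rw [normalizer_eq_top]; exact le_top)
    exact htop _ (normalizer_eq_top Q) h
  have hUPne : U ≠ (P : Subgroup G) := fun h => by
    haveI : (P : Subgroup G).Normal := h ▸ hUn
    exact htop _ (top_le_iff.mp ((normalizer_eq_top (P : Subgroup G)).ge.trans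
      (normalizer_le_normalizer_zjOf _))) hP
  -- the quotient by `U`
  set f := QuotientGroup.mk' U with hfdef
  have hfs : Function.Surjective f := QuotientGroup.mk'_surjective U
  let P' : Sylow p (G ⧸ U) := P.mapSurjective hfs
  have hP'e : (P' : Subgroup (G ⧸ U)) = (P : Subgroup G).map f := P.coe_mapSurjective hfs
  have hcomapP : ((P : Subgroup G).map f).comap f = P :=
    comap_map_eq_self (by rwa [hfdef, QuotientGroup.ker_mk'])
  have hP'ne : (P' : Subgroup (G ⧸ U)) ≠ ⊥ := fun h => hUPne (by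
    rw [← hcomapP, ← hP'e, h, MonoidHom.comap_bot, hfdef, QuotientGroup.ker_mk'])
  have hquot : ∀ Q : Subgroup (G ⧸ U), Q ≠ ⊥ → Q ≤ P' →
      (P' : Subgroup (G ⧸ U)) ≤ normalizer (Q : Set (G ⧸ U)) →
      Cfsg.HasNormalPComplement p ↥(normalizer (Q : Set (G ⧸ U))) := by
    intro Q hQne hQP hPQ
    have hX1 : Q.comap f ≤ (P : Subgroup G) := by
      rw [← hcomapP, ← hP'e]; exact comap_mono hQP
    have hUX : U < Q.comap f := by
      refine lt_of_le_of_ne ?_ fun h => hQne ?_
      · exact (QuotientGroup.ker_mk' U).ge.trans (ker_le_comap f Q)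
      · rw [← map_comap_eq_self_of_surjective hfs Q, ← h, hfdef, QuotientGroup.map_mk'_self]
    have hnX : normalizer ((Q.comap f : Subgroup G) : Set G) =
        (normalizer (Q : Set (G ⧸ U))).comap f :=
      (comap_normalizer_eq_of_surjective Q hfs).symm
    have h := hbig' _ (P.2.to_le hX1) hUX (by
      rw [hnX, ← map_le_iff_le_comap, ← hP'e]; exact hPQ)
    refine Cfsg.Lib.Transfer.hasNormalPComplement_of_surjective
      (MonoidHom.mk' (fun x => (⟨f x.1, mem_comap.mp (hnX ▸ x.2)⟩ : normalizer (Q : Set (G ⧸ U))))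
        fun a b => Subtype.ext (map_mul f _ _)) ?_ h
    · rintro ⟨y, hy⟩
      obtain ⟨x, rfl⟩ := hfs y
      refine ⟨⟨x, ?_⟩, rfl⟩
      rw [hnX]; exact hy
  have hlt : Nat.card (G ⧸ U) < n := by
    rw [← hG, card_eq_card_quotient_mul_card_subgroup U]
    exact lt_mul_of_one_lt_right Nat.card_pos ((one_lt_card_iff_ne_bot _).mpr hUne)
  have hcompl := Cfsg.Lib.Thompson.hasNormalPComplement_of_thompson hp _ (G ⧸ U) rfl P'
    ⟨hquot _ (Cfsg.Lib.Thompson.thompsonSubgroupOf_ne_bot P'.2 hP'ne) (Cfsg.Lib.Thompson.thompsonSubgroupOf_le _)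
        (le_normalizer.trans (Cfsg.Lib.Thompson.normalizer_le_normalizer_thompson _)),
      Cfsg.Lib.Thompson.hasNormalPComplement_of_le (Cfsg.Lib.Thompson.centralizer_le_normalizer _)
        (hquot _ (Cfsg.Lib.Thompson.center_ne_bot P'.2 hP'ne) inf_le_left
          (le_normalizer.trans (Cfsg.Lib.Thompson.normalizer_le_normalizer_center _)))⟩
  obtain ⟨K₀, hK₀n, hK₀c, k, hK₀k⟩ := Cfsg.Lib.Transfer.hasNormalPComplement_iff.mp hcompl
  haveI := hK₀n
  -- no nontrivial normal `p'`-subgroup
  have hO : ∀ M : Subgroup G, M.Normal → (Nat.card M).Coprime p → M = ⊥ := by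
    intro M hMn hMc
    by_contra hMne
    refine hno ?_
    set g := QuotientGroup.mk' M with hgdef
    have hgs : Function.Surjective g := QuotientGroup.mk'_surjective M
    let PM : Sylow p (G ⧸ M) := P.mapSurjective hgs
    have hPMe : (PM : Subgroup (G ⧸ M)) = (P : Subgroup G).map g := P.coe_mapSurjective hgs
    have hinj : Set.InjOn g (P : Subgroup G) := Cfsg.Lib.ZJ.injOn_mk hMc P.2
    have hN : ∀ Q : Subgroup G, Q ≤ (P : Subgroup G) →
        normalizer (Q.map g : Set (G ⧸ M)) ≤ (normalizer (Q : Set G)).map g := by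
      intro Q hQP x hx
      obtain ⟨x, rfl⟩ := hgs x
      obtain ⟨j, hj⟩ := IsPGroup.iff_card.mp (P.2.to_le hQP)
      have hle : Cfsg.Lib.Coprime.conjMap x Q ≤ M ⊔ Q := by
        rintro _ ⟨y, hy, rfl⟩
        have : g (x * y * x⁻¹) ∈ Q.map g := by
          rw [map_mul, map_mul, map_inv]
          exact (mem_normalizer_iff.mp hx _).mp (mem_map_of_mem g hy)
        rw [← mem_comap, comap_map_eq, hgdef, QuotientGroup.ker_mk', sup_comm] at this
        exact this
      obtain ⟨m, hm, hmQ⟩ := Cfsg.Lib.Coprime.exists_conj_eq_of_coprime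
        (le_normalizer_of_normal) (by rw [hj]; exact hMc.pow_right j)
        (Or.inr (by haveI := (P.2.to_le hQP).isNilpotent; infer_instance))
        hle (Cfsg.Lib.Coprime.card_conjMap x Q)
      refine ⟨m⁻¹ * x, Cfsg.Lib.Coprime.conjMap_eq_self_iff.mp ?_, ?_⟩
      · rw [← Cfsg.Lib.Coprime.conjMap_mul, hmQ]
        exact Cfsg.Lib.Coprime.conjMap_inv_conjMap _ _
      · rw [map_mul, map_inv, hgdef, QuotientGroup.mk'_apply,
          (QuotientGroup.eq_one_iff m).mpr hm, inv_one, one_mul]
    have hlt' : Nat.card (G ⧸ M) < n := by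
      rw [← hG, card_eq_card_quotient_mul_card_subgroup M]
      exact lt_mul_of_one_lt_right Nat.card_pos ((one_lt_card_iff_ne_bot _).mpr hMne)
    obtain ⟨L, hLn, hLc, l, hLl⟩ := Cfsg.Lib.Transfer.hasNormalPComplement_iff.mp
      (ih _ hlt' (G ⧸ M) rfl PM (by
        refine Cfsg.Lib.Thompson.hasNormalPComplement_of_le ?_
          (Cfsg.Lib.Transfer.hasNormalPComplement_of_surjective
            (g.subgroupMap (normalizer (zjOf p (P : Subgroup G) : Set G))) (g.subgroupMap_surjective _) hP)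
        rw [hPMe, ← zjOf_map hinj]
        exact hN _ (zjOf_le _)))
    refine Cfsg.Lib.Transfer.hasNormalPComplement_iff.mpr
      ⟨L.comap g, hLn.comap g, ?_, l, ?_⟩
    · rw [hgdef, Cfsg.Lib.Coprime.card_comap_mk']
      exact Nat.Coprime.mul_left hMc hLc
    · rw [index_comap_of_surjective _ hgs, hLl]
  -- `U` is self-centralising
  have hCU : centralizer (U : Set G) ≤ U := by
    set C := centralizer (U : Set G) with hCdef
    set D := C ⊓ K₀.comap f with hDdef
    have hDp : ∀ x ∈ D, (orderOf x).Coprime p → x = 1 := by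
      obtain ⟨N, hNn, hNc, j, hNj⟩ := Cfsg.Lib.Transfer.hasNormalPComplement_iff.mp
        (Cfsg.Lib.Transfer.hasNormalPComplement_of_frobenius (G := D) (p := p) fun Q hQ y _ _ => by
          intro q hq
          have hqU : (q : G) ∈ U := by
            have hqK : f (q : G) ∈ K₀ := q.2.2
            obtain ⟨i, hi⟩ := IsPGroup.iff_orderOf.mp hQ ⟨q, hq⟩
            rw [Subgroup.orderOf_mk] at hi
            have h1 : orderOf (f (q : G)) ∣ p ^ i := by
              rw [← hi, ← Subgroup.orderOf_coe]; exact orderOf_map_dvd f _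
            have h2 : orderOf (f (q : G)) ∣ Nat.card K₀ := by
              rw [← Subgroup.orderOf_mk _ hqK]; exact orderOf_dvd_natCard _
            have h3 := orderOf_eq_one_iff.mp
              (Nat.eq_one_of_dvd_coprimes (hK₀c.pow_right i) h2 h1)
            rwa [hfdef, QuotientGroup.mk'_apply, QuotientGroup.eq_one_iff] at h3
          exact Subtype.ext (mem_centralizer_iff.mp y.2.1 _ hqU))
      haveI := hNn
      haveI : D.Normal := inferInstance
      have hNn' : (N.map D.subtype).Normal := ⟨fun x hx g => by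
        obtain ⟨y, hy, rfl⟩ := mem_map.mp hx
        refine mem_map.mpr ⟨MulAut.conjNormal g y, ?_, MulAut.conjNormal_apply g y⟩
        rw [Cfsg.Lib.Transfer.mem_iff_coprime_orderOf hNc hNj, MulEquiv.orderOf_eq]
        exact (Cfsg.Lib.Transfer.mem_iff_coprime_orderOf hNc hNj y).mp hy⟩
      have hNbot := hO _ hNn' (by rwa [card_subtype])
      intro x hx hxc
      have : x ∈ N.map D.subtype := ⟨⟨x, hx⟩, by
        rw [SetLike.mem_coe, Cfsg.Lib.Transfer.mem_iff_coprime_orderOf hNc hNj, Subgroup.orderOf_mk]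
        exact hxc, rfl⟩
      rwa [hNbot, mem_bot] at this
    haveI : C.Normal := inferInstance
    have hC : IsPGroup p C := by
      intro c
      obtain ⟨a, b, ha, hb, hab, ⟨i, hi⟩, hcop⟩ := Cfsg.Lib.Transfer.exists_pPart p (c : G)
      have hbC : b ∈ C := zpowers_le.mpr c.2 hb
      have hbK : f b ∈ K₀ := (Cfsg.Lib.Transfer.mem_iff_coprime_orderOf hK₀c hK₀k _).mpr
        (hcop.coprime_dvd_left (orderOf_map_dvd f b))
      have hb1 := hDp b ⟨hbC, hbK⟩ hcop
      refine ⟨i, Subtype.ext ?_⟩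
      rw [SubmonoidClass.coe_pow, OneMemClass.coe_one, ← hab, hb1, mul_one, ← hi,
        pow_orderOf_eq_one]
    exact le_sup_right.trans (hmax (U ⊔ C) inferInstance (hU.to_sup_of_normal_left hC) le_sup_left).le
  -- `U = O_p(G)` and `P` is maximal
  have hUO : Cfsg.pCore p G = U :=
    hmax _ inferInstance (Cfsg.Lib.Components.isPGroup_pCore p) (Cfsg.Lib.Components.le_pCore hU)
  have hPtop : (P : Subgroup G) ≠ ⊤ := fun h => hno (Cfsg.Lib.Transfer.hasNormalPComplement_of_isPGroup
    (fun x => by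
      obtain ⟨j, hj⟩ := P.2 ⟨x, h ▸ mem_top x⟩
      exact ⟨j, congrArg Subtype.val hj⟩))
  have hco : IsCoatom (P : Subgroup G) := by
    refine ⟨hPtop, fun H hPH => ?_⟩
    by_contra hH
    have hHc := ihsub H hH P hPH.le P.2 (fun hd => P.not_dvd_index (hd.trans (relIndex_dvd_index_of_le hPH.le))) hP
    exact hPH.ne (P.3 (Cfsg.Lib.Thompson.isPGroup_of_hasNormalPComplement hU hCU (hUP.trans hPH.le) hHc)
      hPH.le).symm
  have hq : Cfsg.HasNormalPComplement p (G ⧸ Cfsg.pCore p G) :=
    (Cfsg.Lib.Transfer.hasNormalPComplement_congr (QuotientGroup.quotientMulEquivOfEq hUO)).mpr hcompl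
  have hst : Cfsg.IsNormalizerPStable p G := Cfsg.Lib.Degree.normalizerPStable hp
    (Cfsg.Lib.Functor.pap_of_coatom hq P hco)
  haveI := Cfsg.Lib.ZJ.centerThompson_normal hp (Cfsg.Lib.ZJ.stable_of_normalizerPStable hst)
    (by rw [hUO]; exact hCU) P
  exact htop _ (normalizer_eq_top _) hP

theorem hasNormalPComplement_iff_zj (hp : p ≠ 2) {G : Type u} [Group G] [Finite G] (P : Sylow p G) :
    Cfsg.HasNormalPComplement p G ↔
      Cfsg.HasNormalPComplement p ↥(normalizer (zjOf p (P : Subgroup G) : Set G)) :=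
  ⟨fun h => Cfsg.Lib.Transfer.hasNormalPComplement_of_injective _
    (normalizer (zjOf p (P : Subgroup G) : Set G)).subtype_injective h,
    glauberman_thompson_aux hp _ G rfl P⟩

end Cfsg.Lib.SolvStruct
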