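/-
Groups whose maximal subgroups of order divisible by `p` are nilpotent.
-/
import Cfsg.Agent.Transfer.Frobenius
import Cfsg.Agent.Splitting.Basic
import Cfsg.Agent.Coprime.SolvableBasics
import Cfsg.Agent.PGroups.Basic
import Cfsg.Prelude.Def_SolvableStructure

set_option linter.style.haveILetI false
set_option linter.unusedSectionVars false

namespace Cfsg.Lib.NilMax

open Subgroup Cfsg.Lib.Transfer Cfsg.Lib.Coprime
open scoped commutatorElement

universe u

variable {G : Type u} [Group G] [Finite G]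

theorem nilpotent_of_le' {A B : Subgroup G} (h : A ≤ B) (hB : Group.IsNilpotent B) : Group.IsNilpotent A := by
  haveI := hB
  exact Group.nilpotent_of_surjective (subgroupOfEquivOfLe h).toMonoidHom (subgroupOfEquivOfLe h).surjective

theorem commute_of_nilpotent {H : Subgroup G} (hH : Group.IsNilpotent H) {p : ℕ} [Fact p.Prime] {x y : G}
    (hxH : x ∈ H) (hyH : y ∈ H) (hx : ∃ k, x ^ p ^ k = 1) (hy : (orderOf y).Coprime p) : x * y = y * x := by
  haveI := hH
  obtain ⟨k, hk⟩ := hx
  have hQ : IsPGroup p (zpowers (⟨x, hxH⟩ : H)) := by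
    obtain ⟨i, -, hi⟩ := (Nat.dvd_prime_pow (Fact.out : p.Prime)).1 (orderOf_dvd_of_pow_eq_one hk)
    exact IsPGroup.of_card (n := i) (by rw [Nat.card_zpowers, Subgroup.orderOf_mk, hi])
  obtain ⟨S, hS⟩ := hQ.exists_le_sylow
  have h03 := (Group.isNilpotent_of_finite_tfae (G := H)).out 0 3
  haveI := h03.1 hH p ‹_› S
  have h1 := centralize_of_hasNormalPComplement
    (Cfsg.Lib.Splitting.hasNormalPComplement_of_nilpotent (G := H) p) (S : Subgroup H) S.2 ⟨y, hyH⟩
    (le_normalizer_of_normal (mem_top _)) (by rwa [Subgroup.orderOf_mk]) ⟨x, hxH⟩ (hS (mem_zpowers _))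
  exact congrArg Subtype.val h1

theorem forward (p : ℕ) (hp : p.Prime) (hpG : p ∣ Nat.card G)
    (h : ∀ M : Subgroup G, IsCoatom M → p ∣ Nat.card M → Group.IsNilpotent M) :
    Group.IsNilpotent G ∨ Cfsg.IsMinimalNonNilpotent G ∨
      ∃ Z K : Subgroup G, Z.Normal ∧ K.Normal ∧ Z ⊓ K = ⊥ ∧ Z ⊔ K = ⊤ ∧ Nat.card Z = p ∧
        Cfsg.IsMinimalNonNilpotent K ∧ ¬ p ∣ Nat.card K := by
  classical
  haveI := Fact.mk hp
  by_cases hall : ∀ M : Subgroup G, IsCoatom M → Group.IsNilpotent M
  · by_cases hn : Group.IsNilpotent G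
    · exact Or.inl hn
    · refine Or.inr (Or.inl ⟨hn, fun H hH => ?_⟩)
      obtain ⟨M, hM, hle⟩ := (IsCoatomic.eq_top_or_exists_le_coatom H).resolve_left hH
      exact nilpotent_of_le' hle (hall M hM)
  push Not at hall
  obtain ⟨M, hM, hMn⟩ := hall
  have hpM : ¬ p ∣ Nat.card M := fun hd => hMn (h M hM hd)
  -- proper subgroups of order divisible by `p` are nilpotent
  have hprop : ∀ H : Subgroup G, H ≠ ⊤ → p ∣ Nat.card H → Group.IsNilpotent H := fun H hH hd => by
    obtain ⟨L, hL, hle⟩ := (IsCoatomic.eq_top_or_exists_le_coatom H).resolve_left hH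
    exact nilpotent_of_le' hle (h L hL (hd.trans (card_dvd_of_le hle)))
  have hdvd : ∀ H : Subgroup G, IsPGroup p H → H ≠ ⊥ → p ∣ Nat.card H := fun H hH hb =>
    hH.card_eq_or_dvd.resolve_left fun e => hb (Subgroup.card_eq_one.1 e)
  set U := Cfsg.pCore p G
  have hUp : IsPGroup p U := Cfsg.Lib.Components.isPGroup_pCore p
  haveI hUn : U.Normal := Cfsg.Lib.Components.pCore_normal' p
  by_cases hU : U = ⊥
  · -- `G` is `p`-nilpotent
    exfalso
    have hpn : Cfsg.HasNormalPComplement p G := by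
      refine hasNormalPComplement_of_normalizers fun Q hQ hQb => ?_
      have hne : normalizer (Q : Set G) ≠ ⊤ := fun e => hQb (le_bot_iff.1 (hU ▸
        Cfsg.Lib.Components.le_pCore (hn := normalizer_eq_top_iff.1 e) hQ))
      haveI := hprop _ hne ((hdvd Q hQ hQb).trans (card_dvd_of_le le_normalizer))
      exact Cfsg.Lib.Splitting.hasNormalPComplement_of_nilpotent p
    obtain ⟨K, hK, hKc, kK, hkK⟩ := hasNormalPComplement_iff.1 hpn
    haveI := hK
    -- every Sylow subgroup of `K` is centralised by a Sylow `p`-subgroup, unless it is `K`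
    obtain ⟨P⟩ : Nonempty (Sylow p G) := inferInstance
    have hPb : (P : Subgroup G) ≠ ⊥ := fun e => by
      have := Sylow.dvd_card_of_dvd_card P hpG
      rw [e, card_bot, Nat.dvd_one] at this
      exact hp.ne_one this
    by_cases hr : ∃ r : ℕ, r.Prime ∧ IsPGroup r K
    · obtain ⟨r, hr, hKr⟩ := hr
      haveI := Fact.mk hr
      have hMK : M ≤ K := fun x hx => mem_of_isPGroup_quotient_of_coprime K (isPGroup_quotient_of_index K hkK)
        (Nat.Coprime.coprime_dvd_left (by rw [← Subgroup.orderOf_mk x hx]; exact orderOf_dvd_natCard _)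
          (hp.coprime_iff_not_dvd.2 hpM).symm)
      haveI := (hKr.to_le hMK).isNilpotent
      exact hMn inferInstance
    push Not at hr
    have hPK : K ≤ centralizer ((P : Subgroup G) : Set G) := by
      refine le_of_forall_sylow fun r hrp => ?_
      haveI := Fact.mk hrp
      obtain ⟨R⟩ : Nonempty (Sylow r K) := inferInstance
      have hfr := Sylow.normalizer_sup_eq_top (N := K) R
      set R0 := (R : Subgroup K).map K.subtype
      -- a conjugate of `P` normalises `R0`
      obtain ⟨S, hS⟩ : ∃ S : Sylow p G, (S : Subgroup G) ≤ normalizer (R0 : Set G) := by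
        obtain ⟨S'⟩ : Nonempty (Sylow p (normalizer (R0 : Set G))) := inferInstance
        obtain ⟨S, hS⟩ := (S'.2.map (normalizer (R0 : Set G)).subtype).exists_le_sylow
        refine ⟨S, le_trans ?_ (map_subtype_le (S' : Subgroup (normalizer (R0 : Set G))))⟩
        refine (eq_of_le_of_card_ge hS ?_).ge
        rw [card_map_of_injective (normalizer (R0 : Set G)).subtype_injective, S'.card_eq_multiplicity,
          S.card_eq_multiplicity]
        refine Nat.pow_le_pow_right hp.pos (le_of_eq ?_)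
        have h2 : (normalizer (R0 : Set G)).index ∣ Nat.card K := by
          refine Nat.dvd_of_mul_dvd_mul_left (Nat.card_pos (α := normalizer (R0 : Set G))) ?_
          rw [(normalizer (R0 : Set G)).card_mul_index, ← K.card_mul_index, mul_comm _ (Nat.card K)]
          refine mul_dvd_mul_left _ ?_
          rw [← relIndex_top_right, ← hfr, relIndex_sup_right]
          exact relIndex_dvd_card _ _
        have h3 := congrArg (fun n => n.factorization p) (normalizer (R0 : Set G)).card_mul_index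
        simp only [Nat.factorization_mul Nat.card_pos.ne' (normalizer (R0 : Set G)).index_ne_zero_of_finite,
          Finsupp.add_apply] at h3
        rw [Nat.factorization_eq_zero_of_not_dvd (n := (normalizer (R0 : Set G)).index)
          (fun hd => hp.not_dvd_one ((Nat.dvd_gcd (hd.trans h2) dvd_rfl).trans hKc.dvd)), add_zero] at h3
        exact h3.symm
      obtain ⟨c, hc⟩ := MulAction.exists_smul_eq G S P
      -- move `c` into `K`
      have hKS : K ⊔ (S : Subgroup G) = ⊤ := sup_sylow_eq_top hkK S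
      obtain ⟨d, hd, s, hs, rfl⟩ := mem_sup_of_normal_left.1 (hKS.ge (mem_top c))
      have hdS : d • S = P := by
        rw [← hc, mul_smul, Sylow.smul_eq_iff_mem_normalizer.2 (le_normalizer hs)]
      have hne : R0 ⊔ (S : Subgroup G) ≠ ⊤ := by
        intro e
        apply hr r hrp
        have hKR : K ≤ R0 := by
          intro x hx
          obtain ⟨a, ha, b, hb, rfl⟩ := (mem_sup_of_le_normalizer hS).1 (e.ge (mem_top x))
          have hb1 : b ∈ K ⊓ (S : Subgroup G) := ⟨by
            have := mul_mem (inv_mem (map_subtype_le _ ha)) hx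
            simpa using this, hb⟩
          rw [Cfsg.Lib.Coprime.inf_eq_bot_of_coprime (by
            obtain ⟨j, hj⟩ := S.2.exists_card_eq
            rw [hj]; exact hKc.pow_right j), mem_bot] at hb1
          rw [hb1, mul_one]; exact ha
        exact (R.2.map K.subtype).to_le hKR
      have hnil := hprop _ hne (((Sylow.dvd_card_of_dvd_card S hpG)).trans (card_dvd_of_le le_sup_right))
      refine ⟨(⟨d, hd⟩ : K) • R, ?_⟩
      rintro _ ⟨y, hy, rfl⟩ z hz
      rw [SetLike.mem_coe, sylow_smul_coe, mem_map_conj] at hy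
      have hy' : d⁻¹ * (y : G) * d ∈ R0 := ⟨_, hy, by simp⟩
      rw [← hdS, SetLike.mem_coe, sylow_smul_coe, mem_map_conj] at hz
      obtain ⟨j, hj⟩ := IsPGroup.iff_orderOf.1 S.2 ⟨_, hz⟩
      have h4 := commute_of_nilpotent hnil (p := p) (mem_sup_right hz) (mem_sup_left hy')
        ⟨j, by rw [Subgroup.orderOf_mk] at hj; rw [← hj, pow_orderOf_eq_one]⟩
        (Nat.Coprime.coprime_dvd_left (by
          rw [← Subgroup.orderOf_mk _ (map_subtype_le _ hy')]; exact orderOf_dvd_natCard _) hKc)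
      show z * (y : G) = y * z
      calc z * (y : G) = d * ((d⁻¹ * z * d) * (d⁻¹ * y * d)) * d⁻¹ := by group
        _ = d * ((d⁻¹ * y * d) * (d⁻¹ * z * d)) * d⁻¹ := by rw [h4]
        _ = _ := by group
    have hPn : (P : Subgroup G).Normal := normalizer_eq_top_iff.1 (top_le_iff.1
      ((sup_sylow_eq_top hkK P).ge.trans (sup_le (hPK.trans (centralizer_le_normalizer _)) le_normalizer)))
    exact hPb (le_bot_iff.1 (hU ▸ Cfsg.Lib.Components.le_pCore (hn := hPn) P.2))
  -- a nontrivial normal `p`-subgroup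
  right; right
  have hUM : ¬ U ≤ M := fun hle => hpM ((hdvd U hUp hU).trans (card_dvd_of_le hle))
  have hsup : U ⊔ M = ⊤ := by rw [sup_comm]; exact hM.2 _ (left_lt_sup.2 hUM)
  have hinf : U ⊓ M = ⊥ := Cfsg.Lib.Coprime.inf_eq_bot_of_coprime (by
    obtain ⟨j, hj⟩ := hUp.exists_card_eq
    rw [hj]; exact Nat.Coprime.pow_left j (hp.coprime_iff_not_dvd.2 hpM))
  -- proper subgroups of `M` centralise `U`
  have hcent : ∀ L : Subgroup G, L < M → L ≤ centralizer (U : Set G) := by
    intro L hL x hx u hu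
    have hne : U ⊔ L ≠ ⊤ := by
      intro e
      refine hL.not_ge fun y hy => ?_
      obtain ⟨a, ha, b, hb, rfl⟩ := mem_sup_of_normal_left.1 (e.ge (mem_top y))
      have ha' : a ∈ U ⊓ M := Subgroup.mem_inf.2 ⟨ha, by simpa using mul_mem hy (inv_mem (hL.le hb))⟩
      rw [hinf, mem_bot] at ha'
      rw [ha', one_mul]; exact hb
    have hnil := hprop _ hne ((hdvd U hUp hU).trans (card_dvd_of_le le_sup_left))
    obtain ⟨j, hj⟩ := IsPGroup.iff_orderOf.1 hUp ⟨u, hu⟩
    exact commute_of_nilpotent hnil (p := p) (mem_sup_left hu) (mem_sup_right hx)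
      ⟨j, by rw [Subgroup.orderOf_mk] at hj; rw [← hj, pow_orderOf_eq_one]⟩
      (Nat.Coprime.coprime_dvd_left (by rw [← Subgroup.orderOf_mk x (hL.le hx)]; exact orderOf_dvd_natCard _)
        (hp.coprime_iff_not_dvd.2 hpM).symm)
  have hMc : M ≤ centralizer (U : Set G) := by
    intro x hx
    have hne : zpowers x ≠ M := fun e => hMn (by
      rw [← e]
      letI : CommGroup (zpowers x) := { (inferInstance : Group (zpowers x)) with mul_comm := mul_comm' }
      infer_instance)
    exact hcent _ (lt_of_le_of_ne (zpowers_le.2 hx) hne) (mem_zpowers x)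
  haveI hMn' : M.Normal := by
    refine normalizer_eq_top_iff.1 (top_le_iff.1 (hsup.ge.trans (sup_le ?_ le_normalizer)))
    intro u hu
    refine mem_normalizer_iff.2 fun y => ?_
    constructor
    · intro hy
      rwa [show u * y * u⁻¹ = y by rw [hMc hy u hu, mul_inv_cancel_right]]
    · intro hy
      have h5 : u * (u * y * u⁻¹) = (u * y * u⁻¹) * u := hMc hy u hu
      have h6 : y = u * y * u⁻¹ := by
        calc y = u⁻¹ * ((u * y * u⁻¹) * u) := by group
          _ = u⁻¹ * (u * (u * y * u⁻¹)) := by rw [h5]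
          _ = _ := by group
      rwa [h6]
  have hUc : Nat.card U = p := by
    obtain ⟨z, hzU, hzc, hzo⟩ : ∃ z, z ∈ U ∧ z ∈ center G ∧ orderOf z = p := by
      haveI := hUp.isNilpotent
      obtain ⟨z, hz, hzc, hzo⟩ := Cfsg.Lib.PGroups.exists_mem_center_of_normal_ne_bot hUp (N := (⊤ : Subgroup U))
        (fun e => hU (by rw [← map_subgroupOf_eq_of_le (le_refl U), subgroupOf_self, e, Subgroup.map_bot]))
      refine ⟨(z : G), z.2, mem_center_iff.2 fun g => ?_, by rw [Subgroup.orderOf_coe, hzo]⟩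
      obtain ⟨u, hu, m, hm, rfl⟩ := mem_sup_of_normal_left.1 (hsup.ge (mem_top g))
      have h1 : u * (z : G) = z * u := congrArg Subtype.val (mem_center_iff.1 hzc ⟨u, hu⟩)
      rw [mul_assoc, ← hMc hm z z.2, ← mul_assoc, h1, mul_assoc]
    -- `⟨z⟩ M` is a subgroup containing the maximal `M`
    have hz1 : z ∉ M := fun hzM => by
      have : z ∈ U ⊓ M := ⟨hzU, hzM⟩
      rw [hinf, mem_bot] at this
      rw [this, orderOf_one] at hzo
      exact hp.ne_one hzo.symm
    have htop : M ⊔ zpowers z = ⊤ := hM.2 _ (left_lt_sup.2 fun hle => hz1 (hle (mem_zpowers z)))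
    have hUz : U ≤ zpowers z := fun u hu => by
      obtain ⟨m, hm, y, hy, hmy⟩ := mem_sup_of_normal_left.1 (htop.ge (mem_top u))
      have hm' : m ∈ U ⊓ M := Subgroup.mem_inf.2 ⟨by
        rw [show m = u * y⁻¹ by rw [← hmy, mul_inv_cancel_right]]
        exact mul_mem hu (inv_mem ((zpowers_le.2 hzU) hy)), hm⟩
      rw [hinf, mem_bot] at hm'
      rw [← hmy, hm', one_mul]; exact hy
    rw [le_antisymm hUz (zpowers_le.2 hzU), Nat.card_zpowers, hzo]
  refine ⟨U, M, hUn, hMn', hinf, hsup, hUc, ⟨hMn, fun L hL => ?_⟩, hpM⟩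
  set L' := L.map M.subtype
  have hL' : L' < M := lt_of_le_of_ne (map_subtype_le L) fun e => hL (by
    rw [← comap_map_eq_self_of_injective M.subtype_injective L, show L.map M.subtype = M from e]
    exact eq_top_iff.2 fun x _ => x.2)
  have hne : U ⊔ L' ≠ ⊤ := by
    intro e
    refine hL'.not_ge fun y hy => ?_
    obtain ⟨a, ha, b, hb, rfl⟩ := mem_sup_of_normal_left.1 (e.ge (mem_top y))
    have ha' : a ∈ U ⊓ M := Subgroup.mem_inf.2 ⟨ha, by simpa using mul_mem hy (inv_mem (hL'.le hb))⟩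
    rw [hinf, mem_bot] at ha'
    rw [ha', one_mul]; exact hb
  haveI := nilpotent_of_le' le_sup_right (hprop _ hne ((hdvd U hUp hU).trans (card_dvd_of_le le_sup_left)))
  exact Group.nilpotent_of_surjective (L.equivMapOfInjective M.subtype M.subtype_injective).symm.toMonoidHom
    (MulEquiv.surjective _)

theorem backward (p : ℕ) (hp : p.Prime)
    (h : Group.IsNilpotent G ∨ Cfsg.IsMinimalNonNilpotent G ∨
      ∃ Z K : Subgroup G, Z.Normal ∧ K.Normal ∧ Z ⊓ K = ⊥ ∧ Z ⊔ K = ⊤ ∧ Nat.card Z = p ∧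
        Cfsg.IsMinimalNonNilpotent K ∧ ¬ p ∣ Nat.card K)
    (M : Subgroup G) (hM : IsCoatom M) (hpM : p ∣ Nat.card M) : Group.IsNilpotent M := by
  rcases h with h | h | ⟨Z, K, hZ, hK, hinf, hsup, hZc, hKm, hpK⟩
  · haveI := h; infer_instance
  · exact h.2 M hM.1
  haveI := Fact.mk hp
  haveI := hZ
  haveI := hK
  -- `Z ≤ M`
  have hcomm : ∀ z ∈ Z, ∀ k ∈ K, z * k = k * z := fun z hz k hk =>
    (Subgroup.commute_of_normal_of_disjoint _ _ hZ hK (disjoint_iff.2 hinf) z k hz hk).eq
  obtain ⟨x, hx⟩ := exists_prime_orderOf_dvd_card' p (G := M) hpM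
  have hKi : K.index ∣ p := by
    rw [← relIndex_top_right, ← hsup, relIndex_sup_right, ← hZc]
    exact relIndex_dvd_card _ _
  obtain ⟨i, -, hi⟩ := (Nat.dvd_prime_pow hp).1 (hKi.trans (pow_one p).symm.dvd)
  have hZK : Z ⊔ K = ⊤ := hsup
  obtain ⟨z, hz, k, hk, hzk⟩ := mem_sup_of_normal_left.1 (hZK.ge (mem_top (x : G)))
  have hk1 : k = 1 := by
    have h1 : ((z * k) : G) ^ p = 1 := by rw [hzk, ← hx, ← Subgroup.orderOf_coe, pow_orderOf_eq_one]
    have hzp : z ^ p = 1 := by
      rw [← hZc]; exact congrArg Subtype.val (pow_card_eq_one' (x := (⟨z, hz⟩ : Z)))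
    rw [(show Commute z k from hcomm z hz k hk).mul_pow, hzp, one_mul] at h1
    rw [← orderOf_eq_one_iff]
    refine Nat.eq_one_of_dvd_coprimes (hp.coprime_iff_not_dvd.2 hpK) (orderOf_dvd_of_pow_eq_one h1) ?_
    rw [← Subgroup.orderOf_mk k hk]; exact orderOf_dvd_natCard _
  have hxZ : (x : G) ∈ Z := by rw [← hzk, hk1, mul_one]; exact hz
  have hZM : Z ≤ M := by
    have he : zpowers (x : G) = Z := eq_of_le_of_card_ge (zpowers_le.2 hxZ)
      (by rw [Nat.card_zpowers, Subgroup.orderOf_coe, hx, hZc])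
    rw [← he]; exact zpowers_le.2 x.2
  have hMK : ¬ K ≤ M := fun hle => hM.1 (top_le_iff.1 (hsup.ge.trans (sup_le hZM hle)))
  have hnil : Group.IsNilpotent (M.subgroupOf K) := hKm.2 _ (fun e => hMK (subgroupOf_eq_top.1 e))
  -- project `M` onto `M ⊓ K`
  haveI : Group.IsNilpotent ↥(M ⊓ K) := by
    haveI := hnil
    rw [← inf_subgroupOf_right] at hnil
    exact Group.nilpotent_of_surjective (subgroupOfEquivOfLe (inf_le_right : M ⊓ K ≤ K)).toMonoidHom
      (MulEquiv.surjective _)
  haveI : Group.IsNilpotent Z := (IsPGroup.of_card (n := 1) (by rw [hZc, pow_one])).isNilpotent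
  let f : ↥Z × ↥(M ⊓ K) →* M :=
    (Subgroup.inclusion hZM).noncommCoprod (Subgroup.inclusion inf_le_left)
      fun z k => Subtype.ext (hcomm z z.2 k k.2.2)
  refine Group.nilpotent_of_surjective f fun m => ?_
  obtain ⟨z, hz, k, hk, hzk⟩ := mem_sup_of_normal_left.1 (hsup.ge (mem_top (m : G)))
  have hkM : k ∈ M := by
    rw [show k = z⁻¹ * m by rw [← hzk, inv_mul_cancel_left]]
    exact mul_mem (inv_mem (hZM hz)) m.2
  exact ⟨(⟨z, hz⟩, ⟨k, hkM, hk⟩), Subtype.ext hzk⟩

end Cfsg.Lib.NilMax
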