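import Cfsg.Agent.SolvStruct.PGroupBasics
import Cfsg.Agent.Coprime.Generation
import Cfsg.Agent.Coprime.Sylow
import Cfsg.Agent.Components.ZJ.Reduce
import Cfsg.Agent.Transfer.Basic
import Cfsg.Prelude.Def_OddOrderLocal
import Mathlib.GroupTheory.SpecificGroups.ZGroup

/-!
A TI Hall subgroup with abelian Sylow `2`-subgroups of a separable group: the fixed points of a
complement in the normalizer have a normal complement.
-/

set_option autoImplicit false
set_option linter.style.haveILetI false
set_option linter.unusedSectionVars false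

namespace Cfsg.Lib.SolvStruct

open Subgroup Cfsg.Lib.Coprime
open scoped commutatorElement

universe u

variable {G : Type u} [Group G] [Finite G]

/-- the normalizer of a nontrivial subgroup of a TI subgroup -/
theorem normalizer_le_of_ti {H U : Subgroup G} (hTI : Cfsg.IsTISubset (H : Set G)) (hU : U ≤ H)
    (hne : U ≠ ⊥) : normalizer (U : Set G) ≤ normalizer (H : Set G) := by
  intro g hg
  by_contra hgn
  refine hne ((Subgroup.eq_bot_iff_forall _).mpr fun x hx => ?_)
  exact hTI g hgn x (hU hx) (hU ((mem_normalizer_iff.mp hg x).mp hx))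

/-- a TI subgroup which is a Hall subgroup of its normalizer is a Hall subgroup -/
theorem coprime_index_of_ti {H : Subgroup G} (hTI : Cfsg.IsTISubset (H : Set G))
    (hcop : (Nat.card H).Coprime (H.relIndex (normalizer (H : Set G)))) :
    (Nat.card H).Coprime H.index := by
  refine Nat.coprime_of_dvd fun p hp hpH hpi => ?_
  haveI := Fact.mk hp
  obtain ⟨P⟩ := (inferInstance : Nonempty (Sylow p H))
  set P₀ := (P : Subgroup H).map H.subtype with hP₀def
  have hP₀H : P₀ ≤ H := map_subtype_le _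
  have hP₀ : IsPGroup p P₀ := P.2.map _
  set N := normalizer (H : Set G)
  have hne : P₀ ≠ ⊥ := by
    rw [Ne, map_eq_bot_iff_of_injective _ H.subtype_injective]
    exact P.ne_bot_of_dvd_card hpH
  have hnd : ¬ p ∣ P₀.relIndex N := by
    rw [← relIndex_mul_relIndex P₀ H N hP₀H le_normalizer]
    refine fun hd => (hp.dvd_mul.mp hd).elim ?_ ?_
    · rw [hP₀def, relIndex, subgroupOf, comap_map_eq_self_of_injective H.subtype_injective]
      exact P.not_dvd_index
    · exact fun hd' => hp.ne_one (Nat.eq_one_of_dvd_coprimes hcop hpH hd')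
  let R : Sylow p N := (hP₀.comap_subtype (K := N)).toSylow hnd
  obtain ⟨Q, hQ⟩ := hP₀.exists_le_sylow
  rcases eq_or_lt_of_le hQ with h | h
  · refine Q.not_dvd_index (hpi.trans ?_)
    rw [← h]
    exact index_dvd_of_le hP₀H
  · have h1 := Cfsg.Lib.Transfer.lt_inf_normalizer_of_lt Q h
    have h2 : (Q : Subgroup G) ⊓ normalizer (P₀ : Set G) ≤ N :=
      inf_le_right.trans (normalizer_le_of_ti hTI hP₀H hne)
    have h3 : (((Q : Subgroup G) ⊓ normalizer (P₀ : Set G)).subgroupOf N) = (R : Subgroup N) :=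
      R.3 ((Q.2.to_le inf_le_left).comap_subtype (K := N))
        (fun x (hx : (x : G) ∈ P₀) => mem_subgroupOf.mpr (h1.le hx))
    refine h1.not_ge fun x hx => ?_
    have h4 : (⟨x, h2 hx⟩ : N) ∈ (R : Subgroup N) := h3 ▸ mem_subgroupOf.mpr hx
    exact h4

/-- in a separable group a normal subgroup of coprime order supplements the normalizer -/
theorem exists_coprime_supplement {H : Subgroup G} (hTI : Cfsg.IsTISubset (H : Set G))
    (hHall : (Nat.card H).Coprime H.index) (hne : H ≠ ⊥)
    (hsep : ∃ (n : ℕ) (M : Fin (n + 1) → Subgroup G), M 0 = ⊥ ∧ M (Fin.last n) = ⊤ ∧ Monotone M ∧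
      (∀ i, (M i).Normal) ∧
      ∀ i : Fin n, (∀ q : ℕ, q.Prime → q ∣ (M i.castSucc).relIndex (M i.succ) → q ∣ Nat.card H) ∨
        ((M i.castSucc).relIndex (M i.succ)).Coprime (Nat.card H)) :
    ∃ O : Subgroup G, O.Normal ∧ (Nat.card O).Coprime (Nat.card H) ∧
      O ⊔ normalizer (H : Set G) = ⊤ := by
  obtain ⟨n, M, h0, hlast, hmono, hMn, hsteps⟩ := hsep
  obtain ⟨i, hi, hi'⟩ : ∃ i : Fin n, (Nat.card (M i.castSucc)).Coprime (Nat.card H) ∧
      ¬ (Nat.card (M i.succ)).Coprime (Nat.card H) := by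
    by_contra hcon
    push Not at hcon
    have hall : ∀ j : Fin (n + 1), (Nat.card (M j)).Coprime (Nat.card H) := fun j => by
      induction j using Fin.induction with
      | zero => rw [h0, card_bot]; exact Nat.coprime_one_left _
      | succ j ih => exact hcon j ih
    have := (hall (Fin.last n)).symm
    rw [hlast, card_top] at this
    exact hne (card_eq_one.mp (Nat.eq_one_of_dvd_coprimes this dvd_rfl (card_subgroup_dvd_card H)))
  set O := M i.castSucc
  set M' := M i.succ
  have hOM : O ≤ M' := hmono (Fin.castSucc_le_succ i)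
  haveI : O.Normal := hMn _
  haveI : M'.Normal := hMn _
  have hcard : Nat.card O * O.relIndex M' = Nat.card M' := by
    rw [← relIndex_bot_left, relIndex_mul_relIndex _ _ _ bot_le hOM, relIndex_bot_left]
  have hpi : ∀ q : ℕ, q.Prime → q ∣ O.relIndex M' → q ∣ Nat.card H := (hsteps i).resolve_right
    fun h => hi' (hcard ▸ Nat.Coprime.mul_left hi h)
  -- the Sylow subgroups inside `H`
  have hsyl : ∀ q : ℕ, ∀ _ : Fact q.Prime, q ∣ Nat.card H → ∃ S : Sylow q G, (S : Subgroup G) ≤ H := by
    intro q _ hq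
    obtain ⟨P⟩ := (inferInstance : Nonempty (Sylow q H))
    have hnd : ¬ q ∣ ((P : Subgroup H).map H.subtype).index := by
      rw [index_map_subtype]
      exact (Fact.out : q.Prime).not_dvd_mul P.not_dvd_index
        fun hd => (Fact.out : q.Prime).ne_one (Nat.eq_one_of_dvd_coprimes hHall hq hd)
    exact ⟨(P.2.map H.subtype).toSylow hnd, map_subtype_le _⟩
  have hM' : M' ≤ O ⊔ M' ⊓ H := le_of_forall_sylow fun q hq => by
    haveI := Fact.mk hq
    by_cases hqH : q ∣ Nat.card H
    · obtain ⟨S, hS⟩ := hsyl q ⟨hq⟩ hqH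
      refine ⟨(S.2.comap_subtype (K := M')).toSylow (fun h => S.not_dvd_index (h.trans
        (Cfsg.Lib.Components.relIndex_dvd_index_of_normal_right (S : Subgroup G) M'))), ?_⟩
      refine le_trans ?_ le_sup_right
      rintro _ ⟨x, hx, rfl⟩
      exact ⟨x.2, hS hx⟩
    · obtain ⟨T⟩ := (inferInstance : Nonempty (Sylow q O))
      have hT : (T : Subgroup O).map O.subtype ≤ M' := (map_subtype_le _).trans hOM
      have hnd : ¬ q ∣ ((T : Subgroup O).map O.subtype).relIndex M' := by
        rw [← relIndex_mul_relIndex _ O M' (map_subtype_le _) hOM]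
        refine fun hd => (hq.dvd_mul.mp hd).elim ?_ fun h => hqH (hpi q hq h)
        rw [relIndex, subgroupOf, comap_map_eq_self_of_injective O.subtype_injective]
        exact T.not_dvd_index
      refine ⟨((T.2.map O.subtype).comap_subtype (K := M')).toSylow hnd, ?_⟩
      show (((T : Subgroup O).map O.subtype).subgroupOf M').map M'.subtype ≤ _
      rw [map_subgroupOf_eq_of_le hT]
      exact (map_subtype_le _).trans le_sup_left
  -- Frattini
  obtain ⟨p, hp, hpM, hpH⟩ := Nat.Prime.not_coprime_iff_dvd.mp hi'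
  haveI := Fact.mk hp
  obtain ⟨S, hS⟩ := hsyl p ⟨hp⟩ hpH
  have hUne : (S : Subgroup G) ⊓ M' ≠ ⊥ := by
    intro h
    have h1 : ¬ p ∣ (S : Subgroup G).relIndex M' := fun hd => S.not_dvd_index (hd.trans
      (Cfsg.Lib.Components.relIndex_dvd_index_of_normal_right (S : Subgroup G) M'))
    rw [← inf_relIndex_right, h, relIndex_bot_left] at h1
    exact h1 hpM
  refine ⟨O, inferInstance, hi, top_le_iff.mp ?_⟩
  rw [← Cfsg.Lib.ZJ.sup_normalizer_inf_eq_top M' S]
  exact sup_le (hM'.trans (sup_le_sup_left (inf_le_right.trans le_normalizer) O))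
    ((normalizer_le_of_ti hTI (inf_le_left.trans hS) hUne).trans le_sup_right)

/-- with abelian Sylow `2`-subgroups a non-normal such subgroup is a `Z`-group -/
theorem isZGroup_of_ti {H O : Subgroup G} (hTI : Cfsg.IsTISubset (H : Set G)) (hnn : ¬ H.Normal)
    [O.Normal] (hO : (Nat.card O).Coprime (Nat.card H)) (hsup : O ⊔ normalizer (H : Set G) = ⊤)
    (h2 : ∀ P : Sylow 2 H, IsMulCommutative (P : Subgroup H)) : IsZGroup H := by
  set N := normalizer (H : Set G)
  have hON : ¬ O ≤ N := fun h => hnn (normalizer_eq_top_iff.mp (by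
    rw [sup_eq_right.mpr h] at hsup; exact hsup))
  have key : ∀ A : Subgroup H, IsMulCommutative A → IsCyclic A := by
    intro A hA
    by_contra hnc
    set A₀ := A.map H.subtype with hA₀
    have hA₀H : A₀ ≤ H := map_subtype_le _
    haveI : IsMulCommutative A₀ := by rw [hA₀]; infer_instance
    have hnc' : ¬ IsCyclic A₀ := fun h => hnc (isCyclic_of_surjective
      (A.equivMapOfInjective H.subtype H.subtype_injective).symm.toMonoidHom
      (A.equivMapOfInjective H.subtype H.subtype_injective).symm.surjective)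
    have h := centralizerJoin_eq hnc' (K := O) le_normalizer_of_normal
      (hO.symm.coprime_dvd_left (card_dvd_of_le hA₀H))
    refine hON (le_trans h.ge (iSup₂_le fun a ha => ?_))
    intro c hc
    by_contra hcn
    refine ha.2 (hTI c hcn a (hA₀H ha.1) ?_)
    rw [show c * a = a * c from mem_centralizer_singleton_iff.mp hc.2, mul_inv_cancel_right]
    exact hA₀H ha.1
  refine ⟨fun p hp P => ?_⟩
  haveI := Fact.mk hp
  by_cases hp2 : p = 2
  · subst hp2
    exact key P (h2 P)
  by_contra hnc
  obtain ⟨A, -, hA, hAc⟩ := exists_normal_elementary_sq hp2 P.2 hnc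
  haveI := hA.1
  haveI hcyc := key (A.map (P : Subgroup H).subtype) inferInstance
  haveI : IsCyclic A := isCyclic_of_surjective
    (A.equivMapOfInjective _ (P : Subgroup H).subtype_injective).symm.toMonoidHom
    (A.equivMapOfInjective _ (P : Subgroup H).subtype_injective).symm.surjective
  obtain ⟨a, ha⟩ := IsCyclic.exists_ofOrder_eq_natCard (α := A)
  have h1 : orderOf a ∣ p := orderOf_dvd_of_pow_eq_one (Subtype.ext (by
    rw [SubmonoidClass.coe_pow, OneMemClass.coe_one]; exact hA.2 a a.2))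
  rw [ha, hAc] at h1
  exact absurd (Nat.le_of_dvd hp.pos h1) (by
    rw [sq]; exact not_le.mpr (lt_mul_of_one_lt_left hp.pos hp.one_lt))

/-- Burnside transfer under a coprime action centralising the Sylow subgroup -/
theorem not_dvd_card_commutator_of_burnside {p : ℕ} [Fact p.Prime] {K Q : Subgroup G}
    (hQK : Q ≤ normalizer (K : Set G)) (P : Sylow p K)
    (hP : normalizer ((P : Subgroup K) : Set K) ≤ centralizer ((P : Subgroup K) : Set K))
    (hQP : ∀ z : K, z ∈ (P : Subgroup K) → ∀ q ∈ Q, q * (z : G) = (z : G) * q) :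
    ¬ p ∣ Nat.card ↥(⁅K, Q⁆ : Subgroup G) := by
  set L := (MonoidHom.transferSylow P hP).ker with hLdef
  have hLP : L.IsComplement' (P : Subgroup K) := MonoidHom.ker_transferSylow_isComplement' P hP
  have hLc : (Nat.card L).Coprime p :=
    ((Fact.out : p.Prime).coprime_iff_not_dvd.mpr (MonoidHom.not_dvd_card_ker_transferSylow P hP)).symm
  obtain ⟨k, hk⟩ := IsPGroup.iff_card.mp P.2
  have hLi : L.index = p ^ k := hLP.symm.index_eq_card.trans hk
  have hmemL := Cfsg.Lib.Transfer.mem_iff_coprime_orderOf hLc hLi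
  have hle : ⁅K, Q⁆ ≤ L.map K.subtype := by
    rw [commutator_le]
    intro x hx q hq
    obtain ⟨⟨l, z⟩, hlz, -⟩ := hLP.existsUnique ⟨x, hx⟩
    have hlG : (l : K).1 * (z : K).1 = x := congrArg Subtype.val hlz
    have hq' : q * (l : K).1 * q⁻¹ ∈ K := (mem_normalizer_iff.mp (hQK hq) _).mp (l : K).2
    have hql : (⟨q * (l : K).1 * q⁻¹, hq'⟩ : K) ∈ L := by
      rw [hmemL, ← Subgroup.orderOf_coe]
      have := (hmemL _).mp l.2
      rw [← Subgroup.orderOf_coe] at this
      simpa [← MulAut.conj_apply, (MulAut.conj q).orderOf_eq] using this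
    refine ⟨(l : K) * (⟨q * (l : K).1 * q⁻¹, hq'⟩ : K)⁻¹, mul_mem l.2 (inv_mem hql), ?_⟩
    have hzq := hQP z z.2 q hq
    show (l : K).1 * (q * (l : K).1 * q⁻¹)⁻¹ = ⁅x, q⁆
    rw [commutatorElement_def, ← hlG]
    calc (l : K).1 * (q * (l : K).1 * q⁻¹)⁻¹ = (l : K).1 * q * (l : K).1⁻¹ * q⁻¹ := by group
      _ = (l : K).1 * ((z : K).1 * q * (z : K).1⁻¹) * (l : K).1⁻¹ * q⁻¹ := by
          rw [← hzq, mul_inv_cancel_right]
      _ = _ := by group
  intro hd
  have h1 := hd.trans (card_dvd_of_le hle)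
  rw [card_map_of_injective K.subtype_injective] at h1
  exact (Fact.out : p.Prime).ne_one (Nat.eq_one_of_dvd_coprimes hLc h1 dvd_rfl)

/-- fixed points and commutators of a coprime action on a `Z`-group have coprime orders -/
theorem coprime_fixed_commutator {H Q : Subgroup G} [IsZGroup H] (hQH : Q ≤ normalizer (H : Set G))
    (hcop : (Nat.card Q).Coprime (Nat.card H)) :
    (Nat.card ↥(H ⊓ centralizer (Q : Set G))).Coprime (Nat.card ↥(⁅H, Q⁆ : Subgroup G)) := by
  have hsol : Group.IsSolvable H := inferInstance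
  set C := H ⊓ centralizer (Q : Set G)
  refine Nat.coprime_of_dvd fun p hp hpC hpR => ?_
  haveI := Fact.mk hp
  obtain ⟨U⟩ := (inferInstance : Nonempty (Sylow p C))
  set U₀ := (U : Subgroup C).map C.subtype
  have hU₀C : U₀ ≤ C := map_subtype_le _
  have hU₀Q : Q ≤ normalizer (U₀ : Set G) :=
    (le_centralizer_iff.mp (hU₀C.trans inf_le_right)).trans
      (Cfsg.Lib.Thompson.centralizer_le_normalizer U₀)
  obtain ⟨P, hUP, hQP⟩ := exists_invariant_sylow_ge hQH hcop (Or.inr hsol) p
    (hU₀C.trans inf_le_left) (U.2.map _) hU₀Q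
  set P₀ := (P : Subgroup H).map H.subtype with hP₀def
  haveI : IsCyclic P₀ := isCyclic_of_surjective
    ((P : Subgroup H).equivMapOfInjective H.subtype H.subtype_injective).toMonoidHom
    ((P : Subgroup H).equivMapOfInjective H.subtype H.subtype_injective).surjective
  have hP₀H : P₀ ≤ H := map_subtype_le _
  have hP₀cop : (Nat.card P₀).Coprime (Nat.card Q) := (hcop.coprime_dvd_right (card_dvd_of_le hP₀H)).symm
  have hQcP : Q ≤ centralizer (P₀ : Set G) := by
    rcases IsPGroup.commutator_eq_bot_or_commutator_eq_self (P.2.map _) hQP hP₀cop with h | h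
    · exact commutator_eq_bot_iff_le_centralizer.mp h
    · exfalso
      haveI : IsMulCommutative P₀ := IsCyclic.isMulCommutative
      have hd := (abelian_coprime_decomp hQP hP₀cop.symm).1
      rw [commutator_comm, h, inf_eq_left.mpr inf_le_left] at hd
      have hU0 : U₀ = ⊥ := le_bot_iff.mp (hd ▸ le_inf hUP (hU₀C.trans inf_le_right))
      rw [map_eq_bot_iff_of_injective _ C.subtype_injective] at hU0
      exact U.ne_bot_of_dvd_card hpC hU0
  have hcomm : ∀ z ∈ P₀, ∀ q ∈ Q, q * z = z * q := fun z hz q hq =>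
    (mem_centralizer_iff.mp (hQcP hq) z hz).symm
  rcases Sylow.normalizer_le_centralizer_or_le_commutator P with h | h
  · exact not_dvd_card_commutator_of_burnside hQH P h
      (fun z hz q hq => hcomm _ (mem_map_of_mem _ hz) q hq) hpR
  -- `P` is normal in `H`
  haveI : IsCyclic (commutator H) := IsZGroup.isCyclic_commutator H
  have hPn : ∀ h' : H, ∀ z ∈ (P : Subgroup H), h' * z * h'⁻¹ ∈ (P : Subgroup H) := by
    intro h' z hz
    set P' := (P : Subgroup H).map (MulAut.conj h').toMonoidHom
    have hP' : P' ≤ commutator H := by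
      rintro _ ⟨y, hy, rfl⟩
      exact (inferInstance : (commutator H).Normal).conj_mem y (h hy) h'
    have hc : ∀ a ∈ commutator H, ∀ b ∈ commutator H, a * b = b * a := fun a ha b hb =>
      congrArg Subtype.val ((IsCyclic.isMulCommutative (α := commutator H)).is_comm.comm ⟨a, ha⟩ ⟨b, hb⟩)
    have hnorm : P' ≤ normalizer ((P : Subgroup H) : Set H) := fun a ha =>
      Cfsg.Lib.Thompson.centralizer_le_normalizer (P : Subgroup H)
        (mem_centralizer_iff.mpr fun b hb => hc b (h hb) a (hP' ha))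
    have he := P.3 (IsPGroup.to_sup_of_normal_left' P.2 (P.2.map _) hnorm) le_sup_left
    rw [← he]
    exact mem_sup_right ⟨z, hz, rfl⟩
  set K := H ⊓ centralizer (P₀ : Set G) with hKdef
  have hP₀K : P₀ ≤ K := le_inf hP₀H P₀.le_centralizer
  have hQK : Q ≤ normalizer (K : Set G) := le_normalizer_inf hQH
    (hQP.trans (Cfsg.Lib.Thompson.normalizer_le_normalizer_centralizer P₀))
  have hnd : ¬ p ∣ P₀.relIndex K := fun hd => P.not_dvd_index (by
    have h1 := hd.trans (Dvd.intro _ (relIndex_mul_relIndex P₀ K H hP₀K inf_le_left))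
    rwa [hP₀def, relIndex, subgroupOf, comap_map_eq_self_of_injective H.subtype_injective] at h1)
  let PK : Sylow p K := ((P.2.map H.subtype).comap_subtype (K := K)).toSylow hnd
  have hle : ⁅H, Q⁆ ≤ ⁅K, Q⁆ := by
    refine (commutator_commutator_eq hQH hcop (Or.inr hsol)).ge.trans (commutator_mono ?_ le_rfl)
    rw [commutator_le]
    intro x hx q hq
    refine ⟨commutator_le_of_le_normalizer hQH (commutator_mem_commutator hx hq),
      mem_centralizer_iff.mpr fun z hz => ?_⟩
    obtain ⟨z, hzP, rfl⟩ := hz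
    have hw : x⁻¹ * (z : G) * x ∈ P₀ :=
      ⟨(⟨x, hx⟩ : H)⁻¹ * z * (⟨x, hx⟩ : H), SetLike.mem_coe.mpr (by simpa only [inv_inv] using hPn (⟨x, hx⟩ : H)⁻¹ z hzP), rfl⟩
    have h1 := hcomm _ hw q hq
    have h2 := hcomm _ (mem_map_of_mem H.subtype hzP) q hq
    show (z : G) * ⁅x, q⁆ = ⁅x, q⁆ * (z : G)
    rw [commutatorElement_def]
    have h2' : q⁻¹ * (z : G) = (z : G) * q⁻¹ := by
      have h2b : q * (z : G) = (z : G) * q := h2
      calc q⁻¹ * (z : G) = q⁻¹ * ((z : G) * q) * q⁻¹ := by group
        _ = q⁻¹ * (q * (z : G)) * q⁻¹ := by rw [h2b]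
        _ = _ := by group
    calc (z : G) * (x * q * x⁻¹ * q⁻¹) = x * ((x⁻¹ * (z : G) * x) * q) * x⁻¹ * q⁻¹ := by group
      _ = x * (q * (x⁻¹ * (z : G) * x)) * x⁻¹ * q⁻¹ := by rw [h1]
      _ = x * q * x⁻¹ * ((z : G) * q⁻¹) := by group
      _ = x * q * x⁻¹ * (q⁻¹ * (z : G)) := by rw [h2']
      _ = _ := by group
  refine not_dvd_card_commutator_of_burnside hQK PK ?_ (fun z hz q hq => hcomm _ hz q hq)
    (hpR.trans (card_dvd_of_le hle))
  intro x _
  rw [mem_centralizer_iff]
  intro z hz
  exact Subtype.ext (mem_centralizer_iff.mp x.2.2 _ hz)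

/-- **the fixed points of the complement have a normal complement** -/
theorem ti_hall_fixed_complement {H : Subgroup G} (hTI : Cfsg.IsTISubset (H : Set G)) (hnn : ¬ H.Normal)
    (hHall : (Nat.card H).Coprime (H.subgroupOf (normalizer (H : Set G))).index)
    (hsep : ∃ (n : ℕ) (M : Fin (n + 1) → Subgroup G), M 0 = ⊥ ∧ M (Fin.last n) = ⊤ ∧ Monotone M ∧
      (∀ i, (M i).Normal) ∧
      ∀ i : Fin n, (∀ q : ℕ, q.Prime → q ∣ (M i.castSucc).relIndex (M i.succ) → q ∣ Nat.card H) ∨
        ((M i.castSucc).relIndex (M i.succ)).Coprime (Nat.card H))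
    (h2 : ∀ P : Sylow 2 H, IsMulCommutative (P : Subgroup H))
    {Q : Subgroup G} (hQ : Q ≤ normalizer (H : Set G)) (hQH : Q ⊓ H = ⊥)
    (hQH' : Q ⊔ H = normalizer (H : Set G)) :
    (Nat.card ↥(H ⊓ centralizer (Q : Set G))).Coprime (H ⊓ centralizer (Q : Set G)).index ∧
    ∃ N : Subgroup G, N.Normal ∧ N.IsComplement' (H ⊓ centralizer (Q : Set G)) := by
  have hne : H ≠ ⊥ := fun h => hnn (h ▸ inferInstance)
  obtain ⟨O, hOn, hO, hsup⟩ := exists_coprime_supplement hTI (coprime_index_of_ti hTI hHall) hne hsep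
  haveI := hOn
  haveI := isZGroup_of_ti hTI hnn hO hsup h2
  have hsol : Group.IsSolvable H := inferInstance
  have hcop : (Nat.card Q).Coprime (Nat.card H) := by
    have h1 := card_sup_mul_card_inf (N := H) hQ
    rw [sup_comm, hQH', inf_comm, hQH, card_bot, mul_one] at h1
    have h2' : Nat.card H * H.relIndex (normalizer (H : Set G)) = Nat.card H * Nat.card Q := by
      rw [← h1, ← relIndex_bot_left, relIndex_mul_relIndex _ _ _ bot_le le_normalizer, relIndex_bot_left]
    rw [← Nat.eq_of_mul_eq_mul_left Nat.card_pos h2']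
    exact hHall.symm
  set C := H ⊓ centralizer (Q : Set G)
  set R := ⁅H, Q⁆ with hRdef
  have hRH : R ≤ H := commutator_le_of_le_normalizer hQ
  have hQR : Q ≤ normalizer (R : Set G) := le_normalizer_commutator_right Q H
  have hHR : H ≤ normalizer (R : Set G) := le_normalizer_commutator_left Q H
  set N := O ⊔ (R ⊔ Q) with hNdef
  have hNn : N.Normal := by
    refine normalizer_eq_top_iff.mp (top_le_iff.mp (hsup.ge.trans (sup_le
      (le_sup_left.trans le_normalizer) ?_)))
    rw [← hQH']
    refine sup_le (le_sup_right.trans (le_sup_right.trans le_normalizer)) fun h hh => ?_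
    rw [← Cfsg.Lib.Transfer.map_conj_eq_self_iff]
    refine eq_of_le_of_card_ge ?_ (Cfsg.Lib.Transfer.card_map_conj N h).ge
    rw [hNdef, Subgroup.map_sup, Subgroup.map_sup]
    refine sup_le ?_ (sup_le ?_ ?_)
    · rw [Cfsg.Lib.Transfer.map_conj_eq_self_iff.mpr (le_normalizer_of_normal (mem_top h))]
      exact le_sup_left
    · rw [Cfsg.Lib.Transfer.map_conj_eq_self_iff.mpr (hHR hh)]
      exact le_sup_left.trans le_sup_right
    · rintro _ ⟨q, hq, rfl⟩
      show h * q * h⁻¹ ∈ N
      refine mem_sup_right ?_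
      rw [show h * q * h⁻¹ = ⁅h, q⁆ * q by rw [commutatorElement_def]; group]
      exact mul_mem (mem_sup_left (commutator_mem_commutator hh hq)) (mem_sup_right hq)
  have hcard : (Nat.card N).Coprime (Nat.card C) := by
    have h1 : Nat.card N ∣ Nat.card O * Nat.card ↥(R ⊔ Q) :=
      Dvd.intro _ (card_sup_mul_card_inf le_normalizer_of_normal)
    have h2' : Nat.card ↥(R ⊔ Q) ∣ Nat.card R * Nat.card Q :=
      Dvd.intro _ (card_sup_mul_card_inf hQR)
    have hCH : Nat.card C ∣ Nat.card H := card_dvd_of_le inf_le_left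
    exact Nat.Coprime.coprime_dvd_left (h1.trans (mul_dvd_mul_left _ h2'))
      (Nat.Coprime.mul_left (hO.coprime_dvd_right hCH)
        (Nat.Coprime.mul_left (coprime_fixed_commutator hQ hcop).symm (hcop.coprime_dvd_right hCH)))
  have htop : N ⊔ C = ⊤ := by
    refine top_le_iff.mp (hsup.ge.trans (sup_le (le_sup_left.trans le_sup_left) ?_))
    rw [← hQH']
    refine sup_le ((le_sup_right.trans le_sup_right).trans le_sup_left) ?_
    exact (commutator_sup_centralizer hQ hcop (Or.inr hsol)).ge.trans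
      (sup_le_sup_right (le_sup_left.trans le_sup_right) C)
  have hcompl : N.IsComplement' C := by
    refine isComplement'_of_disjoint_and_mul_eq_univ (disjoint_of_coprime_natCard hcard) ?_
    rw [← normal_mul, htop, coe_top]
  exact ⟨hcompl.index_eq_card.symm ▸ hcard.symm, N, hNn, hcompl⟩

end Cfsg.Lib.SolvStruct
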