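/-
The Hughes–Thompson theorem.
-/
import Cfsg.Agent.Thompson.PComplement
import Cfsg.Agent.Thompson.FixedPointFree
import Cfsg.Agent.Coprime.Hall
import Cfsg.Agent.Coprime.SolvableBasics
import Cfsg.Agent.Coprime.Sylow
import Cfsg.Agent.Coprime.Generation
import Cfsg.Agent.SolvStruct.NilpotentHall
import Cfsg.Agent.Transfer.Basic

set_option linter.style.haveILetI false
set_option linter.unusedSectionVars false

namespace Cfsg.Lib.SolvStruct

open Subgroup
open scoped Pointwise commutatorElement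

universe u

theorem hasNormalPComplement_of_isNilpotent {K : Type*} [Group K] [Finite K] [Group.IsNilpotent K]
    {q : ℕ} [hq : Fact q.Prime] : Cfsg.HasNormalPComplement q K := by
  refine Cfsg.Lib.Transfer.hasNormalPComplement_of_frobenius fun Q hQ g _ hcop x hx => ?_
  have hle : zpowers g ≤ centralizer ({x} : Set K) := by
    refine Cfsg.Lib.Coprime.le_of_forall_sylow fun r hr => ?_
    haveI := Fact.mk hr
    obtain ⟨R⟩ : Nonempty (Sylow r (zpowers g)) := inferInstance
    refine ⟨R, ?_⟩
    rintro _ ⟨w, hw, rfl⟩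
    obtain ⟨i, hi⟩ := IsPGroup.iff_orderOf.1 R.2 ⟨w, hw⟩
    rw [Subgroup.orderOf_mk, ← Subgroup.orderOf_coe] at hi
    obtain ⟨j, hj⟩ := IsPGroup.iff_orderOf.1 hQ ⟨x, hx⟩
    rw [Subgroup.orderOf_mk] at hj
    rw [mem_centralizer_singleton_iff, Subgroup.coe_subtype]
    rcases eq_or_ne r q with rfl | hne
    · have : (w : K) = 1 := orderOf_eq_one_iff.1 (Nat.eq_one_of_dvd_coprimes
        (hcop.pow_right i) (orderOf_dvd_of_mem_zpowers w.2) hi.dvd)
      simp [this]
    · exact (commute_of_coprime_of_nilpotent hne ⟨i, hi⟩ ⟨j, hj⟩).eq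
  exact (mem_centralizer_singleton_iff.1 (hle (mem_zpowers g))).symm

theorem eq_one_of_commute_outside {G : Type*} [Group G] {p : ℕ} {H : Subgroup G}
    (hex : ∀ g : G, g ∉ H → g ^ p = 1) {x h : G} (hx : x ∉ H) (hh : h ∈ H) (hc : Commute h x) : h ^ p = 1 := by
  have h1 := hex (h * x) fun hm => hx ((mul_mem_cancel_left hh).1 hm)
  rwa [hc.mul_pow, hex x hx, mul_one] at h1

theorem eq_one_of_commute_of_coprime {G : Type*} [Group G] {p : ℕ} {H : Subgroup G}
    (hex : ∀ g : G, g ∉ H → g ^ p = 1) {x h : G} (hx : x ∉ H) (hh : h ∈ H) (hc : Commute h x)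
    (hcop : (orderOf h).Coprime p) : h = 1 :=
  orderOf_eq_one_iff.1 (Nat.eq_one_of_dvd_coprimes hcop dvd_rfl
    (orderOf_dvd_of_pow_eq_one (eq_one_of_commute_outside hex hx hh hc)))

/-- The product over a coset of the iterates. -/
theorem pow_card_eq_one_of_split {G : Type*} [Group G] [Finite G] {p : ℕ} [hp : Fact p.Prime]
    {V : Type*} [CommGroup V] (φ : G →* MulAut V) {S : Subgroup G} {x : G}
    (hxS : x ∈ normalizer (S : Set G)) (hord : ∀ s ∈ S, orderOf (s * x) = p)
    (hfix : ∀ v : V, (∀ s ∈ S, φ s v = v) → v = 1)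
    (hsplit : ∀ s ∈ S, ∀ v : V, ∏ i ∈ Finset.range p, φ ((s * x) ^ i) v = 1) (v : V) :
    v ^ Nat.card S = 1 := by
  classical
  haveI := Fintype.ofFinite S
  have hxo : orderOf x = p := by simpa using hord 1 (one_mem _)
  have hc : ∀ (s : S) (i : ℕ), ((s : G) * x) ^ i * (x ^ i)⁻¹ ∈ S := by
    intro s i
    induction i with
    | zero => simp
    | succ i ih =>
      have h2 : x * (((s : G) * x) ^ i * (x ^ i)⁻¹) * x⁻¹ ∈ S := (Subgroup.mem_normalizer_iff.1 hxS _).1 ih
      have : ((s : G) * x) ^ (i + 1) * (x ^ (i + 1))⁻¹ = s * (x * (((s : G) * x) ^ i * (x ^ i)⁻¹) * x⁻¹) := by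
        rw [pow_succ', pow_succ']; group
      rw [this]
      exact mul_mem s.2 h2
  have hzero : ∀ i ∈ (Finset.range p).erase 0, (∏ s : S, φ (((s : G) * x) ^ i) v) = 1 := by
    intro i hi
    rw [Finset.mem_erase, Finset.mem_range] at hi
    let c : S → S := fun s => ⟨((s : G) * x) ^ i * (x ^ i)⁻¹, hc s i⟩
    have hcinj : Function.Injective c := fun s t e => by
      have e' : ((s : G) * x) ^ i = ((t : G) * x) ^ i := mul_right_cancel (congrArg Subtype.val e :)
      have hcop : i.Coprime p :=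
        ((Nat.Prime.coprime_iff_not_dvd hp.out).2 (Nat.not_dvd_of_pos_of_lt (by omega) hi.2)).symm
      obtain ⟨m, -, hm⟩ := Nat.exists_mul_mod_eq_one_of_coprime hcop hp.out.one_lt
      have key : ∀ u : S, ((u : G) * x) = (((u : G) * x) ^ i) ^ m := fun u => by
        rw [← pow_mul, ← pow_mod_orderOf, hord u u.2, hm, pow_one]
      exact Subtype.ext (mul_right_cancel ((key s).trans ((congrArg (· ^ m) e').trans (key t).symm)))
    have h1 : (∏ s : S, φ (((s : G) * x) ^ i) v) = ∏ s : S, φ (s : G) (φ (x ^ i) v) := by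
      refine Fintype.prod_bijective c (Finite.injective_iff_bijective.1 hcinj) _ _ fun s => ?_
      rw [← MulAut.mul_apply, ← map_mul]
      show _ = φ ((((s : G) * x) ^ i * (x ^ i)⁻¹) * x ^ i) v
      rw [inv_mul_cancel_right]
    rw [h1]
    refine hfix _ fun t ht => ?_
    rw [map_prod]
    refine Fintype.prod_bijective (fun s : S => (⟨t, ht⟩ : S) * s) (Group.mulLeft_bijective _) _ _ fun s => ?_
    rw [← MulAut.mul_apply, ← map_mul]
    rfl
  have h2 : ∏ s : S, ∏ i ∈ Finset.range p, φ (((s : G) * x) ^ i) v = 1 :=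
    Finset.prod_eq_one fun s _ => hsplit s s.2 v
  rw [Finset.prod_comm, ← Finset.mul_prod_erase _ _ (Finset.mem_range.2 hp.out.pos), Finset.prod_eq_one hzero,
    mul_one] at h2
  simpa [Finset.card_univ, ← Nat.card_eq_fintype_card] using h2

theorem mul_pow_eq_prod {G : Type*} [Group G] {V : Subgroup G} [V.Normal] [IsMulCommutative V] (v : V) (y : G) :
    letI : CommGroup V := { mul_comm := mul_comm' }
    ∀ n : ℕ, ((v : G) * y) ^ n = ((∏ i ∈ Finset.range n, MulAut.conjNormal (H := V) (y ^ i) v : V) : G) * y ^ n := by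
  letI : CommGroup V := { mul_comm := mul_comm' }
  intro n
  induction n with
  | zero => simp
  | succ n ih =>
    rw [pow_succ ((v : G) * y), ih, Finset.prod_range_succ, Subgroup.coe_mul, MulAut.conjNormal_apply, pow_succ]
    group

theorem isNilpotent_hughes_aux {p : ℕ} [hp : Fact p.Prime] (n : ℕ) :
    ∀ (G : Type u) [Group G] [Finite G], Nat.card G = n → ∀ H : Subgroup G, H.Normal →
      H ≠ ⊤ → (∀ g : G, g ∉ H → g ^ p = 1) → Group.IsNilpotent H := by
  induction n using Nat.strong_induction_on with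
  | _ n ih =>
  intro G _ _ hn H hHn hHt hex
  haveI := hHn
  -- subgroups and quotients
  have hsub : ∀ L : Subgroup G, L ≠ ⊤ → ¬ L ≤ H → Group.IsNilpotent (L ⊓ H : Subgroup G) := by
    intro L hL hLH
    have hlt : Nat.card L < n := hn ▸ lt_of_le_of_ne (Subgroup.card_le_card_group L)
      (fun h => hL (Subgroup.eq_top_of_card_eq L h))
    haveI : (H.subgroupOf L).Normal := inferInstance
    have h := ih _ hlt L rfl (H.subgroupOf L) inferInstance (fun h => hLH (Subgroup.subgroupOf_eq_top.1 h))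
      fun g hg => Subtype.ext (hex g hg)
    have e : (H.subgroupOf L).map L.subtype = L ⊓ H := by rw [Subgroup.subgroupOf_map_subtype, inf_comm]
    exact (Group.isNilpotent_congr (((H.subgroupOf L).equivMapOfInjective _ L.subtype_injective).trans
      (MulEquiv.subgroupCongr e))).1 h
  have hquo : ∀ N : Subgroup G, ∀ [N.Normal], N ≠ ⊥ → N ≤ H → Group.IsNilpotent (H.map (QuotientGroup.mk' N)) := by
    intro N hN hNb hNH
    have hlt : Nat.card (G ⧸ N) < n := hn ▸ Cfsg.Lib.Coprime.card_quotient_lt hNb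
    have hc : (H.map (QuotientGroup.mk' N)).comap (QuotientGroup.mk' N) = H := by
      rw [Subgroup.comap_map_eq, QuotientGroup.ker_mk', sup_eq_left.2 hNH]
    refine ih _ hlt (G ⧸ N) rfl _ (hHn.map _ (QuotientGroup.mk'_surjective N)) (fun h => hHt ?_) fun g hg => ?_
    · rw [← hc, h, Subgroup.comap_top]
    · obtain ⟨g, rfl⟩ := QuotientGroup.mk'_surjective N g
      rw [← map_pow, hex g fun h => hg (Subgroup.mem_map_of_mem _ h), map_one]
  obtain ⟨x, hx⟩ : ∃ x, x ∉ H := by
    by_contra h
    push Not at h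
    exact hHt (eq_top_iff.2 fun g _ => h g)
  by_cases hHx : H ⊔ zpowers x = ⊤
  swap
  · have h := hsub _ hHx fun h => hx (h ((le_sup_right : zpowers x ≤ H ⊔ zpowers x) (mem_zpowers x)))
    rwa [inf_eq_right.2 le_sup_left] at h
  by_contra hnil
  -- normal subgroups of `G` properly inside `H` are nilpotent
  have hproper : ∀ U : Subgroup G, U.Normal → U ≤ H → U ≠ H → Group.IsNilpotent U := by
    intro U hU hUH hne
    haveI := hU
    have hx' : ¬ U ⊔ zpowers x ≤ H := fun h => hx (h ((le_sup_right : zpowers x ≤ U ⊔ zpowers x) (mem_zpowers x)))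
    have hmem : ∀ g ∈ (U ⊔ zpowers x) ⊓ H, g ∈ U := by
      intro g hg
      obtain ⟨hg1, hg2⟩ := Subgroup.mem_inf.1 hg
      obtain ⟨u, hu, z, hz, rfl⟩ := Subgroup.mem_sup_of_normal_left.1 hg1
      have hzH : z ∈ H := (mul_mem_cancel_left (hUH hu)).1 hg2
      obtain ⟨k, hk⟩ := hz
      rcases eq_or_ne z 1 with rfl | hz1
      · simpa using hu
      exfalso
      apply hx
      have hxo : orderOf x = p := orderOf_eq_prime (hex x hx) fun h => hx (h ▸ one_mem H)
      haveI : Fact (Nat.card (zpowers x)).Prime := ⟨by rw [Nat.card_zpowers, hxo]; exact hp.out⟩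
      have hle : zpowers x ≤ H := by
        rcases (H.subgroupOf (zpowers x)).eq_bot_or_eq_top_of_prime_card with h | h
        · exfalso
          have : (⟨z, k, hk⟩ : zpowers x) ∈ H.subgroupOf (zpowers x) := hzH
          rw [h, Subgroup.mem_bot] at this
          exact hz1 (congrArg Subtype.val this)
        · exact Subgroup.subgroupOf_eq_top.1 h
      exact hle (mem_zpowers x)
    have heq : (U ⊔ zpowers x) ⊓ H = U := le_antisymm hmem (le_inf le_sup_left hUH)
    by_cases htop : U ⊔ zpowers x = ⊤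
    · exfalso
      rw [htop, top_inf_eq] at heq
      exact hne heq.symm
    · have := hsub _ htop hx'
      rwa [heq] at this
  -- Frattini: Sylow normalisers are not inside `H`
  have hfrat : ∀ {q : ℕ} [Fact q.Prime] (S : Sylow q H),
      ¬ normalizer (((S : Subgroup H).map H.subtype : Subgroup G) : Set G) ≤ H := by
    intro q _ S h
    have := Sylow.normalizer_sup_eq_top S
    rw [sup_eq_right.2 h] at this
    exact hHt this
  by_cases hN : ∃ N : Subgroup G, N.Normal ∧ N ≤ H ∧ N ≠ ⊥ ∧ N ≠ H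
  swap
  · -- no normal subgroup inside
    push Not at hN
    obtain ⟨q, hq, hq2, hqd⟩ : ∃ q : ℕ, q.Prime ∧ q ≠ 2 ∧ q ∣ Nat.card H := by
      by_contra hno
      push Not at hno
      haveI : Fact (Nat.Prime 2) := ⟨Nat.prime_two⟩
      exact hnil (IsPGroup.of_card (p := 2) (n := (Nat.card H).primeFactorsList.length)
        (Nat.eq_prime_pow_of_unique_prime_dvd Nat.card_pos.ne' fun {d} hd hdd => by
          by_contra h'; exact hno d hd h' hdd)).isNilpotent
    haveI := Fact.mk hq
    obtain ⟨S⟩ : Nonempty (Sylow q H) := inferInstance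
    have hSne : (S : Subgroup H) ≠ ⊥ := fun h => by
      have := Sylow.dvd_card_of_dvd_card S hqd
      rw [h, Subgroup.card_bot, Nat.dvd_one] at this
      exact hq.ne_one this
    have hStop : (S : Subgroup H) ≠ ⊤ := fun h =>
      hnil ((h ▸ S.2 : IsPGroup q (⊤ : Subgroup H)).of_equiv Subgroup.topEquiv).isNilpotent
    -- characteristic subgroups of the Sylow subgroup have nilpotent normalisers in `H`
    have key : ∀ K : Subgroup H, K ≤ (S : Subgroup H) → K ≠ ⊥ →
        normalizer (((S : Subgroup H).map H.subtype : Subgroup G) : Set G) ≤ normalizer ((K.map H.subtype : Subgroup G) : Set G) →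
        Cfsg.HasNormalPComplement q (normalizer (K : Set H)) := by
      intro K hKS hK1 hnorm
      set L := normalizer ((K.map H.subtype : Subgroup G) : Set G)
      have hLne : L ≠ ⊤ := fun h => by
        have hKn : (K.map H.subtype).Normal := normalizer_eq_top_iff.1 h
        have := hN _ hKn (Subgroup.map_subtype_le _) (fun h' => hK1 (by
          rwa [Subgroup.map_eq_bot_iff_of_injective _ H.subtype_injective] at h'))
        apply hStop
        rw [eq_top_iff]
        refine le_trans (le_of_eq ?_) hKS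
        refine Subgroup.map_injective H.subtype_injective ?_
        rw [this, ← MonoidHom.range_eq_map, Subgroup.range_subtype]
      have hnil' : Group.IsNilpotent (L ⊓ H : Subgroup G) :=
        hsub L hLne fun h => hfrat S (hnorm.trans h)
      haveI := hnil'
      let f : normalizer (K : Set H) →* (L ⊓ H : Subgroup G) :=
        MonoidHom.mk' (fun u => ⟨((u : H) : G), Subgroup.mem_inf.2 ⟨by
          rw [Subgroup.mem_normalizer_iff]
          intro z
          constructor
          · rintro ⟨w, hw, rfl⟩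
            exact ⟨(u : H) * w * (u : H)⁻¹, (Subgroup.mem_normalizer_iff.1 u.2 w).1 hw, rfl⟩
          · rintro ⟨w, hw, e⟩
            refine ⟨(u : H)⁻¹ * w * (u : H), (Subgroup.mem_normalizer_iff''.1 u.2 w).1 hw, ?_⟩
            simp only [map_mul, map_inv]
            rw [e]
            show ((u : H) : G)⁻¹ * (((u : H) : G) * z * ((u : H) : G)⁻¹) * ((u : H) : G) = z
            group, (u : H).2⟩⟩) fun _ _ => rfl
      have hf : Function.Injective f := fun a b e => Subtype.ext (Subtype.ext (congrArg Subtype.val e :))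
      exact Cfsg.Lib.Transfer.hasNormalPComplement_of_injective f hf hasNormalPComplement_of_isNilpotent
    have hcomp : Cfsg.HasNormalPComplement q H := by
      refine Cfsg.Lib.Thompson.hasNormalPComplement_of_thompson hq2 _ H rfl S ⟨?_, ?_⟩
      · refine key _ (Cfsg.Lib.Thompson.thompsonSubgroupOf_le _)
          (Cfsg.Lib.Thompson.thompsonSubgroupOf_ne_bot S.2 hSne) ?_
        rw [Cfsg.Lib.Thompson.map_thompsonSubgroupOf (f := H.subtype) H.subtype_injective.injOn]
        exact Cfsg.Lib.Thompson.normalizer_le_normalizer_thompson _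
      · set Zs := (S : Subgroup H) ⊓ centralizer ((S : Subgroup H) : Set H)
        have h1 : Cfsg.HasNormalPComplement q (normalizer (Zs : Set H)) := by
          refine key Zs inf_le_left (Cfsg.Lib.Thompson.center_ne_bot S.2 hSne) ?_
          rw [Cfsg.Lib.Thompson.map_inf_centralizer (f := H.subtype) H.subtype_injective.injOn]
          exact Cfsg.Lib.Thompson.normalizer_le_normalizer_center _
        exact Cfsg.Lib.Transfer.hasNormalPComplement_of_injective
          (Subgroup.inclusion (Cfsg.Lib.Thompson.centralizer_le_normalizer Zs))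
          (Subgroup.inclusion_injective _) h1
    obtain ⟨M, hMn, hMc, k, hMi⟩ := Cfsg.Lib.Transfer.hasNormalPComplement_iff.1 hcomp
    haveI := hMn
    have hMchar : M.Characteristic := by
      rw [Cfsg.Lib.Transfer.eq_pResidual_of_complement hMc hMi]; infer_instance
    by_cases hM1 : M = ⊥
    · refine hnil (IsPGroup.of_card (p := q) (n := k) ?_).isNilpotent
      rw [← hMi, hM1, Subgroup.index_bot]
    · have := hN (M.map H.subtype) inferInstance (Subgroup.map_subtype_le _) (fun h => hM1 (by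
        rwa [Subgroup.map_eq_bot_iff_of_injective _ H.subtype_injective] at h))
      have hMtop : M = ⊤ := by
        refine Subgroup.map_injective H.subtype_injective ?_
        rw [this, ← MonoidHom.range_eq_map, Subgroup.range_subtype]
      rw [hMtop, Subgroup.card_top] at hMc
      exact hq.coprime_iff_not_dvd.1 hMc.symm hqd
  obtain ⟨N, hNn, hNH, hNb, hNne⟩ := hN
  haveI := hNn
  have hNnil : Group.IsNilpotent N := hproper N hNn hNH hNne
  have hsol : Group.IsSolvable H := by
    let f : H →* H.map (QuotientGroup.mk' N) := (QuotientGroup.mk' N).subgroupMap H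
    haveI := hquo N hNb hNH
    haveI : Group.IsNilpotent f.ker := by
      haveI : Group.IsNilpotent (N.subgroupOf H) :=
        (Group.isNilpotent_congr (Subgroup.subgroupOfEquivOfLe hNH)).2 hNnil
      refine (Group.isNilpotent_congr (MulEquiv.subgroupCongr ?_)).1 (inferInstance : Group.IsNilpotent (N.subgroupOf H))
      ext u
      show (u : G) ∈ N ↔ f u = 1
      rw [Subtype.ext_iff]
      exact (QuotientGroup.eq_one_iff (u : G)).symm
    exact Group.isSolvable_of_ker_le_range f.ker.subtype f (by rw [Subgroup.range_subtype])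
  obtain ⟨V, hVN, hVn, hVb, hVmin⟩ := Cfsg.Lib.Coprime.exists_minimal_normal hNn hNb
  haveI := hVn
  have hVH : V ≤ H := hVN.trans hNH
  have hVne : V ≠ H := fun h => hNne (le_antisymm hNH (h ▸ hVN))
  have hVsol : Group.IsSolvable V := Cfsg.Lib.Coprime.isSolvable_of_le hVH hsol
  obtain ⟨hVc, r, hr, hVr, hVexp⟩ := Cfsg.Lib.Coprime.minimal_normal_solvable hVsol hVb hVmin
  haveI := hVc
  haveI := Fact.mk hr
  have huniq : ∀ W : Subgroup G, W.Normal → W ≤ H → W ⊓ V = ⊥ → W = ⊥ := by
    intro W hW hWH hWV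
    by_contra hWb
    haveI := hW
    apply hnil
    haveI := hquo V hVb hVH
    haveI := hquo W hWb hWH
    let f : H →* H.map (QuotientGroup.mk' V) × H.map (QuotientGroup.mk' W) :=
      ((QuotientGroup.mk' V).subgroupMap H).prod ((QuotientGroup.mk' W).subgroupMap H)
    have hf : Function.Injective f := by
      rw [← MonoidHom.ker_eq_bot_iff, Subgroup.eq_bot_iff_forall]
      intro u hu
      have h1 := congrArg (fun t => (t.1 : G ⧸ V)) hu
      have h2 := congrArg (fun t => (t.2 : G ⧸ W)) hu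
      have : (u : G) ∈ W ⊓ V := Subgroup.mem_inf.2
        ⟨(QuotientGroup.eq_one_iff _).1 h2, (QuotientGroup.eq_one_iff _).1 h1⟩
      rw [hWV, Subgroup.mem_bot] at this
      exact Subtype.ext this
    exact (Group.isNilpotent_congr (MonoidHom.ofInjective hf)).2 inferInstance
  obtain ⟨s, hs, hsr, hsd⟩ : ∃ s : ℕ, s.Prime ∧ s ≠ r ∧ s ∣ Nat.card H := by
    by_contra hno
    push Not at hno
    exact hnil (IsPGroup.of_card (p := r) (n := (Nat.card H).primeFactorsList.length)
      (Nat.eq_prime_pow_of_unique_prime_dvd Nat.card_pos.ne' fun {d} hd hdd => by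
        by_contra h'; exact hno d hd h' hdd)).isNilpotent
  haveI := Fact.mk hs
  obtain ⟨S⟩ : Nonempty (Sylow s H) := inferInstance
  set S' := (S : Subgroup H).map H.subtype with hS'
  have hS'H : S' ≤ H := Subgroup.map_subtype_le _
  have hS'p : IsPGroup s S' := S.2.map _
  have hS'b : S' ≠ ⊥ := fun h => by
    rw [hS', Subgroup.map_eq_bot_iff_of_injective _ H.subtype_injective] at h
    have := Sylow.dvd_card_of_dvd_card S hsd
    rw [h, Subgroup.card_bot, Nat.dvd_one] at this
    exact hs.ne_one this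
  have hdis : S' ⊓ V = ⊥ := disjoint_iff.1 (IsPGroup.disjoint_of_ne s r hsr S' V hS'p hVr)
  have hnotnormal : ¬ S'.Normal := fun h => hS'b (huniq S' h hS'H hdis)
  -- `H = V S'`
  set π := QuotientGroup.mk' V
  have hU : (V ⊔ S').Normal := by
    haveI := hquo V hVb hVH
    haveI : (H.map π).Normal := hHn.map _ (QuotientGroup.mk'_surjective V)
    let f : H →* H.map π := π.subgroupMap H
    let Sb := S.mapSurjective (f := f) (π.subgroupMap_surjective H)
    haveI : (Sb : Subgroup (H.map π)).Normal := by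
      have h03 := (Group.isNilpotent_of_finite_tfae (G := H.map π)).out 0 3
      exact h03.1 inferInstance s ‹_› Sb
    haveI : (Sb : Subgroup (H.map π)).Characteristic := Sb.characteristic_of_normal inferInstance
    have hn' : ((Sb : Subgroup (H.map π)).map (H.map π).subtype).Normal := inferInstance
    have e : (Sb : Subgroup (H.map π)).map (H.map π).subtype = S'.map π := by
      rw [Sylow.coe_mapSurjective, hS', Subgroup.map_map, Subgroup.map_map]
      rfl
    rw [e] at hn'
    have := hn'.comap π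
    rwa [Subgroup.comap_map_eq, QuotientGroup.ker_mk', sup_comm] at this
  haveI := hU
  have hcommV : ∀ U : Subgroup G, Group.IsNilpotent U → V ≤ U → ∀ t ∈ U, (∃ i, orderOf t = s ^ i) →
      ∀ v ∈ V, Commute t v := by
    intro U hUn hVU t ht hto v hv
    haveI := hUn
    obtain ⟨i, hi⟩ := IsPGroup.iff_orderOf.1 hVr ⟨v, hv⟩
    rw [Subgroup.orderOf_mk] at hi
    have h := commute_of_coprime_of_nilpotent hsr (x := (⟨t, ht⟩ : U)) (y := ⟨v, hVU hv⟩)
      (by simpa [Subgroup.orderOf_mk] using hto) ⟨i, by rw [Subgroup.orderOf_mk, hi]⟩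
    exact congrArg Subtype.val h.eq
  have hsord : ∀ t ∈ S', ∃ i, orderOf t = s ^ i := fun t ht => by
    obtain ⟨i, hi⟩ := IsPGroup.iff_orderOf.1 hS'p ⟨t, ht⟩
    exact ⟨i, by rwa [Subgroup.orderOf_mk] at hi⟩
  have hHVS : V ⊔ S' = H := by
    by_contra hne
    have hUnil := hproper _ hU (sup_le hVH hS'H) hne
    refine hnotnormal ⟨fun t ht g => ?_⟩
    have hgU : g * t * g⁻¹ ∈ V ⊔ S' := hU.conj_mem t ((le_sup_right : S' ≤ V ⊔ S') ht) g
    obtain ⟨v, hv, t', ht', he⟩ := Subgroup.mem_sup_of_normal_left.1 hgU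
    obtain ⟨i, hi⟩ := hsord t ht
    obtain ⟨j, hj⟩ := hsord t' ht'
    have hc : Commute v t' := (hcommV _ hUnil le_sup_left t' ((le_sup_right : S' ≤ V ⊔ S') ht') ⟨j, hj⟩ v hv).symm
    have h1 : v ^ (s ^ (i + j)) = 1 := by
      have h2 : (g * t * g⁻¹) ^ (s ^ (i + j)) = 1 := by
        rw [conj_pow, orderOf_dvd_iff_pow_eq_one.1 (dvd_trans hi.dvd (pow_dvd_pow s (Nat.le_add_right i j)))]; group
      rwa [← he, hc.mul_pow, orderOf_dvd_iff_pow_eq_one.1 (dvd_trans hj.dvd (pow_dvd_pow s (Nat.le_add_left j i))), mul_one] at h2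
    obtain ⟨k, hk⟩ := IsPGroup.iff_orderOf.1 hVr ⟨v, hv⟩
    rw [Subgroup.orderOf_mk] at hk
    have : v = 1 := orderOf_eq_one_iff.1 (Nat.eq_one_of_dvd_coprimes
      (((Nat.coprime_primes hr hs).2 hsr.symm).pow k (i + j)) hk.dvd (orderOf_dvd_of_pow_eq_one h1))
    rw [← he, this, one_mul]
    exact ht'
  set L := normalizer (S' : Set G) with hLdef
  have hLH : ¬ L ≤ H := hfrat S
  have hVL : V ⊔ L = ⊤ := by
    rw [eq_top_iff, ← Sylow.normalizer_sup_eq_top S]
    refine sup_le le_sup_right ?_
    rw [← hHVS]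
    exact sup_le le_sup_left (le_sup_of_le_right le_normalizer)
  have hWV : ∀ W : Subgroup G, W ≤ V → L ≤ normalizer (W : Set G) → W = ⊥ ∨ W = V := by
    intro W hW hL
    refine hVmin W (normalizer_eq_top_iff.1 (eq_top_iff.2 ?_)) hW
    rw [← hVL]
    refine sup_le (fun v hv => Subgroup.centralizer_le_normalizer _ ?_) hL
    exact fun w hw => congrArg Subtype.val (mul_comm' (⟨w, hW hw⟩ : V) ⟨v, hv⟩)
  have hT : ∀ T : Subgroup G, T ≤ S' → L ≤ normalizer (T : Set G) → (T ≠ S' ∨ ∀ t ∈ T, ∀ v ∈ V, Commute t v) →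
      T = ⊥ := by
    intro T hTS hTL hcase
    have hcomm : ∀ t ∈ T, ∀ v ∈ V, Commute t v := by
      rcases hcase with hne | h
      · have hn : (V ⊔ T).Normal := normalizer_eq_top_iff.1 (eq_top_iff.2 (by
          rw [← hVL]
          exact sup_le (le_trans le_sup_left le_normalizer)
            (Cfsg.Lib.Coprime.le_normalizer_sup le_normalizer_of_normal hTL)))
        have hne' : V ⊔ T ≠ H := fun e => hne (le_antisymm hTS fun t ht => by
          obtain ⟨v, hv, t', ht', he⟩ := Subgroup.mem_sup_of_normal_left.1 (e.ge (hS'H ht))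
          have : v ∈ S' ⊓ V := Subgroup.mem_inf.2 ⟨by
            rw [show v = t * t'⁻¹ by rw [← he]; group]; exact mul_mem ht (inv_mem (hTS ht')), hv⟩
          rw [hdis, Subgroup.mem_bot] at this
          rw [← he, this, one_mul]; exact ht')
        have hnil' := hproper _ hn (sup_le hVH (hTS.trans hS'H)) hne'
        exact fun t ht v hv => hcommV _ hnil' le_sup_left t ((le_sup_right : T ≤ V ⊔ T) ht) (hsord t (hTS ht)) v hv
      · exact h
    refine huniq T (normalizer_eq_top_iff.1 (eq_top_iff.2 ?_)) (hTS.trans hS'H) ?_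
    · rw [← hVL]
      exact sup_le (fun v hv => Subgroup.centralizer_le_normalizer _ fun t ht => (hcomm t ht v hv).eq) hTL
    · exact le_bot_iff.1 ((inf_le_inf_right V hTS).trans hdis.le)
  have hScomm : ∀ a ∈ S', ∀ b ∈ S', a * b = b * a := by
    haveI : Group.IsNilpotent S' := hS'p.isNilpotent
    haveI : Nontrivial S' := (Subgroup.nontrivial_iff_ne_bot S').2 hS'b
    have hlt := Group.IsSolvable.commutator_lt_top_of_nontrivial S'
    have hne : ⁅S', S'⁆ ≠ S' := fun e => hlt.ne (by
      refine Subgroup.map_injective S'.subtype_injective ?_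
      rw [Subgroup.map_subtype_commutator, e, ← MonoidHom.range_eq_map, Subgroup.range_subtype])
    have hle : ⁅S', S'⁆ ≤ S' := (Subgroup.map_subtype_commutator S').symm ▸ Subgroup.map_subtype_le _
    have := hT _ hle (fun g hg => by
      rw [← Cfsg.Lib.Coprime.conjMap_eq_self_iff]
      show (⁅S', S'⁆).map (MulAut.conj g).toMonoidHom = _
      rw [Subgroup.map_commutator]
      have e : S'.map (MulAut.conj g).toMonoidHom = S' := Cfsg.Lib.Coprime.conjMap_eq_self hg
      rw [e]) (Or.inl hne)
    intro a ha b hb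
    have h := this.le (Subgroup.commutator_mem_commutator ha hb)
    rwa [Subgroup.mem_bot, commutatorElement_eq_one_iff_mul_comm] at h
  have hC : S' ⊓ centralizer (V : Set G) = ⊥ := by
    refine hT _ inf_le_left (Cfsg.Lib.Coprime.le_normalizer_inf le_rfl ?_) (Or.inr fun t ht v hv =>
      ((Subgroup.mem_inf.1 ht).2 v hv).symm)
    exact le_normalizer_of_normal
  have hCV : V ⊓ centralizer (S' : Set G) = ⊥ := by
    refine (hWV _ inf_le_left (Cfsg.Lib.Coprime.le_normalizer_inf le_normalizer_of_normal ?_)).resolve_right fun e => ?_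
    · exact Cfsg.Lib.Thompson.normalizer_le_normalizer_centralizer S'
    · apply hS'b
      rw [← hC, left_eq_inf]
      exact fun t ht v hv => ((Subgroup.mem_inf.1 (e.ge hv)).2 t ht).symm
  obtain ⟨y, hyL, hyH⟩ := SetLike.not_le_iff_exists.1 hLH
  letI : CommGroup V := { mul_comm := mul_comm' }
  let φ : G →* MulAut V := MulAut.conjNormal
  have hVr' : ∀ v : V, v ^ r = 1 := fun v => Subtype.ext (hVexp v v.2)
  have hv1 : ∀ (v : V) (m : ℕ), m.Coprime r → v ^ m = 1 → v = 1 := fun v m hm h =>
    orderOf_eq_one_iff.1 (Nat.eq_one_of_dvd_coprimes hm (orderOf_dvd_of_pow_eq_one h)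
      (orderOf_dvd_of_pow_eq_one (hVr' v)))
  obtain ⟨v₀, hv₀⟩ : ∃ v : V, v ≠ 1 := by
    obtain ⟨v, hv, hv'⟩ := (Subgroup.bot_or_exists_ne_one V).resolve_left hVb
    exact ⟨⟨v, hv⟩, fun e => hv' (congrArg Subtype.val e)⟩
  by_cases hrp : r = p
  · subst hrp
    apply hv₀
    have hord : ∀ t ∈ S', orderOf (t * y) = r := fun t ht => by
      have hty : t * y ∉ H := fun h => hyH ((mul_mem_cancel_left (hS'H ht)).1 h)
      exact orderOf_eq_prime (hex _ hty) fun e => hty (e ▸ one_mem H)
    have hone := pow_card_eq_one_of_split (p := r) φ (S := S') hyL hord (fun v hv => by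
      have : (v : G) ∈ V ⊓ centralizer (S' : Set G) := Subgroup.mem_inf.2 ⟨v.2, fun t ht => by
        have h := congrArg Subtype.val (hv t ht)
        exact (mul_inv_eq_iff_eq_mul.1 h)⟩
      rw [hCV, Subgroup.mem_bot] at this
      exact Subtype.ext this) (fun t ht v => by
      have hty : t * y ∉ H := fun h => hyH ((mul_mem_cancel_left (hS'H ht)).1 h)
      have hvty : (v : G) * (t * y) ∉ H := fun h => hty ((mul_mem_cancel_left (hVH v.2)).1 h)
      have h1 := hex _ hvty
      rw [mul_pow_eq_prod v (t * y) r, hex _ hty, mul_one] at h1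
      exact Subtype.ext h1) v₀
    obtain ⟨j, hj⟩ := hS'p.exists_card_eq
    exact hv1 v₀ _ (by rw [hj]; exact ((Nat.coprime_primes hs hr).2 hsr).pow_left j) hone
  by_cases hsp : s = p
  · subst hsp
    set X := S' ⊔ zpowers y
    have hyo : orderOf y = s := orderOf_eq_prime (hex y hyH) fun e => hyH (e ▸ one_mem H)
    have hXn : X ≤ normalizer (S' : Set G) := sup_le le_normalizer (zpowers_le.2 hyL)
    haveI : (S'.subgroupOf X).Normal := Subgroup.normal_subgroupOf_of_le_normalizer hXn
    have hXp : IsPGroup s X := IsPGroup.to_sup_of_normal_left' hS'p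
      (IsPGroup.of_card (n := 1) (by rw [Nat.card_zpowers, hyo, pow_one])) (zpowers_le.2 hyL)
    haveI := hXp.isNilpotent
    obtain ⟨zz, hzz, hzz1⟩ := (Subgroup.bot_or_exists_ne_one _).resolve_left
      (Cfsg.Lib.Coprime.inf_center_ne_bot (S'.subgroupOf X) (fun h => hS'b (by
        have h' := congrArg (Subgroup.map X.subtype) h
        rwa [Subgroup.subgroupOf_map_subtype, Subgroup.map_bot, inf_eq_left.2 le_sup_left] at h')))
    obtain ⟨hzS, hzC⟩ := Subgroup.mem_inf.1 hzz
    set z : G := (zz : G)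
    have hzS' : z ∈ S' := hzS
    have hzy : Commute z y := (congrArg Subtype.val
      (Subgroup.mem_center_iff.1 hzC (⟨y, (le_sup_right : zpowers y ≤ X) (mem_zpowers y)⟩ : X))).symm
    have hzp : z ^ s = 1 := eq_one_of_commute_outside hex hyH (hS'H hzS') hzy
    let F : Subgroup V := MonoidHom.eqLocus (φ z).toMonoidHom (MonoidHom.id V)
    have hall : ∀ v : V, φ z v = v := by
      intro v
      have h1 : v ^ s ∈ F := Cfsg.Lib.Coprime.pow_mem_of_fixed (x := φ y) (y := φ z) hs
        (by rw [← map_pow, hex y hyH, map_one]) (by rw [← map_pow, hzp, map_one])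
        (hzy.symm.map φ) (fun w hw => hw) (fun j _ w hw => by
          have hyz : y * z ^ j ∉ H := fun h => hyH ((mul_mem_cancel_right (pow_mem (hS'H hzS') j)).1 h)
          rw [← map_pow, ← map_mul] at hw
          have hc : Commute (w : G) (y * z ^ j) := (mul_inv_eq_iff_eq_mul.1 (congrArg Subtype.val hw)).symm
          have : w = 1 := hv1 w s ((Nat.coprime_primes hs hr).2 hsr)
            (Subtype.ext (eq_one_of_commute_outside hex hyz (hVH w.2) hc))
          rw [this]; exact one_mem F) v
      obtain ⟨m, -, hm⟩ := Nat.exists_mul_mod_eq_one_of_coprime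
        ((Nat.coprime_primes hs hr).2 hsr) hr.one_lt
      have hv' : v = (v ^ s) ^ m := by
        conv_lhs => rw [← pow_one v, ← hm, ← pow_eq_pow_mod _ (hVr' v)]
        rw [pow_mul]
      have h2 : v ∈ F := hv' ▸ pow_mem h1 m
      exact h2
    apply hzz1
    have : z ∈ S' ⊓ centralizer (V : Set G) := Subgroup.mem_inf.2 ⟨hzS', fun v hv =>
      (mul_inv_eq_iff_eq_mul.1 (congrArg Subtype.val (hall ⟨v, hv⟩))).symm⟩
    rw [hC, Subgroup.mem_bot] at this
    exact Subtype.ext this
  · apply hnil
    have hcop : (Nat.card H).Coprime p := by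
      refine ((Nat.Prime.coprime_iff_not_dvd hp.out).2 fun hd => ?_).symm
      obtain ⟨w, hw⟩ := exists_prime_orderOf_dvd_card' p hd
      obtain ⟨v, hv, t, ht, he⟩ := Subgroup.mem_sup_of_normal_left.1 (hHVS.ge w.2)
      have hw' : orderOf (w : G) = p := by rw [Subgroup.orderOf_coe, hw]
      obtain ⟨i, hi⟩ := hsord t ht
      have h1 : (QuotientGroup.mk' V (w : G)) ^ (s ^ i) = 1 := by
        rw [← he, map_mul, (QuotientGroup.eq_one_iff v).2 hv |> fun e => (e : QuotientGroup.mk' V v = 1),
          one_mul, ← map_pow, ← hi, pow_orderOf_eq_one, map_one]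
      have h2 : (w : G) ^ (s ^ i) ∈ V := by
        rw [← QuotientGroup.eq_one_iff, ← QuotientGroup.mk'_apply, map_pow]; exact h1
      have h3 : (w : G) ^ (s ^ i * r) = 1 := by rw [pow_mul]; exact hVexp _ h2
      have h4 : p ∣ s ^ i * r := hw' ▸ orderOf_dvd_of_pow_eq_one h3
      rcases hp.out.dvd_mul.1 h4 with h5 | h5
      · exact hsp ((Nat.prime_dvd_prime_iff_eq hp.out hs).1 (hp.out.dvd_of_dvd_pow h5)).symm
      · exact hrp ((Nat.prime_dvd_prime_iff_eq hp.out hr).1 h5).symm
    refine Cfsg.Lib.Thompson.isNilpotent_of_fpf (G := H) (MulAut.conjNormal (H := H) y).toMonoidHom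
      (fun u hu => ?_) hp.out (funext fun u => ?_)
    · have hc : Commute (u : G) y := (mul_inv_eq_iff_eq_mul.1 (congrArg Subtype.val hu)).symm
      refine Subtype.ext (eq_one_of_commute_of_coprime hex hyH u.2 hc ?_)
      rw [Subgroup.orderOf_coe]
      exact Nat.Coprime.coprime_dvd_left (_root_.orderOf_dvd_natCard u) hcop
    · have key : ∀ n : ℕ, ((((MulAut.conjNormal (H := H) y).toMonoidHom : H → H)^[n] u : H) : G) =
          y ^ n * u * (y ^ n)⁻¹ := by
        intro n
        induction n with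
        | zero => simp
        | succ n ih =>
          rw [Function.iterate_succ_apply', MulEquiv.coe_toMonoidHom, MulAut.conjNormal_apply]
          rw [MulEquiv.coe_toMonoidHom] at ih
          rw [ih, pow_succ']
          group
      refine Subtype.ext ?_
      rw [key, hex y hyH]
      simp

theorem isNilpotent_hughes {G : Type u} [Group G] [Finite G] {p : ℕ} [Fact p.Prime] {H : Subgroup G}
    (hHn : H.Normal) (hH : H ≠ ⊤) (hex : ∀ g : G, g ∉ H → g ^ p = 1) : Group.IsNilpotent H :=
  isNilpotent_hughes_aux _ G rfl H hHn hH hex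

theorem index_hughes {G : Type u} [Group G] [Finite G] {p : ℕ} [hp : Fact p.Prime] {H : Subgroup G}
    [H.Normal] (hH : H ≠ ⊤) (hex : ∀ g : G, g ∉ H → g ^ p = 1) (hG : ¬ IsPGroup p G) : H.index = p := by
  haveI hnil := isNilpotent_hughes inferInstance hH hex
  obtain ⟨q, hq, hqp, hqd⟩ : ∃ q : ℕ, q.Prime ∧ q ≠ p ∧ q ∣ Nat.card H := by
    by_contra hno
    push Not at hno
    have hHp : IsPGroup p H := IsPGroup.of_card (p := p) (n := (Nat.card H).primeFactorsList.length)
      (Nat.eq_prime_pow_of_unique_prime_dvd Nat.card_pos.ne' fun {d} hd hdd => by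
        by_contra h'; exact hno d hd h' hdd)
    refine hG fun g => ?_
    by_cases hg : g ∈ H
    · obtain ⟨k, hk⟩ := hHp ⟨g, hg⟩
      exact ⟨k, congrArg Subtype.val hk⟩
    · exact ⟨1, by rw [pow_one]; exact hex g hg⟩
  haveI := Fact.mk hq
  obtain ⟨Q⟩ : Nonempty (Sylow q H) := inferInstance
  have hQne : (Q : Subgroup H) ≠ ⊥ := fun h => by
    have := Sylow.dvd_card_of_dvd_card Q hqd
    rw [h, Subgroup.card_bot, Nat.dvd_one] at this
    exact hq.ne_one this
  haveI : (Q : Subgroup H).Normal := by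
    have h03 := (Group.isNilpotent_of_finite_tfae (G := H)).out 0 3
    exact h03.1 inferInstance q ‹_› Q
  haveI : (Q : Subgroup H).Characteristic := Q.characteristic_of_normal inferInstance
  set Q' := (Q : Subgroup H).map H.subtype with hQ'
  haveI : Q'.Normal := inferInstance
  set V := Q' ⊓ centralizer (Q' : Set G) with hVdef
  haveI hVn : V.Normal := by
    rw [hVdef]
    haveI : (centralizer (Q' : Set G)).Normal := Subgroup.normal_centralizer
    infer_instance
  have hQ'p : IsPGroup q Q' := Q.2.map _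
  have hVb : V ≠ ⊥ := Cfsg.Lib.Thompson.center_ne_bot hQ'p (fun h => hQne (by
    rwa [Subgroup.map_eq_bot_iff_of_injective _ H.subtype_injective] at h))
  haveI hVc : IsMulCommutative V := ⟨⟨fun a b => Subtype.ext
    ((Subgroup.mem_inf.1 b.2).2 a (Subgroup.mem_inf.1 a.2).1)⟩⟩
  letI : CommGroup V := { mul_comm := mul_comm' }
  let φ : G →* MulAut V := MulAut.conjNormal
  have hVH : ∀ v : V, (v : G) ∈ H := fun v => Subgroup.map_subtype_le _ (Subgroup.mem_inf.1 v.2).1
  have hVq : ∀ v : V, ∃ k, v ^ (q ^ k) = 1 := fun v => by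
    obtain ⟨k, hk⟩ := hQ'p ⟨v, (Subgroup.mem_inf.1 v.2).1⟩
    exact ⟨k, Subtype.ext (congrArg Subtype.val hk :)⟩
  have hfpf : ∀ g : G, g ∉ H → ∀ v : V, φ g v = v → v = 1 := by
    intro g hg v hv
    refine Subtype.ext (eq_one_of_commute_of_coprime hex hg (hVH v)
      ((mul_inv_eq_iff_eq_mul.1 (congrArg Subtype.val hv)).symm) ?_)
    obtain ⟨k, hk⟩ := hVq v
    obtain ⟨j, -, hj⟩ := (Nat.dvd_prime_pow hq).1 (orderOf_dvd_of_pow_eq_one hk)
    rw [Subgroup.orderOf_coe, hj]
    exact ((Nat.coprime_primes hq hp.out).2 hqp).pow_left j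
  obtain ⟨k, hk⟩ : ∃ k, H.index = p ^ k := by
    rw [Subgroup.index_eq_card]
    refine IsPGroup.exists_card_eq fun x => ?_
    obtain ⟨g, rfl⟩ := QuotientGroup.mk'_surjective H x
    by_cases hg : g ∈ H
    · exact ⟨0, by rw [pow_zero, pow_one]; exact (QuotientGroup.eq_one_iff g).2 hg⟩
    · exact ⟨1, by rw [pow_one, ← map_pow, hex g hg, map_one]⟩
  obtain ⟨P⟩ : Nonempty (Sylow p G) := inferInstance
  have htop : H ⊔ (P : Subgroup G) = ⊤ := Cfsg.Lib.Transfer.sup_sylow_eq_top hk P
  obtain ⟨v₀, hv₀⟩ : ∃ v : V, v ≠ 1 := by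
    obtain ⟨v, hv, hv'⟩ := (Subgroup.bot_or_exists_ne_one V).resolve_left hVb
    exact ⟨⟨v, hv⟩, fun e => hv' (congrArg Subtype.val e)⟩
  -- the image of `P` is a nontrivial p-group
  set Pb := (P : Subgroup G).map φ
  have hPb : Pb ≠ ⊥ := fun h => hH (by
    rw [eq_top_iff, ← htop]
    refine sup_le le_rfl fun g hg => ?_
    by_contra hgH
    have : φ g ∈ (⊥ : Subgroup (MulAut V)) := h ▸ Subgroup.mem_map_of_mem φ hg
    rw [Subgroup.mem_bot] at this
    exact hv₀ (hfpf g hgH v₀ (by rw [this]; rfl)))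
  haveI : Nontrivial Pb := (Subgroup.nontrivial_iff_ne_bot _).2 hPb
  have hPbp : IsPGroup p Pb := P.2.map _
  haveI := hPbp.center_nontrivial
  obtain ⟨zc, hzc⟩ := exists_ne (1 : Subgroup.center Pb)
  obtain ⟨m, hm0, hm⟩ := (hPbp.to_subgroup (Subgroup.center Pb)).nontrivial_iff_card.1 inferInstance
  obtain ⟨zb, hzb⟩ := exists_prime_orderOf_dvd_card' (G := Subgroup.center Pb) p
    (by rw [hm]; exact dvd_pow_self p (by omega))
  obtain ⟨z, hzP, hz⟩ := (zb : Pb).2
  have hzord : orderOf (φ z) = p := by rw [hz, Subgroup.orderOf_coe, Subgroup.orderOf_coe, hzb]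
  have hzp : (φ z) ^ p = 1 := by rw [← hzord, pow_orderOf_eq_one]
  by_cases hHz : H ⊔ zpowers z = ⊤
  · have hgen : zpowers (QuotientGroup.mk' H z) = ⊤ := by
      have := congrArg (Subgroup.map (QuotientGroup.mk' H)) hHz
      rwa [Subgroup.map_sup, MonoidHom.map_zpowers, QuotientGroup.map_mk'_self, bot_sup_eq,
        Subgroup.map_top_of_surjective _ (QuotientGroup.mk'_surjective H)] at this
    have hzH : z ∉ H := fun h => hH (by
      rw [← hHz, eq_comm, sup_eq_left, zpowers_le]; exact h)
    rw [Subgroup.index_eq_card, ← Subgroup.card_top (G := G ⧸ H), ← hgen, Nat.card_zpowers]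
    exact orderOf_eq_prime (by rw [← map_pow, hex z hzH, map_one]) fun e => hzH ((QuotientGroup.eq_one_iff z).1 e)
  exfalso
  obtain ⟨x, hxP, hx⟩ : ∃ x ∈ (P : Subgroup G), x ∉ H ⊔ zpowers z := by
    by_contra hno
    push Not at hno
    exact hHz (eq_top_iff.2 (htop ▸ sup_le le_sup_left hno))
  have hxH : x ∉ H := fun h => hx ((le_sup_left : H ≤ H ⊔ zpowers z) h)
  let F : Subgroup V := MonoidHom.eqLocus (φ z).toMonoidHom (MonoidHom.id V)
  have hcomm : Commute (φ x) (φ z) := by
    have := congrArg Subtype.val (Subgroup.mem_center_iff.1 zb.2 ⟨φ x, Subgroup.mem_map_of_mem φ hxP⟩)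
    simpa [hz] using! this
  have hall : ∀ v : V, φ z v = v := by
    intro v
    have h1 : v ^ p ∈ F := Cfsg.Lib.Coprime.pow_mem_of_fixed (x := φ x) (y := φ z) hp.out
      (by rw [← map_pow, hex x hxH, map_one]) hzp hcomm (fun w hw => hw) (fun j _ w hw => by
        have hxz : x * z ^ j ∉ H := fun h => hx (by
          have h' : x * z ^ j * (z ^ j)⁻¹ ∈ H ⊔ zpowers z :=
            mul_mem ((le_sup_left : H ≤ H ⊔ zpowers z) h)
              (inv_mem ((le_sup_right : zpowers z ≤ H ⊔ zpowers z) (pow_mem (mem_zpowers z) j)))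
          rwa [mul_inv_cancel_right] at h')
        rw [← map_pow, ← map_mul] at hw
        rw [hfpf _ hxz w hw]; exact one_mem F) v
    obtain ⟨k, hk⟩ := hVq v
    rcases Nat.eq_zero_or_pos k with rfl | hk0
    · rw [pow_zero, pow_one] at hk; rw [hk, map_one]
    obtain ⟨m, -, hm⟩ := Nat.exists_mul_mod_eq_one_of_coprime
      (((Nat.coprime_primes hp.out hq).2 hqp.symm).pow_right k) (Nat.one_lt_pow (by omega) hq.one_lt)
    have hv' : v = (v ^ p) ^ m := by
      conv_lhs => rw [← pow_one v, ← hm, ← pow_eq_pow_mod _ hk]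
      rw [pow_mul]
    have h2 : v ∈ F := hv' ▸ pow_mem h1 m
    exact h2
  have h1 : φ z = 1 := MulEquiv.ext hall
  rw [h1, orderOf_one] at hzord
  exact hp.out.ne_one hzord.symm

end Cfsg.Lib.SolvStruct
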