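import Cfsg.Agent.Chars.Burnside
import Cfsg.Agent.Components.ZJ.Reduce
import Mathlib.GroupTheory.Transfer

/-!
Solvability from a subgroup of prime-power index that is cyclic-by-(cyclic `2`-group).
-/

set_option autoImplicit false
set_option linter.style.haveILetI false
set_option linter.unusedSectionVars false

namespace Cfsg.Lib.SolvStruct

open Subgroup

universe u

theorem isSolvable_of_class_prime_pow {G : Type u} [Group G] [Finite G] [IsSimpleGroup G] {p : ℕ}
    (hp : p.Prime) {z : G} (hz : z ≠ 1) {H : Subgroup G} (hH : H ≤ centralizer ({z} : Set G))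
    {j : ℕ} (hj : H.index ∣ p ^ j) : Group.IsSolvable G := by
  obtain ⟨i, -, hi⟩ := (Nat.dvd_prime_pow hp).mp ((index_dvd_of_le hH).trans hj)
  have h := Cfsg.Lib.Chars.prime_card_of_class_prime_pow p i hp z hz
    (by rw [Cfsg.Lib.Chars.card_isConj]; exact hi)
  haveI := Fact.mk h
  haveI : IsCyclic G := isCyclic_of_prime_card (p := Nat.card G) rfl
  haveI : IsMulCommutative G := IsCyclic.isMulCommutative
  exact Group.isSolvable_of_comm fun a b => mul_comm' a b

theorem isSolvable_of_index_prime_pow (p : ℕ) (hp : p.Prime) : ∀ (n : ℕ) (G : Type u) [Group G] [Finite G],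
    Nat.card G = n → ∀ (A : Subgroup G) (B : Subgroup A) [B.Normal], (∃ s, A.index ∣ p ^ s) →
      IsCyclic B → IsCyclic (A ⧸ B) → (∃ r, B.index ∣ 2 ^ r) → Group.IsSolvable G := by
  intro n
  induction n using Nat.strong_induction_on with
  | _ n ih =>
  intro G _ _ hG A B _ hs hB hAB hr
  obtain ⟨s, hs⟩ := hs
  obtain ⟨r, hr⟩ := hr
  by_cases hnt : Nontrivial G
  swap
  · rw [not_nontrivial_iff_subsingleton] at hnt
    exact Group.isSolvable_of_comm fun a b => Subsingleton.elim _ _
  by_cases hM : ∃ M : Subgroup G, M.Normal ∧ M ≠ ⊥ ∧ M ≠ ⊤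
  · obtain ⟨M, hMn, hMb, hMt⟩ := hM
    haveI := hMn
    -- the subgroup
    have h1 : Group.IsSolvable M := by
      let g : A.subgroupOf M →* A :=
        MonoidHom.mk' (fun x => ⟨((x : M) : G), x.2⟩) fun _ _ => rfl
      have hg : Function.Injective g := fun x y h =>
        Subtype.ext (Subtype.ext (congrArg Subtype.val h :))
      let q : (A.subgroupOf M) ⧸ B.comap g →* A ⧸ B := QuotientGroup.map _ _ g le_rfl
      have hq : Function.Injective q := by
        rw [injective_iff_map_eq_one]
        intro x
        induction x using QuotientGroup.induction_on with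
        | H x =>
          intro hx
          rw [QuotientGroup.map_mk, QuotientGroup.eq_one_iff] at hx
          exact (QuotientGroup.eq_one_iff x).mpr hx
      refine ih (Nat.card M) (hG ▸ lt_of_le_of_ne (card_le_card_group M)
        (fun h => hMt (M.eq_top_of_card_eq h))) M rfl (A.subgroupOf M) (B.comap g) ⟨s, ?_⟩ ?_ ?_ ⟨r, ?_⟩
      · exact (Cfsg.Lib.Components.relIndex_dvd_index_of_normal_right A M).trans hs
      · exact isCyclic_of_injective (MonoidHom.mk' (fun x : B.comap g => (⟨g x, x.2⟩ : B))
          fun a b => Subtype.ext (map_mul g _ _)) fun x y h => Subtype.ext (hg (congrArg Subtype.val h :))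
      · exact isCyclic_of_injective q hq
      · exact (card_dvd_of_injective q hq).trans hr
    -- the quotient
    have h2 : Group.IsSolvable (G ⧸ M) := by
      set π := QuotientGroup.mk' M
      have hπ : Function.Surjective π := QuotientGroup.mk'_surjective M
      let f := π.subgroupMap A
      have hf : Function.Surjective f := π.subgroupMap_surjective A
      haveI : (B.map f).Normal := Subgroup.Normal.map inferInstance f hf
      let q : A ⧸ B →* (A.map π) ⧸ B.map f := QuotientGroup.map _ _ f (le_comap_map f B)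
      have hq : Function.Surjective q := by
        intro y
        induction y using QuotientGroup.induction_on with
        | H y => obtain ⟨x, rfl⟩ := hf y; exact ⟨QuotientGroup.mk x, rfl⟩
      refine ih (Nat.card (G ⧸ M)) ?_ (G ⧸ M) rfl (A.map π) (B.map f)
        ⟨s, (index_map_dvd A hπ).trans hs⟩ ?_ ?_ ⟨r, ?_⟩
      · rw [← hG, card_eq_card_quotient_mul_card_subgroup M]
        exact lt_mul_of_one_lt_right Nat.card_pos ((one_lt_card_iff_ne_bot _).mpr hMb)
      · exact isCyclic_of_surjective (f.subgroupMap B) (f.subgroupMap_surjective B)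
      · exact isCyclic_of_surjective q hq
      · exact (card_dvd_of_surjective q hq).trans hr
    haveI := h1
    haveI := h2
    exact Group.isSolvable_of_ker_le_range M.subtype (QuotientGroup.mk' M)
      (by rw [QuotientGroup.ker_mk', range_subtype])
  -- the simple case
  push Not at hM
  haveI : IsSimpleGroup G := ⟨fun M hMn => or_iff_not_imp_left.mpr (hM M hMn)⟩
  haveI hBc : IsMulCommutative B := IsCyclic.isMulCommutative
  set B₀ := B.map A.subtype with hB₀def
  have hB₀i : B₀.index = B.index * A.index := by rw [hB₀def, index_map_subtype]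
  have hcent : ∀ z : B, B₀ ≤ centralizer ({((z : A) : G)} : Set G) := by
    rintro z _ ⟨b, hb, rfl⟩
    rw [mem_centralizer_singleton_iff]
    exact congrArg (fun x : B => ((x : A) : G)) (mul_comm' (⟨b, hb⟩ : B) z)
  have hprod : ∀ l : ℕ, l.Prime → l ∣ Nat.card G → l ∣ Nat.card B ∨ l = 2 ∨ l = p := by
    intro l hl hd
    rw [← card_mul_index B₀, hB₀i, hB₀def, card_map_of_injective A.subtype_injective] at hd
    rcases hl.dvd_mul.mp hd with h | h
    · exact Or.inl h
    rcases hl.dvd_mul.mp h with h | h
    · exact Or.inr (Or.inl ((Nat.prime_dvd_prime_iff_eq hl Nat.prime_two).mp (hl.dvd_of_dvd_pow (h.trans hr))))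
    · exact Or.inr (Or.inr ((Nat.prime_dvd_prime_iff_eq hl hp).mp (hl.dvd_of_dvd_pow (h.trans hs))))
  have hpgroup : ∀ l : ℕ, l.Prime → (∀ k, k.Prime → k ∣ Nat.card G → k = l) → Group.IsSolvable G := by
    intro l hl h
    haveI := Fact.mk hl
    have hpg : IsPGroup l G := IsPGroup.of_card
      (Nat.eq_prime_pow_of_unique_prime_dvd Nat.card_pos.ne' fun {d} hd hdd => h d hd hdd)
    exact @IsNilpotent.to_isSolvable G _ hpg.isNilpotent
  by_cases hp2 : p = 2
  · subst hp2
    by_cases h : ∀ k, k.Prime → k ∣ Nat.card G → k = 2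
    · exact hpgroup 2 hp h
    push Not at h
    obtain ⟨l, hl, hlG, hl2⟩ := h
    haveI := Fact.mk hl
    have hlB : l ∣ Nat.card B := (hprod l hl hlG).resolve_right (by simp [hl2])
    obtain ⟨z, hz⟩ := exists_prime_orderOf_dvd_card' l hlB
    refine isSolvable_of_class_prime_pow hp (z := ((z : A) : G)) (j := r + s) ?_ (hcent z) ?_
    · intro h1
      rw [show z = 1 from Subtype.ext (Subtype.ext h1), orderOf_one] at hz
      exact hl.ne_one hz.symm
    · rw [hB₀i, pow_add]
      exact mul_dvd_mul hr hs
  haveI := Fact.mk hp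
  by_cases h2B : 2 ∣ Nat.card B
  · haveI := Fact.mk Nat.prime_two
    obtain ⟨z, hz⟩ := exists_prime_orderOf_dvd_card' 2 h2B
    have hA : A ≤ centralizer ({((z : A) : G)} : Set G) := by
      intro a ha
      rw [mem_centralizer_singleton_iff]
      set w : B := ⟨(⟨a, ha⟩ : A) * z * (⟨a, ha⟩ : A)⁻¹, (inferInstance : B.Normal).conj_mem _ z.2 _⟩
      have hw : orderOf w = 2 := by
        rw [← Subgroup.orderOf_coe]
        show orderOf ((MulAut.conj (⟨a, ha⟩ : A)) (z : A)) = 2
        rw [MulEquiv.orderOf_eq, Subgroup.orderOf_coe, hz]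
      have hwz : w = z := by
        classical
        haveI := Fintype.ofFinite B
        have hc := IsCyclic.card_orderOf_eq_totient (α := B) (d := 2)
          (by rw [← Nat.card_eq_fintype_card]; exact h2B)
        rw [Nat.totient_two] at hc
        exact Finset.card_le_one.mp hc.le w (by simp [hw]) z (by simp [hz])
      have h1 : a * ((z : A) : G) * a⁻¹ = ((z : A) : G) :=
        congrArg (fun x : B => ((x : A) : G)) hwz
      exact (mul_inv_eq_iff_eq_mul.mp h1)
    refine isSolvable_of_class_prime_pow hp (z := ((z : A) : G)) (j := s) ?_ hA hs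
    intro h1
    rw [show z = 1 from Subtype.ext (Subtype.ext h1), orderOf_one] at hz
    exact absurd hz (by norm_num)
  by_cases hBi : B.index = 1
  · -- `A = B` is abelian
    by_cases hAb : A = ⊥
    · refine hpgroup p hp fun k hk hkG => ?_
      rw [← card_mul_index A, hAb, card_bot, one_mul] at hkG
      subst hAb
      exact (Nat.prime_dvd_prime_iff_eq hk hp).mp (hk.dvd_of_dvd_pow (hkG.trans hs))
    obtain ⟨z, hz, hz1⟩ := (bot_or_exists_ne_one A).resolve_left hAb
    refine isSolvable_of_class_prime_pow hp (z := z) (j := s) hz1 (fun a ha => ?_) hs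
    rw [mem_centralizer_singleton_iff]
    exact congrArg (fun x : B => ((x : A) : G))
      (mul_comm' (⟨⟨a, ha⟩, by rw [index_eq_one.mp hBi]; exact mem_top _⟩ : B)
        ⟨⟨z, hz⟩, by rw [index_eq_one.mp hBi]; exact mem_top _⟩)
  -- cyclic Sylow `2`-subgroup
  haveI := Fact.mk Nat.prime_two
  obtain ⟨T⟩ := (inferInstance : Nonempty (Sylow 2 A))
  have hTB : (T : Subgroup A) ⊓ B = ⊥ := by
    obtain ⟨k, hk⟩ := IsPGroup.iff_card.mp T.2
    exact disjoint_iff.mp (disjoint_of_coprime_natCard (by
      rw [hk]; exact (Nat.prime_two.coprime_iff_not_dvd.mpr h2B).pow_left k))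
  haveI hTc : IsCyclic T := by
    refine isCyclic_of_injective ((QuotientGroup.mk' B).comp (T : Subgroup A).subtype) ?_
    rw [injective_iff_map_eq_one]
    intro x hx
    have hxB : (x : A) ∈ (T : Subgroup A) ⊓ B := ⟨x.2, (QuotientGroup.eq_one_iff _).mp hx⟩
    rw [hTB, mem_bot] at hxB
    exact Subtype.ext hxB
  set T₀ := (T : Subgroup A).map A.subtype
  have hT₀ : ¬ 2 ∣ T₀.index := by
    rw [index_map_subtype]
    refine Nat.prime_two.not_dvd_mul T.not_dvd_index fun h => hp2 ?_
    exact ((Nat.prime_dvd_prime_iff_eq Nat.prime_two hp).mp (Nat.prime_two.dvd_of_dvd_pow (h.trans hs))).symm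
  let S : Sylow 2 G := (T.2.map A.subtype).toSylow hT₀
  haveI hSc : IsCyclic (S : Subgroup G) := isCyclic_of_surjective
    ((T : Subgroup A).equivMapOfInjective A.subtype A.subtype_injective).toMonoidHom
    ((T : Subgroup A).equivMapOfInjective A.subtype A.subtype_injective).surjective
  have h2G : 2 ∣ Nat.card G := by
    obtain ⟨k, -, hk⟩ := (Nat.dvd_prime_pow Nat.prime_two).mp hr
    have hk0 : k ≠ 0 := fun h => hBi (by rw [hk, h, pow_zero])
    exact ((dvd_pow_self 2 hk0).trans (hk ▸ dvd_rfl)).trans
      ((B.index_dvd_card).trans (card_subgroup_dvd_card A))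
  have hmin : (Nat.card G).minFac = 2 := (Nat.minFac_eq_two_iff _).mpr h2G
  have hcompl := IsCyclic.isComplement' (P := S) hmin hSc
  set N := (MonoidHom.transferSylow S (hSc.normalizer_le_centralizer hmin)).ker
  rcases IsSimpleGroup.eq_bot_or_eq_top_of_normal N inferInstance with h | h
  · refine hpgroup 2 Nat.prime_two fun k hk hkG => ?_
    obtain ⟨i, hi⟩ := IsPGroup.iff_card.mp S.2
    rw [← hcompl.card_mul, h, card_bot, one_mul, hi] at hkG
    exact (Nat.prime_dvd_prime_iff_eq hk Nat.prime_two).mp (hk.dvd_of_dvd_pow hkG)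
  · exfalso
    have h1 := hcompl.disjoint
    rw [h, top_disjoint] at h1
    exact S.ne_bot_of_dvd_card h2G h1

end Cfsg.Lib.SolvStruct
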