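/-
Groups whose `p`-regular elements have exactly two conjugacy class sizes.
-/
import Mathlib
import Cfsg.Agent.Transfer.Frobenius
import Cfsg.Agent.SolvStruct.PrimePowerIndex
import Cfsg.Agent.Chars.Count
import Cfsg.Agent.Components.Local

set_option autoImplicit false

namespace Cfsg.Lib.SolvStruct.TwoRegular

set_option linter.unusedSectionVars false
set_option linter.style.haveILetI false

open scoped commutatorElement

open Subgroup

variable {G : Type*} [Group G] [Finite G]

/-- membership can be tested on the prime-power parts -/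
theorem mem_of_prime_parts (X : Subgroup G) (x : G)
    (h : ∀ l : ℕ, l.Prime → l ∣ orderOf x → ∀ y ∈ zpowers x, (∃ i, y ^ l ^ i = 1) → y ∈ X) :
    x ∈ X := by
  suffices zpowers x ≤ X from this (mem_zpowers x)
  refine inf_eq_right.mp (eq_of_le_of_card_ge inf_le_right (Nat.le_of_dvd Nat.card_pos ?_))
  rw [Nat.card_zpowers, Nat.dvd_iff_prime_pow_dvd_dvd]
  intro l k hl hk
  rcases k.eq_zero_or_pos with rfl | hk0
  · simp
  obtain ⟨c, hc⟩ := hk
  have hcn : c ≠ 0 := fun e => (orderOf_pos x).ne' (by rw [hc, e, mul_zero])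
  have ho : orderOf (x ^ c) = l ^ k := by
    rw [orderOf_pow_of_dvd hcn ⟨l ^ k, by rw [hc, mul_comm]⟩, hc, Nat.mul_div_cancel _ (Nat.pos_of_ne_zero hcn)]
  have hm : x ^ c ∈ X ⊓ zpowers x := ⟨h l hl ((dvd_pow_self l hk0.ne').trans ⟨c, hc⟩) _
    (npow_mem_zpowers x c) ⟨k, by rw [← ho, pow_orderOf_eq_one]⟩, npow_mem_zpowers x c⟩
  exact ho ▸ orderOf_dvd_natCard _ hm

theorem coprime_of_pow_eq {l l' : ℕ} (hl : l.Prime) (hl' : l'.Prime) (hne : l ≠ l') {x y : G}
    (hx : ∃ i, x ^ l ^ i = 1) (hy : ∃ i, y ^ l' ^ i = 1) : (orderOf x).Coprime (orderOf y) := by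
  obtain ⟨i, hi⟩ := hx
  obtain ⟨j, hj⟩ := hy
  exact Nat.Coprime.coprime_dvd_left (orderOf_dvd_of_pow_eq_one hi) (Nat.Coprime.coprime_dvd_right
    (orderOf_dvd_of_pow_eq_one hj) (((Nat.coprime_primes hl hl').mpr hne).pow i j))

theorem coprime_p_of_pow_eq {l p : ℕ} (hl : l.Prime) (hp : p.Prime) (hne : l ≠ p) {x : G}
    (hx : ∃ i, x ^ l ^ i = 1) : (orderOf x).Coprime p := by
  obtain ⟨i, hi⟩ := hx
  exact Nat.Coprime.coprime_dvd_left (orderOf_dvd_of_pow_eq_one hi)
    (((Nat.coprime_primes hl hp).mpr hne).pow_left i)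

theorem isPGroup_zpowers' {l : ℕ} (hl : l.Prime) {x : G} (hx : ∃ i, x ^ l ^ i = 1) :
    IsPGroup l (zpowers x) := by
  haveI := Fact.mk hl
  obtain ⟨i, hi⟩ := hx
  obtain ⟨j, -, hj⟩ := (Nat.dvd_prime_pow hl).mp (orderOf_dvd_of_pow_eq_one hi)
  exact IsPGroup.of_card (n := j) (by rw [Nat.card_zpowers, hj])

/-- an element of `l`-power order that acts without nontrivial fixed points (modulo those fixed by everything)
normalises no nontrivial subgroup of order prime to `l` -/
theorem not_normalise {W T : Type*} [Group W] [Finite W] [CommGroup T] [Finite T]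
    [MulDistribMulAction W T] {l : ℕ} [Fact l.Prime] (hT : IsPGroup l T)
    (hfix : ∀ w : W, w ≠ 1 → ∀ t : T, w • t = t → ∀ w' : W, w' • t = t)
    (hfaith : ∀ w : W, (∀ t : T, w • t = t) → w = 1)
    {w : W} (hw : ∃ i, w ^ l ^ i = 1) {U : Subgroup W} (hU : ∀ u ∈ U, w * u * w⁻¹ ∈ U)
    (hcop : (Nat.card U).Coprime l) : w = 1 ∨ U = ⊥ := by
  classical
  haveI := Fintype.ofFinite U
  by_contra hcon
  push Not at hcon
  obtain ⟨hw1, hU1⟩ := hcon
  let φ : T →* T :=
    { toFun := fun t => ∏ u : U, (u : W) • t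
      map_one' := Finset.prod_eq_one fun u _ => smul_one _
      map_mul' := fun a b => by rw [← Finset.prod_mul_distrib]; exact Finset.prod_congr rfl fun u _ => smul_mul' _ _ _ }
  have hφ : ∀ v : W, v ∈ U → ∀ t, v • φ t = φ t := by
    intro v hv t
    show v • (∏ u : U, (u : W) • t) = ∏ u : U, (u : W) • t
    rw [Finset.smul_prod']
    refine Fintype.prod_equiv (Equiv.mulLeft (⟨v, hv⟩ : U)) _ _ fun u => ?_
    rw [smul_smul]; rfl
  have hconj : ∀ t, w • φ t = φ (w • t) := by
    intro t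
    show w • (∏ u : U, (u : W) • t) = ∏ u : U, (u : W) • (w • t)
    rw [Finset.smul_prod']
    let e : U → U := fun u => ⟨w * u * w⁻¹, hU _ u.2⟩
    have he : Function.Bijective e := by
      refine Finite.injective_iff_bijective.mp fun a b hab => ?_
      exact Subtype.ext (mul_left_cancel (mul_right_cancel (congrArg Subtype.val hab)))
    refine Fintype.prod_bijective e he _ _ fun u => ?_
    rw [smul_smul, smul_smul]
    simp [e, mul_assoc]
  let θ : T →* T :=
    { toFun := fun t => t ^ Fintype.card U / φ t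
      map_one' := by simp
      map_mul' := fun a b => by rw [mul_pow, map_mul, mul_div_mul_comm] }
  let K : Subgroup T := θ.range
  have hφK : ∀ s ∈ K, φ s = 1 := by
    rintro _ ⟨t, rfl⟩
    show φ (t ^ Fintype.card U / φ t) = 1
    have hidem : φ (φ t) = φ t ^ Fintype.card U := by
      show (∏ u : U, (u : W) • φ t) = _
      rw [Finset.prod_congr rfl fun (u : U) _ => hφ u u.2 t, Finset.prod_const, Finset.card_univ]
    rw [map_div, map_pow, hidem, div_self']
  have hKU : ∀ s ∈ K, (∀ u ∈ U, u • s = s) → s = 1 := by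
    intro s hs hfixs
    have h1 : s ^ Nat.card U = 1 := by
      have h2 := hφK s hs
      change (∏ u : U, (u : W) • s) = 1 at h2
      rwa [Finset.prod_congr rfl fun (u : U) _ => hfixs u u.2, Finset.prod_const, Finset.card_univ,
        ← Nat.card_eq_fintype_card] at h2
    obtain ⟨i, hi⟩ := hT s
    exact orderOf_eq_one_iff.mp (Nat.eq_one_of_dvd_coprimes (hcop.pow_right i)
      (orderOf_dvd_of_pow_eq_one h1) (orderOf_dvd_of_pow_eq_one hi))
  have hKw : ∀ s ∈ K, w • s ∈ K := by
    rintro _ ⟨t, rfl⟩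
    refine ⟨w • t, ?_⟩
    show (w • t) ^ Fintype.card U / φ (w • t) = w • (t ^ Fintype.card U / φ t)
    rw [smul_div', smul_pow', hconj]
  have hKne : K ≠ ⊥ := by
    intro hK
    refine hU1 ((eq_bot_iff_forall U).mpr fun u hu => hfaith u fun t => ?_)
    have h1 : θ t = 1 := by
      have : θ t ∈ K := ⟨t, rfl⟩
      rwa [hK, mem_bot] at this
    have h2 : t ^ Fintype.card U = φ t := div_eq_one.mp h1
    have h3 : (u • t) ^ Fintype.card U = t ^ Fintype.card U := by rw [← smul_pow', h2, hφ u hu]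
    obtain ⟨i, hi⟩ := hT ((u • t) / t)
    have h4 : ((u • t) / t) ^ Fintype.card U = 1 := by rw [div_pow, h3, div_self']
    exact div_eq_one.mp (orderOf_eq_one_iff.mp (Nat.eq_one_of_dvd_coprimes (hcop.pow_right i)
      (orderOf_dvd_of_pow_eq_one (by rwa [Nat.card_eq_fintype_card])) (orderOf_dvd_of_pow_eq_one hi)))
  -- `w` fixes a nontrivial element of `K`
  letI : MulAction (zpowers w) K :=
    { smul := fun z s => ⟨(z : W) • (s : T), by
        obtain ⟨n, hn⟩ := mem_powers_iff_mem_zpowers.mpr z.2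
        have hn' : w ^ n = (z : W) := hn
        have : ∀ k : ℕ, ∀ s ∈ K, w ^ k • s ∈ K := by
          intro k
          induction k with
          | zero => intro s hs; simpa using hs
          | succ k ih => intro s hs; rw [pow_succ, mul_smul]; exact ih _ (hKw s hs)
        rw [← hn']
        exact this n _ s.2⟩
      one_smul := fun s => Subtype.ext (one_smul W (s : T))
      mul_smul := fun a b s => Subtype.ext (mul_smul (a : W) (b : W) (s : T)) }
  have hWl : IsPGroup l (zpowers w) := by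
    obtain ⟨i, hi⟩ := hw
    obtain ⟨j, -, hj⟩ := (Nat.dvd_prime_pow Fact.out).mp (orderOf_dvd_of_pow_eq_one hi)
    exact IsPGroup.of_card (n := j) (by rw [Nat.card_zpowers, hj])
  have hKp : IsPGroup l K := hT.to_subgroup K
  have hdvd : l ∣ Nat.card K := by
    haveI : Nontrivial K := (Subgroup.nontrivial_iff_ne_bot K).mpr hKne
    obtain ⟨n, hn, hn'⟩ := hKp.nontrivial_iff_card.mp inferInstance
    rw [hn']; exact dvd_pow_self l hn.ne'
  have h1f : (1 : K) ∈ MulAction.fixedPoints (zpowers w) K := fun z => Subtype.ext (smul_one (z : W))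
  obtain ⟨b, hb, hb1⟩ := hWl.exists_fixed_point_of_prime_dvd_card_of_fixed_point K hdvd h1f
  have hbw : w • (b : T) = b := congrArg Subtype.val (hb ⟨w, mem_zpowers w⟩)
  exact hb1 (Subtype.ext (hKU b b.2 fun u _ => hfix w hw1 b hbw u).symm)

/-- a nontrivial normal subgroup of a `p`-group meets the centre -/
theorem exists_central {H : Type*} [Group H] {S : Subgroup H} [Finite S] {l : ℕ} [Fact l.Prime]
    (hS : IsPGroup l S) (K : Subgroup S) [K.Normal] (hK : K ≠ ⊥) :
    ∃ w : S, w ∈ K ⊓ center S ∧ w ≠ 1 := by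
  by_contra hno
  push Not at hno
  haveI : Nontrivial K := (Subgroup.nontrivial_iff_ne_bot K).mpr hK
  obtain ⟨n, hn, hn'⟩ := (hS.to_subgroup K).nontrivial_iff_card.mp inferInstance
  letI : MulAction S K :=
    { smul := fun g k => ⟨g * k * g⁻¹, Subgroup.Normal.conj_mem inferInstance _ k.2 g⟩
      one_smul := fun k => Subtype.ext (show 1 * (k : S) * 1⁻¹ = k by simp)
      mul_smul := fun a b k => Subtype.ext (show a * b * (k : S) * (a * b)⁻¹ = a * (b * k * b⁻¹) * a⁻¹ by group) }
  obtain ⟨b, hb, hb1⟩ := hS.exists_fixed_point_of_prime_dvd_card_of_fixed_point K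
    (hn' ▸ dvd_pow_self l hn.ne') (a := 1) (fun g => Subtype.ext (show g * ((1 : K) : S) * g⁻¹ = _ by simp))
  refine hb1 (Subtype.ext (hno (b : S) ⟨b.2, mem_center_iff.mpr fun g => ?_⟩).symm)
  exact mul_inv_eq_iff_eq_mul.mp (congrArg Subtype.val (hb g))

universe u in
/-- a nonabelian minimal normal subgroup has no element with class size a prime power -/
theorem no_minimal {H : Type u} [Group H] [Finite H] (N : Subgroup H) [N.Normal]
    (hmin : ∀ K : Subgroup H, K.Normal → K ≠ ⊥ → K ≤ N → K = N)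
    (hna : ¬ ∀ a ∈ N, ∀ b ∈ N, a * b = b * a) {w : H} (hw : w ∈ N) (hw1 : w ≠ 1)
    {p j : ℕ} (hp : p.Prime) (hj : (centralizer ({w} : Set H)).relIndex N ∣ p ^ j) : False := by
  have hchar : ∀ X : Subgroup N, X.Characteristic → X = ⊥ ∨ X = ⊤ := by
    intro X hX
    by_contra hcon
    push Not at hcon
    have h1 := hmin (X.map N.subtype) inferInstance
      (fun e => hcon.1 ((Subgroup.map_eq_bot_iff_of_injective _ N.subtype_injective).mp e)) (map_subtype_le _)
    exact hcon.2 (map_injective N.subtype_injective (h1.trans (by rw [← MonoidHom.range_eq_map, range_subtype])))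
  have hperf : _root_.commutator N = ⊤ := (hchar _ inferInstance).resolve_left fun e => hna fun a ha b hb => by
    have h1 : ⁅(⟨a, ha⟩ : N), (⟨b, hb⟩ : N)⁆ = 1 := by
      rw [← mem_bot, ← e]
      exact commutator_mem_commutator (mem_top _) (mem_top _)
    exact congrArg Subtype.val (commutatorElement_eq_one_iff_mul_comm.mp h1)
  let S : Set (Subgroup N) := {K | K.Normal ∧ K ≠ ⊤}
  let J : Subgroup N := ⨅ K ∈ {K | Maximal (· ∈ S) K}, K
  have hJ : J.Characteristic := by
    rw [characteristic_iff_le_comap]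
    intro φ
    simp only [J, comap_iInf, le_iInf_iff]
    intro K hK
    refine iInf₂_le (K.comap φ.toMonoidHom) ?_
    haveI := hK.1.1
    refine ⟨⟨hK.1.1.comap _, fun e => hK.1.2 (comap_injective φ.surjective (e.trans (comap_top _).symm))⟩, ?_⟩
    intro X hX hle
    haveI := hX.1
    have h1 : X.map φ.toMonoidHom ≤ K := by
      refine hK.2 ⟨hX.1.map _ φ.surjective, fun e => hX.2 ?_⟩ ?_
      · exact map_injective φ.injective (e.trans (map_top_of_surjective _ φ.surjective).symm)
      · have := map_mono (f := φ.toMonoidHom) hle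
        rwa [map_comap_eq_self_of_surjective φ.surjective] at this
    exact map_le_iff_le_comap.mp h1
  obtain ⟨K, hK, hwK⟩ : ∃ K, Maximal (· ∈ S) K ∧ (⟨w, hw⟩ : N) ∉ K := by
    by_contra hno
    push Not at hno
    have hwJ : (⟨w, hw⟩ : N) ∈ J := by
      simp only [J, mem_iInf]
      exact fun K hK => hno K hK
    haveI : Nontrivial N := ⟨⟨⟨w, hw⟩, 1, fun e => hw1 (congrArg Subtype.val e)⟩⟩
    obtain ⟨K0, hK0⟩ := Set.Finite.exists_maximal (s := S) (Set.toFinite _) ⟨⊥, inferInstance, bot_ne_top⟩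
    rcases hchar J hJ with e | e
    · rw [e, mem_bot] at hwJ
      exact hw1 (congrArg Subtype.val hwJ)
    · exact hK0.1.2 (top_le_iff.mp (e ▸ iInf₂_le K0 hK0))
  haveI := hK.1.1
  haveI : IsSimpleGroup (N ⧸ K) :=
    { exists_pair_ne := ⟨QuotientGroup.mk' K ⟨w, hw⟩, 1, fun e => hwK ((QuotientGroup.eq_one_iff _).mp e)⟩
      eq_bot_or_eq_top_of_normal := fun X hX => by
        by_cases hXt : X.comap (QuotientGroup.mk' K) = ⊤
        · exact Or.inr (comap_injective (QuotientGroup.mk'_surjective K) (hXt.trans (comap_top _).symm))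
        · have := hK.2 ⟨hX.comap _, hXt⟩ (fun x hx => by
            rw [mem_comap, QuotientGroup.mk'_apply, (QuotientGroup.eq_one_iff x).mpr hx]; exact one_mem X)
          refine Or.inl ((eq_bot_iff_forall _).mpr fun y hy => ?_)
          obtain ⟨x, rfl⟩ := QuotientGroup.mk'_surjective K y
          exact (QuotientGroup.eq_one_iff x).mpr (this hy) }
  haveI : Group.IsSolvable (N ⧸ K) := Cfsg.Lib.SolvStruct.isSolvable_of_class_prime_pow hp
    (z := QuotientGroup.mk' K ⟨w, hw⟩) (fun e => hwK ((QuotientGroup.eq_one_iff _).mp e))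
    (H := ((centralizer ({w} : Set H)).subgroupOf N).map (QuotientGroup.mk' K))
    (by
      rintro _ ⟨c, hc, rfl⟩
      rw [mem_centralizer_singleton_iff, ← map_mul, ← map_mul]
      exact congrArg _ (Subtype.ext (mem_centralizer_singleton_iff.mp (mem_subgroupOf.mp hc))))
    ((index_map_dvd _ (QuotientGroup.mk'_surjective K)).trans hj)
  have h1 := (Group.IsSolvable.commutator_lt_top_of_nontrivial (N ⧸ K)).ne
  apply h1
  rw [commutator_def, ← map_top_of_surjective _ (QuotientGroup.mk'_surjective K), ← map_commutator,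
    ← commutator_def, hperf]

/-- the hypothesis: noncentral `p`-regular elements have class size `m` -/
def Two (p m : ℕ) (G : Type*) [Group G] : Prop :=
  ∀ x : G, (orderOf x).Coprime p → x ∉ center G → (centralizer ({x} : Set G)).index = m

/-- a noncentral element of order a power of the prime `l ≠ p` -/
def NC (p l : ℕ) (x : G) : Prop :=
  l.Prime ∧ l ≠ p ∧ x ∉ center G ∧ ∃ i, x ^ l ^ i = 1

/-- the `l`-elements of the centre of `C` -/
def Tl (l : ℕ) (C : Subgroup G) : Subgroup G where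
  carrier := {t | t ∈ C ∧ (∀ c ∈ C, c * t = t * c) ∧ ∃ i, t ^ l ^ i = 1}
  one_mem' := ⟨one_mem C, fun c _ => by simp, 0, by simp⟩
  mul_mem' := by
    rintro a b ⟨ha, ha', i, hi⟩ ⟨hb, hb', j, hj⟩
    refine ⟨mul_mem ha hb, fun c hc => ?_, i + j, ?_⟩
    · rw [← mul_assoc, ha' c hc, mul_assoc, hb' c hc, mul_assoc]
    · have hab : Commute a b := ha' b hb |>.symm
      rw [hab.mul_pow, pow_add, pow_mul, hi, one_pow, one_mul, mul_comm (l ^ i), pow_mul, hj, one_pow]
  inv_mem' := by
    rintro a ⟨ha, ha', i, hi⟩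
    exact ⟨inv_mem ha, fun c hc => Commute.inv_right (ha' c hc), i, by rw [inv_pow, hi, inv_one]⟩

variable {p m : ℕ} [hp : Fact p.Prime]

theorem NC.coprime {l : ℕ} {x : G} (hx : NC p l x) : (orderOf x).Coprime p :=
  coprime_p_of_pow_eq hx.1 hp.out hx.2.1 hx.2.2.2

theorem NC.conj {l : ℕ} {x : G} (hx : NC p l x) (g : G) : NC p l (g * x * g⁻¹) := by
  refine ⟨hx.1, hx.2.1, fun hc => hx.2.2.1 ?_, ?_⟩
  · have h := Subgroup.Normal.conj_mem inferInstance _ hc g⁻¹
    simpa [mul_assoc] using h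
  · obtain ⟨i, hi⟩ := hx.2.2.2
    exact ⟨i, by rw [conj_pow, hi, mul_one, mul_inv_cancel]⟩

theorem centralizer_conj (g x : G) :
    centralizer ({g * x * g⁻¹} : Set G) = (centralizer ({x} : Set G)).map (MulAut.conj g).toMonoidHom := by
  ext y
  rw [mem_centralizer_singleton_iff, mem_map_equiv, mem_centralizer_singleton_iff, MulAut.conj_symm_apply]
  constructor
  · intro h
    calc g⁻¹ * y * g * x = g⁻¹ * (y * (g * x * g⁻¹)) * g := by group
      _ = g⁻¹ * (g * x * g⁻¹ * y) * g := by rw [h]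
      _ = x * (g⁻¹ * y * g) := by group
  · intro h
    calc y * (g * x * g⁻¹) = g * (g⁻¹ * y * g * x) * g⁻¹ := by group
      _ = g * (x * (g⁻¹ * y * g)) * g⁻¹ := by rw [h]
      _ = g * x * g⁻¹ * y := by group

theorem centralizer_eq_of_coprime (h : Two p m G) {u v : G} (hu : (orderOf u).Coprime p)
    (hv : (orderOf v).Coprime p) (hun : u ∉ center G) (hvn : v ∉ center G) (huv : Commute u v)
    (hc : (orderOf u).Coprime (orderOf v)) :
    centralizer ({u} : Set G) = centralizer ({v} : Set G) := by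
  have ho := huv.orderOf_mul_eq_mul_orderOf_of_coprime hc
  have key : ∀ a b : G, Commute a b → (orderOf a).Coprime (orderOf b) → a ∈ zpowers (a * b) := by
    intro a b hab hcab
    obtain ⟨j, hj⟩ := exists_pow_eq_self_of_coprime hcab.symm
    refine mem_zpowers_iff.mpr ⟨((orderOf b * j : ℕ) : ℤ), ?_⟩
    rw [zpow_natCast, pow_mul, hab.mul_pow, pow_orderOf_eq_one, mul_one, hj]
  have hun' : u ∈ zpowers (u * v) := key u v huv hc
  have hvn' : v ∈ zpowers (u * v) := by rw [huv.eq]; exact key v u huv.symm hc.symm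
  have hwn : u * v ∉ center G := fun hh => hun (zpowers_le.mpr hh hun')
  have hw : (orderOf (u * v)).Coprime p := by rw [ho]; exact hu.mul_left hv
  have hle : ∀ a ∈ zpowers (u * v), centralizer ({u * v} : Set G) ≤ centralizer ({a} : Set G) := by
    intro a ha c hc'
    obtain ⟨n, rfl⟩ := mem_zpowers_iff.mp ha
    rw [mem_centralizer_singleton_iff] at hc' ⊢
    exact (Commute.zpow_right hc' n).eq
  have e : ∀ a ∈ zpowers (u * v), (orderOf a).Coprime p → a ∉ center G →
      centralizer ({u * v} : Set G) = centralizer ({a} : Set G) := by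
    intro a ha hap han
    refine eq_of_le_of_card_ge (hle a ha) (Nat.le_of_eq ?_)
    have h1 := (centralizer ({a} : Set G)).index_mul_card
    have h2 := (centralizer ({u * v} : Set G)).index_mul_card
    rw [h a hap han] at h1
    rw [h _ hw hwn] at h2
    refine Nat.eq_of_mul_eq_mul_left (Nat.pos_of_ne_zero ?_) (h1.trans h2.symm)
    rw [← h _ hw hwn]; exact index_ne_zero_of_finite
  rw [← e u hun' hu hun, e v hvn' hv hvn]

/-- every centraliser contains noncentral `l`-elements as soon as one exists -/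
theorem exists_NC_mem (h : Two p m G) {x : G} (hx : (orderOf x).Coprime p) (hxn : x ∉ center G)
    {l : ℕ} {y : G} (hy : NC p l y) : ∃ z ∈ centralizer ({x} : Set G), NC p l z := by
  haveI := Fact.mk hy.1
  by_contra hno
  push Not at hno
  obtain ⟨S⟩ : Nonempty (Sylow l (centralizer ({x} : Set G))) := inferInstance
  set S' : Subgroup G := (S : Subgroup (centralizer ({x} : Set G))).map (centralizer ({x} : Set G)).subtype
  have hS' : IsPGroup l S' := S.2.map _
  have hSZ : S' ≤ center G := by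
    intro s hs
    by_contra hsn
    obtain ⟨i, hi⟩ := hS' ⟨s, hs⟩
    exact hno s (map_subtype_le _ hs) ⟨hy.1, hy.2.1, hsn, i, congrArg Subtype.val hi⟩
  haveI : S'.Normal := ⟨fun n hn g => by
    rw [show g * n * g⁻¹ = n by rw [(mem_center_iff.mp (hSZ hn)) g, mul_inv_cancel_right]]; exact hn⟩
  have hyl : IsPGroup l (zpowers y) := by
    obtain ⟨i, hi⟩ := hy.2.2.2
    obtain ⟨j, -, hj⟩ := (Nat.dvd_prime_pow hy.1).mp (orderOf_dvd_of_pow_eq_one hi)
    exact IsPGroup.of_card (n := j) (by rw [Nat.card_zpowers, hj])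
  have hsup : IsPGroup l (zpowers y ⊔ S' : Subgroup G) := hyl.to_sup_of_normal_right hS'
  have hle : zpowers y ⊔ S' ≤ centralizer ({y} : Set G) := sup_le
    (zpowers_le.mpr (mem_centralizer_singleton_iff.mpr rfl))
    (hSZ.trans (center_le_centralizer _))
  obtain ⟨a, ha⟩ := IsPGroup.iff_card.mp hsup
  have hcard : Nat.card (centralizer ({y} : Set G)) = Nat.card (centralizer ({x} : Set G)) := by
    have h1 := (centralizer ({y} : Set G)).index_mul_card
    have h2 := (centralizer ({x} : Set G)).index_mul_card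
    rw [h y hy.coprime hy.2.2.1] at h1
    rw [h x hx hxn] at h2
    refine Nat.eq_of_mul_eq_mul_left (Nat.pos_of_ne_zero ?_) (h1.trans h2.symm)
    rw [← h x hx hxn]; exact index_ne_zero_of_finite
  have h1 : l ^ a ∣ Nat.card S' := by
    rw [show S' = (S : Subgroup _).map (centralizer ({x} : Set G)).subtype from rfl,
      card_map_of_injective (centralizer ({x} : Set G)).subtype_injective]
    exact S.pow_dvd_card_of_pow_dvd_card (hcard ▸ ha ▸ card_dvd_of_le hle)
  have heq : S' = zpowers y ⊔ S' := eq_of_le_of_card_ge le_sup_right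
    (ha ▸ Nat.le_of_dvd Nat.card_pos h1)
  exact hy.2.2.1 (hSZ (heq ▸ mem_sup_left (mem_zpowers y)))

variable (h : Two p m G) (htwo : ∀ l : ℕ, ∃ l', l' ≠ l ∧ ∃ y : G, NC p l' y)
include h htwo

theorem centralizer_eq_of_commute {l l' : ℕ} {u v : G} (hu : NC p l u) (hv : NC p l' v)
    (huv : Commute u v) : centralizer ({u} : Set G) = centralizer ({v} : Set G) := by
  by_cases hll : l = l'
  · subst hll
    obtain ⟨k, hk, y, hy⟩ := htwo l
    obtain ⟨z, hzu, hz⟩ := exists_NC_mem h hu.coprime hu.2.2.1 hy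
    have hzu' : Commute u z := (mem_centralizer_singleton_iff.mp hzu).symm
    have e1 := centralizer_eq_of_coprime h hu.coprime hz.coprime hu.2.2.1 hz.2.2.1 hzu'
      (coprime_of_pow_eq hu.1 hz.1 hk.symm hu.2.2.2 hz.2.2.2)
    have hvz : Commute v z := by
      have : v ∈ centralizer ({u} : Set G) := mem_centralizer_singleton_iff.mpr huv.symm.eq
      rw [e1] at this
      exact mem_centralizer_singleton_iff.mp this
    exact e1.trans (centralizer_eq_of_coprime h hv.coprime hz.coprime hv.2.2.1 hz.2.2.1 hvz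
      (coprime_of_pow_eq hv.1 hz.1 hk.symm hv.2.2.2 hz.2.2.2)).symm
  · exact centralizer_eq_of_coprime h hu.coprime hv.coprime hu.2.2.1 hv.2.2.1 huv
      (coprime_of_pow_eq hu.1 hv.1 hll hu.2.2.2 hv.2.2.2)

theorem centralizer_eq_of_mem {l l' : ℕ} {u t : G} (hu : NC p l u) (ht : NC p l' t)
    (htu : t ∈ centralizer ({u} : Set G)) : centralizer ({t} : Set G) = centralizer ({u} : Set G) :=
  centralizer_eq_of_commute h htwo ht hu (mem_centralizer_singleton_iff.mp htu)

theorem mem_Tl {l0 l : ℕ} {u t : G} (hu : NC p l0 u) (hl : l.Prime) (hlp : l ≠ p)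
    (htC : t ∈ centralizer ({u} : Set G)) (ht : ∃ i, t ^ l ^ i = 1) :
    t ∈ Tl l (centralizer ({u} : Set G)) := by
  refine ⟨htC, fun c hc => ?_, ht⟩
  by_cases htn : t ∈ center G
  · exact mem_center_iff.mp htn c
  · rw [← centralizer_eq_of_mem h htwo hu ⟨hl, hlp, htn, ht⟩ htC] at hc
    exact mem_centralizer_singleton_iff.mp hc

omit h htwo in
theorem index_centralizer_dvd {x : G} {H : Subgroup G} (hH : H ≤ centralizer ({x} : Set G)) :
    (centralizer ({x} : Set G)).index ∣ H.index := index_dvd_of_le hH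

theorem exists_normalizing {l0 l : ℕ} {u : G} (hu : NC p l0 u) (hl : l.Prime) (hlp : l ≠ p)
    (hlm : l ∣ m) :
    ∃ g : G, g ∉ centralizer ({u} : Set G) ∧ g ∈ normalizer (centralizer ({u} : Set G) : Set G) ∧
      ∃ i, g ^ l ^ i = 1 := by
  haveI := Fact.mk hl
  set C := centralizer ({u} : Set G) with hC
  obtain ⟨y, hy⟩ : ∃ y : G, NC p l y := by
    by_contra hno
    push Not at hno
    obtain ⟨S⟩ : Nonempty (Sylow l G) := inferInstance
    have hSC : (S : Subgroup G) ≤ C := by
      intro s hs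
      obtain ⟨i, hi⟩ := S.2 ⟨s, hs⟩
      have : s ∈ center G := by
        by_contra hsn
        exact hno s ⟨hl, hlp, hsn, i, congrArg Subtype.val hi⟩
      exact center_le_centralizer _ this
    exact S.not_dvd_index (hlm.trans (h u hu.coprime hu.2.2.1 ▸ index_dvd_of_le hSC))
  obtain ⟨z, hzC, hz⟩ := exists_NC_mem h hu.coprime hu.2.2.1 hy
  have hTp : IsPGroup l (Tl l C) := by
    intro t
    obtain ⟨i, hi⟩ := t.2.2.2
    exact ⟨i, Subtype.ext (by simpa using hi)⟩
  obtain ⟨S, hS⟩ := hTp.exists_le_sylow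
  have hne : Tl l C ≠ (S : Subgroup G) := by
    intro e
    have hSC : (S : Subgroup G) ≤ C := e ▸ fun t ht => ht.1
    exact S.not_dvd_index (hlm.trans (h u hu.coprime hu.2.2.1 ▸ index_dvd_of_le hSC))
  haveI : Group.IsNilpotent (S : Subgroup G) := S.2.isNilpotent
  have hlt : (Tl l C).subgroupOf (S : Subgroup G) < ⊤ := by
    refine lt_top_iff_ne_top.mpr fun e => hne (le_antisymm hS ?_)
    rwa [subgroupOf_eq_top] at e
  obtain ⟨g, hgN, hgT⟩ := SetLike.exists_of_lt (Group.normalizerCondition_of_isNilpotent _ hlt)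
  obtain ⟨i, hi⟩ := S.2 g
  have hgi : (g : G) ^ l ^ i = 1 := congrArg Subtype.val hi
  have hgC : (g : G) ∉ C := fun hg => hgT (mem_subgroupOf.mpr (mem_Tl h htwo hu hl hlp hg ⟨i, hgi⟩))
  refine ⟨g, hgC, ?_, i, hgi⟩
  have hconj : (g : G) * z * (g : G)⁻¹ ∈ Tl l C := by
    have hzT := mem_Tl h htwo hu hl hlp hzC hz.2.2.2
    have := (mem_normalizer_iff.mp hgN ⟨z, hS hzT⟩).mp (mem_subgroupOf.mpr hzT)
    simpa [mem_subgroupOf] using this
  have e1 := centralizer_eq_of_mem h htwo hu hz hzC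
  have e2 := centralizer_eq_of_mem h htwo hu (hz.conj (g : G)) hconj.1
  rw [centralizer_conj, e1] at e2
  rw [mem_normalizer_iff]
  intro c
  constructor
  · intro hc
    have := mem_map_of_mem (MulAut.conj (g : G)).toMonoidHom hc
    rw [e2] at this
    simpa using this
  · intro hc
    have hc' : (g : G) * c * (g : G)⁻¹ ∈ C := hc
    rw [hC, ← e2, mem_map_equiv] at hc'
    simpa [mul_assoc] using hc' 

omit h htwo in
theorem no_group {W : Type*} [Group W] [Finite W]
    (key : ∀ l : ℕ, l.Prime → l ≠ p → ∀ w : W, (∃ i, w ^ l ^ i = 1) →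
      ∀ U : Subgroup W, (∀ x ∈ U, w * x * w⁻¹ ∈ U) → (Nat.card U).Coprime l → w = 1 ∨ U = ⊥)
    {q r : ℕ} (hq : q.Prime) (hqp : q ≠ p) (hqW : q ∣ Nat.card W) (hr : r.Prime) (hrp : r ≠ p)
    (hrW : r ∣ Nat.card W) (hne : q ≠ r) : False := by
  haveI := Fact.mk hq
  have cent : ∀ {l : ℕ} {y : W} {Q : Subgroup W}, l.Prime → l ≠ p → (∃ i, y ^ l ^ i = 1) →
      (Nat.card Q).Coprime l → y ∈ normalizer (Q : Set W) → y ∈ centralizer (Q : Set W) := by
    intro l y Q hl hlp hy hcop hyN
    rcases key l hl hlp y hy Q (fun x hx => (mem_normalizer_iff.mp hyN x).mp hx) hcop with h1 | h1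
    · rw [h1]; exact one_mem _
    · subst h1
      intro x hx
      rw [SetLike.mem_coe, mem_bot] at hx
      simp [hx]
  have hW : Cfsg.HasNormalPComplement p W := Cfsg.Lib.Transfer.hasNormalPComplement_of_frobenius
    fun Q hQ g hg hcop => mem_of_prime_parts _ g fun l hl hld y hy hyi => by
      have hlp : l ≠ p := fun e => hp.out.coprime_iff_not_dvd.mp hcop.symm (e ▸ hld)
      obtain ⟨a, ha⟩ := IsPGroup.iff_card.mp hQ
      exact cent hl hlp hyi (ha ▸ ((Nat.coprime_primes hp.out hl).mpr hlp.symm).pow_left a)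
        ((zpowers_le.mpr hg) hy)
  obtain ⟨K, hK, hKc, k, hk⟩ := Cfsg.Lib.Transfer.hasNormalPComplement_iff.1 hW
  have hKdvd : ∀ {l : ℕ}, l.Prime → l ≠ p → l ∣ Nat.card W → l ∣ Nat.card K := by
    intro l hl hlp hd
    rw [← K.card_mul_index, hk] at hd
    exact (hl.dvd_mul.mp hd).resolve_right fun h2 =>
      hlp ((Nat.prime_dvd_prime_iff_eq hl hp.out).mp (hl.dvd_of_dvd_pow h2))
  have hKp : ∀ {l : ℕ}, l ∣ Nat.card K → l ≠ p := fun hd e =>
    hp.out.coprime_iff_not_dvd.mp hKc.symm (e ▸ hd)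
  have hK' : Cfsg.HasNormalPComplement q K := Cfsg.Lib.Transfer.hasNormalPComplement_of_frobenius
    fun Q hQ g hg hcop => mem_of_prime_parts _ g fun l hl hld y hy hyi => by
      have hlq : l ≠ q := fun e => hq.coprime_iff_not_dvd.mp hcop.symm (e ▸ hld)
      have hlp : l ≠ p := hKp (hld.trans (_root_.orderOf_dvd_natCard g))
      obtain ⟨a, ha⟩ := IsPGroup.iff_card.mp (hQ.map K.subtype)
      have hyN := (zpowers_le.mpr hg) hy
      have hyW : (y : W) ∈ normalizer (Q.map K.subtype : Set W) := by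
        exact le_normalizer_map K.subtype ⟨y, hyN, rfl⟩
      have h1 := cent hl hlp (hyi.imp fun i hi => (congrArg Subtype.val hi))
        (ha ▸ ((Nat.coprime_primes hq hl).mpr hlq.symm).pow_left a) hyW
      exact fun x hx => Subtype.ext (h1 _ ⟨x, hx, rfl⟩)
  obtain ⟨K1, hK1, hK1c, k1, hk1⟩ := Cfsg.Lib.Transfer.hasNormalPComplement_iff.1 hK'
  obtain ⟨w, hw⟩ := exists_prime_orderOf_dvd_card' (G := K) q (hKdvd hq hqp hqW)
  have hw' : orderOf (w : W) = q := by rwa [Subgroup.orderOf_coe]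
  have hr1 : r ∣ Nat.card K1 := by
    have h1 := hKdvd hr hrp hrW
    rw [← K1.card_mul_index, hk1] at h1
    exact (hr.dvd_mul.mp h1).resolve_right fun h2 =>
      hne ((Nat.prime_dvd_prime_iff_eq hr hq).mp (hr.dvd_of_dvd_pow h2)).symm
  rcases key q hq hqp w ⟨1, by rw [pow_one, ← hw', pow_orderOf_eq_one]⟩ (K1.map K.subtype)
    (by rintro _ ⟨x, hx, rfl⟩; exact ⟨w * x * w⁻¹, hK1.conj_mem x hx w, rfl⟩)
    (by rw [card_map_of_injective K.subtype_injective]; exact hK1c) with h1 | h1
  · exact hq.ne_one (by rw [← hw', h1, orderOf_one])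
  · rw [Subgroup.map_eq_bot_iff_of_injective _ K.subtype_injective] at h1
    rw [h1, Subgroup.card_bot] at hr1
    exact hr.not_dvd_one hr1

/-- only one prime other than `p` divides `m` -/
theorem eq_of_prime_dvd {q r : ℕ} (hq : q.Prime) (hqp : q ≠ p) (hqm : q ∣ m) (hr : r.Prime)
    (hrp : r ≠ p) (hrm : r ∣ m) : q = r := by
  classical
  by_contra hne
  obtain ⟨l0, -, u, hu⟩ := htwo 0
  set C := centralizer ({u} : Set G) with hC
  set N : Subgroup G := normalizer (C : Set G) with hN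
  haveI : (C.subgroupOf N).Normal := normal_in_normalizer
  let π := QuotientGroup.mk' (C.subgroupOf N)
  have hone : ∀ n : N, π n = 1 ↔ (n : G) ∈ C := fun n => by
    rw [QuotientGroup.mk'_apply, QuotientGroup.eq_one_iff, mem_subgroupOf]
  have hWdvd : ∀ l : ℕ, l ∣ Nat.card (N ⧸ C.subgroupOf N) → l ∣ m := by
    intro l hl
    refine hl.trans ?_
    rw [← h u hu.coprime hu.2.2.1, ← Subgroup.index_eq_card]
    exact relIndex_dvd_index_of_le le_normalizer
  -- the key property
  have key : ∀ l : ℕ, l.Prime → l ≠ p → ∀ w : N ⧸ C.subgroupOf N, (∃ i, w ^ l ^ i = 1) →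
      ∀ U : Subgroup (N ⧸ C.subgroupOf N), (∀ x ∈ U, w * x * w⁻¹ ∈ U) → (Nat.card U).Coprime l →
      w = 1 ∨ U = ⊥ := by
    intro l hl hlp w hw U hU hcop
    haveI := Fact.mk hl
    by_cases hw1 : w = 1
    · exact Or.inl hw1
    have hlm : l ∣ m := by
      obtain ⟨i, hi⟩ := hw
      obtain ⟨j, -, hj⟩ := (Nat.dvd_prime_pow hl).mp (orderOf_dvd_of_pow_eq_one hi)
      refine hWdvd l ((dvd_pow_self l ?_).trans (hj ▸ _root_.orderOf_dvd_natCard w))
      rintro rfl
      exact hw1 (orderOf_eq_one_iff.mp (by simpa using hj))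
    obtain ⟨y, hy⟩ : ∃ y : G, NC p l y := by
      obtain ⟨g, hg, -, hgi⟩ := exists_normalizing h htwo hu hl hlp hlm
      exact ⟨g, hl, hlp, fun hz => hg (center_le_centralizer _ hz), hgi⟩
    obtain ⟨t0, ht0C, ht0⟩ := exists_NC_mem h hu.coprime hu.2.2.1 hy
    have ht0T := mem_Tl h htwo hu hl hlp ht0C ht0.2.2.2
    letI : CommGroup (Tl l C) := { mul_comm := fun a b => Subtype.ext (b.2.2.1 a a.2.1) }
    have hconj : ∀ (n : N), ∀ t ∈ Tl l C, (n : G) * t * (n : G)⁻¹ ∈ Tl l C := by
      intro n t ht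
      refine mem_Tl h htwo hu hl hlp ((mem_normalizer_iff.mp n.2 t).mp ht.1) ?_
      obtain ⟨i, hi⟩ := ht.2.2
      exact ⟨i, by rw [conj_pow, hi, mul_one, mul_inv_cancel]⟩
    let f : N →* MulAut (Tl l C) :=
      { toFun := fun n =>
          { toFun := fun t => ⟨(n : G) * t * (n : G)⁻¹, hconj n t t.2⟩
            invFun := fun t => ⟨(n : G)⁻¹ * t * (n : G), by
              simpa using hconj n⁻¹ t t.2⟩
            left_inv := fun t => Subtype.ext (by simp [mul_assoc])
            right_inv := fun t => Subtype.ext (by simp [mul_assoc])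
            map_mul' := fun a b => Subtype.ext (by simp [mul_assoc]) }
        map_one' := by ext t; simp
        map_mul' := fun a b => by ext t; simp [mul_assoc] }
    have hker : C.subgroupOf N ≤ f.ker := by
      intro c hc
      refine MulEquiv.ext fun t => Subtype.ext ?_
      show (c : G) * t * (c : G)⁻¹ = t
      rw [t.2.2.1 _ (mem_subgroupOf.mp hc), mul_inv_cancel_right]
    letI : MulDistribMulAction (N ⧸ C.subgroupOf N) (Tl l C) :=
      MulDistribMulAction.compHom _ (QuotientGroup.lift _ f hker)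
    have hsmul : ∀ (n : N) (t : Tl l C), ((π n) • t : Tl l C).1 = (n : G) * t * (n : G)⁻¹ :=
      fun _ _ => rfl
    have hcomm : ∀ (n : N) (t : Tl l C), π n • t = t → Commute (n : G) (t : G) := by
      intro n t ht
      have h1 := hsmul n t
      rw [ht] at h1
      exact (mul_inv_eq_iff_eq_mul.mp h1.symm)
    refine not_normalise (T := Tl l C) (fun t => ?_) ?_ ?_ hw hU hcop
    · obtain ⟨i, hi⟩ := t.2.2.2
      exact ⟨i, Subtype.ext (by simpa using hi)⟩
    · intro w' hw' t ht w''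
      obtain ⟨n, rfl⟩ := QuotientGroup.mk'_surjective _ w'
      obtain ⟨n', rfl⟩ := QuotientGroup.mk'_surjective _ w''
      have htZ : (t : G) ∈ center G := by
        by_contra htn
        refine hw' ((hone n).mpr ?_)
        rw [hC, ← centralizer_eq_of_mem h htwo hu ⟨hl, hlp, htn, t.2.2.2⟩ t.2.1]
        exact mem_centralizer_singleton_iff.mpr (hcomm n t ht)
      refine Subtype.ext ?_
      rw [hsmul, mem_center_iff.mp htZ, mul_inv_cancel_right]
    · intro w' hw'
      obtain ⟨n, rfl⟩ := QuotientGroup.mk'_surjective _ w'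
      refine (hone n).mpr ?_
      rw [hC, ← centralizer_eq_of_mem h htwo hu ht0 ht0C]
      exact mem_centralizer_singleton_iff.mpr (hcomm n ⟨t0, ht0T⟩ (hw' _))
  have hdvd : ∀ l : ℕ, l.Prime → l ≠ p → l ∣ m → l ∣ Nat.card (N ⧸ C.subgroupOf N) := by
    intro l hl hlp hlm
    obtain ⟨g, hg, hgN, i, hgi⟩ := exists_normalizing h htwo hu hl hlp hlm
    have hne1 : π ⟨g, hgN⟩ ≠ 1 := fun e => hg ((hone _).mp e)
    obtain ⟨j, -, hj⟩ := (Nat.dvd_prime_pow hl).mp (orderOf_dvd_of_pow_eq_one
      (x := π ⟨g, hgN⟩) (n := l ^ i) (by rw [← map_pow]; exact (hone _).mpr (by simp [hgi, one_mem])))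
    refine (dvd_pow_self l ?_).trans (hj ▸ _root_.orderOf_dvd_natCard _)
    rintro rfl
    exact hne1 (orderOf_eq_one_iff.mp (by simpa using hj))
  exact no_group key hq hqp (hdvd q hq hqp hqm) hr hrp (hdvd r hr hrp hrm) hne

theorem not_case {q : ℕ} (hq : q.Prime) (hqp : q ≠ p) (hqm : q ∣ m)
    (hm : ∀ l : ℕ, l.Prime → l ∣ m → l = p ∨ l = q) : False := by
  classical
  haveI := Fact.mk hq
  obtain ⟨r, hrq, y0, hy0⟩ := htwo q
  haveI := Fact.mk hy0.1
  have hrm : ¬ r ∣ m := fun hd => (hm r hy0.1 hd).elim hy0.2.1 hrq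
  have hidx : ∀ {l : ℕ} {x : G}, NC p l x → (centralizer ({x} : Set G)).index = m :=
    fun hx => h _ hx.coprime hx.2.2.1
  -- all the centralisers are conjugate
  have hconjC : ∀ {l l' : ℕ} {x z : G}, NC p l x → NC p l' z →
      ∃ g : G, centralizer ({z} : Set G) = (centralizer ({x} : Set G)).map (MulAut.conj g).toMonoidHom := by
    intro l l' x z hx hz
    have hsyl : ∀ {k : ℕ} {a : G}, NC p k a → ∃ S : Sylow r G, (S : Subgroup G) ≤ centralizer ({a} : Set G) := by
      intro k a ha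
      obtain ⟨S0⟩ : Nonempty (Sylow r (centralizer ({a} : Set G))) := inferInstance
      refine ⟨IsPGroup.toSylow (S0.2.map (centralizer ({a} : Set G)).subtype) ?_, map_subtype_le _⟩
      rw [index_map_subtype]
      refine fun hd => (hy0.1.dvd_mul.mp hd).elim S0.not_dvd_index ?_
      rw [hidx ha]; exact hrm
    obtain ⟨S, hS⟩ := hsyl hx
    obtain ⟨S', hS'⟩ := hsyl hz
    obtain ⟨g, hg⟩ := MulAction.exists_smul_eq G S S'
    obtain ⟨g1, hg1⟩ := (isPGroup_zpowers' hy0.1 hy0.2.2.2).exists_le_sylow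
    obtain ⟨k, hk⟩ := MulAction.exists_smul_eq G g1 S
    have hy1 : k * y0 * k⁻¹ ∈ (S : Subgroup G) := by
      rw [← hk, Sylow.coe_subgroup_smul]
      exact ⟨y0, hg1 (mem_zpowers y0), rfl⟩
    have hy2 : g * (k * y0 * k⁻¹) * g⁻¹ ∈ (S' : Subgroup G) := by
      rw [← hg, Sylow.coe_subgroup_smul]
      exact ⟨_, hy1, rfl⟩
    refine ⟨g, ?_⟩
    rw [← centralizer_eq_of_mem h htwo hx (hy0.conj k) (hS hy1),
      ← centralizer_eq_of_mem h htwo hz ((hy0.conj k).conj g) (hS' hy2), centralizer_conj]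
  -- the normal subgroup generated by the `p`-core and the centre
  set V : Subgroup G := Cfsg.pCore p G with hV
  haveI hVn : V.Normal := Cfsg.Lib.Components.pCore_normal' p
  have hVp : IsPGroup p V := Cfsg.Lib.Components.isPGroup_pCore p
  set U : Subgroup G := V ⊔ center G with hU
  have hUcen : ∀ {l : ℕ} {x : G}, l.Prime → l ≠ p → x ∈ U → (∃ i, x ^ l ^ i = 1) → x ∈ center G := by
    intro l x hl hlp hx hxi
    rw [hU, mem_sup_of_normal_left] at hx
    obtain ⟨v, hv, z, hz, rfl⟩ := hx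
    obtain ⟨a, ha⟩ := hVp ⟨v, hv⟩
    have hva : v ^ p ^ a = 1 := congrArg Subtype.val ha
    obtain ⟨t, ht⟩ := exists_pow_eq_self_of_coprime (x := v * z) (n := p ^ a)
      ((coprime_p_of_pow_eq hl hp.out hlp hxi).symm.pow_left a)
    rw [← ht, Commute.mul_pow (show Commute v z from (mem_center_iff.mp hz v)), hva, one_mul]
    exact pow_mem (pow_mem hz _) _
  have hVV : ∀ {l : ℕ} {x : G}, l.Prime → l ≠ p → x ∈ V → (∃ i, x ^ l ^ i = 1) → x = 1 := by
    intro l x hl hlp hx hxi
    obtain ⟨a, ha⟩ := hVp ⟨x, hx⟩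
    exact orderOf_eq_one_iff.mp (Nat.eq_one_of_dvd_coprimes ((coprime_p_of_pow_eq hl hp.out hlp hxi).pow_right a)
      dvd_rfl (orderOf_dvd_of_pow_eq_one (congrArg Subtype.val ha)))
  obtain ⟨l, hl, hlp, L, hLp, hLZ, hLcomm, hVN⟩ : ∃ l : ℕ, l.Prime ∧ l ≠ p ∧ ∃ L : Subgroup G,
      IsPGroup l L ∧ ¬ L ≤ center G ∧ (∀ x ∈ L, ∀ y ∈ L, x * y * x⁻¹ * y⁻¹ ∈ center G) ∧
      ∀ g : G, ∃ v ∈ V, ∃ n ∈ normalizer (L : Set G), g = v * n := by
    let π := QuotientGroup.mk' U
    have hπs : Function.Surjective π := QuotientGroup.mk'_surjective U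
    have hπone : ∀ g : G, π g = 1 ↔ g ∈ U := fun g => QuotientGroup.eq_one_iff g
    have hne : (⊤ : Subgroup (G ⧸ U)) ≠ ⊥ := by
      intro e
      exact hy0.2.2.1 (hUcen hy0.1 hy0.2.1 ((hπone y0).mp ((eq_bot_iff_forall _).mp e _ (mem_top _))) hy0.2.2.2)
    obtain ⟨N, ⟨hNn, hNb⟩, hNmin⟩ := Set.Finite.exists_minimal
      (s := {N : Subgroup (G ⧸ U) | N.Normal ∧ N ≠ ⊥}) (Set.toFinite _) ⟨⊤, inferInstance, hne⟩
    haveI := hNn
    set M : Subgroup G := N.comap π with hM
    haveI : M.Normal := hNn.comap π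
    have hUM : U ≤ M := fun g hg => by rw [hM, mem_comap, (hπone g).mpr hg]; exact one_mem N
    have hnp : ¬ IsPGroup p N := by
      intro hNp
      obtain ⟨P⟩ : Nonempty (Sylow p M) := inferInstance
      have hsup : (P : Subgroup M) ⊔ (center G).subgroupOf M = ⊤ := by
        apply eq_top_of_card_eq
        refine Nat.dvd_antisymm (card_subgroup_dvd_card _) ((Nat.dvd_iff_prime_pow_dvd_dvd _ _).mpr ?_)
        intro s k hs hk
        rcases eq_or_ne s p with rfl | hsp
        · exact (P.pow_dvd_card_of_pow_dvd_card hk).trans (card_dvd_of_le le_sup_left)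
        haveI := Fact.mk hs
        obtain ⟨S⟩ : Nonempty (Sylow s M) := inferInstance
        refine (S.pow_dvd_card_of_pow_dvd_card hk).trans (card_dvd_of_le fun x hx => mem_sup_right ?_)
        obtain ⟨i, hi⟩ := S.2 ⟨x, hx⟩
        have hxi : (x : G) ^ s ^ i = 1 := congrArg (fun y : (S : Subgroup M) => ((y : M) : G)) hi
        refine mem_subgroupOf.mpr (hUcen hs hsp ((hπone _).mp ?_) ⟨i, hxi⟩)
        obtain ⟨j, hj⟩ := hNp ⟨π x, x.2⟩
        exact orderOf_eq_one_iff.mp (Nat.eq_one_of_dvd_coprimes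
          (((Nat.coprime_primes hs hp.out).mpr hsp).pow i j)
          (orderOf_dvd_of_pow_eq_one (by rw [← map_pow, hxi, map_one]))
          (orderOf_dvd_of_pow_eq_one (congrArg Subtype.val hj)))
      haveI : (P : Subgroup M).Normal := by
        rw [← normalizer_eq_top_iff, eq_top_iff, ← hsup]
        refine sup_le le_normalizer fun z hz => ?_
        refine Subgroup.center_le_normalizer _ ?_
        exact mem_center_iff.mpr fun g => Subtype.ext (mem_center_iff.mp (mem_subgroupOf.mp hz) g)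
      haveI : (P : Subgroup M).Characteristic := P.characteristic_of_normal inferInstance
      have hle : (P : Subgroup M).map M.subtype ≤ V := le_sSup ⟨inferInstance, P.2.map _⟩
      have hMU : M ≤ U := by
        intro g hg
        have : (⟨g, hg⟩ : M) ∈ (P : Subgroup M) ⊔ (center G).subgroupOf M := hsup ▸ mem_top _
        rw [mem_sup_of_normal_left] at this
        obtain ⟨a, ha, b, hb, hab⟩ := this
        rw [← show (a : G) * b = g from congrArg Subtype.val hab]
        exact mul_mem (mem_sup_left (hle ⟨a, ha, rfl⟩)) (mem_sup_right (mem_subgroupOf.mp hb))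
      refine hNb ((eq_bot_iff_forall N).mpr fun w hw => ?_)
      obtain ⟨g, rfl⟩ := hπs w
      exact (hπone g).mpr (hMU hw)
    by_cases hab : ∀ a ∈ N, ∀ b ∈ N, a * b = b * a
    · obtain ⟨l, hl, hld, hlp⟩ : ∃ l : ℕ, l.Prime ∧ l ∣ Nat.card N ∧ l ≠ p := by
        by_contra hno
        push Not at hno
        exact hnp (IsPGroup.of_card (n := (Nat.card N).primeFactorsList.length)
          (Nat.eq_prime_pow_of_unique_prime_dvd Nat.card_pos.ne' fun {d} hd hdd => hno d hd hdd))
      haveI := Fact.mk hl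
      letI : CommGroup N := { mul_comm := fun a b => Subtype.ext (hab a a.2 b b.2) }
      obtain ⟨S⟩ : Nonempty (Sylow l N) := inferInstance
      haveI : (S : Subgroup N).Normal := inferInstance
      haveI : (S : Subgroup N).Characteristic := S.characteristic_of_normal inferInstance
      have hSN : (S : Subgroup N).map N.subtype = N := le_antisymm (map_subtype_le _)
        (hNmin ⟨inferInstance, fun e => S.ne_bot_of_dvd_card hld
          ((Subgroup.map_eq_bot_iff_of_injective _ N.subtype_injective).mp e)⟩ (map_subtype_le _))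
      have hNl : IsPGroup l N := hSN ▸ S.2.map N.subtype
      obtain ⟨P⟩ : Nonempty (Sylow l M) := inferInstance
      set L : Subgroup G := (P : Subgroup M).map M.subtype with hLdef
      have hLM : L ≤ M := map_subtype_le _
      have hLl : IsPGroup l L := P.2.map _
      have hLpow : ∀ x ∈ L, ∃ i, x ^ l ^ i = 1 := fun x hx => by
        obtain ⟨i, hi⟩ := hLl ⟨x, hx⟩
        exact ⟨i, congrArg Subtype.val hi⟩
      have hMLU : M ≤ L ⊔ U := by
        rw [← relIndex_eq_one]
        obtain ⟨a, ha⟩ := IsPGroup.iff_card.mp hNl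
        have hUrel : U.relIndex M = l ^ a := by
          have h1 := Subgroup.relIndex_ker (f := π) (K := M)
          rw [show π.ker = U from QuotientGroup.ker_mk' U, hM, map_comap_eq_self_of_surjective hπs, ha] at h1
          exact h1
        have hLrel : L.relIndex M = (P : Subgroup M).index := by
          rw [relIndex, hLdef, subgroupOf, comap_map_eq_self_of_injective M.subtype_injective]
        refine Nat.eq_one_of_dvd_coprimes (((hl.coprime_iff_not_dvd.mpr P.not_dvd_index).pow_left a))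
          (hUrel ▸ relIndex_dvd_of_le_left M (le_sup_right : U ≤ L ⊔ U))
          (hLrel ▸ relIndex_dvd_of_le_left M (le_sup_left : L ≤ L ⊔ U))
      refine ⟨l, hl, hlp, L, hLl, fun hLc => ?_, fun x hx y hy => ?_, fun g => ?_⟩
      · refine hNb ((eq_bot_iff_forall N).mpr fun w hw => ?_)
        obtain ⟨g, rfl⟩ := hπs w
        exact (hπone g).mpr ((sup_le (hLc.trans le_sup_right) le_rfl) (hMLU hw))
      · refine hUcen hl hlp ((hπone _).mp ?_) (hLpow _ (mul_mem (mul_mem (mul_mem hx hy) (inv_mem hx)) (inv_mem hy)))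
        rw [map_mul, map_mul, map_mul, map_inv, map_inv, hab _ (hLM hx) _ (hLM hy)]
        group
      · have hVLn : V ⊔ normalizer (L : Set G) = ⊤ := by
          rw [eq_top_iff, ← Sylow.normalizer_sup_eq_top P]
          refine sup_le le_sup_right (hMLU.trans (sup_le (le_normalizer.trans le_sup_right) ?_))
          rw [hU]
          exact sup_le le_sup_left ((center_le_normalizer _).trans le_sup_right)
        have : g ∈ V ⊔ normalizer (L : Set G) := hVLn ▸ mem_top g
        obtain ⟨v, hv, n, hn, e⟩ := mem_sup_of_normal_left.mp this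
        exact ⟨v, hv, n, hn, e.symm⟩
    · exfalso
      have hy : ∃ w ∈ N, w ≠ 1 ∧ ∃ j, (centralizer ({w} : Set (G ⧸ U))).relIndex N ∣ p ^ j := by
        suffices ∃ w ∈ N, w ≠ 1 ∧ ¬ q ∣ (centralizer ({w} : Set (G ⧸ U))).relIndex N ∧
            (centralizer ({w} : Set (G ⧸ U))).relIndex N ∣ m by
          obtain ⟨w, hw, hw1, hnq, hdm⟩ := this
          have hne0 : (centralizer ({w} : Set (G ⧸ U))).relIndex N ≠ 0 := index_ne_zero_of_finite
          exact ⟨w, hw, hw1, _, (Nat.eq_prime_pow_of_unique_prime_dvd hne0 fun {d} hd hdd =>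
            (hm d hd (hdd.trans hdm)).resolve_right fun e => hnq (e ▸ hdd)).dvd⟩
        have hbound : ∀ {s : ℕ} {g : G}, NC p s g →
            (centralizer ({π g} : Set (G ⧸ U))).index ∣ m := by
          intro s g hg
          rw [← hidx hg]
          refine (index_dvd_of_le ?_).trans (index_map_dvd _ hπs)
          rintro _ ⟨c, hc, rfl⟩
          rw [mem_centralizer_singleton_iff, ← map_mul, ← map_mul]
          exact congrArg π (mem_centralizer_singleton_iff.mp hc)
        have hlift : ∀ {s : ℕ} {w : G ⧸ U}, s.Prime → s ≠ p → (∃ i, w ^ s ^ i = 1) → w ≠ 1 →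
            (centralizer ({w} : Set (G ⧸ U))).index ∣ m := by
          intro s w hs hsp hwi hw1
          haveI := Fact.mk hs
          obtain ⟨g, rfl⟩ := hπs w
          obtain ⟨i, hi⟩ := hwi
          obtain ⟨a, c, hc, hac⟩ := Nat.exists_eq_pow_mul_and_not_dvd (orderOf_pos g).ne' s hs.ne_one
          obtain ⟨t, ht⟩ := exists_pow_eq_self_of_coprime (x := π g) (n := c)
            (Nat.Coprime.coprime_dvd_right (orderOf_dvd_of_pow_eq_one hi)
              (((hs.coprime_iff_not_dvd.mpr hc).pow_left i).symm))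
          rw [← ht, ← map_pow, ← map_pow] at hw1 ⊢
          refine hbound ⟨hs, hsp, fun hz => hw1 ((hπone _).mpr (mem_sup_right hz)), a, ?_⟩
          rw [← pow_mul, ← pow_mul, mul_comm t, ← mul_assoc, mul_comm c, ← hac, pow_mul,
            pow_orderOf_eq_one, one_pow]
        by_cases hqN : q ∣ Nat.card N
        · obtain ⟨S0⟩ : Nonempty (Sylow q N) := inferInstance
          obtain ⟨S, hS⟩ := (S0.2.map N.subtype).exists_le_sylow
          have hNS : N.subgroupOf (S : Subgroup (G ⧸ U)) ≠ ⊥ := by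
            intro e
            refine S0.ne_bot_of_dvd_card hqN ((eq_bot_iff_forall _).mpr fun x hx => ?_)
            have hxS := hS ⟨x, hx, rfl⟩
            have h1 := (eq_bot_iff_forall _).mp e ⟨_, hxS⟩ x.2
            exact Subtype.ext (congrArg (fun y : (S : Subgroup (G ⧸ U)) => (y : G ⧸ U)) h1)
          obtain ⟨w, hw, hw1⟩ := exists_central S.2 (N.subgroupOf (S : Subgroup (G ⧸ U))) hNS
          have hw1' : (w : G ⧸ U) ≠ 1 := fun e => hw1 (Subtype.ext e)
          have hwS : (S : Subgroup (G ⧸ U)) ≤ centralizer ({(w : G ⧸ U)} : Set (G ⧸ U)) := fun c hc =>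
            mem_centralizer_singleton_iff.mpr (congrArg Subtype.val (mem_center_iff.mp hw.2 ⟨c, hc⟩))
          obtain ⟨i, hi⟩ := S.2 w
          refine ⟨w, hw.1, hw1', fun hd => S.not_dvd_index ?_,
            (Cfsg.Lib.Components.relIndex_dvd_index_of_normal_right _ N).trans
              (hlift hq hqp ⟨i, congrArg Subtype.val hi⟩ hw1')⟩
          exact (hd.trans (Cfsg.Lib.Components.relIndex_dvd_index_of_normal_right _ N)).trans (index_dvd_of_le hwS)
        · obtain ⟨s, hs, hsd, hsp⟩ : ∃ s : ℕ, s.Prime ∧ s ∣ Nat.card N ∧ s ≠ p := by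
            by_contra hno
            push Not at hno
            exact hnp (IsPGroup.of_card (n := (Nat.card N).primeFactorsList.length)
              (Nat.eq_prime_pow_of_unique_prime_dvd Nat.card_pos.ne' fun {d} hd hdd => hno d hd hdd))
          haveI := Fact.mk hs
          obtain ⟨w, hw⟩ := exists_prime_orderOf_dvd_card' (G := N) s hsd
          have hw' : orderOf (w : G ⧸ U) = s := by rwa [Subgroup.orderOf_coe]
          refine ⟨w, w.2, fun e => hs.ne_one (by rw [← hw', e, orderOf_one]), fun hd => hqN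
            (hd.trans (relIndex_dvd_card _ _)), ?_⟩
          refine (Cfsg.Lib.Components.relIndex_dvd_index_of_normal_right _ N).trans
            (hlift hs hsp ⟨1, by rw [pow_one, ← hw', pow_orderOf_eq_one]⟩
              fun e => hs.ne_one (by rw [← hw', e, orderOf_one]))
      obtain ⟨w, hwN, hw1, j, hj⟩ := hy
      exact no_minimal N (fun K hK hK0 hKN => le_antisymm hKN (hNmin ⟨hK, hK0⟩ hKN)) hab hwN hw1 hp.out hj
  -- `L` lies in one centraliser
  obtain ⟨x, hxL, hxZ⟩ := SetLike.not_le_iff_exists.mp hLZ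
  have hpow : ∀ a ∈ L, ∃ i, a ^ l ^ i = 1 := fun a ha => by
    obtain ⟨i, hi⟩ := hLp ⟨a, ha⟩
    exact ⟨i, congrArg Subtype.val hi⟩
  have hx : NC p l x := ⟨hl, hlp, hxZ, hpow x hxL⟩
  set C := centralizer ({x} : Set G) with hC
  have hLC : L ≤ C := by
    haveI := Fact.mk hl
    intro y hy
    rcases eq_or_ne l r with rfl | hlr
    · -- Sylow `r`-subgroups are abelian
      obtain ⟨S, hS⟩ := hLp.exists_le_sylow
      obtain ⟨S0⟩ : Nonempty (Sylow l C) := inferInstance
      let S1 : Sylow l G := IsPGroup.toSylow (S0.2.map C.subtype) (by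
        rw [index_map_subtype]
        exact fun hd => (hl.dvd_mul.mp hd).elim S0.not_dvd_index (by rw [hidx hx]; exact hrm))
      obtain ⟨k, hk⟩ := MulAction.exists_smul_eq G S S1
      have key : ∀ a ∈ L, k * a * k⁻¹ ∈ Tl l C := by
        intro a ha
        have : k * a * k⁻¹ ∈ (S1 : Subgroup G) := by
          rw [← hk, Sylow.coe_subgroup_smul]; exact ⟨a, hS ha, rfl⟩
        obtain ⟨i, hi⟩ := hpow a ha
        exact mem_Tl h htwo hx hl hlp (map_subtype_le _ this) ⟨i, by rw [conj_pow, hi, mul_one, mul_inv_cancel]⟩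
      have h1 := (key x hxL).2.1 _ (key y hy).1
      rw [hC, mem_centralizer_singleton_iff]
      calc y * x = k⁻¹ * (k * y * k⁻¹ * (k * x * k⁻¹)) * k := by group
        _ = k⁻¹ * (k * x * k⁻¹ * (k * y * k⁻¹)) * k := by rw [h1]
        _ = x * y := by group
    obtain ⟨z, hzC, hz⟩ := exists_NC_mem h hx.coprime hxZ hy0
    obtain ⟨v, hv, n, hn, hzvn⟩ := hVN z
    have hxz : z * x = x * z := mem_centralizer_singleton_iff.mp hzC
    have hn' : ∀ a ∈ L, n * a * n⁻¹ ∈ L := fun a ha => (mem_normalizer_iff.mp hn a).mp ha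
    have hx'x : n * x * n⁻¹ = x := by
      have h1 : x = v * (n * x * n⁻¹) * v⁻¹ := by
        calc x = z * x * z⁻¹ := by rw [hxz, mul_inv_cancel_right]
          _ = v * (n * x * n⁻¹) * v⁻¹ := by rw [hzvn]; group
      have h2 : (n * x * n⁻¹)⁻¹ * x ∈ V := by
        set a := n * x * n⁻¹
        rw [h1, show a⁻¹ * (v * a * v⁻¹) = (a⁻¹ * v * a) * v⁻¹ by group]
        exact mul_mem (hVn.conj_mem' v hv a) (inv_mem hv)
      exact inv_mul_eq_one.mp (hVV hl hlp h2 (hpow _ (mul_mem (inv_mem (hn' x hxL)) hxL)))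
    have hnx : n ∈ C := mem_centralizer_singleton_iff.mpr (mul_inv_eq_iff_eq_mul.mp hx'x)
    -- replace `n` by an `r`-element
    obtain ⟨i, hi⟩ := hz.2.2.2
    have hni : n ^ r ^ i ∈ V := by
      have : QuotientGroup.mk' V n = QuotientGroup.mk' V z := by
        rw [hzvn, map_mul, (QuotientGroup.eq_one_iff v).mpr hv |> fun e => show QuotientGroup.mk' V v = 1 from e, one_mul]
      rw [← QuotientGroup.eq_one_iff, ← QuotientGroup.mk'_apply, map_pow, this, ← map_pow, hi, map_one]
    obtain ⟨a, ha⟩ := hVp ⟨_, hni⟩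
    have hna : (n ^ r ^ i) ^ p ^ a = 1 := congrArg Subtype.val ha
    obtain ⟨t, ht⟩ := exists_pow_eq_self_of_coprime (x := z) (n := p ^ a) (hz.coprime.symm.pow_left a)
    set n' := (n ^ p ^ a) ^ t with hn'def
    have hn'i : n' ^ r ^ i = 1 := by
      rw [hn'def, ← pow_mul, ← pow_mul, show p ^ a * (t * r ^ i) = r ^ i * p ^ a * t by ring, pow_mul, pow_mul,
        hna, one_pow]
    have hn'n : n' ∉ center G := by
      intro hh
      have e : QuotientGroup.mk' V n' = QuotientGroup.mk' V z := by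
        have : QuotientGroup.mk' V n = QuotientGroup.mk' V z := by
          rw [hzvn, map_mul, show QuotientGroup.mk' V v = 1 from (QuotientGroup.eq_one_iff v).mpr hv, one_mul]
        rw [hn'def, map_pow, map_pow, this, ← map_pow, ← map_pow, ht]
      have h2 : n'⁻¹ * z ∈ V := QuotientGroup.eq.mp e
      refine hz.2.2.1 (hUcen hz.1 hz.2.1 ?_ hz.2.2.2)
      rw [hU, show z = n' * (n'⁻¹ * z) by group]
      exact mul_mem (mem_sup_right hh) (mem_sup_left h2)
    have hn'N : n' ∈ normalizer (L : Set G) := pow_mem (pow_mem hn _) _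
    have hn'C : n' ∈ C := pow_mem (pow_mem hnx _) _
    have hn'NC : NC p r n' := ⟨hy0.1, hy0.2.1, hn'n, i, hn'i⟩
    have e := centralizer_eq_of_mem h htwo hx hn'NC hn'C
    -- `c` is the commutator of `n'` and `y`
    set c := y⁻¹ * (n' * y * n'⁻¹) with hcdef
    have hcL : c ∈ L := mul_mem (inv_mem hy) ((mem_normalizer_iff.mp hn'N y).mp hy)
    have hcx : c ∈ C := by
      set κ := x * y * x⁻¹ * y⁻¹ with hκ
      have hk : κ ∈ center G := hLcomm x hxL y hy
      have hnx' : n' * x = x * n' := mem_centralizer_singleton_iff.mp hn'C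
      have h1 : x * y = κ * (y * x) := by rw [hκ]; group
      have h2 : x * (n' * y * n'⁻¹) = κ * ((n' * y * n'⁻¹) * x) := by
        calc x * (n' * y * n'⁻¹) = (x * n') * y * n'⁻¹ := by group
          _ = (n' * x) * y * n'⁻¹ := by rw [hnx']
          _ = n' * (x * y) * n'⁻¹ := by group
          _ = n' * (κ * (y * x)) * n'⁻¹ := by rw [h1]
          _ = (n' * κ) * (y * x) * n'⁻¹ := by group
          _ = (κ * n') * (y * x) * n'⁻¹ := by rw [mem_center_iff.mp hk n']
          _ = κ * (n' * y * (x * n'⁻¹)) := by group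
          _ = κ * (n' * y * (n'⁻¹ * x)) := by rw [(Commute.inv_left hnx').symm.eq]
          _ = κ * (n' * y * n'⁻¹ * x) := by group
      rw [hC, mem_centralizer_singleton_iff, hcdef]
      have h3 : x * y⁻¹ = κ⁻¹ * (y⁻¹ * x) := by
        have : y⁻¹ * (x * y) * y⁻¹ = y⁻¹ * (κ * (y * x)) * y⁻¹ := by rw [h1]
        calc x * y⁻¹ = κ⁻¹ * (κ * (x * y⁻¹)) := by group
          _ = κ⁻¹ * ((y⁻¹ * κ) * (y * x) * y⁻¹) := by rw [mem_center_iff.mp hk y⁻¹]; group
          _ = κ⁻¹ * (y⁻¹ * (κ * (y * x)) * y⁻¹) := by group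
          _ = κ⁻¹ * (y⁻¹ * (x * y) * y⁻¹) := by rw [this]
          _ = κ⁻¹ * (y⁻¹ * x) := by group
      calc y⁻¹ * (n' * y * n'⁻¹) * x = y⁻¹ * (κ⁻¹ * (κ * (n' * y * n'⁻¹ * x))) := by group
        _ = (y⁻¹ * κ⁻¹) * (x * (n' * y * n'⁻¹)) := by rw [← h2]; group
        _ = (κ⁻¹ * y⁻¹) * (x * (n' * y * n'⁻¹)) := by rw [mem_center_iff.mp (inv_mem hk) y⁻¹]
        _ = (κ⁻¹ * (y⁻¹ * x)) * (n' * y * n'⁻¹) := by group
        _ = x * (y⁻¹ * (n' * y * n'⁻¹)) := by rw [← h3]; group
    have hcn : n' * c = c * n' := (mem_Tl h htwo hx hl hlp hcx (hpow c hcL)).2.1 n' hn'C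
    have hit : ∀ k : ℕ, n' ^ k * y * (n' ^ k)⁻¹ = y * c ^ k := by
      intro k
      induction k with
      | zero => simp
      | succ k ih =>
        have h4 : n' ^ k * c = c * n' ^ k := (Commute.pow_left hcn k).eq
        calc n' ^ (k + 1) * y * (n' ^ (k + 1))⁻¹ = n' ^ k * (n' * y * n'⁻¹) * (n' ^ k)⁻¹ := by rw [pow_succ]; group
          _ = n' ^ k * (y * c) * (n' ^ k)⁻¹ := by rw [hcdef]; group
          _ = (n' ^ k * y * (n' ^ k)⁻¹) * (n' ^ k * c) * (n' ^ k)⁻¹ := by group
          _ = (y * c ^ k) * (c * n' ^ k) * (n' ^ k)⁻¹ := by rw [ih, h4]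
          _ = y * c ^ (k + 1) := by rw [pow_succ]; group
    have hc1 : c = 1 := by
      have h5 := hit (r ^ i)
      rw [hn'i, one_mul, inv_one, mul_one, left_eq_mul] at h5
      obtain ⟨j, hj⟩ := hpow c hcL
      exact orderOf_eq_one_iff.mp (Nat.eq_one_of_dvd_coprimes
        (((Nat.coprime_primes hy0.1 hl).mpr hlr.symm).pow i j)
        (orderOf_dvd_of_pow_eq_one h5) (orderOf_dvd_of_pow_eq_one hj))
    rw [hC, ← e, mem_centralizer_singleton_iff]
    have h6 := hit 1
    rw [hc1, pow_one, pow_one, mul_one] at h6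
    exact (mul_inv_eq_iff_eq_mul.mp h6).symm
  -- so `G` is the product of `V` and the normaliser of `C`
  have hnC : ∀ n ∈ normalizer (L : Set G), C.map (MulAut.conj n).toMonoidHom = C := by
    intro n hn
    rw [hC, ← centralizer_conj]
    exact centralizer_eq_of_mem h htwo hx (hx.conj n) (hLC ((mem_normalizer_iff.mp hn x).mp hxL))
  obtain ⟨g, hgC, hgN, hgi⟩ := exists_normalizing h htwo hx hq hqp hqm
  have hgNC : NC p q g := ⟨hq, hqp, fun hz => hgC (center_le_centralizer _ hz), hgi⟩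
  obtain ⟨k, hk⟩ := hconjC hx hgNC
  obtain ⟨v, hv, n, hn, hkvn⟩ := hVN k
  have hg : g ∈ centralizer ({g} : Set G) := mem_centralizer_singleton_iff.mpr rfl
  rw [hk, mem_map_equiv, MulAut.conj_symm_apply] at hg
  have hg' : v⁻¹ * g * v ∈ C := by
    have h1 := mem_map_of_mem (MulAut.conj n).toMonoidHom hg
    rw [hnC n hn] at h1
    simpa [hkvn, mul_assoc] using h1
  set d := g⁻¹ * (v⁻¹ * g * v) with hd
  have hdV : d ∈ V := by
    rw [hd, show g⁻¹ * (v⁻¹ * g * v) = (g⁻¹ * v⁻¹ * g) * v by group]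
    exact mul_mem (hVn.conj_mem' v⁻¹ (inv_mem hv) g) hv
  have hdN : d ∈ normalizer (C : Set G) := mul_mem (inv_mem hgN) (le_normalizer hg')
  have hdx : d * x * d⁻¹ * x⁻¹ = 1 := by
    have hxT := mem_Tl h htwo hx hl hlp (mem_centralizer_singleton_iff.mpr rfl) hx.2.2.2
    have hxT' : d * x * d⁻¹ ∈ Tl l C := mem_Tl h htwo hx hl hlp
      ((mem_normalizer_iff.mp hdN x).mp (mem_centralizer_singleton_iff.mpr rfl)) (hx.conj d).2.2.2
    refine hVV hl hlp ?_ (mul_mem hxT' (inv_mem hxT)).2.2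
    rw [show d * x * d⁻¹ * x⁻¹ = d * (x * d⁻¹ * x⁻¹) by group]
    exact mul_mem hdV (hVn.conj_mem _ (inv_mem hdV) x)
  have hdC : d ∈ C := mem_centralizer_singleton_iff.mpr
    (mul_inv_eq_iff_eq_mul.mp (mul_inv_eq_one.mp hdx))
  refine hgC ?_
  rw [show g = (v⁻¹ * g * v) * d⁻¹ by rw [hd]; group]
  exact mul_mem hg' (inv_mem hdC)

end Cfsg.Lib.SolvStruct.TwoRegular
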