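/-
Extensions of groups in which every subgroup containing a Sylow `p`-subgroup is pronormal.
-/
import Cfsg.Agent.Transfer.Basic
import Cfsg.Prelude

set_option autoImplicit false
set_option linter.unusedSectionVars false

namespace Cfsg.Lib.SolvStruct.PronormalExt

open Subgroup Cfsg.Lib.Transfer

variable {G : Type*} [Group G]

theorem map_conj_map {G' : Type*} [Group G'] (f : G →* G') (H : Subgroup G) (g : G) :
    (H.map (MulAut.conj g).toMonoidHom).map f = (H.map f).map (MulAut.conj (f g)).toMonoidHom := by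
  rw [Subgroup.map_map, Subgroup.map_map]
  congr 1
  ext x
  simp

theorem map_conj_mem {H : Subgroup G} {g : G} (hg : g ∈ normalizer (H : Set G)) :
    H.map (MulAut.conj g).toMonoidHom = H :=
  map_conj_eq_self_iff.2 hg

/-- Pronormality lifts through a surjection whose kernel lies in the subgroup. -/
theorem isPronormal_of_map {G' : Type*} [Group G'] (f : G →* G') {H : Subgroup G} (hker : f.ker ≤ H)
    (h : Cfsg.IsPronormal (H.map f)) : Cfsg.IsPronormal H := by
  intro g
  obtain ⟨x', hx', e⟩ := h (f g)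
  rw [← map_conj_map, ← Subgroup.map_sup] at hx'
  obtain ⟨x, hx, rfl⟩ := hx'
  refine ⟨x, hx, ?_⟩
  rw [← map_conj_map, ← map_conj_map, Subgroup.map_eq_map_iff] at e
  have hk : ∀ a : G, f.ker ≤ H.map (MulAut.conj a).toMonoidHom := fun a z hz =>
    mem_map_conj.2 (hker (by simpa using (inferInstance : f.ker.Normal).conj_mem z hz a⁻¹))
  rwa [sup_eq_left.2 (hk g), sup_eq_left.2 (hk x)] at e

/-- Pronormality passes to images. -/
theorem isPronormal_map {G' : Type*} [Group G'] (f : G →* G') (hf : Function.Surjective f) {H : Subgroup G}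
    (h : Cfsg.IsPronormal H) : Cfsg.IsPronormal (H.map f) := by
  intro g'
  obtain ⟨g, rfl⟩ := hf g'
  obtain ⟨x, hx, e⟩ := h g
  refine ⟨f x, ?_, ?_⟩
  · rw [← map_conj_map, ← Subgroup.map_sup]
    exact mem_map_of_mem f hx
  · rw [← map_conj_map, ← map_conj_map, e]

/-- Pronormality descends to intermediate groups. -/
theorem isPronormal_of_injective {G' : Type*} [Group G'] (f : G →* G') (hf : Function.Injective f) {H : Subgroup G}
    (h : Cfsg.IsPronormal (H.map f)) : Cfsg.IsPronormal H :=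
  isPronormal_of_map f (by simp [(f.ker_eq_bot_iff).2 hf]) h

theorem isPronormal_conj {H : Subgroup G} (g : G) (h : Cfsg.IsPronormal H) :
    Cfsg.IsPronormal (H.map (MulAut.conj g).toMonoidHom) :=
  isPronormal_map _ (MulAut.conj g).surjective h

theorem sylow_inf_normal [Finite G] {p : ℕ} [Fact p.Prime] (A : Subgroup G) [A.Normal] (TA : Sylow p A) :
    ∃ P : Sylow p G, (P : Subgroup G) ⊓ A = (TA : Subgroup A).map A.subtype := by
  obtain ⟨P, hP⟩ := (TA.2.map A.subtype).exists_le_sylow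
  refine ⟨P, le_antisymm (fun x hx => ?_) (le_inf hP (map_subtype_le _))⟩
  obtain ⟨hxP, hxA⟩ := Subgroup.mem_inf.1 hx
  have h1 : (P : Subgroup G).subgroupOf A = (TA : Subgroup A) := by
    refine TA.3 (P.2.comap_of_injective _ A.subtype_injective) fun y hy => ?_
    exact hP (mem_map_of_mem _ hy)
  exact ⟨⟨x, hxA⟩, h1.le hxP, rfl⟩

variable [Finite G] {p : ℕ} [Fact p.Prime] (A : Subgroup G) [A.Normal]

/-- Frattini inside a subgroup containing a Sylow subgroup of `A`. -/
theorem exists_conj_sylow (TA : Sylow p A) {B : Subgroup G} (hTB : (TA : Subgroup A).map A.subtype ≤ B) {g : G}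
    (hg : ((TA : Subgroup A).map A.subtype).map (MulAut.conj g).toMonoidHom ≤ B) :
    ∃ b ∈ B ⊓ A, b⁻¹ * g ∈ normalizer (((TA : Subgroup A).map A.subtype : Subgroup G) : Set G) := by
  set T := (TA : Subgroup A).map A.subtype with hT
  have hTA : T ≤ A := map_subtype_le _
  have hgA : T.map (MulAut.conj g).toMonoidHom ≤ A := by
    rintro _ ⟨t, ht, rfl⟩
    exact (inferInstance : A.Normal).conj_mem t (hTA ht) g
  set C := B ⊓ A
  have hC : (TA : Subgroup A).map A.subtype ≤ C := le_inf hTB hTA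
  have hTp : IsPGroup p T := TA.2.map _
  obtain ⟨W, hW⟩ := ((hTp.map (MulAut.conj g).toMonoidHom).of_equiv
    (subgroupOfEquivOfLe (le_inf hg hgA : T.map (MulAut.conj g).toMonoidHom ≤ C)).symm).exists_le_sylow
  obtain ⟨V, hV⟩ := (hTp.of_equiv (subgroupOfEquivOfLe hC).symm).exists_le_sylow
  -- `T` is a full Sylow subgroup of `C`
  have hfull : ∀ U : Sylow p C, Nat.card U = Nat.card T := by
    intro U
    obtain ⟨c, hc⟩ := MulAction.exists_smul_eq C V U
    have e : Nat.card U = Nat.card V := by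
      rw [← hc]
      exact Nat.card_congr (Sylow.equiv _ _).toEquiv
    refine e.trans (le_antisymm ?_ ?_)
    · have h1 : ((V : Subgroup C).map C.subtype).subgroupOf A = (TA : Subgroup A) := by
        refine TA.3 ((V.2.map _).comap_of_injective _ A.subtype_injective) fun y hy => ?_
        exact ⟨⟨y, hC (mem_map_of_mem _ hy)⟩, hV (mem_map_of_mem A.subtype hy), rfl⟩
      rw [hT, ← h1, Subgroup.card_map_of_injective A.subtype_injective,
        ← Subgroup.card_map_of_injective (C.subtype_injective) (K := (V : Subgroup C))]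
      exact (Nat.card_congr (subgroupOfEquivOfLe ((map_subtype_le _).trans inf_le_right :
        (V : Subgroup C).map C.subtype ≤ A)).toEquiv).ge
    · rw [← Nat.card_congr (subgroupOfEquivOfLe hC).toEquiv]
      exact Nat.le_of_dvd Nat.card_pos (card_dvd_of_le hV)
  obtain ⟨c, hc⟩ := MulAction.exists_smul_eq C V W
  have hVe : (V : Subgroup C).map C.subtype = T := by
    refine (eq_of_le_of_card_ge (fun t ht => Subgroup.mem_map.2 ⟨⟨t, hC ht⟩, hV (show t ∈ (TA : Subgroup A).map A.subtype from ht), rfl⟩) ?_).symm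
    rw [Subgroup.card_map_of_injective C.subtype_injective, hfull]
  have hWe : (W : Subgroup C).map C.subtype = T.map (MulAut.conj g).toMonoidHom := by
    refine (eq_of_le_of_card_ge (fun t ht => Subgroup.mem_map.2 ⟨⟨t, le_inf hg hgA ht⟩, hW (show t ∈ T.map (MulAut.conj g).toMonoidHom from ht), rfl⟩) ?_).symm
    rw [Subgroup.card_map_of_injective C.subtype_injective, hfull, card_map_conj]
  refine ⟨c, c.2, map_conj_eq_self_iff.1 ?_⟩
  rw [← map_conj_map_conj, ← hWe, ← hc, Sylow.coe_subgroup_smul, ← hVe]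
  show ((((V : Subgroup C).map (MulAut.conj c).toMonoidHom).map C.subtype).map (MulAut.conj ((c : G)⁻¹)).toMonoidHom) = _
  rw [map_conj_map C.subtype, coe_subtype, map_conj_map_conj, inv_mul_cancel, map_conj_one]

/-- The core: a subgroup `K` containing a Sylow subgroup `P` with `P ⊓ A = T`. -/
theorem isPronormal_core (TA : Sylow p A)
    (hA : ∀ K : Subgroup A, (∃ P : Sylow p A, (P : Subgroup A) ≤ K) → Cfsg.IsPronormal K)
    (hQ : ∀ K : Subgroup (G ⧸ A), (∃ P : Sylow p (G ⧸ A), (P : Subgroup (G ⧸ A)) ≤ K) → Cfsg.IsPronormal K)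
    (T : Subgroup G) (hT : (TA : Subgroup A).map A.subtype = T) [(T.subgroupOf (normalizer (T : Set G))).Normal]
    (hN : ∀ K : Subgroup (normalizer (T : Set G) ⧸ T.subgroupOf (normalizer (T : Set G))),
      (∃ P : Sylow p (normalizer (T : Set G) ⧸ T.subgroupOf (normalizer (T : Set G))),
        (P : Subgroup _) ≤ K) → Cfsg.IsPronormal K)
    (hnorm : ∀ K : Subgroup G, (∃ P : Sylow p G, (P : Subgroup G) ≤ K) →
      (normalizer (K : Set G)).map (QuotientGroup.mk' A) =
        normalizer ((K.map (QuotientGroup.mk' A) : Subgroup (G ⧸ A)) : Set (G ⧸ A)))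
    (P : Sylow p G) (hP : (P : Subgroup G) ⊓ A = T) (K : Subgroup G) (hK : (P : Subgroup G) ≤ K) :
    Cfsg.IsPronormal K := by
  intro g
  set π := QuotientGroup.mk' A with hπ
  set J0 := K ⊔ K.map (MulAut.conj g).toMonoidHom with hJ0
  obtain ⟨x', hx', e⟩ := hQ (K.map π)
    ⟨P.mapSurjective (QuotientGroup.mk'_surjective A), by rw [Sylow.coe_mapSurjective]; exact map_mono hK⟩ (π g)
  rw [← map_conj_map, ← Subgroup.map_sup] at hx'
  obtain ⟨x, hx, rfl⟩ := hx'
  -- move `g` into `A`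
  have hxg : π (x⁻¹ * g) ∈ normalizer ((K.map π : Subgroup (G ⧸ A)) : Set (G ⧸ A)) := by
    refine map_conj_eq_self_iff.1 ?_
    rw [map_mul, map_inv, ← map_conj_map_conj, e, map_conj_map_conj, inv_mul_cancel, map_conj_one]
  rw [← hnorm K ⟨P, hK⟩] at hxg
  obtain ⟨n, hn, hne⟩ := hxg
  set a := x⁻¹ * g * n⁻¹ with ha
  have haA : a ∈ A := by
    rw [← QuotientGroup.eq_one_iff]
    show π a = 1
    rw [ha, map_mul, map_inv, hne, mul_inv_cancel]
  have hKg : K.map (MulAut.conj g).toMonoidHom = (K.map (MulAut.conj a).toMonoidHom).map (MulAut.conj x).toMonoidHom := by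
    conv_lhs => rw [show g = x * a * n by rw [ha]; group]
    rw [← map_conj_map_conj, map_conj_mem hn, map_conj_map_conj]
  set J := K ⊔ K.map (MulAut.conj a).toMonoidHom with hJ
  have hJJ : J ≤ J0 := by
    refine sup_le le_sup_left fun y hy => ?_
    obtain ⟨k, hk, rfl⟩ := hy
    have h1 : x * (a * k * a⁻¹) * x⁻¹ ∈ J0 := mem_sup_right (hKg.ge ⟨_, ⟨k, hk, rfl⟩, rfl⟩)
    have h2 := mul_mem (mul_mem (inv_mem hx) h1) hx
    show a * k * a⁻¹ ∈ J0
    rwa [show x⁻¹ * (x * (a * k * a⁻¹) * x⁻¹) * x = a * k * a⁻¹ by group] at h2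
  suffices hsuf : ∃ y ∈ J, K.map (MulAut.conj a).toMonoidHom = K.map (MulAut.conj y).toMonoidHom by
    obtain ⟨y, hy, hye⟩ := hsuf
    exact ⟨x * y, mul_mem hx (hJJ hy), by rw [hKg, hye, map_conj_map_conj]⟩
  -- make `K ⊓ A` fixed
  set B := K ⊓ A with hB
  have hTB : T ≤ B := hP ▸ inf_le_inf_right A hK
  have hKB : K ≤ normalizer (B : Set G) := fun k hk => by
    refine map_conj_eq_self_iff.1 ?_
    rw [hB, Subgroup.map_inf _ _ _ (MulAut.conj k).injective, map_conj_mem (le_normalizer hk),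
      map_conj_mem (((normalizer_eq_top_iff (H := A)).2 inferInstance).ge (mem_top k))]
  obtain ⟨y', hy', hye'⟩ := hA (B.subgroupOf A) ⟨TA, fun t ht => hTB (hT ▸ mem_map_of_mem A.subtype ht)⟩ ⟨a, haA⟩
  have hB' : (B.subgroupOf A).map A.subtype = B := by rw [subgroupOf_map_subtype, inf_eq_left.2 inf_le_right]
  have hyJ : (y' : G) ∈ J := by
    have h1 : (y' : G) ∈ ((B.subgroupOf A) ⊔ (B.subgroupOf A).map (MulAut.conj (⟨a, haA⟩ : A)).toMonoidHom).map A.subtype :=
      mem_map_of_mem A.subtype hy'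
    rw [Subgroup.map_sup, map_conj_map, hB', coe_subtype] at h1
    exact (sup_le_sup inf_le_left (map_mono inf_le_left) : _ ≤ J) h1
  have hye : B.map (MulAut.conj a).toMonoidHom = B.map (MulAut.conj (y' : G)).toMonoidHom := by
    have h1 := congrArg (Subgroup.map A.subtype) hye'
    rwa [map_conj_map, map_conj_map, hB', coe_subtype] at h1
  set a₂ := (y' : G)⁻¹ * a
  have ha₂B : a₂ ∈ normalizer (B : Set G) := by
    refine map_conj_eq_self_iff.1 ?_
    rw [← map_conj_map_conj, hye, map_conj_map_conj, inv_mul_cancel, map_conj_one]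
  have ha₂A : a₂ ∈ A := mul_mem (inv_mem y'.2) haA
  obtain ⟨b, hb, hbn⟩ := exists_conj_sylow A TA (hT ▸ hTB) (g := a₂)
    (hT ▸ (map_mono hTB).trans (map_conj_mem ha₂B).le)
  rw [hT] at hbn
  have hbK : b ∈ K := (Subgroup.mem_inf.1 (Subgroup.mem_inf.1 hb).1).1
  set c := b⁻¹ * a₂
  have hcA : c ∈ A := mul_mem (inv_mem (Subgroup.mem_inf.1 hb).2) ha₂A
  have hcB : c ∈ normalizer (B : Set G) := mul_mem (inv_mem (hKB hbK)) ha₂B
  have hac : a = (y' : G) * b * c := by simp only [c, a₂]; group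
  set J1 := K ⊔ K.map (MulAut.conj c).toMonoidHom with hJ1
  have hJ1J : J1 ≤ J := by
    refine sup_le le_sup_left ?_
    rintro _ ⟨k, hk, rfl⟩
    have h1 : a * k * a⁻¹ ∈ J := mem_sup_right ⟨k, hk, rfl⟩
    have hyb : (y' : G) * b ∈ J := mul_mem hyJ (mem_sup_left hbK)
    have h2 := mul_mem (mul_mem (inv_mem hyb) h1) hyb
    rw [hac] at h2
    show c * k * c⁻¹ ∈ J
    convert h2 using 1
    group
  -- the local step
  set N := normalizer (T : Set G) with hNdef
  have hPN : (P : Subgroup G) ≤ N := fun y hy => by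
    refine map_conj_eq_self_iff.1 ?_
    rw [← hP, Subgroup.map_inf _ _ _ (MulAut.conj y).injective, map_conj_mem (le_normalizer hy),
      map_conj_mem (((normalizer_eq_top_iff (H := A)).2 inferInstance).ge (mem_top y))]
  set U : Subgroup N := K.subgroupOf N
  have hTU : T.subgroupOf N ≤ U := fun t ht => (inf_le_left : B ≤ K) (hTB ht)
  have hUp : Cfsg.IsPronormal U := by
    refine isPronormal_of_map (QuotientGroup.mk' (T.subgroupOf N)) (by rwa [QuotientGroup.ker_mk']) (hN _ ?_)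
    refine ⟨(P.subtype hPN).mapSurjective (QuotientGroup.mk'_surjective _), ?_⟩
    rw [Sylow.coe_mapSurjective]
    exact map_mono fun t ht => hK ht
  obtain ⟨z', hz', hze'⟩ := hUp ⟨c, hbn⟩
  have hUm : U.map N.subtype = K ⊓ N := subgroupOf_map_subtype K N
  have hzmem : (z' : G) ∈ (K ⊓ N) ⊔ (K ⊓ N).map (MulAut.conj c).toMonoidHom := by
    have h1 : (z' : G) ∈ (U ⊔ U.map (MulAut.conj (⟨c, hbn⟩ : N)).toMonoidHom).map N.subtype := mem_map_of_mem N.subtype hz'
    rwa [Subgroup.map_sup, map_conj_map, hUm, coe_subtype] at h1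
  have hze : (K ⊓ N).map (MulAut.conj c).toMonoidHom = (K ⊓ N).map (MulAut.conj (z' : G)).toMonoidHom := by
    have h1 := congrArg (Subgroup.map N.subtype) hze'
    rwa [map_conj_map, map_conj_map, hUm, coe_subtype] at h1
  have hzJ : (z' : G) ∈ J1 := (sup_le_sup inf_le_left (map_mono inf_le_left) : _ ≤ J1) hzmem
  have hzB : (z' : G) ∈ normalizer (B : Set G) := by
    refine (sup_le (inf_le_left.trans hKB) ?_ : (K ⊓ N) ⊔ (K ⊓ N).map (MulAut.conj c).toMonoidHom ≤ _) hzmem
    rintro _ ⟨k, hk, rfl⟩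
    exact mul_mem (mul_mem hcB (hKB (Subgroup.mem_inf.1 hk).1)) (inv_mem hcB)
  have hfr : K = B ⊔ (K ⊓ N) := by
    refine le_antisymm (fun k hk => ?_) (sup_le inf_le_left inf_le_left)
    obtain ⟨b', hb', hbn'⟩ := exists_conj_sylow A TA (hT ▸ hTB) (g := k)
      (hT ▸ (map_mono hTB).trans (map_conj_mem (hKB hk)).le)
    rw [hT] at hbn'
    have hb'K : b' ∈ K := (Subgroup.mem_inf.1 (Subgroup.mem_inf.1 hb').1).1
    rw [show k = b' * (b'⁻¹ * k) by group]
    exact mul_mem (mem_sup_left (Subgroup.mem_inf.1 hb').1) (mem_sup_right (Subgroup.mem_inf.2 ⟨mul_mem (inv_mem hb'K) hk, hbn'⟩))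
  refine ⟨(y' : G) * b * z', mul_mem (mul_mem hyJ (mem_sup_left hbK)) (hJ1J hzJ), ?_⟩
  have hKc : K.map (MulAut.conj c).toMonoidHom = K.map (MulAut.conj (z' : G)).toMonoidHom := by
    rw [hfr, Subgroup.map_sup, Subgroup.map_sup, map_conj_mem hcB, map_conj_mem hzB, hze]
  conv_lhs => rw [hac, ← map_conj_map_conj, hKc, map_conj_map_conj]

/-- The criterion. -/
theorem criterion (hA : ∀ K : Subgroup A, (∃ P : Sylow p A, (P : Subgroup A) ≤ K) → Cfsg.IsPronormal K)
    (hQ : ∀ K : Subgroup (G ⧸ A), (∃ P : Sylow p (G ⧸ A), (P : Subgroup (G ⧸ A)) ≤ K) → Cfsg.IsPronormal K)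
    (T : Subgroup G) (hT : ∃ P : Sylow p A, (P : Subgroup A).map A.subtype = T)
    [(T.subgroupOf (normalizer (T : Set G))).Normal] :
    (∀ K : Subgroup G, (∃ P : Sylow p G, (P : Subgroup G) ≤ K) → Cfsg.IsPronormal K) ↔
      ((∀ K : Subgroup (normalizer (T : Set G) ⧸ T.subgroupOf (normalizer (T : Set G))),
        (∃ P : Sylow p (normalizer (T : Set G) ⧸ T.subgroupOf (normalizer (T : Set G))),
          (P : Subgroup _) ≤ K) → Cfsg.IsPronormal K) ∧
        ∀ K : Subgroup G, (∃ P : Sylow p G, (P : Subgroup G) ≤ K) →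
          (normalizer (K : Set G)).map (QuotientGroup.mk' A) =
            normalizer ((K.map (QuotientGroup.mk' A) : Subgroup (G ⧸ A)) : Set (G ⧸ A))) := by
  obtain ⟨TA, hTA⟩ := hT
  obtain ⟨P₀, hP₀⟩ := sylow_inf_normal A TA
  rw [hTA] at hP₀
  set N := normalizer (T : Set G) with hNdef
  have hP₀N : (P₀ : Subgroup G) ≤ N := fun y hy => by
    refine map_conj_eq_self_iff.1 ?_
    rw [← hP₀, Subgroup.map_inf _ _ _ (MulAut.conj y).injective, map_conj_mem (le_normalizer hy),
      map_conj_mem (((normalizer_eq_top_iff (H := A)).2 inferInstance).ge (mem_top y))]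
  constructor
  · intro h
    refine ⟨fun K hK => ?_, fun K hK => ?_⟩
    · obtain ⟨P', hP'⟩ := hK
      set ρ := QuotientGroup.mk' (T.subgroupOf N)
      obtain ⟨Q, hQ'⟩ := Sylow.mapSurjective_surjective (QuotientGroup.mk'_surjective (T.subgroupOf N)) p P'
      obtain ⟨m, hm⟩ := MulAction.exists_smul_eq N (P₀.subtype hP₀N) Q
      have hKm : Cfsg.IsPronormal ((K.comap ρ).map N.subtype) := by
        refine h _ ⟨(m : G) • P₀, ?_⟩
        rw [sylow_smul_coe]
        rintro _ ⟨t, ht, rfl⟩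
        have h1 : m * ⟨t, hP₀N ht⟩ * m⁻¹ ∈ ((m • P₀.subtype hP₀N : Sylow p N) : Subgroup N) :=
          ⟨⟨t, hP₀N ht⟩, ht, rfl⟩
        rw [hm] at h1
        refine ⟨m * ⟨t, hP₀N ht⟩ * m⁻¹, hP' ?_, rfl⟩
        rw [← hQ', Sylow.coe_mapSurjective]
        exact mem_map_of_mem ρ h1
      have := isPronormal_map ρ (QuotientGroup.mk'_surjective _) (isPronormal_of_injective N.subtype N.subtype_injective hKm)
      rwa [Subgroup.map_comap_eq_self_of_surjective (QuotientGroup.mk'_surjective _)] at this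
    · refine le_antisymm (Subgroup.le_normalizer_map _) fun q hq => ?_
      obtain ⟨g, rfl⟩ := QuotientGroup.mk'_surjective A q
      obtain ⟨x, hx, hxe⟩ := h K hK g
      have hKA : K ⊔ K.map (MulAut.conj g).toMonoidHom ≤ K ⊔ A := by
        refine sup_le le_sup_left ?_
        rintro _ ⟨k, hk, rfl⟩
        have h1 : QuotientGroup.mk' A (g * k * g⁻¹) ∈ K.map (QuotientGroup.mk' A) := by
          rw [map_mul, map_mul, map_inv]
          exact (map_conj_mem hq).le ⟨_, mem_map_of_mem _ hk, rfl⟩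
        have h2 : g * k * g⁻¹ ∈ (K.map (QuotientGroup.mk' A)).comap (QuotientGroup.mk' A) := h1
        rwa [Subgroup.comap_map_eq, QuotientGroup.ker_mk'] at h2
      obtain ⟨k, hk, w, hw, rfl⟩ := Subgroup.mem_sup_of_normal_right.1 (hKA hx)
      have hgn : (k * w)⁻¹ * g ∈ normalizer (K : Set G) := by
        refine map_conj_eq_self_iff.1 ?_
        rw [← map_conj_map_conj, hxe, map_conj_map_conj, inv_mul_cancel, map_conj_one]
      refine ⟨k * ((k * w)⁻¹ * g), mul_mem (le_normalizer hk) hgn, ?_⟩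
      rw [map_mul, map_mul, map_inv, map_mul, show QuotientGroup.mk' A w = 1 from (QuotientGroup.eq_one_iff w).2 hw]
      group
  · rintro ⟨hN, hnorm⟩ K ⟨P, hPK⟩
    obtain ⟨g, hg⟩ := MulAction.exists_smul_eq G P P₀
    have h1 : Cfsg.IsPronormal (K.map (MulAut.conj g).toMonoidHom) :=
      isPronormal_core A TA hA hQ T hTA hN hnorm P₀ hP₀ _ (by
        rw [← hg, sylow_smul_coe]; exact map_mono hPK)
    have h2 := isPronormal_conj g⁻¹ h1
    rwa [map_conj_map_conj, inv_mul_cancel, map_conj_one] at h2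

theorem self_normalizing_overgroup (h : ∀ P : Sylow p G, normalizer ((P : Subgroup G) : Set G) = P)
    (K : Subgroup G) (hK : ∃ P : Sylow p G, (P : Subgroup G) ≤ K) :
    normalizer (K : Set G) = K ∧ Cfsg.IsPronormal K := by
  obtain ⟨P, hP⟩ := hK
  have key : ∀ (J : Subgroup G) (g : G), (P : Subgroup G) ≤ J →
      (P : Subgroup G).map (MulAut.conj g).toMonoidHom ≤ J → ∃ j ∈ J, j⁻¹ * g ∈ (P : Subgroup G) := by
    intro J g h1 h2
    rw [← sylow_smul_coe] at h2
    obtain ⟨j, hj⟩ := MulAction.exists_smul_eq J (P.subtype h1) ((g • P).subtype h2)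
    rw [Sylow.smul_subtype] at hj
    have h3 : (j : G) • P = g • P := Sylow.subtype_injective hj
    refine ⟨j, j.2, (h P).le (map_conj_eq_self_iff.1 ?_)⟩
    rw [← sylow_smul_coe, mul_smul, ← h3, inv_smul_smul]
  refine ⟨le_antisymm (fun n hn => ?_) le_normalizer, fun g => ?_⟩
  · obtain ⟨j, hj, hjn⟩ := key K n hP ((map_mono hP).trans (map_conj_mem hn).le)
    simpa using mul_mem hj (hP hjn)
  · obtain ⟨j, hj, hjn⟩ := key (K ⊔ K.map (MulAut.conj g).toMonoidHom) g (hP.trans le_sup_left)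
      ((map_mono hP).trans le_sup_right)
    refine ⟨j, hj, ?_⟩
    rw [show g = j * (j⁻¹ * g) by group, ← map_conj_map_conj, map_conj_mem (le_normalizer (hP hjn))]

theorem criterion_self_normalizing (hA : ∀ K : Subgroup A, (∃ P : Sylow p A, (P : Subgroup A) ≤ K) → Cfsg.IsPronormal K)
    (hQ : ∀ P : Sylow p (G ⧸ A), normalizer ((P : Subgroup (G ⧸ A)) : Set (G ⧸ A)) = P)
    (T : Subgroup G) (hT : ∃ P : Sylow p A, (P : Subgroup A).map A.subtype = T)
    [(T.subgroupOf (normalizer (T : Set G))).Normal] :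
    (∀ K : Subgroup G, (∃ P : Sylow p G, (P : Subgroup G) ≤ K) → Cfsg.IsPronormal K) ↔
      ∀ K : Subgroup (normalizer (T : Set G) ⧸ T.subgroupOf (normalizer (T : Set G))),
        (∃ P : Sylow p (normalizer (T : Set G) ⧸ T.subgroupOf (normalizer (T : Set G))),
          (P : Subgroup _) ≤ K) → Cfsg.IsPronormal K := by
  rw [criterion A hA (fun K hK => (self_normalizing_overgroup hQ K hK).2) T hT]
  refine ⟨And.left, fun h => ⟨h, fun K hK => ?_⟩⟩
  obtain ⟨P, hP⟩ := hK
  have h1 := (self_normalizing_overgroup hQ (K.map (QuotientGroup.mk' A))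
    ⟨P.mapSurjective (QuotientGroup.mk'_surjective A), by rw [Sylow.coe_mapSurjective]; exact map_mono hP⟩).1
  rw [h1]
  exact le_antisymm ((Subgroup.le_normalizer_map _).trans h1.le) (map_mono le_normalizer)

end Cfsg.Lib.SolvStruct.PronormalExt
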