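/-
Finite Hamiltonian groups (Dedekind, Baer).
-/
import Cfsg.Agent.SolvStruct.CyclicProduct
import Cfsg.Prelude
import Cfsg.Agent.PGroups.Commutators
import Mathlib

set_option linter.style.haveILetI false
set_option linter.unusedSectionVars false

namespace Cfsg.Lib.SolvStruct.Hamiltonian

open Subgroup
open scoped commutatorElement

variable {G : Type*} [Group G] [Finite G]

theorem commutator_mem_zpowers (hn : ∀ H : Subgroup G, H.Normal) (u v : G) :
    ⁅u, v⁆ ∈ zpowers u ∧ ⁅u, v⁆ ∈ zpowers v := by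
  constructor
  · rw [commutatorElement_def, show u * v * u⁻¹ * v⁻¹ = u * (v * u⁻¹ * v⁻¹) by group]
    exact mul_mem (mem_zpowers u) ((hn (zpowers u)).conj_mem _ (inv_mem (mem_zpowers u)) v)
  · rw [commutatorElement_def]
    exact mul_mem ((hn (zpowers v)).conj_mem _ (mem_zpowers v) u) (inv_mem (mem_zpowers v))

theorem commute_of_mem_zpowers {w u : G} (h : w ∈ zpowers u) : Commute w u := by
  obtain ⟨i, rfl⟩ := mem_zpowers_iff.1 h
  exact (Commute.refl u).zpow_left i

theorem isPGroup_zpowers {p : ℕ} {x : G} (hx : ∃ k : ℕ, orderOf x = p ^ k) [Fact p.Prime] :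
    IsPGroup p (zpowers x) := by
  obtain ⟨k, hk⟩ := hx
  exact IsPGroup.of_card (n := k) (by rw [Nat.card_zpowers, hk])

/-- Two non-commuting p-elements lead to a quaternion pair and `p = 2`. -/
theorem exists_pair (hn : ∀ H : Subgroup G, H.Normal) (p : ℕ) [hp : Fact p.Prime] :
    ∀ (n : ℕ) (x y : G), orderOf x + orderOf y ≤ n → (∃ a, orderOf x = p ^ a) → (∃ b, orderOf y = p ^ b) →
      ¬ Commute x y → p = 2 ∧ ∃ u v : G, orderOf u = 4 ∧ v ^ 2 = u ^ 2 ∧ v * u * v⁻¹ = u⁻¹ ∧ ¬ Commute u v := by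
  intro n
  induction n with
  | zero => intro x y h; exact absurd h (by have := orderOf_pos x; omega)
  | succ n ih =>
    intro x y hxy hx hy hnc
    obtain ⟨a, ha⟩ := hx
    obtain ⟨b, hb⟩ := hy
    wlog hab : b ≤ a generalizing x y a b
    · exact this y x (by omega) (fun h => hnc h.symm) b hb a ha (by omega)
    obtain ⟨hcx, hcy⟩ := commutator_mem_zpowers hn x y
    set c := ⁅x, y⁆ with hc
    have hcx' := commute_of_mem_zpowers hcx
    have hcy' := commute_of_mem_zpowers hcy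
    have hc1 : c ≠ 1 := fun h => hnc (commutatorElement_eq_one_iff_mul_comm.1 h)
    have hb0 : b ≠ 0 := by
      rintro rfl
      rw [pow_zero, orderOf_eq_one_iff] at hb
      exact hnc (hb ▸ Commute.one_right x)
    have ha0 : a ≠ 0 := by omega
    have lower : ∀ (w : G) (k : ℕ), k < orderOf w → w ^ k = 1 → k = 0 := fun w k hk h =>
      Nat.eq_zero_of_dvd_of_lt (orderOf_dvd_of_pow_eq_one h) hk
    -- `c` has order p
    by_cases h1 : Commute (x ^ p) y
    swap
    · have h2 : orderOf (x ^ p) = p ^ (a - 1) := by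
        rw [orderOf_pow_of_dvd hp.out.ne_zero (ha ▸ dvd_pow_self p ha0), ha]
        exact Nat.div_eq_of_eq_mul_left hp.out.pos (by rw [← pow_succ]; congr 1; omega)
      have : p ^ (a - 1) < p ^ a := Nat.pow_lt_pow_right hp.out.one_lt (by omega)
      exact ih (x ^ p) y (by omega) ⟨a - 1, h2⟩ ⟨b, hb⟩ h1
    have hcp : c ^ p = 1 := by
      rw [hc, ← Cfsg.Lib.PGroups.commutator_pow_left_of_commute hcx' p, commutatorElement_eq_one_iff_mul_comm]
      exact h1.eq
    have hco : orderOf c = p := orderOf_eq_prime hcp hc1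
    have hgen : ∀ (u : G) (k : ℕ), orderOf u = p ^ (k + 1) → c ∈ zpowers u → zpowers (u ^ p ^ k) = zpowers c := by
      intro u k hu hcu
      refine Cfsg.Lib.SolvStruct.CyclicProduct.eq_of_card_eq_of_isCyclic (A := zpowers u)
        (zpowers_le.2 (pow_mem (mem_zpowers u) _)) (zpowers_le.2 hcu) ?_
      rw [Nat.card_zpowers, Nat.card_zpowers, hco, orderOf_pow_of_dvd (pow_ne_zero _ hp.out.ne_zero)
        (hu ▸ pow_dvd_pow p (Nat.le_succ k)), hu, pow_succ, Nat.mul_div_cancel_left _ (pow_pos hp.out.pos k)]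
    have hxg := hgen x (a - 1) (by rw [ha]; congr 1; omega) hcx
    have hyg := hgen y (b - 1) (by rw [hb]; congr 1; omega) hcy
    obtain ⟨j, hj⟩ := (Submonoid.mem_powers_iff _ _).1 ((isOfFinOrder_of_finite (x ^ p ^ (a - 1))).mem_powers_iff_mem_zpowers.2
      (hxg.ge (hyg.le (inv_mem (mem_zpowers (y ^ p ^ (b - 1))))) : (y ^ p ^ (b - 1))⁻¹ ∈ zpowers (x ^ p ^ (a - 1))))
    set K := p ^ (a - b) * j with hK
    set n' := p ^ (b - 1) with hn'
    have hKn : K * n' = p ^ (a - 1) * j := by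
      rw [hK, hn', mul_right_comm, ← pow_add]
      congr 2
      omega
    set w := x ^ K with hw
    have hwn : w ^ n' = (y ^ n')⁻¹ := by rw [hw, ← pow_mul, hKn, pow_mul, hj]
    have hyw : ⁅y, w⁆ = (c ^ K)⁻¹ := by
      rw [← commutatorElement_inv, hw, Cfsg.Lib.PGroups.commutator_pow_left_of_commute hcx']
    have hpow : (w * y) ^ n' = ((c ^ K)⁻¹) ^ n'.choose 2 := by
      rw [Cfsg.Lib.PGroups.mul_pow_of_commute_commutator
        (by rw [hyw]; exact ((hcx'.pow_left K).inv_left).pow_right K)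
        (by rw [hyw]; exact (hcy'.pow_left K).inv_left), hwn, hyw, inv_mul_cancel, one_mul]
    by_cases hdiv : p ∣ K * n'.choose 2
    · -- a pair with smaller orders
      have h0 : (w * y) ^ n' = 1 := by
        obtain ⟨e, he⟩ := hdiv
        rw [hpow, inv_pow, ← pow_mul, he, pow_mul, hcp, one_pow, inv_one]
      obtain ⟨k, hk, hk'⟩ := (Nat.dvd_prime_pow hp.out).1 (orderOf_dvd_of_pow_eq_one h0)
      have hlt : orderOf (w * y) < orderOf y := by
        rw [hk', hb]
        exact Nat.pow_lt_pow_right hp.out.one_lt (by omega)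
      refine ih x (w * y) (by omega) ⟨a, ha⟩ ⟨k, hk'⟩ fun h => hnc ?_
      have h2 := ((Commute.refl x).pow_right K).inv_right.mul_right h
      rwa [hw, inv_mul_cancel_left] at h2
    -- what remains is the quaternion case
    have hK' : ¬ p ∣ K := fun h => hdiv (h.mul_right _)
    have hab' : a = b := by
      by_contra hne
      exact hK' ((dvd_pow_self p (by omega)).mul_right _)
    have hb2 : p = 2 ∧ b = 2 := by
      by_contra hne
      refine hdiv (Dvd.dvd.mul_left ?_ _)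
      rcases (show b = 1 ∨ 2 ≤ b by omega) with rfl | hb2
      · simp [hn']
      have hpn : p ∣ n' := dvd_pow_self p (by omega)
      rw [Nat.choose_two_right]
      by_cases hp2 : p = 2
      · have hb3 : 3 ≤ b := by
          by_contra h
          exact hne ⟨hp2, by omega⟩
        subst hp2
        obtain ⟨e, he⟩ : 4 ∣ n' := (pow_dvd_pow 2 (show 2 ≤ b - 1 by omega) : 2 ^ 2 ∣ 2 ^ (b - 1))
        rw [he, show 4 * e * (4 * e - 1) = 2 * (2 * e * (4 * e - 1)) by ring, Nat.mul_div_cancel_left _ two_pos]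
        exact (dvd_mul_right 2 e).mul_right _
      · obtain ⟨e, he⟩ : 2 ∣ n' * (n' - 1) := (Nat.even_mul_pred_self n').two_dvd
        rw [he, Nat.mul_div_cancel_left _ two_pos]
        exact ((hp.out.coprime_iff_not_dvd).2 (fun h => hp2 ((Nat.prime_dvd_prime_iff_eq hp.out Nat.prime_two).1 h))).dvd_of_dvd_mul_left
          (he ▸ hpn.mul_right _)
    obtain ⟨rfl, rfl⟩ := hb2
    subst hab'
    refine ⟨rfl, x, y, by rw [ha]; norm_num, ?_, ?_, hnc⟩
    · have h2 : x ^ 2 = c ∧ y ^ 2 = c := by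
        have key : ∀ u : G, zpowers (u ^ 2 ^ (2 - 1)) = zpowers c → u ^ 2 = c := by
          intro u hu
          rw [show (2 : ℕ) ^ (2 - 1) = 2 by norm_num] at hu
          obtain ⟨i, hi⟩ := (Submonoid.mem_powers_iff _ _).1 ((isOfFinOrder_of_finite c).mem_powers_iff_mem_zpowers.2
            (hu.le (mem_zpowers (u ^ 2))))
          rw [← pow_mod_orderOf, hco] at hi
          rcases Nat.mod_two_eq_zero_or_one i with e | e
          · rw [e, pow_zero] at hi
            rw [← hi, zpowers_one_eq_bot] at hu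
            exact absurd (hu.ge (mem_zpowers c)) (fun hh => hc1 (mem_bot.1 hh))
          · rw [e, pow_one] at hi
            exact hi.symm
        exact ⟨key x hxg, key y hyg⟩
      rw [h2.1, h2.2]
    · have e : y * x * y⁻¹ = c⁻¹ * x := by rw [hc, commutatorElement_def]; group
      have hx2 : x ^ 2 = c := by
        have hx4 : orderOf x = 4 := by rw [ha]; norm_num
        obtain ⟨i, hi⟩ := (Submonoid.mem_powers_iff _ _).1 ((isOfFinOrder_of_finite x).mem_powers_iff_mem_zpowers.2 hcx)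
        rw [← pow_mod_orderOf, hx4] at hi
        have h5 : c ^ 2 = 1 := hcp
        have h6 : i % 4 = 0 ∨ i % 4 = 1 ∨ i % 4 = 2 ∨ i % 4 = 3 := by omega
        rcases h6 with e' | e' | e' | e' <;> rw [e'] at hi
        · exact absurd (by rw [← hi, pow_zero]) hc1
        · rw [← hi, ← pow_mul] at h5
          exact absurd (lower x (1 * 2) (by omega) h5) (by norm_num)
        · exact hi
        · rw [← hi, ← pow_mul] at h5
          have h7 : x ^ 2 = 1 := by
            rw [show 3 * 2 = orderOf x + 2 by omega, pow_add, pow_orderOf_eq_one, one_mul] at h5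
            exact h5
          exact absurd (lower x 2 (by omega) h7) (by norm_num)
      rw [e, ← hx2, eq_inv_iff_mul_eq_one]
      group

/-- Elements of prime-power order generate. -/
theorem mem_closure_prime_power : ∀ (n : ℕ) (g : G), orderOf g ≤ n →
    g ∈ closure {w : G | w ∈ zpowers g ∧ ∃ r k : ℕ, r.Prime ∧ orderOf w = r ^ k} := by
  intro n
  induction n with
  | zero => intro g h; exact absurd h (by have := orderOf_pos g; omega)
  | succ n ih =>
    intro g hg
    by_cases h1 : orderOf g = 1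
    · rw [orderOf_eq_one_iff.1 h1]; exact one_mem _
    set r := (orderOf g).minFac
    have hr : r.Prime := Nat.minFac_prime h1
    obtain ⟨k, m, hm, hkm⟩ := Nat.exists_eq_pow_mul_and_not_dvd (orderOf_pos g).ne' r hr.ne_one
    have hk : k ≠ 0 := by
      rintro rfl
      rw [pow_zero, one_mul] at hkm
      exact hm (hkm ▸ Nat.minFac_dvd _)
    have hmpos : 0 < m := Nat.pos_of_ne_zero fun e => hm (e ▸ dvd_zero r)
    have hu : orderOf (g ^ m) = r ^ k := by
      rw [orderOf_pow_of_dvd hmpos.ne' (hkm ▸ dvd_mul_left m _), hkm, Nat.mul_div_cancel _ hmpos]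
    have hv : orderOf (g ^ r ^ k) = m := by
      rw [orderOf_pow_of_dvd (pow_ne_zero _ hr.ne_zero) (hkm ▸ dvd_mul_right _ m), hkm,
        Nat.mul_div_cancel_left _ (pow_pos hr.pos k)]
    have hlt : m < orderOf g := by
      rw [hkm]
      exact lt_mul_left hmpos (Nat.one_lt_pow hk hr.one_lt)
    have h2 : g ^ r ^ k ∈ closure {w : G | w ∈ zpowers g ∧ ∃ r k : ℕ, r.Prime ∧ orderOf w = r ^ k} := by
      refine closure_mono ?_ (ih (g ^ r ^ k) (by omega))
      intro w hw
      exact ⟨(zpowers_le.2 (pow_mem (mem_zpowers g) _)) hw.1, hw.2⟩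
    have h3 : g ^ m ∈ closure {w : G | w ∈ zpowers g ∧ ∃ r k : ℕ, r.Prime ∧ orderOf w = r ^ k} :=
      subset_closure ⟨pow_mem (mem_zpowers g) m, r, k, hr, hu⟩
    have e : (1 : ℤ) = (m : ℤ) * Int.gcdA m (r ^ k : ℕ) + (r ^ k : ℕ) * Int.gcdB m (r ^ k : ℕ) := by
      rw [← Int.gcd_eq_gcd_ab, Int.gcd_natCast_natCast, (Nat.Coprime.pow_right k ((hr.coprime_iff_not_dvd.2 hm).symm)).gcd_eq_one]
      rfl
    have e2 : g = (g ^ m) ^ Int.gcdA m (r ^ k : ℕ) * (g ^ r ^ k) ^ Int.gcdB m (r ^ k : ℕ) := by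
      conv_lhs => rw [← zpow_one g, e, zpow_add, zpow_mul, zpow_mul, zpow_natCast, zpow_natCast]
    have h5 := mul_mem (zpow_mem h3 (Int.gcdA m (r ^ k : ℕ))) (zpow_mem h2 (Int.gcdB m (r ^ k : ℕ)))
    rwa [← e2] at h5

theorem commute_of_coprime_orders (hn : ∀ H : Subgroup G, H.Normal) {u v : G} (h : (orderOf u).Coprime (orderOf v)) :
    Commute u v := by
  obtain ⟨h1, h2⟩ := commutator_mem_zpowers hn u v
  refine commutatorElement_eq_one_iff_mul_comm.1 (orderOf_eq_one_iff.1 ?_)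
  exact Nat.eq_one_of_dvd_coprimes h (orderOf_dvd_of_mem_zpowers h1) (orderOf_dvd_of_mem_zpowers h2)

theorem conj_eq_or (hn : ∀ H : Subgroup G, H.Normal) {u : G} (hu : orderOf u = 4) (g : G) :
    g * u * g⁻¹ = u ∨ g * u * g⁻¹ = u⁻¹ := by
  obtain ⟨i, hi⟩ := (Submonoid.mem_powers_iff _ _).1 ((isOfFinOrder_of_finite u).mem_powers_iff_mem_zpowers.2
    ((hn (zpowers u)).conj_mem u (mem_zpowers u) g))
  have ho : orderOf (g * u * g⁻¹) = 4 := by
    rw [← hu]; exact orderOf_injective (MulAut.conj g).toMonoidHom (MulAut.conj g).injective u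
  rw [← hi] at ho
  rw [← hi]
  have h4 : u ^ 4 = 1 := hu ▸ pow_orderOf_eq_one u
  have : u ^ i = u ^ (i % 4) := by rw [← hu, pow_mod_orderOf]
  rw [this] at ho ⊢
  rcases (show i % 4 = 0 ∨ i % 4 = 1 ∨ i % 4 = 2 ∨ i % 4 = 3 by omega) with e | e | e | e <;> rw [e] at ho ⊢
  · rw [pow_zero, orderOf_one] at ho; omega
  · exact Or.inl (pow_one u)
  · rw [orderOf_pow_of_dvd two_ne_zero (hu ▸ by norm_num), hu] at ho; omega
  · exact Or.inr (eq_inv_of_mul_eq_one_left (by rw [← pow_succ, h4]))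

theorem quaternion_range {u v : G} (hu : orderOf u = 4) (hv : v ^ 2 = u ^ 2) (hvu : v * u * v⁻¹ = u⁻¹)
    (hnc : ¬ Commute u v) :
    ∃ Q : Subgroup G, Nonempty (Q ≃* QuaternionGroup 2) ∧ Q = closure {u, v} ∧
      ∀ g ∈ Q, ∃ i : ℕ, g = u ^ i ∨ g = v * u ^ i := by
  have h4 : u ^ 4 = 1 := hu ▸ pow_orderOf_eq_one u
  let E : ZMod (2 * 2) → G := fun i => u ^ i.val
  have hE : ∀ i j, E (i + j) = E i * E j := fun i j => by
    simp only [E]
    rw [← pow_add, ZMod.val_add, ← pow_mod_orderOf u (i.val + j.val), hu]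
  have hE0 : E 0 = 1 := by simp [E]
  have hEneg : ∀ i, E (-i) = (E i)⁻¹ := fun i => eq_inv_of_mul_eq_one_left (by rw [← hE, neg_add_cancel, hE0])
  have hswap : ∀ i, E i * v = v * E (-i) := fun i => by
    rw [hEneg]
    have : v⁻¹ * E i * v = (E i)⁻¹ := by
      have h1 : v⁻¹ * u * v = u⁻¹ := by
        have h0 : v⁻¹ * u⁻¹ * v = u := by rw [← hvu]; group
        calc v⁻¹ * u * v = (v⁻¹ * u⁻¹ * v)⁻¹ := by group
          _ = u⁻¹ := by rw [h0]
      simp only [E]
      have h2 := conj_pow (i := i.val) (a := v⁻¹) (b := u)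
      rw [inv_inv, h1, inv_pow] at h2
      exact h2.symm
    rw [← this]; group
  let f : QuaternionGroup 2 → G := fun q => match q with
    | QuaternionGroup.a i => E i
    | QuaternionGroup.xa i => v * E i
  have hmul : ∀ q r, f (q * r) = f q * f r := by
    rintro (i | i) (j | j)
    · exact hE i j
    · show v * E (j - i) = E i * (v * E j)
      rw [← mul_assoc, hswap, mul_assoc, ← hE, neg_add_eq_sub]
    · show v * E (i + j) = v * E i * E j
      rw [hE, mul_assoc]
    · show E ((2 : ℕ) + j - i) = v * E i * (v * E j)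
      have e : E ((2 : ℕ) : ZMod (2 * 2)) = v * v := by
        rw [show v * v = v ^ 2 from (pow_two v).symm, hv]
        rfl
      rw [show v * E i * (v * E j) = v * (E i * v) * E j by group, hswap, ← mul_assoc, ← e, ← hE, ← hE]
      congr 1
      abel
  let φ : QuaternionGroup 2 →* G := MonoidHom.mk' f hmul
  have hinj : Function.Injective φ := by
    rw [injective_iff_map_eq_one]
    rintro (i | i) hi
    · have h1 : u ^ i.val = 1 := hi
      rw [← orderOf_dvd_iff_pow_eq_one, hu] at h1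
      have h2 : i.val = 0 := Nat.eq_zero_of_dvd_of_lt h1 (ZMod.val_lt i)
      rw [(ZMod.val_eq_zero i).1 h2]
      rfl
    · exfalso
      have h1 : v * E i = 1 := hi
      refine hnc ?_
      rw [eq_inv_of_mul_eq_one_left h1]
      exact ((Commute.refl u).pow_right _).inv_right
  refine ⟨φ.range, ⟨(MonoidHom.ofInjective hinj).symm⟩, le_antisymm ?_ ((closure_le _).2 ?_), ?_⟩
  · rintro _ ⟨(i | i), rfl⟩
    · exact pow_mem (subset_closure (Set.mem_insert u _)) _
    · exact mul_mem (subset_closure (Set.mem_insert_of_mem u rfl)) (pow_mem (subset_closure (Set.mem_insert u _)) _)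
  · rintro g (rfl | rfl)
    · exact ⟨QuaternionGroup.a 1, pow_one g⟩
    · refine ⟨QuaternionGroup.xa 0, ?_⟩
      show g * E 0 = g
      rw [hE0, mul_one]
  · rintro _ ⟨(i | i), rfl⟩
    · exact ⟨i.val, Or.inl rfl⟩
    · exact ⟨i.val, Or.inr rfl⟩

theorem main (hna : ¬ IsMulCommutative G) (hn : ∀ H : Subgroup G, H.Normal) :
    ∃ Q E A : Subgroup G, Nonempty (Q ≃* QuaternionGroup 2) ∧ Cfsg.IsElementaryAbelian 2 E ∧ IsMulCommutative A ∧
      Odd (Nat.card A) ∧ E ⊓ A = ⊥ ∧ Q ⊓ (E ⊔ A) = ⊥ ∧ Q ⊔ (E ⊔ A) = ⊤ := by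
  classical
  haveI : Fact (Nat.Prime 2) := ⟨Nat.prime_two⟩
  have hgenpp : ∀ {S : Set G}, (∀ w : G, (∃ r k : ℕ, r.Prime ∧ orderOf w = r ^ k) → w ∈ S) → ∀ g, g ∈ closure S :=
    fun {S} hS g => closure_mono (fun w hw => hS w hw.2) (mem_closure_prime_power _ g le_rfl)
  -- elements of coprime or odd prime power order commute
  have hpp : ∀ w z : G, ∀ r k s l : ℕ, r.Prime → s.Prime → orderOf w = r ^ k → orderOf z = s ^ l →
      ¬ (r = 2 ∧ s = 2) → Commute w z := by
    intro w z r k s l hr hs hw hz h2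
    by_cases hrs : r = s
    · subst hrs
      haveI := Fact.mk hr
      by_contra hc
      exact h2 ⟨(exists_pair hn r _ w z le_rfl ⟨k, hw⟩ ⟨l, hz⟩ hc).1, (exists_pair hn r _ w z le_rfl ⟨k, hw⟩ ⟨l, hz⟩ hc).1⟩
    · exact commute_of_coprime_orders hn (by
        rw [hw, hz]; exact Nat.Coprime.pow _ _ ((Nat.coprime_primes hr hs).2 hrs))
  obtain ⟨u, v, hu, hv, hvu, hnc⟩ : ∃ u v : G, orderOf u = 4 ∧ v ^ 2 = u ^ 2 ∧ v * u * v⁻¹ = u⁻¹ ∧ ¬ Commute u v := by
    by_contra hno
    refine hna ⟨⟨fun g h => ?_⟩⟩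
    haveI : IsMulCommutative (closure {w : G | ∃ r k : ℕ, r.Prime ∧ orderOf w = r ^ k}) :=
      Subgroup.isMulCommutative_closure (by
        rintro w ⟨r, k, hr, hw⟩ z ⟨s, l, hs, hz⟩
        by_contra hc
        have hc' : ¬ Commute w z := hc
        by_cases h2 : r = 2 ∧ s = 2
        · obtain ⟨rfl, rfl⟩ := h2
          exact hno (exists_pair hn 2 _ w z le_rfl ⟨k, hw⟩ ⟨l, hz⟩ hc').2
        · exact hc' (hpp w z r k s l hr hs hw hz h2))
    exact congrArg Subtype.val (IsMulCommutative.is_comm.comm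
      (⟨g, hgenpp (fun w hw => hw) g⟩ : closure {w : G | ∃ r k : ℕ, r.Prime ∧ orderOf w = r ^ k}) ⟨h, hgenpp (fun w hw => hw) h⟩)
  obtain ⟨Q, hQiso, hQ, hQmem⟩ := quaternion_range hu hv hvu hnc
  have huQ : u ∈ Q := hQ ▸ subset_closure (Set.mem_insert u _)
  have hvQ : v ∈ Q := hQ ▸ subset_closure (Set.mem_insert_of_mem u rfl)
  have h4 : u ^ 4 = 1 := hu ▸ pow_orderOf_eq_one u
  have hvo : orderOf v = 4 := by
    refine orderOf_eq_prime_pow (p := 2) (n := 1) (fun h => ?_) (by
      rw [show (2 : ℕ) ^ (1 + 1) = 2 * 2 by norm_num, pow_mul, hv, ← pow_mul]; exact h4)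
    rw [pow_one, hv, ← orderOf_dvd_iff_pow_eq_one, hu] at h
    norm_num at h
  set z := u ^ 2 with hz
  have hz1 : z ≠ 1 := fun h => by
    rw [hz, ← orderOf_dvd_iff_pow_eq_one, hu] at h
    norm_num at h
  have hzz : z * z = 1 := by rw [hz, ← pow_add]; exact h4
  set C := centralizer ({u, v} : Set G) with hC
  have hmemC : ∀ g, g ∈ C ↔ Commute g u ∧ Commute g v := fun g => by
    rw [hC, mem_centralizer_iff]
    constructor
    · exact fun h => ⟨(h u (Set.mem_insert u _)).symm, (h v (Set.mem_insert_of_mem u rfl)).symm⟩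
    · rintro ⟨h1, h2⟩ w (rfl | hw)
      · exact h1.symm
      · cases hw; exact h2.symm
  have huv : u * v * u⁻¹ = v⁻¹ := by
    have h0 : v * u⁻¹ * v⁻¹ = u := by
      calc v * u⁻¹ * v⁻¹ = (v * u * v⁻¹)⁻¹ := by group
        _ = u := by rw [hvu, inv_inv]
    calc u * v * u⁻¹ = v * u⁻¹ * v⁻¹ * v * u⁻¹ := by rw [h0]
      _ = v * (u ^ 2)⁻¹ := by group
      _ = v * (v ^ 2)⁻¹ := by rw [hv]
      _ = v⁻¹ := by group
  -- the group is the product of `Q` and its centraliser
  have hcover : ∀ g : G, ∃ q ∈ Q, q⁻¹ * g ∈ C := by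
    intro g
    obtain ⟨q₁, hq₁, hgu⟩ : ∃ q ∈ Q, Commute (q⁻¹ * g) u := by
      rcases conj_eq_or hn hu g with h | h
      · exact ⟨1, one_mem Q, by rw [inv_one, one_mul]; exact mul_inv_eq_iff_eq_mul.1 h⟩
      · refine ⟨v, hvQ, mul_inv_eq_iff_eq_mul.1 ?_⟩
        calc v⁻¹ * g * u * (v⁻¹ * g)⁻¹ = v⁻¹ * (g * u * g⁻¹) * v := by group
          _ = v⁻¹ * (v * u * v⁻¹) * v := by rw [h, hvu]
          _ = u := by group
    rcases conj_eq_or hn hvo (q₁⁻¹ * g) with h | h
    · exact ⟨q₁, hq₁, (hmemC _).2 ⟨hgu, mul_inv_eq_iff_eq_mul.1 h⟩⟩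
    · refine ⟨q₁ * u, mul_mem hq₁ huQ, (hmemC _).2 ⟨?_, mul_inv_eq_iff_eq_mul.1 ?_⟩⟩
      · rw [mul_inv_rev, mul_assoc]
        exact (Commute.inv_left (Commute.refl u)).mul_left hgu
      · calc (q₁ * u)⁻¹ * g * v * ((q₁ * u)⁻¹ * g)⁻¹ = u⁻¹ * (q₁⁻¹ * g * v * (q₁⁻¹ * g)⁻¹) * u := by group
          _ = u⁻¹ * (u * v * u⁻¹) * u := by rw [h, huv]
          _ = v := by group
  have hQC : ∀ g, g ∈ Q → g ∈ C → g = 1 ∨ g = z := by
    intro g hg hgC
    obtain ⟨h1, h2⟩ := (hmemC g).1 hgC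
    obtain ⟨i, rfl | rfl⟩ := hQmem g hg
    · rw [← pow_mod_orderOf, hu] at h2 ⊢
      rcases (show i % 4 = 0 ∨ i % 4 = 1 ∨ i % 4 = 2 ∨ i % 4 = 3 by omega) with e | e | e | e <;> rw [e] at h2 ⊢
      · exact Or.inl (pow_zero u)
      · exact absurd (by simpa using h2) hnc
      · exact Or.inr rfl
      · refine absurd ?_ hnc
        rw [show u ^ 3 = u⁻¹ from eq_inv_of_mul_eq_one_left (by rw [← pow_succ]; exact h4)] at h2
        simpa using h2.inv_left
    · refine absurd ?_ hnc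
      have h3 : Commute v u := by simpa using h1.mul_left ((Commute.refl u).pow_left i).inv_left
      exact h3.symm
  -- the centraliser has no elements of order four
  have hinvol : ∀ t : G, t * t = 1 → ∀ g, Commute g t := by
    intro t ht g
    obtain ⟨i, hi⟩ := (Submonoid.mem_powers_iff _ _).1 ((isOfFinOrder_of_finite t).mem_powers_iff_mem_zpowers.2
      ((hn (zpowers t)).conj_mem t (mem_zpowers t) g))
    rcases Nat.even_or_odd i with ⟨j, hj⟩ | ⟨j, hj⟩
    · rw [hj, ← two_mul, pow_mul, pow_two, ht, one_pow] at hi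
      have ht1 : t = 1 := conj_eq_one_iff.1 hi.symm
      rw [ht1]; exact Commute.one_right g
    · rw [hj, pow_succ, pow_mul, pow_two, ht, one_pow, one_mul] at hi
      exact mul_inv_eq_iff_eq_mul.1 hi.symm
  have hnod : ∀ d ∈ C, d * d ≠ z := by
    intro d hd hdd
    obtain ⟨h1, h2⟩ := (hmemC d).1 hd
    have h3 : (u * d) * (u * d) = 1 := by
      rw [show u * d * (u * d) = u * (d * u) * d by group, h1.eq,
        show u * (u * d) * d = u ^ 2 * (d * d) by rw [pow_two]; group, hdd, ← hz, hzz]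
    have h4 := (hinvol _ h3 v).symm
    exact hnc (by simpa [mul_inv_cancel_right] using h4.mul_left h2.inv_left)
  have hC2 : ∀ c ∈ C, (∃ k, orderOf c = 2 ^ k) → c * c = 1 := by
    intro c hc ⟨k, hk⟩
    obtain ⟨h1, h2⟩ := (hmemC c).1 hc
    obtain ⟨i, hi⟩ := (Submonoid.mem_powers_iff _ _).1 ((isOfFinOrder_of_finite (u * c)).mem_powers_iff_mem_zpowers.2
      ((hn (zpowers (u * c))).conj_mem _ (mem_zpowers (u * c)) v))
    rw [h1.symm.mul_pow] at hi
    have hconj : v * (u * c) * v⁻¹ = u⁻¹ * c := by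
      calc v * (u * c) * v⁻¹ = v * u * (c * v⁻¹) := by group
        _ = v * u * (v⁻¹ * c) := by rw [h2.inv_right.eq]
        _ = _ := by rw [← hvu]; group
    rw [hconj] at hi
    -- write `c ^ (i - 1)` inside the quaternion group
    have hq : (u ^ (i + 1) : G) ∈ Q := pow_mem huQ _
    have e : u ^ (i + 1) * c ^ i = c := by
      calc u ^ (i + 1) * c ^ i = u * (u ^ i * c ^ i) := by rw [pow_succ']; group
        _ = u * (u⁻¹ * c) := by rw [hi]
        _ = c := by group
    have e' : u ^ (i + 1) = c * (c ^ i)⁻¹ := eq_mul_inv_of_mul_eq e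
    rcases hQC _ hq (e' ▸ mul_mem hc (inv_mem (pow_mem hc i))) with h | h
    · -- `i` is odd
      rw [← orderOf_dvd_iff_pow_eq_one, hu] at h
      rw [show u ^ (i + 1) = 1 from by rw [← orderOf_dvd_iff_pow_eq_one, hu]; exact h, one_mul] at e
      have h5 : c ^ (i - 1) = 1 := by
        refine mul_right_cancel (b := c) ?_
        rw [one_mul, ← pow_succ, show i - 1 + 1 = i by omega, e]
      obtain ⟨j, hj⟩ : 2 ∣ i - 1 := by omega
      have hj' : Odd j := by
        obtain ⟨l, hl⟩ := h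
        exact ⟨l - 1, by omega⟩
      have h6 : (c * c) ^ j = 1 := by rw [← pow_two, ← pow_mul, ← hj, h5]
      have h7 : orderOf (c * c) ∣ Nat.gcd (2 ^ k) j := Nat.dvd_gcd
        (hk ▸ by rw [← pow_two]; exact orderOf_pow_dvd 2) (orderOf_dvd_of_pow_eq_one h6)
      rw [(Nat.Coprime.pow_left k (Nat.coprime_two_left.2 hj')).gcd_eq_one, Nat.dvd_one] at h7
      exact orderOf_eq_one_iff.1 h7
    · exfalso
      rw [h] at e
      obtain ⟨l, hl⟩ : ∃ l, i = 4 * l + 1 := by
        refine ⟨i / 4, ?_⟩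
        have h8 : u ^ ((i + 1) % 4) = u ^ 2 := by
          rw [← hu, pow_mod_orderOf, h]
        have h9 : (i + 1) % 4 = 2 :=
          pow_injOn_Iio_orderOf (by rw [Set.mem_Iio, hu]; omega) (by rw [Set.mem_Iio, hu]; omega) h8
        omega
      rw [hl, pow_succ] at e
      have h10 : z * c ^ (4 * l) = 1 := mul_right_cancel (b := c) (by rw [one_mul, mul_assoc]; exact e)
      refine hnod (c ^ (2 * l)) (pow_mem hc _) ?_
      rw [← pow_add, show 2 * l + 2 * l = 4 * l by ring, eq_inv_of_mul_eq_one_right h10,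
        inv_eq_of_mul_eq_one_right hzz]
  -- the centraliser is abelian
  have hCab : ∀ a ∈ C, ∀ b ∈ C, Commute a b := by
    haveI : IsMulCommutative (closure {w : G | w ∈ C ∧ ∃ r k : ℕ, r.Prime ∧ orderOf w = r ^ k}) :=
      Subgroup.isMulCommutative_closure (by
        rintro w ⟨hwC, r, k, hr, hw⟩ w' ⟨-, s, l, hs, hw'⟩
        by_cases h2 : r = 2 ∧ s = 2
        · obtain ⟨rfl, rfl⟩ := h2
          exact ((hinvol w (hC2 w hwC ⟨k, hw⟩)) w').symm.eq
        · exact (hpp w w' r k s l hr hs hw hw' h2).eq)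
    intro a ha b hb
    have hmem : ∀ g ∈ C, g ∈ closure {w : G | w ∈ C ∧ ∃ r k : ℕ, r.Prime ∧ orderOf w = r ^ k} := by
      intro g hg
      refine closure_mono ?_ (mem_closure_prime_power _ g le_rfl)
      intro w hw
      exact ⟨(zpowers_le.2 hg) hw.1, hw.2⟩
    exact congrArg Subtype.val (IsMulCommutative.is_comm.comm
      (⟨a, hmem a ha⟩ : closure {w : G | w ∈ C ∧ ∃ r k : ℕ, r.Prime ∧ orderOf w = r ^ k}) ⟨b, hmem b hb⟩)
  let A : Subgroup G :=
    { carrier := {c | c ∈ C ∧ Odd (orderOf c)}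
      one_mem' := ⟨one_mem C, by rw [orderOf_one]; exact odd_one⟩
      mul_mem' := fun {a b} ha hb => ⟨mul_mem ha.1 hb.1,
        Odd.of_dvd_nat (ha.2.mul hb.2) ((hCab a ha.1 b hb.1).orderOf_mul_dvd_mul_orderOf)⟩
      inv_mem' := fun {a} ha => ⟨inv_mem ha.1, by rw [orderOf_inv]; exact ha.2⟩ }
  -- a complement of `z` among the involutions of `C`
  obtain ⟨E, hE⟩ := Set.Finite.exists_maximal (Set.toFinite {M : Subgroup G | (∀ c ∈ M, c ∈ C ∧ c * c = 1) ∧ z ∉ M})
    ⟨⊥, fun c hc => by rw [mem_bot] at hc; subst hc; exact ⟨one_mem C, one_mul 1⟩, fun h => hz1 (mem_bot.1 h)⟩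
  obtain ⟨⟨hE2, hzE⟩, hEmax⟩ := hE
  have hzC : z ∈ C := (hmemC z).2 ⟨(Commute.refl u).pow_left 2, by rw [← hv]; exact (Commute.refl v).pow_left 2⟩
  have hEcover : ∀ c ∈ C, c * c = 1 → c ∈ E ∨ z * c ∈ E := by
    intro c hc hcc
    by_contra hh
    push Not at hh
    let E' : Subgroup G :=
      { carrier := {g | g ∈ E ∨ c * g ∈ E}
        one_mem' := Or.inl (one_mem E)
        mul_mem' := by
          rintro a b (ha | ha) (hb | hb)
          · exact Or.inl (mul_mem ha hb)
          · refine Or.inr ?_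
            have e : c * (a * b) = a * (c * b) := by
              rw [← mul_assoc, ← mul_assoc, (hCab c hc a (hE2 a ha).1).eq]
            rw [e]; exact mul_mem ha hb
          · exact Or.inr (by rw [← mul_assoc]; exact mul_mem ha hb)
          · refine Or.inl ?_
            have haC : a ∈ C := by simpa using mul_mem (inv_mem hc) (hE2 _ ha).1
            have e : a * b = (c * a) * (c * b) := by
              rw [(hCab c hc a haC).eq, mul_assoc a c, ← mul_assoc c c, hcc, one_mul]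
            rw [e]; exact mul_mem ha hb
        inv_mem' := by
          rintro a (ha | ha)
          · exact Or.inl (inv_mem ha)
          · refine Or.inr ?_
            have haC : a ∈ C := by simpa using mul_mem (inv_mem hc) (hE2 _ ha).1
            have e : c * a⁻¹ = (c * a)⁻¹ := by
              rw [mul_inv_rev, inv_eq_of_mul_eq_one_right hcc, (hCab c hc _ (inv_mem haC)).eq]
            rw [e]; exact inv_mem ha }
    have h5 : E' ≤ E := hEmax (show (∀ g ∈ E', g ∈ C ∧ g * g = 1) ∧ z ∉ E' from ⟨by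
      rintro g (hg | hg)
      · exact hE2 g hg
      · obtain ⟨hgC, hgg⟩ := hE2 _ hg
        have hgC' : g ∈ C := by simpa using mul_mem (inv_mem hc) hgC
        refine ⟨hgC', ?_⟩
        rw [show c * g * (c * g) = c * (g * c) * g by group, ← (hCab c hc g hgC').eq,
          show c * (c * g) * g = c * c * (g * g) by group, hcc, one_mul] at hgg
        exact hgg, by
      rintro (h | h)
      · exact hzE h
      · refine hh.2 ?_
        rw [(hCab z hzC c hc).eq]; exact h⟩) (fun g hg => Or.inl hg)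
    exact hh.1 (h5 (Or.inr (by rw [hcc]; exact one_mem E)))
  have hodd : ∀ a ∈ A, a * a = 1 → a = 1 := fun a ha h => by
    have h1 : orderOf a ∣ 2 := orderOf_dvd_of_pow_eq_one (by rw [pow_two, h])
    rcases (Nat.dvd_prime Nat.prime_two).1 h1 with e | e
    · exact orderOf_eq_one_iff.1 e
    · exact absurd ha.2 (by rw [e]; decide)
  have hEn := hn E
  have hAn := hn A
  refine ⟨Q, E, A, hQiso, ⟨⟨⟨fun a b => Subtype.ext (hCab a (hE2 a a.2).1 b (hE2 b b.2).1).eq⟩⟩,
    fun a ha => by rw [pow_two]; exact (hE2 a ha).2⟩, ⟨⟨fun a b => Subtype.ext (hCab a a.2.1 b b.2.1).eq⟩⟩, ?_, ?_, ?_, ?_⟩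
  · rw [Nat.odd_iff, ← Nat.two_dvd_ne_zero]
    intro h
    obtain ⟨a, ha⟩ := exists_prime_orderOf_dvd_card' (G := A) 2 h
    exact absurd a.2.2 (by rw [Subgroup.orderOf_coe, ha]; decide)
  · exact eq_bot_iff.2 fun x hx => mem_bot.2 (hodd x hx.2 (hE2 x hx.1).2)
  · refine eq_bot_iff.2 fun x hx => mem_bot.2 ?_
    obtain ⟨hxQ, hxEA⟩ := hx
    obtain ⟨e, he, a, ha, rfl⟩ := mem_sup_of_normal_left.1 hxEA
    rcases hQC _ hxQ (mul_mem (hE2 e he).1 ha.1) with h | h
    · exact h
    · exfalso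
      have h6 : a * a = 1 := by
        have h7 : (e * a) * (e * a) = 1 := by rw [h, hzz]
        rw [show e * a * (e * a) = e * (a * e) * a by group, ← (hCab e (hE2 e he).1 a ha.1).eq,
          show e * (e * a) * a = e * e * (a * a) by group, (hE2 e he).2, one_mul] at h7
        exact h7
      rw [hodd a ha h6, mul_one] at h
      exact hzE (h ▸ he)
  · refine eq_top_iff.2 fun g _ => ?_
    obtain ⟨q, hq, hqg⟩ := hcover g
    suffices hCle : C ≤ Q ⊔ (E ⊔ A) by
      rw [show g = q * (q⁻¹ * g) by group]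
      exact mul_mem (mem_sup_left hq) (hCle hqg)
    intro c hc
    refine (closure_le (Q ⊔ (E ⊔ A))).2 ?_ (mem_closure_prime_power _ c le_rfl)
    rintro w ⟨hwc, r, k, hr, hw⟩
    have hwC : w ∈ C := (zpowers_le.2 hc) hwc
    by_cases hr2 : r = 2
    · subst hr2
      rcases hEcover w hwC (hC2 w hwC ⟨k, hw⟩) with h | h
      · exact mem_sup_right (mem_sup_left h)
      · rw [show w = z⁻¹ * (z * w) by group]
        exact mul_mem (inv_mem (mem_sup_left (pow_mem huQ 2))) (mem_sup_right (mem_sup_left h))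
    · exact mem_sup_right (mem_sup_right ⟨hwC, by rw [hw]; exact (hr.odd_of_ne_two hr2).pow⟩)

end Cfsg.Lib.SolvStruct.Hamiltonian
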