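/-
Complement systems and system normalizers of finite solvable groups.
-/
import Cfsg.Agent.Coprime.Hall
import Cfsg.Agent.Coprime.SolvableBasics
import Cfsg.Agent.PGroups.Basic
import Cfsg.Agent.Transfer.Basic
import Cfsg.Prelude.Def_SolvableStructure

set_option linter.style.haveILetI false
set_option linter.unusedSectionVars false

namespace Cfsg.Lib.Systems

open Subgroup Cfsg.Lib.Transfer Cfsg.Lib.Coprime
open scoped Pointwise commutatorElement

universe u

variable {G : Type u} [Group G] [Finite G]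

theorem prime_eq_of_dvd_index {K : Nat.Primes → Subgroup G} (hK : Cfsg.IsComplementSystem K)
    (p : Nat.Primes) {q : ℕ} (hq : q.Prime) (h : q ∣ (K p).index) : q = p := by
  rw [hK p] at h
  exact (Nat.prime_dvd_prime_iff_eq hq p.2).1 (hq.dvd_of_dvd_pow h)

theorem not_dvd_card {K : Nat.Primes → Subgroup G} (hK : Cfsg.IsComplementSystem K) (p : Nat.Primes) :
    ¬ (p : ℕ) ∣ Nat.card (K p) := by
  intro h
  have h1 := p.2.factorization_pos_of_dvd Nat.card_pos.ne' h
  have h2 := congrArg (fun n => n.factorization (p : ℕ)) (K p).card_mul_index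
  simp only [Nat.factorization_mul Nat.card_pos.ne' (K p).index_ne_zero_of_finite, Finsupp.add_apply] at h2
  rw [hK p, p.2.factorization_pow, Finsupp.single_eq_same] at h2
  omega

theorem isPiHall_system {K : Nat.Primes → Subgroup G} (hK : Cfsg.IsComplementSystem K) (p : Nat.Primes) :
    Cfsg.IsPiHall {q : ℕ | q ≠ p} (K p) :=
  ⟨fun q _ hd => show q ≠ (p : ℕ) from fun e => not_dvd_card hK p (e ▸ hd), fun _ hq hne hd => hne (prime_eq_of_dvd_index hK p hq hd)⟩

theorem index_of_isPiHall {H : Subgroup G} (p : Nat.Primes) (h : Cfsg.IsPiHall {q : ℕ | q ≠ p} H) :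
    H.index = (p : ℕ) ^ (Nat.card G).factorization p := by
  refine Nat.eq_of_factorization_eq H.index_ne_zero_of_finite (pow_ne_zero _ p.2.ne_zero) fun q => ?_
  rw [p.2.factorization_pow, Finsupp.single_apply]
  by_cases hq : q.Prime
  swap
  · rw [Nat.factorization_eq_zero_of_not_prime _ hq, if_neg (fun e : (p : ℕ) = q => hq (e ▸ p.2))]
  split_ifs with e
  · subst e
    rw [← H.card_mul_index, Nat.factorization_mul Nat.card_pos.ne' H.index_ne_zero_of_finite,
      Finsupp.add_apply, Nat.factorization_eq_zero_of_not_dvd (fun hd => h.1 _ p.2 hd rfl), zero_add]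
  · exact Nat.factorization_eq_zero_of_not_dvd (h.2 q hq (Ne.symm e))

theorem isComplementSystem_iff {K : Nat.Primes → Subgroup G} :
    Cfsg.IsComplementSystem K ↔ ∀ p : Nat.Primes, Cfsg.IsPiHall {q : ℕ | q ≠ p} (K p) :=
  ⟨isPiHall_system, fun h p => index_of_isPiHall p (h p)⟩

theorem conj_system {K : Nat.Primes → Subgroup G} (hK : Cfsg.IsComplementSystem K) (g : G) :
    Cfsg.IsComplementSystem (fun p => MulAut.conj g • K p) :=
  isComplementSystem_iff.2 fun p => isPiHall_conjMap (isPiHall_system hK p) g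

theorem system_eq_top {K : Nat.Primes → Subgroup G} (hK : Cfsg.IsComplementSystem K) (p : Nat.Primes)
    (h : ¬ (p : ℕ) ∣ Nat.card G) : K p = ⊤ := by
  rw [← index_eq_one, hK p, Nat.factorization_eq_zero_of_not_dvd h, pow_zero]

theorem map_system {Q : Type u} [Group Q] [Finite Q] {K : Nat.Primes → Subgroup G}
    (hK : Cfsg.IsComplementSystem K) (f : G →* Q) (hf : Function.Surjective f) :
    Cfsg.IsComplementSystem (fun p => (K p).map f) := by
  rw [isComplementSystem_iff]
  intro p
  obtain ⟨h1, h2⟩ := isPiHall_system hK p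
  exact ⟨fun q hq hd => h1 q hq (hd.trans (card_map_dvd _ f)),
    fun q hq hne hd => h2 q hq hne (hd.trans ((K p).index_map_dvd hf))⟩

theorem dvd_index_iInf {K : Nat.Primes → Subgroup G} (hK : Cfsg.IsComplementSystem K)
    (s : Finset Nat.Primes) : ∀ q : ℕ, q.Prime → q ∣ (⨅ p ∈ s, K p : Subgroup G).index →
      ∃ p ∈ s, (p : ℕ) = q := by
  induction s using Finset.induction_on with
  | empty => intro q hq h; simp at h; exact absurd h hq.ne_one
  | insert a s ha ih =>
    intro q hq h
    rw [Finset.iInf_insert] at h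
    have hcop : (K a).index.Coprime (⨅ p ∈ s, K p : Subgroup G).index :=
      Nat.coprime_of_dvd fun r hr h1 h2 => by
        obtain ⟨p, hp, hpr⟩ := ih r hr h2
        exact ha ((Subtype.ext ((prime_eq_of_dvd_index hK a hr h1).symm.trans hpr.symm) : a = p) ▸ hp)
    rw [(inf_index_of_coprime _ _ hcop).1] at h
    rcases hq.dvd_mul.1 h with h1 | h1
    · exact ⟨a, Finset.mem_insert_self a s, (prime_eq_of_dvd_index hK a hq h1).symm⟩
    · obtain ⟨p, hp, e⟩ := ih q hq h1
      exact ⟨p, Finset.mem_insert_of_mem hp, e⟩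

theorem relIndex_normal_dvd_index (N : Subgroup G) [N.Normal] (H : Subgroup G) : H.relIndex N ∣ H.index := by
  have e1 : H.relIndex N = H.relIndex (H ⊔ N) := by
    have a1 := relIndex_mul_relIndex (⊥ : Subgroup G) (H ⊓ N) N bot_le inf_le_right
    have a2 := relIndex_mul_relIndex (⊥ : Subgroup G) (H ⊓ N) H bot_le inf_le_left
    have a3 := relIndex_mul_relIndex (⊥ : Subgroup G) N (H ⊔ N) bot_le le_sup_right
    have a4 := relIndex_mul_relIndex (⊥ : Subgroup G) H (H ⊔ N) bot_le le_sup_left
    rw [inf_relIndex_right] at a1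
    rw [inf_comm, inf_relIndex_right] at a2
    rw [relIndex_sup_right] at a3
    simp only [relIndex_bot_left] at a1 a2 a3 a4
    rw [inf_comm] at a2
    refine Nat.eq_of_mul_eq_mul_left (Nat.card_pos (α := H)) ?_
    rw [a4, ← a3, ← a1, ← a2]
    ring
  rw [e1]
  exact relIndex_dvd_index_of_le le_sup_left

/-- Systems that agree modulo `N` are conjugate by an element of `N`. -/
theorem exists_conj_finset [Group.IsSolvable G] (N : Subgroup G) [N.Normal]
    {K L : Nat.Primes → Subgroup G} (hK : Cfsg.IsComplementSystem K) (hL : Cfsg.IsComplementSystem L)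
    (h : ∀ p, K p ⊔ N = L p ⊔ N) (s : Finset Nat.Primes) :
    ∃ n ∈ N, ∀ p ∈ s, MulAut.conj n • K p = L p := by
  induction s using Finset.induction_on with
  | empty => exact ⟨1, one_mem N, by simp⟩
  | insert a s ha ih =>
    obtain ⟨n, hn, hns⟩ := ih
    set X := L a ⊔ N
    set K' := MulAut.conj n • K a
    have hnX : n ∈ normalizer (X : Set G) := le_normalizer (mem_sup_right hn)
    have hK'X : K' ≤ X := by
      rw [← conjMap_eq_self hnX]
      exact conjMap_mono (le_sup_left.trans (h a).le)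
    have hrel : ∀ H : Subgroup G, H ≤ X → Cfsg.IsPiHall {q : ℕ | q ≠ a} H →
        Cfsg.IsPiHall {q : ℕ | q ≠ a} (H.subgroupOf X) := fun H hH ⟨h1, h2⟩ =>
      ⟨fun q hq hd => h1 q hq (by rwa [Nat.card_congr (subgroupOfEquivOfLe hH).toEquiv] at hd),
        fun q hq hne hd => h2 q hq hne (hd.trans (relIndex_dvd_index_of_le hH))⟩
    obtain ⟨x, hx⟩ := piHall_conj (hrel K' hK'X (isPiHall_conjMap (isPiHall_system hK a) n))
      (hrel (L a) le_sup_left (isPiHall_system hL a))
    have hx' : MulAut.conj (x : G) • K' = L a := by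
      have hm := congrArg (Subgroup.map X.subtype) hx
      rw [map_subgroupOf_eq_of_le (le_sup_left : L a ≤ X), conjMap, map_map,
        show X.subtype.comp (MulAut.conj x).toMonoidHom = ((MulAut.conj (x : G)).toMonoidHom).comp X.subtype
          from MonoidHom.ext fun y => rfl, ← map_map, map_subgroupOf_eq_of_le hK'X] at hm
      exact hm.symm
    obtain ⟨b, hb, m, hm, hbm⟩ := mem_sup_of_normal_right.1 (show (x : G) ∈ L a ⊔ N from x.2)
    have hm' : MulAut.conj m • K' = L a := by
      rw [show m = b⁻¹ * x by rw [← hbm, inv_mul_cancel_left], map_mul, ← smul_smul, hx']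
      exact conjMap_eq_self (le_normalizer (inv_mem hb))
    -- split `m`
    set D : Subgroup G := ⨅ p ∈ s, L p
    have hcop : ((L a).subgroupOf N).index.Coprime (D.subgroupOf N).index := by
      haveI := ‹N.Normal›
      refine Nat.coprime_of_dvd fun r hr h1 h2 => ?_
      have hrel' : ∀ H : Subgroup G, (H.subgroupOf N).index ∣ H.index := fun H =>
        relIndex_normal_dvd_index N H
      obtain ⟨p, hp, hpr⟩ := dvd_index_iInf hL s r hr (h2.trans (hrel' D))
      exact ha ((Subtype.ext ((prime_eq_of_dvd_index hL a hr (h1.trans (hrel' _))).symm.trans hpr.symm) :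
        a = p) ▸ hp)
    obtain ⟨b', hb', d, hd, hbd⟩ := (inf_index_of_coprime _ _ hcop).2 ⟨m, hm⟩
    refine ⟨(d : G) * n, mul_mem d.2 hn, fun p hp => ?_⟩
    rw [map_mul, ← smul_smul]
    rcases Finset.mem_insert.1 hp with rfl | hp
    · show MulAut.conj (d : G) • K' = L p
      rw [show (d : G) = (b' : G)⁻¹ * m by rw [show m = (b' : G) * d from congrArg Subtype.val hbd,
        inv_mul_cancel_left], map_mul, ← smul_smul, hm']
      exact conjMap_eq_self (le_normalizer (inv_mem hb'))
    · rw [hns p hp]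
      exact conjMap_eq_self (le_normalizer ((iInf₂_le p hp : D ≤ L p) hd))

theorem exists_conj_system [Group.IsSolvable G] (N : Subgroup G) [N.Normal]
    {K L : Nat.Primes → Subgroup G} (hK : Cfsg.IsComplementSystem K) (hL : Cfsg.IsComplementSystem L)
    (h : ∀ p, K p ⊔ N = L p ⊔ N) : ∃ n ∈ N, ∀ p, MulAut.conj n • K p = L p := by
  let s : Finset Nat.Primes :=
    (Nat.card G).primeFactors.attach.image fun x => (⟨x.1, Nat.prime_of_mem_primeFactors x.2⟩ : Nat.Primes)
  obtain ⟨n, hn, hns⟩ := exists_conj_finset N hK hL h s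
  refine ⟨n, hn, fun p => ?_⟩
  by_cases hp : (p : ℕ) ∣ Nat.card G
  · exact hns p (Finset.mem_image.2 ⟨⟨p, Nat.mem_primeFactors.2 ⟨p.2, hp, Nat.card_pos.ne'⟩⟩,
      Finset.mem_attach _ _, rfl⟩)
  · rw [system_eq_top hK p hp, system_eq_top hL p hp]
    exact conjMap_eq_self (le_normalizer (mem_top n))

theorem systems_conj [Group.IsSolvable G] {K L : Nat.Primes → Subgroup G}
    (hK : Cfsg.IsComplementSystem K) (hL : Cfsg.IsComplementSystem L) :
    ∃ g : G, ∀ p, MulAut.conj g • K p = L p := by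
  obtain ⟨g, -, hg⟩ := exists_conj_system ⊤ hK hL fun p => by rw [sup_top_eq, sup_top_eq]
  exact ⟨g, hg⟩

theorem exists_system (G : Type u) [Group G] [Finite G] [Group.IsSolvable G] :
    ∃ K : Nat.Primes → Subgroup G, Cfsg.IsComplementSystem K := by
  choose K hK using fun p : Nat.Primes => exists_piHall (G := G) {q : ℕ | q ≠ p}
  exact ⟨K, isComplementSystem_iff.2 hK⟩

theorem mem_systemNormalizer {K : Nat.Primes → Subgroup G} {g : G} :
    g ∈ Cfsg.systemNormalizer K ↔ ∀ p, g ∈ normalizer (K p : Set G) :=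
  Subgroup.mem_iInf

theorem systemNormalizer_conj (K : Nat.Primes → Subgroup G) (g : G) :
    Cfsg.systemNormalizer (fun p => MulAut.conj g • K p) = MulAut.conj g • Cfsg.systemNormalizer K := by
  ext x
  rw [mem_systemNormalizer, show x ∈ MulAut.conj g • Cfsg.systemNormalizer K ↔
    g⁻¹ * x * g ∈ Cfsg.systemNormalizer K from mem_map_conj, mem_systemNormalizer]
  refine forall_congr' fun p => ?_
  show x ∈ normalizer ((conjMap g (K p) : Subgroup G) : Set G) ↔ _
  rw [normalizer_conjMap]
  exact mem_conjMap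

theorem systemNormalizer_nilpotent {K : Nat.Primes → Subgroup G} (hK : Cfsg.IsComplementSystem K) :
    Group.IsNilpotent (Cfsg.systemNormalizer K) := by
  classical
  set D := Cfsg.systemNormalizer K
  refine ((Group.isNilpotent_of_finite_tfae (G := D)).out 0 3).2 fun p hp S => ?_
  haveI : Fact p.Prime := hp
  let s := ((Nat.card G).primeFactors.attach.image
    fun x => (⟨x.1, Nat.prime_of_mem_primeFactors x.2⟩ : Nat.Primes)).erase ⟨p, hp.out⟩
  set P : Subgroup G := ⨅ q ∈ s, K q with hPdef
  have hPi : ¬ p ∣ P.index := fun h => by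
    obtain ⟨q, hq, hqp⟩ := dvd_index_iInf hK s p hp.out h
    exact (Finset.mem_erase.1 hq).1 (Subtype.ext hqp)
  have hPp : IsPGroup p P := by
    obtain ⟨k, hk⟩ : ∃ k, Nat.card P = p ^ k := by
      refine ⟨_, Nat.eq_prime_pow_of_unique_prime_dvd Nat.card_pos.ne' fun {q} hq hd => ?_⟩
      by_contra hne
      have hqs : (⟨q, hq⟩ : Nat.Primes) ∈ s := Finset.mem_erase.2 ⟨fun e => hne (congrArg Subtype.val e),
        Finset.mem_image.2 ⟨⟨q, Nat.mem_primeFactors.2 ⟨hq, hd.trans P.card_subgroup_dvd_card,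
          Nat.card_pos.ne'⟩⟩, Finset.mem_attach _ _, rfl⟩⟩
      exact not_dvd_card hK ⟨q, hq⟩ (hd.trans (card_dvd_of_le (iInf₂_le (⟨q, hq⟩ : Nat.Primes) hqs)))
    exact IsPGroup.of_card hk
  set T : Sylow p G := hPp.toSylow hPi
  have hT : (T : Subgroup G) = P := rfl
  have hDT : D ≤ normalizer (P : Set G) := fun d hd => by
    rw [← map_conj_eq_self_iff]
    refine eq_of_le_of_card_ge ?_ (card_map_conj P d).ge
    refine le_iInf₂ fun q hq => ?_
    rw [← conjMap_eq_self (mem_systemNormalizer.1 hd q)]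
    exact map_mono (iInf₂_le q hq)
  -- the Sylow subgroup of `D` is `D ⊓ P`
  have hST : (S : Subgroup D).map D.subtype ≤ P := by
    have h1 := (S.2.map D.subtype).inf_normalizer_sylow T
    have hle : (S : Subgroup D).map D.subtype ≤ normalizer (T : Set G) := (map_subtype_le _).trans hDT
    rw [inf_eq_left.2 hle] at h1
    exact h1.le.trans inf_le_right
  have hSeq : P.subgroupOf D = S := S.3 (hPp.comap_subtype) fun x hx => hST ⟨x, hx, rfl⟩
  rw [← hSeq]
  refine ⟨fun x hx d => ?_⟩
  exact (mem_normalizer_iff.1 (hDT d.2) _).1 hx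

theorem systemNormalizer_map [Group.IsSolvable G] {K : Nat.Primes → Subgroup G}
    (hK : Cfsg.IsComplementSystem K) (N : Subgroup G) [N.Normal] :
    Cfsg.systemNormalizer (fun p => (K p).map (QuotientGroup.mk' N)) =
      (Cfsg.systemNormalizer K).map (QuotientGroup.mk' N) := by
  refine le_antisymm ?_ ?_
  · intro q hq
    obtain ⟨g, rfl⟩ := QuotientGroup.mk'_surjective N q
    rw [mem_systemNormalizer] at hq
    have h1 : ∀ p, (MulAut.conj g • K p) ⊔ N = K p ⊔ N := fun p => by
      have h2 : conjMap (QuotientGroup.mk' N g) ((K p).map (QuotientGroup.mk' N)) = (K p).map (QuotientGroup.mk' N) :=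
        conjMap_eq_self (hq p)
      rw [← map_conjMap] at h2
      have h3 := congrArg (Subgroup.comap (QuotientGroup.mk' N)) h2
      rwa [comap_map_eq, comap_map_eq, QuotientGroup.ker_mk'] at h3
    obtain ⟨n, hn, hn'⟩ := exists_conj_system N (conj_system hK g) hK h1
    refine ⟨n * g, mem_systemNormalizer.2 fun p => map_conj_eq_self_iff.1 ?_, ?_⟩
    · have := hn' p
      rwa [smul_smul, ← map_mul] at this
    · rw [map_mul, show QuotientGroup.mk' N n = 1 from (QuotientGroup.eq_one_iff n).2 hn, one_mul]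
  · rintro _ ⟨g, hg, rfl⟩
    refine mem_systemNormalizer.2 fun p => ?_
    refine le_normalizer_map (QuotientGroup.mk' N) ⟨g, mem_systemNormalizer.1 hg p, rfl⟩

/-- A noncentral minimal normal subgroup is avoided. -/
theorem minimal_inf_systemNormalizer [Group.IsSolvable G] {K : Nat.Primes → Subgroup G}
    (hK : Cfsg.IsComplementSystem K) {B : Subgroup G} [B.Normal] (hB : B ≠ ⊥)
    (hmin : ∀ M : Subgroup G, M.Normal → M ≤ B → M = ⊥ ∨ M = B) (hc : ¬ B ≤ center G) :
    B ⊓ Cfsg.systemNormalizer K = ⊥ := by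
  obtain ⟨-, p, hp, hBp, -⟩ := minimal_normal_solvable inferInstance hB hmin
  haveI := Fact.mk hp
  set C := centralizer (B : Set G)
  have hC : C ≠ ⊤ := fun e => hc fun b hb => mem_center_iff.2 fun g => ((e.ge (mem_top g)) b hb).symm
  haveI : Nontrivial (G ⧸ C) := by
    rw [← Finite.one_lt_card_iff_nontrivial, ← index_eq_card]
    exact lt_of_le_of_ne (Nat.one_le_iff_ne_zero.2 index_ne_zero_of_finite)
      fun e => hC (index_eq_one.1 e.symm)
  obtain ⟨M', -, hM'n, hM'b, hM'min⟩ := exists_minimal_normal (inferInstance : (⊤ : Subgroup (G ⧸ C)).Normal) top_ne_bot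
  haveI := hM'n
  obtain ⟨-, q, hq, hM'q, -⟩ := minimal_normal_solvable inferInstance hM'b hM'min
  haveI := Fact.mk hq
  set M := M'.comap (QuotientGroup.mk' C)
  haveI hMn : M.Normal := hM'n.comap _
  have hMC : ¬ M ≤ C := fun hle => hM'b (by
    rw [← map_comap_eq_self_of_surjective (QuotientGroup.mk'_surjective C) M', Subgroup.map_eq_bot_iff,
      QuotientGroup.ker_mk']
    exact hle)
  -- the fixed points of `M` on `B`
  set W := B ⊓ centralizer (M : Set G)
  have hW : W = ⊥ := (hmin W inferInstance inf_le_left).resolve_right fun e =>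
    hMC fun m hm b hb => ((inf_eq_left.1 e hb) m hm).symm
  have hqp : q ≠ p := by
    rintro rfl
    -- a Sylow subgroup of `M` covers `M / C` and fixes a point of `B`
    obtain ⟨S⟩ : Nonempty (Sylow q M) := inferInstance
    set S0 := (S : Subgroup M).map M.subtype
    have hMs : M ≤ C ⊔ S0 := by
      intro m hm
      obtain ⟨k, hk⟩ : ∃ k, (C.subgroupOf M).index = q ^ k := by
        obtain ⟨k, hk⟩ := hM'q.exists_card_eq
        refine ⟨k, ?_⟩
        rw [← hk, ← map_comap_eq_self_of_surjective (QuotientGroup.mk'_surjective C) M', ← relIndex_ker,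
          QuotientGroup.ker_mk']
        rfl
      obtain ⟨c, hc', s, hs, hcs⟩ := mem_sup_of_normal_left.1
        ((sup_sylow_eq_top hk S).ge (mem_top (⟨m, hm⟩ : M)))
      rw [show m = (c : G) * s from (congrArg Subtype.val hcs).symm]
      exact mul_mem (mem_sup_left hc') (mem_sup_right ⟨s, hs, rfl⟩)
    set R := B ⊔ S0
    have hRp : IsPGroup q R := hBp.to_sup_of_normal_left' (S.2.map M.subtype) le_normalizer_of_normal
    haveI : (B.subgroupOf R).Normal := inferInstance
    obtain ⟨z, hz, hzc, hzo⟩ := Cfsg.Lib.PGroups.exists_mem_center_of_normal_ne_bot hRp (N := B.subgroupOf R)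
      (fun e => hB (by rw [← map_subgroupOf_eq_of_le (le_sup_left : B ≤ R), e, Subgroup.map_bot]))
    have hzW : (z : G) ∈ W := ⟨hz, fun m hm => by
      obtain ⟨c, hc', s, hs, rfl⟩ := mem_sup_of_normal_left.1 (hMs hm)
      have h1 : c * (z : G) = z * c := (hc' z hz).symm
      have h2 : s * (z : G) = z * s :=
        congrArg Subtype.val (mem_center_iff.1 hzc ⟨s, mem_sup_right hs⟩)
      rw [mul_assoc, h2, ← mul_assoc, h1, mul_assoc]⟩
    rw [hW, mem_bot, OneMemClass.coe_eq_one] at hzW
    rw [hzW, orderOf_one] at hzo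
    exact hq.ne_one hzo.symm
  have hKM : M ≤ K ⟨p, hp⟩ ⊔ C := by
    have hHall := isPiHall_system (map_system hK (QuotientGroup.mk' C) (QuotientGroup.mk'_surjective C)) ⟨p, hp⟩
    obtain ⟨g, hg⟩ := le_conj_piHall hHall (K := M') (fun r hr hd => by
      obtain ⟨k, hk⟩ := hM'q.exists_card_eq
      rw [(Nat.prime_dvd_prime_iff_eq hr hq).1 (hr.dvd_of_dvd_pow (hk ▸ hd))]
      exact hqp)
    have hM'K : M' ≤ (K ⟨p, hp⟩).map (QuotientGroup.mk' C) := fun x hx => by
      have h1 := hg (hM'n.conj_mem x hx g)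
      rw [mem_conjMap] at h1
      simpa [mul_assoc] using h1
    exact (comap_mono hM'K).trans (by rw [comap_map_eq, QuotientGroup.ker_mk'])
  rw [eq_bot_iff, ← hW]
  rintro b ⟨hbB, hbD⟩
  refine ⟨hbB, fun m hm => ?_⟩
  obtain ⟨k, hk, c, hc', rfl⟩ := mem_sup_of_normal_right.1 (hKM hm)
  have h1 : c * b = b * c := (hc' b hbB).symm
  have h2 : k * b = b * k := by
    have hbn := mem_systemNormalizer.1 hbD ⟨p, hp⟩
    have h3 : ⁅b, k⁆ ∈ B ⊓ K ⟨p, hp⟩ := by
      refine Subgroup.mem_inf.2 ⟨?_, ?_⟩
      · rw [commutatorElement_def, mul_assoc b k, mul_assoc b]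
        exact mul_mem hbB (‹B.Normal›.conj_mem _ (inv_mem hbB) k)
      · rw [commutatorElement_def]
        exact mul_mem ((mem_normalizer_iff.1 hbn k).1 hk) (inv_mem hk)
    rw [Cfsg.Lib.Coprime.inf_eq_bot_of_coprime (by
      obtain ⟨j, hj⟩ := hBp.exists_card_eq
      rw [hj]
      exact Nat.Coprime.pow_left j (hp.coprime_iff_not_dvd.2 (not_dvd_card hK ⟨p, hp⟩))), mem_bot] at h3
    exact (commutatorElement_eq_one_iff_mul_comm.1 h3).symm
  rw [mul_assoc, h1, ← mul_assoc, h2, mul_assoc]

theorem chief_factor [Group.IsSolvable G] {K : Nat.Primes → Subgroup G} (hK : Cfsg.IsComplementSystem K)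
    (A B : Subgroup G) [A.Normal] [B.Normal] (hAB : A < B)
    (hchief : ∀ N : Subgroup G, N.Normal → A ≤ N → N ≤ B → N = A ∨ N = B) :
    (⁅B, (⊤ : Subgroup G)⁆ ≤ A → B ≤ A ⊔ Cfsg.systemNormalizer K) ∧
      (¬ ⁅B, (⊤ : Subgroup G)⁆ ≤ A → B ⊓ Cfsg.systemNormalizer K ≤ A) := by
  set f := QuotientGroup.mk' A
  have hf := QuotientGroup.mk'_surjective A
  haveI : (B.map f).Normal := ‹B.Normal›.map f hf
  have hcen : B.map f ≤ center (G ⧸ A) ↔ ⁅B, (⊤ : Subgroup G)⁆ ≤ A := by
    rw [← commutator_top_right_eq_bot_iff_le_center, ← map_top_of_surjective f hf, ← map_commutator,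
      Subgroup.map_eq_bot_iff, QuotientGroup.ker_mk']
  have hmapD := systemNormalizer_map hK A
  constructor
  · intro h
    have h1 : B.map f ≤ Cfsg.systemNormalizer (fun p => (K p).map f) :=
      (hcen.2 h).trans fun z hz => mem_systemNormalizer.2 fun p => center_le_normalizer _ hz
    rw [hmapD] at h1
    have h2 := map_le_iff_le_comap.1 h1
    rwa [comap_map_eq, QuotientGroup.ker_mk', sup_comm] at h2
  · intro h b hb
    have hbot := minimal_inf_systemNormalizer (map_system hK f hf) (B := B.map f) (fun e => hAB.not_ge (by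
        rwa [Subgroup.map_eq_bot_iff, QuotientGroup.ker_mk'] at e)) (fun M hM hMB => by
      haveI := hM
      rcases hchief (M.comap f) (hM.comap f) (fun a ha => by
          show f a ∈ M
          rw [show f a = 1 from (QuotientGroup.eq_one_iff a).2 ha]; exact one_mem M)
        ((comap_mono hMB).trans (by rw [comap_map_eq, QuotientGroup.ker_mk', sup_eq_left.2 hAB.le])) with e | e
      · left
        rw [← map_comap_eq_self_of_surjective hf M, e, Subgroup.map_eq_bot_iff, QuotientGroup.ker_mk']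
      · right
        rw [← map_comap_eq_self_of_surjective hf M, e]) (fun h' => h (hcen.1 h'))
    have h1 : f b ∈ B.map f ⊓ Cfsg.systemNormalizer (fun p => (K p).map f) :=
      Subgroup.mem_inf.2 ⟨⟨b, hb.1, rfl⟩, hmapD.ge ⟨b, hb.2, rfl⟩⟩
    rw [hbot, mem_bot] at h1
    exact (QuotientGroup.eq_one_iff b).1 h1

theorem normalClosure_systemNormalizer [Group.IsSolvable G] {K : Nat.Primes → Subgroup G}
    (hK : Cfsg.IsComplementSystem K) :
    normalClosure ((Cfsg.systemNormalizer K : Subgroup G) : Set G) = ⊤ := by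
  set Nc := normalClosure ((Cfsg.systemNormalizer K : Subgroup G) : Set G)
  by_contra hne
  obtain ⟨M, -, hM⟩ := Finite.exists_le_maximal (p := fun M : Subgroup G => M.Normal ∧ M ≠ ⊤ ∧ Nc ≤ M)
    (a := Nc) ⟨normalClosure_normal, hne, le_rfl⟩
  obtain ⟨hMn, hMt, hNM⟩ := hM.prop
  haveI := hMn
  have hcomm : commutator G ≤ M := by
    by_contra hle
    have htop : commutator G ⊔ M = ⊤ := by
      by_contra hne'
      exact hle (le_sup_left.trans (hM.le_of_ge (y := commutator G ⊔ M)
        ⟨inferInstance, hne', hNM.trans le_sup_right⟩ le_sup_right))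
    haveI : Nontrivial (G ⧸ M) := by
      rw [← Finite.one_lt_card_iff_nontrivial, ← index_eq_card]
      exact lt_of_le_of_ne (Nat.one_le_iff_ne_zero.2 index_ne_zero_of_finite)
        fun e => hMt (index_eq_one.1 e.symm)
    refine (Group.IsSolvable.commutator_lt_top_of_nontrivial (G ⧸ M)).ne ?_
    rw [_root_.commutator_def, ← map_top_of_surjective _ (QuotientGroup.mk'_surjective M), ← map_commutator,
      ← _root_.commutator_def]
    refine le_antisymm (map_mono le_top) ?_
    rintro _ ⟨g, -, rfl⟩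
    obtain ⟨c, hc, m, hm, rfl⟩ := mem_sup_of_normal_right.1 (htop.ge (mem_top g))
    exact ⟨c, hc, by simp [map_mul, show QuotientGroup.mk' M m = 1 from (QuotientGroup.eq_one_iff m).2 hm]⟩
  have h1 := (chief_factor hK M ⊤ (lt_top_iff_ne_top.2 hMt) fun N hN hMN _ => by
    by_cases hNt : N = ⊤
    · exact Or.inr hNt
    · exact Or.inl (le_antisymm (hM.le_of_ge ⟨hN, hNt, hNM.trans hMN⟩ hMN) hMN)).1
      (by rw [← _root_.commutator_def]; exact hcomm)
  exact hMt (top_le_iff.1 (h1.trans (sup_le le_rfl (subset_normalClosure.trans hNM))))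

end Cfsg.Lib.Systems
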