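/-
Core-free maximal subgroups and Carter subgroups of finite solvable groups.
-/
import Cfsg.Agent.SolvStruct.SystemNormalizer
import Cfsg.Agent.Splitting.Basic

set_option linter.style.haveILetI false
set_option linter.unusedSectionVars false

namespace Cfsg.Lib.Carter

open Subgroup Cfsg.Lib.Transfer Cfsg.Lib.Coprime
open scoped Pointwise commutatorElement

universe u

variable {G : Type u} [Group G] [Finite G]

theorem complement_coatom (N C : Subgroup G) [N.Normal] (hNc : IsMulCommutative N)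
    (hmin : ∀ M : Subgroup G, M.Normal → M ≤ N → M = ⊥ ∨ M = N) (hsup : C ⊔ N = ⊤) (hC : C ≠ ⊤) :
    IsCoatom C ∧ C ⊓ N = ⊥ := by
  have key : ∀ L : Subgroup G, C ≤ L → L ≠ ⊤ → L ⊓ N = ⊥ := fun L hCL hL => by
    refine (hmin _ ?_ inf_le_right).resolve_right fun e =>
      hL (top_le_iff.1 (hsup.ge.trans (sup_le hCL (e ▸ inf_le_left))))
    refine ⟨fun x hx g => ?_⟩
    obtain ⟨c, hc, n, hn, rfl⟩ := mem_sup_of_normal_right.1 (hsup.ge (mem_top g))
    have h1 : n * x * n⁻¹ = x := by
      have h2 : n * x = x * n := congrArg Subtype.val (mul_comm' (⟨n, hn⟩ : N) ⟨x, hx.2⟩)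
      rw [h2, mul_inv_cancel_right]
    rw [show c * n * x * (c * n)⁻¹ = c * (n * x * n⁻¹) * c⁻¹ by group, h1]
    exact Subgroup.mem_inf.2 ⟨mul_mem (mul_mem (hCL hc) hx.1) (inv_mem (hCL hc)), ‹N.Normal›.conj_mem x hx.2 c⟩
  refine ⟨⟨hC, fun L hL => by_contra fun hLt => hL.not_ge fun x hx => ?_⟩, key C le_rfl hC⟩
  obtain ⟨c, hc, n, hn, rfl⟩ := mem_sup_of_normal_right.1 (hsup.ge (mem_top x))
  have hn' : n ∈ L ⊓ N := ⟨by simpa using mul_mem (inv_mem (hL.le hc)) hx, hn⟩
  rw [key L hL.le hLt, mem_bot] at hn'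
  rwa [hn', mul_one]

theorem corefree_maximal_conj [Group.IsSolvable G] (U V : Subgroup G) (hU : IsCoatom U) (hV : IsCoatom V)
    (hUc : U.normalCore = ⊥) (hVc : V.normalCore = ⊥) : ∃ g : G, MulAut.conj g • U = V := by
  haveI : Nontrivial G := by
    by_contra h
    rw [not_nontrivial_iff_subsingleton] at h
    exact hU.1 (Subsingleton.elim _ _)
  by_cases hUb : U = ⊥
  · refine ⟨1, ?_⟩
    rw [map_one, one_smul, hUb]
    exact (hV.2 ⊥ |> fun _ => (by
      by_contra hne
      exact hV.1 ((hUb ▸ hU).2 V (bot_lt_iff_ne_bot.2 (Ne.symm hne)))))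
  obtain ⟨N, -, hNn, hNb, hNmin⟩ := exists_minimal_normal (inferInstance : (⊤ : Subgroup G).Normal) top_ne_bot
  haveI := hNn
  obtain ⟨hNc, p, hp, hNp, -⟩ := minimal_normal_solvable inferInstance hNb hNmin
  haveI := Fact.mk hp
  have hcompl : ∀ W : Subgroup G, IsCoatom W → W.normalCore = ⊥ → W ⊔ N = ⊤ ∧ W ⊓ N = ⊥ := fun W hW hWc => by
    have hs : W ⊔ N = ⊤ := hW.2 _ (left_lt_sup.2 fun hle => hNb (le_bot_iff.1 (hWc ▸
      (normal_le_normalCore.2 hle))))
    exact ⟨hs, (complement_coatom N W hNc hNmin hs hW.1).2⟩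
  obtain ⟨hUN, hUi⟩ := hcompl U hU hUc
  obtain ⟨hVN, hVi⟩ := hcompl V hV hVc
  -- `C(N) = N`
  have hCN : centralizer (N : Set G) ≤ N := by
    intro x hx
    obtain ⟨u, hu, n, hn, rfl⟩ := mem_sup_of_normal_right.1 (hUN.ge (mem_top x))
    have hu' : u ∈ U ⊓ centralizer (N : Set G) := ⟨hu, by
      simpa using mul_mem hx (inv_mem (N.le_centralizer hn))⟩
    have hn' : (U ⊓ centralizer (N : Set G)).Normal := by
      refine ⟨fun w hw g => ?_⟩
      obtain ⟨a, ha, m, hm, rfl⟩ := mem_sup_of_normal_right.1 (hUN.ge (mem_top g))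
      have h1 : m * w * m⁻¹ = w := by rw [hw.2 m hm, mul_inv_cancel_right]
      rw [show a * m * w * (a * m)⁻¹ = a * (m * w * m⁻¹) * a⁻¹ by group, h1]
      exact Subgroup.mem_inf.2 ⟨mul_mem (mul_mem ha hw.1) (inv_mem ha),
        (inferInstance : (centralizer (N : Set G)).Normal).conj_mem w hw.2 a⟩
    have h2 : U ⊓ centralizer (N : Set G) ≤ U.normalCore := by
      haveI := hn'
      exact normal_le_normalCore.2 inf_le_left
    have h3 := h2 hu'
    rw [hUc, mem_bot] at h3
    rwa [h3, one_mul]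
  -- a minimal normal subgroup over `N`
  haveI : Nontrivial (G ⧸ N) := by
    rw [← Finite.one_lt_card_iff_nontrivial, ← index_eq_card]
    refine lt_of_le_of_ne (Nat.one_le_iff_ne_zero.2 index_ne_zero_of_finite) fun e => hUb ?_
    rw [index_eq_one.1 e.symm, inf_top_eq] at hUi
    exact hUi
  obtain ⟨M', -, hM'n, hM'b, hM'min⟩ := exists_minimal_normal (inferInstance : (⊤ : Subgroup (G ⧸ N)).Normal) top_ne_bot
  haveI := hM'n
  obtain ⟨-, q, hq, hM'q, -⟩ := minimal_normal_solvable inferInstance hM'b hM'min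
  haveI := Fact.mk hq
  set M := M'.comap (QuotientGroup.mk' N)
  haveI hMn : M.Normal := hM'n.comap _
  have hNM : N ≤ M := fun n hn => by
    show QuotientGroup.mk' N n ∈ M'
    rw [show QuotientGroup.mk' N n = 1 from (QuotientGroup.eq_one_iff n).2 hn]; exact one_mem _
  have hMN : ¬ M ≤ N := fun hle => hM'b (by
    rw [← map_comap_eq_self_of_surjective (QuotientGroup.mk'_surjective N) M', Subgroup.map_eq_bot_iff,
      QuotientGroup.ker_mk']
    exact hle)
  obtain ⟨k, hk⟩ : ∃ k, N.relIndex M = q ^ k := by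
    obtain ⟨k, hk⟩ := hM'q.exists_card_eq
    exact ⟨k, by rw [← hk, ← map_comap_eq_self_of_surjective (QuotientGroup.mk'_surjective N) M', ← relIndex_ker,
      QuotientGroup.ker_mk']⟩
  have hqp : q ≠ p := by
    rintro rfl
    -- `M` is a `q`-group and centralises a nontrivial part of `N`
    have hMp : IsPGroup q M := by
      obtain ⟨i, hi⟩ := hNp.exists_card_eq
      refine IsPGroup.of_card (n := i + k) ?_
      have := relIndex_mul_relIndex (⊥ : Subgroup G) N M bot_le hNM
      rw [relIndex_bot_left, relIndex_bot_left, hi, hk] at this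
      rw [← this, pow_add]
    obtain ⟨z, hz, hzc, hzo⟩ := Cfsg.Lib.PGroups.exists_mem_center_of_normal_ne_bot hMp (N := N.subgroupOf M)
      (fun e => hNb (by rw [← map_subgroupOf_eq_of_le hNM, e, Subgroup.map_bot]))
    have hmem : (z : G) ∈ N ⊓ centralizer (M : Set G) :=
      ⟨hz, fun m hm => congrArg Subtype.val (mem_center_iff.1 hzc ⟨m, hm⟩)⟩
    rcases hNmin _ inferInstance (inf_le_left : N ⊓ centralizer (M : Set G) ≤ N) with e | e
    · rw [e, mem_bot, OneMemClass.coe_eq_one] at hmem
      rw [hmem, orderOf_one] at hzo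
      exact hq.ne_one hzo.symm
    · exact hMN fun m hm => hCN fun n hn => ((inf_eq_left.1 e hn) m hm).symm
  -- complements of `N` in `M` are Sylow subgroups
  have hsyl : ∀ W : Subgroup G, W ⊔ N = ⊤ → W ⊓ N = ⊥ → ∃ S : Sylow q M,
      (S : Subgroup M).map M.subtype = W ⊓ M ∧ W ⊓ M ≠ ⊥ := by
    intro W hs hi
    have hsupM : N ⊔ (W ⊓ M) = M := by
      refine le_antisymm (sup_le hNM inf_le_right) fun x hx => ?_
      obtain ⟨w, hw, n, hn, rfl⟩ := mem_sup_of_normal_right.1 (hs.ge (mem_top x))
      refine mul_mem (mem_sup_right ⟨hw, ?_⟩) (mem_sup_left hn)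
      simpa using mul_mem hx (inv_mem (hNM hn))
    have hinf : N ⊓ (W ⊓ M) = ⊥ := le_bot_iff.1 (hi ▸ le_inf (inf_le_right.trans inf_le_left) inf_le_left)
    have hcard := card_sup_of_inf_eq_bot (N := N) (H := W ⊓ M) le_normalizer_of_normal hinf
    rw [hsupM] at hcard
    have hWc : Nat.card ↥(W ⊓ M) = q ^ k := by
      have h2 := relIndex_mul_relIndex (⊥ : Subgroup G) N M bot_le hNM
      rw [relIndex_bot_left, relIndex_bot_left, hk, hcard] at h2
      exact (Nat.eq_of_mul_eq_mul_left Nat.card_pos h2).symm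
    have hWp : IsPGroup q ↥(W ⊓ M) := IsPGroup.of_card hWc
    have hWi : ¬ q ∣ ((W ⊓ M).subgroupOf M).index := by
      intro hd
      have h3 := ((W ⊓ M).subgroupOf M).card_mul_index
      rw [Nat.card_congr (subgroupOfEquivOfLe (inf_le_right : W ⊓ M ≤ M)).toEquiv, hcard, hWc,
        mul_comm (Nat.card N)] at h3
      rw [Nat.eq_of_mul_eq_mul_left (pow_pos hq.pos k) h3] at hd
      obtain ⟨i, hi'⟩ := hNp.exists_card_eq
      rw [hi'] at hd
      exact hqp ((Nat.prime_dvd_prime_iff_eq hq hp).1 (hq.dvd_of_dvd_pow hd))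
    refine ⟨(hWp.comap_subtype (K := M)).toSylow hWi, map_subgroupOf_eq_of_le inf_le_right, fun e => hMN ?_⟩
    rw [← hsupM, e, sup_bot_eq]
  obtain ⟨S, hS, hSb⟩ := hsyl U hUN hUi
  obtain ⟨T, hT, hTb⟩ := hsyl V hVN hVi
  obtain ⟨m, hm⟩ := MulAction.exists_smul_eq M S T
  have hconj : MulAut.conj (m : G) • (U ⊓ M) = V ⊓ M := by
    rw [← hS, ← hT, ← hm, sylow_smul_coe, map_map]
    show ((S : Subgroup M).map M.subtype).map (MulAut.conj (m : G)).toMonoidHom = _
    rw [map_map]
    rfl
  refine ⟨m, ?_⟩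
  -- both are normalizers of the Sylow subgroups
  have hnorm : ∀ W : Subgroup G, IsCoatom W → W.normalCore = ⊥ → W ⊓ M ≠ ⊥ →
      normalizer ((W ⊓ M : Subgroup G) : Set G) = W := fun W hW hWc hb => by
    refine ((hW.le_iff).1 fun w hw => ?_).resolve_left fun e => hb ?_
    · rw [← conjMap_eq_self_iff, conjMap_inf, conjMap_eq_self (le_normalizer hw),
        conjMap_eq_self (le_normalizer_of_normal (mem_top w) : w ∈ normalizer (M : Set G))]
    · haveI := normalizer_eq_top_iff.1 e
      exact le_bot_iff.1 (hWc ▸ normal_le_normalCore.2 inf_le_left)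
  have h1 := congrArg (fun W : Subgroup G => normalizer (W : Set G)) hconj
  rw [show MulAut.conj (m : G) • (U ⊓ M) = conjMap (m : G) (U ⊓ M) from rfl, normalizer_conjMap,
    hnorm U hU hUc hSb, hnorm V hV hVc hTb] at h1
  exact h1

theorem carter_subgroupOf {C H : Subgroup G} (hC : Cfsg.IsCarterSubgroup C) (h : C ≤ H) :
    Cfsg.IsCarterSubgroup (C.subgroupOf H) := by
  obtain ⟨h1, h2⟩ := hC
  refine ⟨?_, ?_⟩
  · haveI := h1
    exact Group.nilpotent_of_surjective (subgroupOfEquivOfLe h).symm.toMonoidHom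
      (subgroupOfEquivOfLe h).symm.surjective
  · rw [← subgroupOf_normalizer_eq h, h2]

theorem eq_top_of_nilpotent [Group.IsNilpotent G] {C : Subgroup G} (hC : Cfsg.IsCarterSubgroup C) : C = ⊤ := by
  by_contra hne
  exact (Group.normalizerCondition_of_isNilpotent C (lt_top_iff_ne_top.2 hne)).ne' hC.2

theorem carter_conjMap {C : Subgroup G} (hC : Cfsg.IsCarterSubgroup C) (g : G) :
    Cfsg.IsCarterSubgroup (conjMap g C) := by
  obtain ⟨h1, h2⟩ := hC
  refine ⟨?_, by rw [normalizer_conjMap, h2]⟩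
  haveI := h1
  exact Group.nilpotent_of_surjective ((MulAut.conj g).subgroupMap C).toMonoidHom
    ((MulAut.conj g).subgroupMap C).surjective

theorem nilpotent_of_le {C H : Subgroup G} (h : C ≤ H) (hH : Group.IsNilpotent H) : Group.IsNilpotent C := by
  haveI := hH
  exact Group.nilpotent_of_surjective (subgroupOfEquivOfLe h).toMonoidHom (subgroupOfEquivOfLe h).surjective

/-- The image of a Carter subgroup, given conjugacy inside proper subgroups. -/
theorem carter_map_aux (N : Subgroup G) [N.Normal] {C : Subgroup G} (hC : Cfsg.IsCarterSubgroup C)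
    (hconj : C ⊔ N ≠ ⊤ → ∀ A B : Subgroup ↥(C ⊔ N), Cfsg.IsCarterSubgroup A → Cfsg.IsCarterSubgroup B →
      ∃ g : ↥(C ⊔ N), conjMap g A = B) :
    Cfsg.IsCarterSubgroup (C.map (QuotientGroup.mk' N)) := by
  have hf := QuotientGroup.mk'_surjective N
  refine ⟨?_, le_antisymm ?_ le_normalizer⟩
  · haveI := hC.1
    exact Group.nilpotent_of_surjective ((QuotientGroup.mk' N).subgroupMap C)
      ((QuotientGroup.mk' N).subgroupMap_surjective C)
  intro x hx
  obtain ⟨g, rfl⟩ := hf x
  set H := C ⊔ N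
  have hcm : (C.map (QuotientGroup.mk' N)).comap (QuotientGroup.mk' N) = H := by
    rw [comap_map_eq, QuotientGroup.ker_mk']
  suffices g ∈ H by
    rw [← hcm] at this
    exact this
  have hgH : conjMap g H = H := by
    have h1 := conjMap_eq_self hx
    rw [← map_conjMap] at h1
    have h2 := congrArg (Subgroup.comap (QuotientGroup.mk' N)) h1
    rw [comap_map_eq, comap_map_eq, QuotientGroup.ker_mk'] at h2
    rw [conjMap_sup, conjMap_eq_self (le_normalizer_of_normal (mem_top g) : g ∈ normalizer (N : Set G))]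
    exact h2
  by_cases hH : H = ⊤
  · rw [hH]; exact mem_top g
  have hCg : conjMap g C ≤ H := hgH ▸ conjMap_mono le_sup_left
  obtain ⟨h, hh⟩ := hconj hH _ _ (carter_subgroupOf (carter_conjMap hC g) hCg)
    (carter_subgroupOf hC le_sup_left)
  have hh' : conjMap (h : G) (conjMap g C) = C := by
    have hm := congrArg (Subgroup.map H.subtype) hh
    rw [map_conjMap, map_subgroupOf_eq_of_le hCg, map_subgroupOf_eq_of_le le_sup_left] at hm
    exact hm
  rw [conjMap_mul] at hh'
  have h3 : (h : G) * g ∈ C := hC.2 ▸ conjMap_eq_self_iff.1 hh'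
  simpa using mul_mem (inv_mem h.2) (mem_sup_left (T := N) h3)

theorem carter_aux (n : ℕ) : ∀ (G : Type u) [Group G] [Finite G] [Group.IsSolvable G], Nat.card G = n →
    (∃ C : Subgroup G, Cfsg.IsCarterSubgroup C) ∧
      ∀ C D : Subgroup G, Cfsg.IsCarterSubgroup C → Cfsg.IsCarterSubgroup D → ∃ g : G, conjMap g C = D := by
  induction n using Nat.strong_induction_on with
  | _ n ih =>
  intro G _ _ _ hn
  by_cases hnil : Group.IsNilpotent G
  · refine ⟨⟨⊤, ⟨Group.isNilpotent_top.2 hnil, top_le_iff.1 le_normalizer⟩⟩, fun C D hC hD => ⟨1, ?_⟩⟩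
    rw [conjMap_one, eq_top_of_nilpotent hC, eq_top_of_nilpotent hD]
  haveI : Nontrivial G := by
    by_contra h
    rw [not_nontrivial_iff_subsingleton] at h
    exact hnil inferInstance
  have hsub : ∀ H : Subgroup G, H ≠ ⊤ → _ := fun H hH =>
    ih _ (hn ▸ lt_of_le_of_ne (card_le_card_group H) fun e => hH (card_eq_iff_eq_top H |>.1 e)) H rfl
  have hquot : ∀ N : Subgroup G, [N.Normal] → N ≠ ⊥ → _ := fun N _ hN =>
    ih _ (hn ▸ card_quotient_lt hN) (G ⧸ N) rfl
  have himage : ∀ (N : Subgroup G) [N.Normal] (C : Subgroup G), Cfsg.IsCarterSubgroup C →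
      Cfsg.IsCarterSubgroup (C.map (QuotientGroup.mk' N)) := fun N _ C hC =>
    carter_map_aux N hC fun h => (hsub _ h).2
  obtain ⟨N, -, hNn, hNb, hNmin⟩ := exists_minimal_normal (inferInstance : (⊤ : Subgroup G).Normal) top_ne_bot
  haveI := hNn
  obtain ⟨hNc, p, hp, hNp, -⟩ := minimal_normal_solvable inferInstance hNb hNmin
  obtain ⟨⟨C', hC'⟩, hconjQ⟩ := hquot N hNb
  set f := QuotientGroup.mk' N
  have hf := QuotientGroup.mk'_surjective N
  constructor
  · set H := C'.comap f
    by_cases hH : H = ⊤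
    · have hQ : Group.IsNilpotent (G ⧸ N) := by
        have hC'top : C' = ⊤ := comap_injective hf (hH.trans (comap_top f).symm)
        exact Group.isNilpotent_top.1 (hC'top ▸ hC'.1)
      obtain ⟨M, hM, hMn⟩ : ∃ M : Subgroup G, IsCoatom M ∧ ¬ M.Normal := by
        by_contra hall
        push Not at hall
        exact hnil (((Group.isNilpotent_of_finite_tfae (G := G)).out 0 2).2 hall)
      have hNM : ¬ N ≤ M := fun hle => hMn (by
        have hM' : IsCoatom (M.map f) := by
          refine ⟨fun e => hM.1 ?_, fun L hL => ?_⟩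
          · have h1 := congrArg (Subgroup.comap f) e
            rwa [comap_map_eq, QuotientGroup.ker_mk', sup_eq_left.2 hle, comap_top] at h1
          · have h1 : M < L.comap f := by
              refine lt_of_le_of_ne (map_le_iff_le_comap.1 hL.le) fun e => hL.ne ?_
              rw [e, map_comap_eq_self_of_surjective hf]
            exact comap_injective hf ((hM.2 _ h1).trans (comap_top f).symm)
        have h02 := (Group.isNilpotent_of_finite_tfae (G := G ⧸ N)).out 0 2
        have hn' : (M.map f).Normal := h02.1 hQ _ hM'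
        have h2 := hn'.comap f
        rwa [comap_map_eq, QuotientGroup.ker_mk', sup_eq_left.2 hle] at h2)
      have hs : M ⊔ N = ⊤ := hM.2 _ (left_lt_sup.2 hNM)
      have hi := (complement_coatom N M hNc hNmin hs hM.1).2
      refine ⟨M, ?_, ?_⟩
      · haveI := hQ
        refine Subgroup.isNilpotent_of_ker_le_center (f.comp M.subtype) ?_
        intro x hx
        have h1 : (x : G) ∈ M ⊓ N := ⟨x.2, (QuotientGroup.eq_one_iff (x : G)).1 hx⟩
        rw [hi, mem_bot, OneMemClass.coe_eq_one] at h1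
        rw [h1]; exact one_mem _
      · exact ((hM.le_iff).1 le_normalizer).resolve_left fun e => hMn (normalizer_eq_top_iff.1 e)
    · obtain ⟨⟨C, hC⟩, -⟩ := hsub H hH
      refine ⟨C.map H.subtype, ?_, le_antisymm ?_ le_normalizer⟩
      · haveI := hC.1
        exact Group.nilpotent_of_surjective (H.subtype.subgroupMap C) (H.subtype.subgroupMap_surjective C)
      intro g hg
      have hCm : ((C.map H.subtype).map f) = C' := by
        -- the image of `C` is Carter in the nilpotent group `C'`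
        have hle : (C.map H.subtype).map f ≤ C' :=
          map_le_iff_le_comap.2 (map_subtype_le C)
        set π : H →* C' := (f.comp H.subtype).codRestrict C' fun h => h.2
        have hπ : Function.Surjective π := fun c => by
          obtain ⟨y, hy⟩ := hf c
          exact ⟨⟨y, by show f y ∈ C'; rw [hy]; exact c.2⟩, Subtype.ext hy⟩
        haveI := hC'.1
        haveI : Group.IsSolvable H := inferInstance
        have hker : π.ker = N.subgroupOf H := by
          ext x
          rw [MonoidHom.mem_ker, Subgroup.mem_subgroupOf, ← QuotientGroup.eq_one_iff (x : G)]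
          exact ⟨fun e => congrArg Subtype.val e, fun e => Subtype.ext e⟩
        have htop : C ⊔ π.ker = ⊤ := by
          have h1 : Cfsg.IsCarterSubgroup (C.map (QuotientGroup.mk' π.ker)) :=
            carter_map_aux π.ker hC fun h => (ih _ (hn ▸ lt_of_le_of_lt (card_le_card_group _)
              (lt_of_le_of_ne (card_le_card_group H) fun e => hH (card_eq_iff_eq_top H |>.1 e))) _ rfl).2
          haveI : Group.IsNilpotent (H ⧸ π.ker) :=
            Group.nilpotent_of_surjective (QuotientGroup.quotientKerEquivOfSurjective π hπ).symm.toMonoidHom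
              (MulEquiv.surjective _)
          have h2 := congrArg (Subgroup.comap (QuotientGroup.mk' π.ker)) (eq_top_of_nilpotent h1)
          rwa [comap_map_eq, QuotientGroup.ker_mk', comap_top] at h2
        refine le_antisymm hle fun c hc => ?_
        obtain ⟨x, hx⟩ := hπ ⟨c, hc⟩
        obtain ⟨a, ha, b, hb, rfl⟩ := mem_sup_of_normal_right.1 (htop.ge (mem_top x))
        refine ⟨(a : G), ⟨a, ha, rfl⟩, ?_⟩
        have := congrArg Subtype.val hx
        rw [map_mul, show π b = 1 from hb, mul_one] at this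
        exact this
      have hgH : g ∈ H := by
        show f g ∈ C'
        rw [← hC'.2, ← hCm]
        exact le_normalizer_map f ⟨g, hg, rfl⟩
      have : (⟨g, hgH⟩ : H) ∈ normalizer (C : Set H) := mem_normalizer_iff.2 fun x => by
        have h1 := mem_normalizer_iff.1 hg x
        rwa [show g * (x : G) * g⁻¹ = H.subtype (⟨g, hgH⟩ * x * ⟨g, hgH⟩⁻¹) from rfl,
          show (x : G) = H.subtype x from rfl, mem_map_iff_mem H.subtype_injective,
          mem_map_iff_mem H.subtype_injective] at h1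
      rw [hC.2] at this
      exact ⟨_, this, rfl⟩
  · intro C D hC hD
    obtain ⟨q, hq⟩ := hconjQ _ _ (himage N C hC) (himage N D hD)
    obtain ⟨g, rfl⟩ := hf q
    rw [← map_conjMap] at hq
    have hH : conjMap g C ⊔ N = D ⊔ N := by
      have := congrArg (Subgroup.comap f) hq
      rwa [comap_map_eq, comap_map_eq, QuotientGroup.ker_mk'] at this
    suffices ∃ x : G, conjMap x (conjMap g C) = D by
      obtain ⟨x, hx⟩ := this
      exact ⟨x * g, by rw [← conjMap_mul]; exact hx⟩
    by_cases hHt : D ⊔ N = ⊤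
    swap
    · obtain ⟨x, hx⟩ := (hsub _ hHt).2 _ _ (carter_subgroupOf (carter_conjMap hC g) (hH ▸ le_sup_left))
        (carter_subgroupOf hD le_sup_left)
      refine ⟨x, ?_⟩
      have hm := congrArg (Subgroup.map (D ⊔ N).subtype) hx
      rwa [map_conjMap, map_subgroupOf_eq_of_le (hH ▸ le_sup_left), map_subgroupOf_eq_of_le le_sup_left] at hm
    have hne : ∀ A : Subgroup G, Cfsg.IsCarterSubgroup A → A ≠ ⊤ := fun A hA e =>
      hnil (Group.isNilpotent_top.1 (e ▸ hA.1))
    -- a Carter subgroup with nontrivial core is conjugate to all others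
    have hcore : ∀ A B : Subgroup G, Cfsg.IsCarterSubgroup A → Cfsg.IsCarterSubgroup B →
        A.normalCore ≠ ⊥ → ∃ x : G, conjMap x B = A := by
      intro A B hA hB hc
      obtain ⟨K, hKA, hKn, hKb, -⟩ := exists_minimal_normal (normalCore_normal A) hc
      haveI := hKn
      obtain ⟨q, hq⟩ := (hquot K hKb).2 _ _ (himage K B hB) (himage K A hA)
      obtain ⟨x, rfl⟩ := QuotientGroup.mk'_surjective K q
      rw [← map_conjMap] at hq
      have h1 := congrArg (Subgroup.comap (QuotientGroup.mk' K)) hq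
      rw [comap_map_eq, comap_map_eq, QuotientGroup.ker_mk',
        sup_eq_left.2 (hKA.trans (normalCore_le A))] at h1
      refine ⟨x, ?_⟩
      haveI := hA.1
      have hle : conjMap x B ≤ A := le_sup_left.trans h1.le
      have h2 := eq_top_of_nilpotent (carter_subgroupOf (carter_conjMap hB x) hle)
      exact le_antisymm hle (subgroupOf_eq_top.1 h2)
    have hC2 := carter_conjMap hC g
    by_cases h1 : (conjMap g C).normalCore = ⊥
    swap
    · obtain ⟨x, hx⟩ := hcore _ D hC2 hD h1
      exact ⟨x⁻¹, by rw [← hx, conjMap_inv_conjMap]⟩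
    by_cases h2 : D.normalCore = ⊥
    swap
    · exact hcore D _ hD hC2 h2
    obtain ⟨x, hx⟩ := corefree_maximal_conj (conjMap g C) D
      (complement_coatom N _ hNc hNmin (hH.trans hHt) (hne _ hC2)).1
      (complement_coatom N _ hNc hNmin hHt (hne _ hD)).1 h1 h2
    exact ⟨x, hx⟩

theorem exists_carter (G : Type u) [Group G] [Finite G] [Group.IsSolvable G] :
    ∃ C : Subgroup G, Cfsg.IsCarterSubgroup C :=
  (carter_aux _ G rfl).1

theorem carter_conj [Group.IsSolvable G] {C D : Subgroup G} (hC : Cfsg.IsCarterSubgroup C)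
    (hD : Cfsg.IsCarterSubgroup D) : ∃ g : G, conjMap g C = D :=
  (carter_aux _ G rfl).2 C D hC hD

theorem carter_map [Group.IsSolvable G] (N : Subgroup G) [N.Normal] {C : Subgroup G}
    (hC : Cfsg.IsCarterSubgroup C) : Cfsg.IsCarterSubgroup (C.map (QuotientGroup.mk' N)) :=
  carter_map_aux N hC fun _ _ _ hA hB => (carter_aux _ _ rfl).2 _ _ hA hB

end Cfsg.Lib.Carter
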