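/-
Minimal non-p-nilpotent and minimal non-nilpotent groups.
-/
import Cfsg.Agent.Transfer.Frobenius
import Cfsg.Agent.Coprime.Sylow
import Cfsg.Agent.PGroups.Basic
import Cfsg.Agent.Splitting.Basic
import Cfsg.Prelude.Def_SolvableStructure

set_option linter.style.haveILetI false
set_option linter.unusedSectionVars false

namespace Cfsg.Lib.Schmidt

open Subgroup Cfsg.Lib.Transfer
open scoped commutatorElement

universe u

variable {G : Type u} [Group G] [Finite G]

theorem exists_prime_power_mem (g : G) (C : Subgroup G) (hg : g ∉ C) :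
    ∃ y ∈ zpowers g, y ∉ C ∧ ∃ q k : ℕ, q.Prime ∧ orderOf y = q ^ k := by
  by_contra hno
  push Not at hno
  refine hg ?_
  have hle : zpowers g ≤ C := Cfsg.Lib.Coprime.le_of_forall_sylow fun q hq => by
    haveI := Fact.mk hq
    obtain ⟨S⟩ : Nonempty (Sylow q (zpowers g)) := inferInstance
    refine ⟨S, ?_⟩
    rintro _ ⟨s, hs, rfl⟩
    obtain ⟨j, hj⟩ := IsPGroup.iff_orderOf.mp S.2 ⟨s, hs⟩
    rw [Subgroup.orderOf_mk, ← Subgroup.orderOf_coe] at hj
    by_contra hsC
    exact hno s s.2 hsC q j hq hj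
  exact hle (mem_zpowers g)

/-- Itô: the structure of a minimal non-`p`-nilpotent group. -/
theorem exists_structure {p : ℕ} [hp : Fact p.Prime] (h1 : ¬ Cfsg.HasNormalPComplement p G)
    (h2 : ∀ H : Subgroup G, H ≠ ⊤ → Cfsg.HasNormalPComplement p H) :
    ∃ (P : Sylow p G) (g : G) (q k : ℕ), (P : Subgroup G).Normal ∧ q.Prime ∧ q ≠ p ∧ orderOf g = q ^ k ∧
      g ∉ centralizer ((P : Subgroup G) : Set G) ∧ (P : Subgroup G) ⊔ zpowers g = ⊤ := by
  obtain ⟨Q, hQ, g₀, hg₀, hcop, hg₀c⟩ : ∃ Q : Subgroup G, IsPGroup p Q ∧ ∃ g ∈ normalizer (Q : Set G),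
      (orderOf g).Coprime p ∧ g ∉ centralizer (Q : Set G) := by
    by_contra hno
    push Not at hno
    exact h1 (hasNormalPComplement_of_frobenius hno)
  obtain ⟨g, hgz, hgc, q, k, hq, hgo⟩ := exists_prime_power_mem g₀ _ hg₀c
  have hgN : g ∈ normalizer (Q : Set G) := (zpowers_le.2 hg₀) hgz
  have hgcop : (orderOf g).Coprime p := hcop.coprime_dvd_left (orderOf_dvd_of_mem_zpowers hgz)
  have hk0 : k ≠ 0 := fun e => hgc (by
    rw [e, pow_zero, orderOf_eq_one_iff] at hgo
    rw [hgo]; exact one_mem _)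
  have hqp : q ≠ p := by
    rintro rfl
    rw [hgo] at hgcop
    exact hq.not_dvd_one (hgcop ▸ Nat.dvd_gcd (dvd_pow_self q hk0) dvd_rfl)
  have htop : Q ⊔ zpowers g = ⊤ := by
    by_contra hne
    set H := Q ⊔ zpowers g
    have := centralize_of_hasNormalPComplement (h2 H hne) (Q.subgroupOf H) hQ.comap_subtype
      ⟨g, mem_sup_right (mem_zpowers g)⟩ ?_ (by rwa [Subgroup.orderOf_mk])
    · exact hgc fun x hx => congrArg Subtype.val (this ⟨x, mem_sup_left hx⟩ hx)
    · rw [Subgroup.mem_normalizer_iff]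
      intro y
      exact Subgroup.mem_normalizer_iff.1 hgN y
  haveI hQn : Q.Normal := normalizer_eq_top_iff.1 (top_le_iff.1
    (htop.ge.trans (sup_le le_normalizer (zpowers_le.2 hgN))))
  have hQi : ¬ p ∣ Q.index := by
    intro hd
    have h3 : Q.index ∣ Nat.card (zpowers g) := by
      rw [← relIndex_top_right, ← htop, sup_comm, relIndex_sup_right]
      exact relIndex_dvd_card _ _
    rw [Nat.card_zpowers] at h3
    exact hp.out.not_dvd_one (hgcop ▸ Nat.dvd_gcd (hd.trans h3) dvd_rfl)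
  exact ⟨hQ.toSylow hQi, g, q, k, hQn, hq, hqp, hgo, hgc, htop⟩

/-- A product of a normal Sylow `p`-subgroup and a normal `p`-complement is nilpotent when the latter is. -/
theorem isNilpotent_of_forall_normalPComplement
    (h : ∀ p : ℕ, [Fact p.Prime] → Cfsg.HasNormalPComplement p G) : Group.IsNilpotent G := by
  classical
  let ι := {p : ℕ // p ∈ (Nat.card G).primeFactors}
  have hN : ∀ i : ι, ∃ N : Subgroup G, N.Normal ∧ (Nat.card N).Coprime (i : ℕ) ∧ ∃ k, N.index = (i : ℕ) ^ k :=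
    fun i => by
      haveI := Fact.mk (Nat.prime_of_mem_primeFactors i.2)
      exact hasNormalPComplement_iff.1 (h (i : ℕ))
  choose N hNn hNc k hk using hN
  haveI := hNn
  haveI : ∀ i : ι, Group.IsNilpotent (G ⧸ N i) := fun i => by
    haveI := Fact.mk (Nat.prime_of_mem_primeFactors i.2)
    exact (isPGroup_quotient_of_index (N i) (hk i)).isNilpotent
  let f : G →* (∀ i : ι, G ⧸ N i) := Pi.monoidHom fun i => QuotientGroup.mk' (N i)
  refine Subgroup.isNilpotent_of_ker_le_center f fun x hx => ?_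
  have hx' : ∀ i : ι, x ∈ N i := fun i => (QuotientGroup.eq_one_iff x).1 (congrFun hx i)
  suffices x = 1 by rw [this]; exact one_mem _
  rw [← orderOf_eq_one_iff, Nat.eq_one_iff_not_exists_prime_dvd]
  intro r hr hd
  have hrG : r ∈ (Nat.card G).primeFactors :=
    Nat.mem_primeFactors.2 ⟨hr, hd.trans (orderOf_dvd_natCard x), Nat.card_pos.ne'⟩
  have h3 := orderOf_dvd_natCard (⟨x, hx' ⟨r, hrG⟩⟩ : N ⟨r, hrG⟩)
  rw [Subgroup.orderOf_mk] at h3
  exact hr.not_dvd_one ((Nat.dvd_gcd (hd.trans h3) dvd_rfl).trans (hNc ⟨r, hrG⟩).dvd)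

theorem minimal_non_p_nilpotent {p : ℕ} [hp : Fact p.Prime] (h1 : ¬ Cfsg.HasNormalPComplement p G)
    (h2 : ∀ H : Subgroup G, H ≠ ⊤ → Cfsg.HasNormalPComplement p H) :
    (∀ H : Subgroup G, H ≠ ⊤ → Group.IsNilpotent H) ∧ ¬ Group.IsNilpotent G ∧
      ∀ P : Sylow p G, (P : Subgroup G).Normal := by
  obtain ⟨P, g, q, k, hPn, hq, hqp, hgo, -, htop⟩ := exists_structure h1 h2
  haveI := hPn
  haveI := Fact.mk hq
  refine ⟨fun H hH => ?_, fun hn => h1 ?_, fun S => ?_⟩
  · refine isNilpotent_of_forall_normalPComplement fun r _ => ?_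
    by_cases hrp : r = p
    · subst hrp; exact h2 H hH
    by_cases hrq : r = q
    · subst hrq
      -- `P ⊓ H` is a normal `q`-complement
      refine hasNormalPComplement_iff.2 ⟨(P : Subgroup G).subgroupOf H, inferInstance, ?_, ?_⟩
      · obtain ⟨j, hj⟩ := (P.2.comap_subtype (K := H)).exists_card_eq
        show (Nat.card ((P : Subgroup G).subgroupOf H)).Coprime r
        rw [show Nat.card ((P : Subgroup G).subgroupOf H) = p ^ j from hj]
        exact Nat.Coprime.pow_left j ((Nat.coprime_primes hp.out (Fact.out : r.Prime)).2 (Ne.symm hrp))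
      · have h3 : (P : Subgroup G).relIndex H ∣ r ^ k := by
          refine (relIndex_dvd_index_of_normal _ _).trans ?_
          rw [← hgo, ← Nat.card_zpowers, ← relIndex_top_right, ← htop, sup_comm, relIndex_sup_right]
          exact relIndex_dvd_card _ _
        obtain ⟨i, -, hi⟩ := (Nat.dvd_prime_pow hq).1 h3
        exact ⟨i, hi⟩
    · refine hasNormalPComplement_of_not_dvd fun hd => ?_
      have h3 := hd.trans H.card_subgroup_dvd_card
      rw [← (P : Subgroup G).card_mul_index] at h3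
      rcases (Fact.out : r.Prime).dvd_mul.1 h3 with h4 | h4
      · obtain ⟨j, hj⟩ := P.2.exists_card_eq
        exact hrp ((Nat.prime_dvd_prime_iff_eq Fact.out hp.out).1 ((Fact.out : r.Prime).dvd_of_dvd_pow (hj ▸ h4)))
      · have h5 : (P : Subgroup G).index ∣ q ^ k := by
          rw [← hgo, ← Nat.card_zpowers, ← relIndex_top_right, ← htop, sup_comm, relIndex_sup_right]
          exact relIndex_dvd_card _ _
        exact hrq ((Nat.prime_dvd_prime_iff_eq Fact.out hq).1 ((Fact.out : r.Prime).dvd_of_dvd_pow (h4.trans h5)))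
  · haveI := hn
    exact Cfsg.Lib.Splitting.hasNormalPComplement_of_nilpotent p
  · obtain ⟨c, hc⟩ := MulAction.exists_smul_eq G P S
    rw [← hc, sylow_smul_coe]
    exact hPn.map _ (MulEquiv.surjective _)

theorem schmidt_aux (hG : Cfsg.IsMinimalNonNilpotent G) :
    ∃ (q : ℕ), q.Prime ∧ ∃ (Q : Sylow q G) (g : G) (p k : ℕ), (Q : Subgroup G).Normal ∧ p.Prime ∧ p ≠ q ∧
      orderOf g = p ^ k ∧ g ∉ centralizer ((Q : Subgroup G) : Set G) ∧ (Q : Subgroup G) ⊔ zpowers g = ⊤ ∧
      ∃ P : Sylow p G, (P : Subgroup G) = zpowers g := by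
  obtain ⟨hn, hprop⟩ := hG
  obtain ⟨q, hq, hqn⟩ : ∃ q : ℕ, ∃ _ : Fact q.Prime, ¬ Cfsg.HasNormalPComplement q G := by
    by_contra hno
    push Not at hno
    exact hn (isNilpotent_of_forall_normalPComplement fun p inst => hno p inst)
  haveI := hq
  obtain ⟨Q, g, p, k, hQn, hp, hpq, hgo, hgc, htop⟩ := exists_structure hqn fun H hH => by
    haveI := hprop H hH
    exact Cfsg.Lib.Splitting.hasNormalPComplement_of_nilpotent q
  haveI := hQn
  haveI := Fact.mk hp
  refine ⟨q, hq.out, Q, g, p, k, hQn, hp, hpq, hgo, hgc, htop, ?_⟩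
  have hgp : IsPGroup p (zpowers g) := IsPGroup.of_card ((Nat.card_zpowers g).trans hgo)
  have hi : ¬ p ∣ (zpowers g).index := by
    intro hd
    have h4 : (zpowers g).index ∣ Nat.card (Q : Subgroup G) := by
      have h5 := (zpowers g).card_mul_index
      have h6 : Nat.card G ∣ Nat.card (zpowers g) * Nat.card (Q : Subgroup G) := by
        rw [← (Q : Subgroup G).card_mul_index, mul_comm]
        refine Nat.mul_dvd_mul_right ?_ _
        rw [← relIndex_top_right, ← htop, sup_comm, relIndex_sup_right]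
        exact relIndex_dvd_card _ _
      rw [← h5] at h6
      exact Nat.dvd_of_mul_dvd_mul_left Nat.card_pos h6
    obtain ⟨j, hj⟩ := Q.2.exists_card_eq
    exact hpq ((Nat.prime_dvd_prime_iff_eq hp hq.out).1 (hp.dvd_of_dvd_pow (hj ▸ hd.trans h4)))
  exact ⟨hgp.toSylow hi, rfl⟩

theorem miller_moreno (hna : ¬ IsMulCommutative G) (h : ∀ H : Subgroup G, H ≠ ⊤ → IsMulCommutative H) :
    (∃ p : ℕ, p.Prime ∧ IsPGroup p G) ∨ ∃ p q : ℕ, p.Prime ∧ q.Prime ∧ p ≠ q ∧
      ∃ (P : Sylow p G) (Q : Sylow q G), IsCyclic P ∧ (Q : Subgroup G).Normal ∧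
        Cfsg.IsElementaryAbelian q (Q : Subgroup G) ∧ (P : Subgroup G) ⊔ Q = ⊤ := by
  by_cases hn : Group.IsNilpotent G
  · left
    by_contra hno
    push Not at hno
    -- all prime-power elements commute
    refine hna ⟨⟨fun a b => ?_⟩⟩
    have key : ∀ x y : G, (∃ q k : ℕ, q.Prime ∧ orderOf x = q ^ k) → (∃ q k : ℕ, q.Prime ∧ orderOf y = q ^ k) →
        y ∈ centralizer ({x} : Set G) := by
      rintro x y ⟨q, i, hq, hx⟩ ⟨r, j, hr, hy⟩
      haveI := Fact.mk hq
      haveI := Fact.mk hr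
      rw [mem_centralizer_singleton_iff]
      have h03 := (Group.isNilpotent_of_finite_tfae (G := G)).out 0 3
      obtain ⟨S⟩ : Nonempty (Sylow q G) := inferInstance
      obtain ⟨T, hT⟩ := (IsPGroup.of_card ((Nat.card_zpowers x).trans hx)).exists_le_sylow
      obtain ⟨T', hT'⟩ := (IsPGroup.of_card ((Nat.card_zpowers y).trans hy)).exists_le_sylow
      by_cases hqr : q = r
      · subst hqr
        haveI := h03.1 hn q ‹_› T
        haveI := Sylow.unique_of_normal T ‹_›
        obtain rfl : T = T' := Subsingleton.elim _ _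
        have hTne : (T : Subgroup G) ≠ ⊤ := fun e => hno q hq (by
          have := T.2; rw [e] at this; exact this.of_equiv Subgroup.topEquiv)
        haveI := h _ hTne
        exact congrArg Subtype.val (mul_comm' (⟨y, hT' (mem_zpowers y)⟩ : (T : Subgroup G)) ⟨x, hT (mem_zpowers x)⟩)
      · haveI := h03.1 hn q ‹_› T
        haveI := h03.1 hn r ‹_› T'
        have hdis : Disjoint (T : Subgroup G) (T' : Subgroup G) :=
          IsPGroup.disjoint_of_ne q r hqr T.1 T'.1 T.2 T'.2
        exact (Subgroup.commute_of_normal_of_disjoint _ _ ‹_› ‹_› hdis x y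
          (hT (mem_zpowers x)) (hT' (mem_zpowers y))).eq.symm
    have key2 : ∀ x : G, (∃ q k : ℕ, q.Prime ∧ orderOf x = q ^ k) → x ∈ center G := by
      intro x hx
      rw [mem_center_iff]
      intro g
      have h5 : g ∈ centralizer ({x} : Set G) := by
        by_contra hg
        obtain ⟨y, -, hyc, q, k, hq, hy⟩ := exists_prime_power_mem g _ hg
        exact hyc (key x y hx ⟨q, k, hq, hy⟩)
      exact mem_centralizer_singleton_iff.1 h5
    have hb : b ∈ center G := by
      by_contra hb'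
      obtain ⟨y, -, hyc, q, k, hq, hy⟩ := exists_prime_power_mem b _ hb'
      exact hyc (key2 y ⟨q, k, hq, hy⟩)
    exact mem_center_iff.1 hb a
  right
  obtain ⟨q, hq, Q, g, p, k, hQn, hp, hpq, hgo, hgc, htop, P, hP⟩ := schmidt_aux
    (G := G) ⟨hn, fun H hH => by
      haveI := h H hH
      letI : CommGroup H := { (inferInstance : Group H) with mul_comm := mul_comm' }
      infer_instance⟩
  haveI := Fact.mk hq
  haveI := Fact.mk hp
  haveI := hQn
  have hgt : zpowers g ≠ ⊤ := fun e => hn (by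
    have := P.2; rw [hP, e] at this; exact (this.of_equiv Subgroup.topEquiv).isNilpotent)
  have hQt : (Q : Subgroup G) ≠ ⊤ := fun e => hn (by
    have := Q.2; rw [e] at this; exact (this.of_equiv Subgroup.topEquiv).isNilpotent)
  haveI := h _ hQt
  refine ⟨p, q, hp, hq, hpq, P, Q, ?_, hQn, ⟨‹_›, ?_⟩, by rw [hP, sup_comm, htop]⟩
  · show IsCyclic (P : Subgroup G)
    rw [hP]; exact isCyclic_zpowers g
  -- every proper `g`-invariant subgroup of `Q` is centralised
  have hinv : ∀ R : Subgroup G, R < (Q : Subgroup G) → g ∈ normalizer (R : Set G) →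
      g ∈ centralizer (R : Set G) := by
    intro R hR hgR
    have hne : R ⊔ zpowers g ≠ ⊤ := by
      intro e
      refine hR.not_ge fun x hx => ?_
      obtain ⟨r, hr, z, hz, rfl⟩ := (Cfsg.Lib.Coprime.mem_sup_of_le_normalizer (zpowers_le.2 hgR)).1 (e.ge (mem_top x))
      have hzQ : z ∈ (Q : Subgroup G) := by simpa using mul_mem (inv_mem (hR.le hr)) hx
      have hz1 : z ∈ (Q : Subgroup G) ⊓ zpowers g := ⟨hzQ, hz⟩
      rw [(IsPGroup.disjoint_of_ne q p (Ne.symm hpq) _ _ Q.2
        (IsPGroup.of_card ((Nat.card_zpowers g).trans hgo))).eq_bot, mem_bot] at hz1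
      rw [hz1, mul_one]; exact hr
    haveI := h _ hne
    exact fun r hr => congrArg Subtype.val (mul_comm' (⟨r, mem_sup_left hr⟩ : ↥(R ⊔ zpowers g))
      ⟨g, mem_sup_right (mem_zpowers g)⟩)
  have hcomm : ∀ x ∈ (Q : Subgroup G), ∀ y ∈ (Q : Subgroup G), x * y = y * x := fun x hx y hy =>
    congrArg Subtype.val (mul_comm' (⟨x, hx⟩ : (Q : Subgroup G)) ⟨y, hy⟩)
  -- `q`-th powers
  let φ : ↥(Q : Subgroup G) →* G :=
    { toFun := fun x => (x : G) ^ q
      map_one' := one_pow q
      map_mul' := fun x y => (show Commute (x : G) y from hcomm x x.2 y y.2).mul_pow q }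
  have hgR : g ∈ normalizer (φ.range : Set G) := by
    rw [← map_conj_eq_self_iff]
    refine eq_of_le_of_card_ge ?_ (card_map_conj φ.range g).ge
    rintro _ ⟨_, ⟨x, rfl⟩, rfl⟩
    exact ⟨⟨g * x * g⁻¹, hQn.conj_mem x x.2 g⟩, conj_pow⟩
  have hRlt : φ.range < (Q : Subgroup G) := by
    refine lt_of_le_of_ne (by rintro _ ⟨x, rfl⟩; exact pow_mem x.2 q) fun e => ?_
    have hQ1 : (Q : Subgroup G) ≠ ⊥ := fun e' => hgc (by rw [e']; intro x hx; rw [SetLike.mem_coe, mem_bot] at hx; simp [hx])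
    haveI := (nontrivial_iff_ne_bot _).2 hQ1
    obtain ⟨j, hj⟩ := Q.2.exists_card_eq
    obtain ⟨y, hy⟩ := exists_prime_orderOf_dvd_card' q (G := (Q : Subgroup G))
      ((Q.2.card_eq_or_dvd).resolve_left (Finite.one_lt_card (α := (Q : Subgroup G))).ne')
    have hinj : Function.Injective φ := by
      have h7 : Nat.card φ.range = Nat.card (Q : Subgroup G) := by rw [e]
      have h8 : φ.ker.index = Nat.card (Q : Subgroup G) := by rw [index_ker, h7]
      have h9 := φ.ker.card_mul_index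
      rw [h8] at h9
      rw [← MonoidHom.ker_eq_bot_iff, ← Subgroup.card_eq_one]
      exact (mul_eq_right₀ Nat.card_pos.ne').1 h9
    have hy' : (y : G) ^ q = 1 := by
      rw [← Subgroup.coe_pow, orderOf_dvd_iff_pow_eq_one.1 hy.dvd, OneMemClass.coe_one]
    have : y = 1 := hinj (hy'.trans (map_one φ).symm)
    rw [this, orderOf_one] at hy
    exact hq.ne_one hy.symm
  have hfix := hinv _ hRlt hgR
  -- commutators with `g` have order dividing `q`
  let ψ : ↥(Q : Subgroup G) →* G :=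
    { toFun := fun x => ⁅g, (x : G)⁆
      map_one' := by simp
      map_mul' := fun x y => by
        have hy' : ⁅g, (y : G)⁆ ∈ (Q : Subgroup G) := by
          rw [commutatorElement_def]; exact mul_mem (hQn.conj_mem y y.2 g) (inv_mem y.2)
        show ⁅g, (x : G) * y⁆ = ⁅g, (x : G)⁆ * ⁅g, (y : G)⁆
        rw [show ⁅g, (x : G) * y⁆ = ⁅g, (x : G)⁆ * ((x : G) * ⁅g, (y : G)⁆ * (x : G)⁻¹) by
          simp only [commutatorElement_def]; group, hcomm x x.2 _ hy', mul_inv_cancel_right] }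
  have hψexp : ∀ w ∈ ψ.range, w ^ q = 1 := by
    rintro _ ⟨x, rfl⟩
    rw [← map_pow]
    show ⁅g, ((x ^ q : (Q : Subgroup G)) : G)⁆ = 1
    rw [commutatorElement_eq_one_iff_mul_comm, Subgroup.coe_pow]
    exact (hfix _ ⟨x, rfl⟩).symm
  by_cases hlt : ψ.range < (Q : Subgroup G)
  · exfalso
    have hgψ : g ∈ normalizer (ψ.range : Set G) := by
      rw [← map_conj_eq_self_iff]
      refine eq_of_le_of_card_ge ?_ (card_map_conj ψ.range g).ge
      rintro _ ⟨_, ⟨x, rfl⟩, rfl⟩
      refine ⟨⟨g * x * g⁻¹, hQn.conj_mem x x.2 g⟩, ?_⟩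
      show ⁅g, g * (x : G) * g⁻¹⁆ = g * ⁅g, (x : G)⁆ * g⁻¹
      simp only [commutatorElement_def]; group
    have hc := hinv _ hlt hgψ
    refine hgc fun x hx => ?_
    set w := ⁅g, x⁆ with hw
    have hwg : Commute w g := hc w ⟨⟨x, hx⟩, rfl⟩
    have hiter : ∀ j : ℕ, g ^ j * x * (g ^ j)⁻¹ = w ^ j * x := by
      intro j
      induction j with
      | zero => simp
      | succ j ihj =>
        rw [show g ^ (j + 1) * x * (g ^ (j + 1))⁻¹ = g * (g ^ j * x * (g ^ j)⁻¹) * g⁻¹ by rw [pow_succ']; group,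
          ihj, show g * (w ^ j * x) * g⁻¹ = (g * w ^ j) * x * g⁻¹ by group, ← (hwg.pow_left j).eq,
          show w ^ j * g * x * g⁻¹ = w ^ j * ⁅g, x⁆ * x by rw [commutatorElement_def]; group, ← hw, ← pow_succ]
    have h10 := hiter (orderOf g)
    rw [pow_orderOf_eq_one, one_mul, inv_one, mul_one, eq_comm, mul_eq_right] at h10
    have hw1 : w = 1 := by
      rw [← orderOf_eq_one_iff]
      refine Nat.eq_one_of_dvd_coprimes ?_ (orderOf_dvd_of_pow_eq_one h10)
        (orderOf_dvd_of_pow_eq_one (hψexp w ⟨⟨x, hx⟩, rfl⟩))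
      rw [hgo]
      exact Nat.Coprime.pow_left k ((Nat.coprime_primes hp hq).2 hpq)
    exact (commutatorElement_eq_one_iff_mul_comm.1 hw1).symm
  · intro x hx
    have hle : ψ.range ≤ (Q : Subgroup G) := by
      rintro _ ⟨y, rfl⟩
      show ⁅g, (y : G)⁆ ∈ _
      rw [commutatorElement_def]; exact mul_mem (hQn.conj_mem y y.2 g) (inv_mem y.2)
    exact hψexp x ((eq_of_le_of_not_lt hle hlt).ge hx)

theorem schmidt (hG : Cfsg.IsMinimalNonNilpotent G) : ∃ p q : ℕ, p.Prime ∧ q.Prime ∧ p ≠ q ∧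
    ∃ (P : Sylow p G) (Q : Sylow q G), IsCyclic P ∧ (Q : Subgroup G).Normal ∧ (P : Subgroup G) ⊔ Q = ⊤ := by
  obtain ⟨q, hq, Q, g, p, k, hQn, hp, hpq, hgo, -, htop, P, hP⟩ := schmidt_aux hG
  refine ⟨p, q, hp, hq, hpq, P, Q, ?_, hQn, by rw [hP, sup_comm, htop]⟩
  show IsCyclic (P : Subgroup G)
  rw [hP]; exact isCyclic_zpowers g

theorem quotient_commutator_minimal (hG : Cfsg.IsMinimalNonNilpotent G) (q : ℕ) [hq : Fact q.Prime]
    (hqd : q ∣ Nat.card G) (Q : Sylow q G) (hQn : (Q : Subgroup G).Normal) (D : Subgroup G) [D.Normal]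
    (hD : D = (commutator ↥(Q : Subgroup G)).map (Q : Subgroup G).subtype) :
    ¬ IsMulCommutative (G ⧸ D) ∧ ∀ K : Subgroup (G ⧸ D), K ≠ ⊤ → IsMulCommutative K := by
  obtain ⟨q', hq', Q', g, p, k, hQ'n, hp, hpq, hgo, hgc, htop, P, hP⟩ := schmidt_aux hG
  haveI := Fact.mk hp
  haveI := Fact.mk hq'
  haveI := hQn
  have hn := hG.1
  have hqq : q = q' := by
    by_contra hne
    -- otherwise both Sylow subgroups are normal and commute
    have hqp : q = p := by
      by_contra hne'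
      have h1 : q ∣ Nat.card (Q' : Subgroup G) * Nat.card (zpowers g) := by
        refine hqd.trans ?_
        rw [← (Q' : Subgroup G).card_mul_index]
        refine Nat.mul_dvd_mul_left _ ?_
        haveI := hQ'n
        rw [← relIndex_top_right, ← htop, sup_comm, relIndex_sup_right]
        exact relIndex_dvd_card _ _
      rw [Nat.card_zpowers, hgo] at h1
      obtain ⟨j, hj⟩ := Q'.2.exists_card_eq
      rcases hq.out.dvd_mul.1 h1 with h2 | h2
      · exact hne ((Nat.prime_dvd_prime_iff_eq hq.out hq').1 (hq.out.dvd_of_dvd_pow (hj ▸ h2)))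
      · exact hne' ((Nat.prime_dvd_prime_iff_eq hq.out hp).1 (hq.out.dvd_of_dvd_pow h2))
    subst hqp
    haveI := Sylow.unique_of_normal Q ‹_›
    have hPQ : Q = P := Subsingleton.elim _ _
    have hdis := IsPGroup.disjoint_of_ne q q' (Ne.symm (Ne.symm hne)) _ _ Q.2 Q'.2
    refine hgc fun x hx => ?_
    exact (Subgroup.commute_of_normal_of_disjoint _ _ hQn hQ'n hdis g x
      (by rw [hPQ, hP]; exact mem_zpowers g) hx).eq.symm
  subst hqq
  haveI := Sylow.unique_of_normal Q ‹_›
  obtain rfl : Q' = Q := Subsingleton.elim _ _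
  set f := QuotientGroup.mk' D
  have hfDfac : ∀ x ∈ (Q' : Subgroup G), ∀ y ∈ (Q' : Subgroup G), f x * f y = f y * f x := by
    intro x hx y hy
    rw [← commutatorElement_eq_one_iff_mul_comm, ← map_commutatorElement]
    refine (QuotientGroup.eq_one_iff _).2 ?_
    rw [hD]
    exact ⟨⁅(⟨x, hx⟩ : (Q' : Subgroup G)), ⟨y, hy⟩⁆,
      commutator_mem_commutator (mem_top _) (mem_top _), rfl⟩
  refine ⟨fun hab => hgc ?_, fun K hK => ?_⟩
  · -- a coprime automorphism trivial on `Q / Φ(Q)` is trivial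
    refine Cfsg.Lib.Coprime.le_centralizer_of_frattini (K := (Q' : Subgroup G)) (A := zpowers g)
      (le_normalizer_of_normal) ?_ (fun a _ x hx => ?_) (mem_zpowers g)
    · rw [Nat.card_zpowers, hgo]
      obtain ⟨j, hj⟩ := (Q'.2.to_subgroup (frattini (Q' : Subgroup G))).exists_card_eq
      rw [hj]
      exact Nat.Coprime.pow _ _ ((Nat.coprime_primes hp hq.out).2 hpq)
    · have h1 : a * x * a⁻¹ * x⁻¹ ∈ D := by
        rw [← QuotientGroup.eq_one_iff]
        show f (a * x * a⁻¹ * x⁻¹) = 1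
        rw [map_mul, map_mul, map_mul, map_inv, map_inv, hab.1.1 (f a) (f x)]
        group
      rw [hD] at h1
      obtain ⟨z, hz, hzx⟩ := h1
      exact ⟨z, Cfsg.Lib.PGroups.commutator_le_frattini Q'.2 hz, hzx⟩
  · set H := K.comap f
    have hH : H ≠ ⊤ := fun e => hK (comap_injective (QuotientGroup.mk'_surjective D) (e.trans (comap_top f).symm))
    haveI := hG.2 H hH
    obtain ⟨S⟩ : Nonempty (Sylow p H) := inferInstance
    have h03 := (Group.isNilpotent_of_finite_tfae (G := H)).out 0 3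
    haveI hSn : (S : Subgroup H).Normal := h03.1 inferInstance p ‹_› S
    haveI hQHn : ((Q' : Subgroup G).subgroupOf H).Normal := inferInstance
    have hdis : Disjoint ((Q' : Subgroup G).subgroupOf H) (S : Subgroup H) :=
      IsPGroup.disjoint_of_ne q p (Ne.symm hpq) _ _ Q'.2.comap_subtype S.2
    -- `H = (Q ⊓ H) S`
    have hsup : ((Q' : Subgroup G).subgroupOf H) ⊔ (S : Subgroup H) = ⊤ := by
      have h3 : ((Q' : Subgroup G).subgroupOf H).index ∣ p ^ k := by
        show (Q' : Subgroup G).relIndex H ∣ p ^ k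
        refine (relIndex_dvd_index_of_normal _ _).trans ?_
        rw [← hgo, ← Nat.card_zpowers, ← relIndex_top_right, ← htop, sup_comm, relIndex_sup_right]
        exact relIndex_dvd_card _ _
      obtain ⟨i, -, hi⟩ := (Nat.dvd_prime_pow hp).1 h3
      exact sup_sylow_eq_top hi S
    -- `S` lies in a cyclic group
    obtain ⟨P', hP'⟩ := (S.2.map H.subtype).exists_le_sylow
    obtain ⟨c, hc⟩ := MulAction.exists_smul_eq G P' P
    have hSc : ∀ v ∈ (S : Subgroup H), ∀ w ∈ (S : Subgroup H), Commute (v : G) (w : G) := by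
      intro v hv w hw
      have hmem : ∀ u ∈ (S : Subgroup H), ∃ i : ℤ, g ^ i = c * (u : G) * c⁻¹ := fun u hu => by
        have h1 : c * (u : G) * c⁻¹ ∈ (P : Subgroup G) := by
          rw [← hc, sylow_smul_coe, mem_map_conj]
          simpa [mul_assoc] using hP' ⟨u, hu, rfl⟩
        rw [hP] at h1
        exact mem_zpowers_iff.1 h1
      obtain ⟨i, hi⟩ := hmem v hv
      obtain ⟨i', hi'⟩ := hmem w hw
      have h1 : Commute (c * (v : G) * c⁻¹) (c * (w : G) * c⁻¹) :=
        hi ▸ hi' ▸ (Commute.refl g).zpow_zpow i i'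
      have h2 := h1.map (MulAut.conj c⁻¹).toMonoidHom
      simpa [mul_assoc] using h2
    refine ⟨⟨fun a b => Subtype.ext ?_⟩⟩
    show (a : G ⧸ D) * b = b * a
    obtain ⟨x, hx⟩ := QuotientGroup.mk'_surjective D (a : G ⧸ D)
    obtain ⟨y, hy⟩ := QuotientGroup.mk'_surjective D (b : G ⧸ D)
    have hxH : x ∈ H := by show f x ∈ K; exact hx ▸ a.2
    have hyH : y ∈ H := by show f y ∈ K; exact hy ▸ b.2
    obtain ⟨u, hu, v, hv, huv⟩ := mem_sup_of_normal_left.1 (hsup.ge (mem_top (⟨x, hxH⟩ : H)))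
    obtain ⟨u', hu', v', hv', huv'⟩ := mem_sup_of_normal_left.1 (hsup.ge (mem_top (⟨y, hyH⟩ : H)))
    have hcuv : ∀ u ∈ (Q' : Subgroup G).subgroupOf H, ∀ v ∈ (S : Subgroup H), Commute (u : G) (v : G) :=
      fun u hu v hv =>
        congrArg Subtype.val (Subgroup.commute_of_normal_of_disjoint _ _ hQHn hSn hdis u v hu hv).eq
    rw [← hx, ← hy, show x = (u : G) * v from (congrArg Subtype.val huv).symm,
      show y = (u' : G) * v' from (congrArg Subtype.val huv').symm]
    show f ((u : G) * v) * f ((u' : G) * v') = f ((u' : G) * v') * f ((u : G) * v)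
    rw [map_mul, map_mul]
    exact Commute.mul_left
      (Commute.mul_right (hfDfac _ hu _ hu') ((hcuv u hu v' hv').map f))
      (Commute.mul_right ((hcuv u' hu' v hv).symm.map f) ((hSc v hv v' hv').map f))

end Cfsg.Lib.Schmidt
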