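/-
Wielandt's subnormality criterion and the unique maximal overgroup.
-/
import Cfsg.Agent.SolvStruct.Zipper

set_option linter.style.haveILetI false
set_option linter.unusedSectionVars false

namespace Cfsg.Lib.SolvStruct

open Subgroup
open scoped Pointwise

universe u

variable {G : Type u} [Group G] [Finite G]

/-- If `A` is subnormal in every proper overgroup but not in `G`, its proper overgroups have a
greatest element. -/
theorem exists_greatest_overgroup (A : Subgroup G) (hA : ¬ A.IsSubnormal)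
    (h : ∀ V : Subgroup G, A ≤ V → V ≠ ⊤ → (A.subgroupOf V).IsSubnormal) :
    ∃ M : Subgroup G, A ≤ M ∧ M ≠ ⊤ ∧ ∀ V : Subgroup G, A ≤ V → V ≠ ⊤ → V ≤ M := by
  have hAt : A ≠ ⊤ := fun e => hA (e ▸ IsSubnormal.top)
  let U : Set (Subgroup G) := {V | A ≤ V ∧ V ≠ ⊤}
  let S : Subgroup G → Set (Subgroup G) := fun V =>
    {B | (∃ g : G, B = MulAut.conj g • A) ∧ B ≤ V ∧ (B.subgroupOf V).IsSubnormal}
  suffices hz : ∃ M ∈ U, ∀ V ∈ U, V ≤ M by
    obtain ⟨M, ⟨hAM, hMt⟩, hM⟩ := hz
    exact ⟨M, hAM, hMt, fun V h1 h2 => hM V ⟨h1, h2⟩⟩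
  refine zipper A U ⟨A, le_rfl, hAt⟩ S (fun V B => Iff.rfl) ?_ ?_
  · rintro V ⟨hAV, hVt⟩ W - B ⟨⟨g, rfl⟩, -, -⟩ hBV
    refine ⟨⟨g, rfl⟩, hBV, ?_⟩
    set V' := MulAut.conj g⁻¹ • V
    have hAV' : A ≤ V' := fun a ha =>
      ⟨g * a * g⁻¹, hBV ⟨a, ha, rfl⟩, by simp [mul_assoc]⟩
    have hV't : V' ≠ ⊤ := fun e => hVt (by
      have e' := congrArg (fun X => MulAut.conj g • X) e
      simp only [V', smul_smul, ← map_mul, mul_inv_cancel, map_one, one_smul] at e'
      rw [e']
      exact Subgroup.map_top_of_surjective _ (MulEquiv.surjective _))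
    let f : V →* V' := ((MulAut.conj g⁻¹).toMonoidHom.comp V.subtype).codRestrict V'
      fun x => ⟨(x : G), x.2, rfl⟩
    have h1 := (h V' hAV' hV't).comap f
    have he : (A.subgroupOf V').comap f = (MulAut.conj g • A).subgroupOf V := by
      ext x
      constructor
      · intro hx
        exact ⟨_, hx, by simp [f, mul_assoc]⟩
      · rintro ⟨a, ha, hax⟩
        show g⁻¹ * (x : G) * g⁻¹⁻¹ ∈ A
        have hax' : g * a * g⁻¹ = (x : G) := hax
        rw [← hax']
        simpa [mul_assoc] using ha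
    exact he ▸ h1
  · rintro V ⟨hAV, hVt⟩ W ⟨hAW, hWt⟩
    set T := sSup (S V ∩ S W)
    have hA1 : ∀ X : Subgroup G, A ≤ X → X ≠ ⊤ → A ∈ S X := fun X h1 h2 =>
      ⟨⟨1, by simp⟩, h1, h X h1 h2⟩
    have hAT : A ≤ T := le_sSup (⟨hA1 V hAV hVt, hA1 W hAW hWt⟩ : A ∈ S V ∩ S W)
    have hTV : T ≤ V := sSup_le fun B hB => hB.1.2.1
    refine ⟨normalizer (T : Set G), ⟨hAT.trans le_normalizer, fun e => hA ?_⟩, le_rfl⟩
    haveI := normalizer_eq_top_iff.1 e
    exact IsSubnormal.trans hAT (h T hAT fun e' => hVt (top_le_iff.1 (e'.ge.trans hTV)))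
      (Subgroup.Normal.isSubnormal inferInstance)

theorem wielandt_criterion : ∀ (n : ℕ) (G : Type u) [Group G] [Finite G], Nat.card G = n →
    ∀ A : Subgroup G, (∀ g : G, (A.subgroupOf (A ⊔ MulAut.conj g • A)).IsSubnormal) →
      A.IsSubnormal := by
  intro n
  induction n using Nat.strong_induction_on with
  | _ n ih =>
    intro G _ _ hn A h
    by_contra hA
    have hprop : ∀ V : Subgroup G, A ≤ V → V ≠ ⊤ → (A.subgroupOf V).IsSubnormal := by
      intro V hAV hVt
      refine ih (Nat.card V) ?_ V rfl (A.subgroupOf V) fun v => ?_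
      · rw [← hn]
        exact lt_of_le_of_ne (card_le_card_group V) fun e => hVt (eq_top_of_card_eq V e)
      set W := A.subgroupOf V ⊔ MulAut.conj v • A.subgroupOf V
      have hW : W.map V.subtype ≤ A ⊔ MulAut.conj (v : G) • A := by
        rw [Subgroup.map_sup, subgroupOf_map_subtype, inf_eq_left.2 hAV]
        refine sup_le_sup_left ?_ _
        rintro _ ⟨_, ⟨a, ha, rfl⟩, rfl⟩
        exact ⟨(a : G), ha, rfl⟩
      let f : W →* ↥(A ⊔ MulAut.conj (v : G) • A) :=
        (V.subtype.comp W.subtype).codRestrict _ fun x => hW ⟨_, x.2, rfl⟩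
      exact (h (v : G)).comap f
    obtain ⟨M, hAM, hMt, hM⟩ := exists_greatest_overgroup A hA hprop
    have hall : ∀ g : G, MulAut.conj g • A ≤ M := fun g => by
      refine le_sup_right.trans (hM (A ⊔ MulAut.conj g • A) le_sup_left fun e => hA ?_)
      exact IsSubnormal.trans le_sup_left (h g) (e ▸ IsSubnormal.top)
    set N := normalClosure (A : Set G)
    have hNM : N ≤ M := (closure_le M).2 fun y hy => by
      obtain ⟨a, ha, hay⟩ := Group.mem_conjugatesOfSet_iff.1 hy
      obtain ⟨c, hc⟩ := isConj_iff.1 hay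
      exact hall c ⟨a, ha, hc⟩
    exact hA (IsSubnormal.trans le_normalClosure
      (hprop N le_normalClosure fun e => hMt (top_le_iff.1 (e.ge.trans hNM)))
      (Subgroup.Normal.isSubnormal inferInstance))

end Cfsg.Lib.SolvStruct
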