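/-
Subgroups of every order.
-/
import Cfsg.Agent.Coprime.Hall
import Cfsg.Agent.Coprime.SolvableBasics
import Cfsg.Prelude.Def_SolvableStructure

set_option linter.style.haveILetI false
set_option linter.unusedSectionVars false

namespace Cfsg.Lib.SolvStruct

open Subgroup

theorem exists_subgroup_card_comm {A : Type*} [CommGroup A] [Finite A] (d : ℕ) :
    d ∣ Nat.card A → ∃ H : Subgroup A, Nat.card H = d := by
  induction d using Nat.recOnPosPrimePosCoprime with
  | prime_pow p k hp hk =>
    intro h
    haveI := Fact.mk hp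
    exact Sylow.exists_subgroup_card_pow_prime p h
  | zero => intro h; exact absurd (zero_dvd_iff.1 h) Nat.card_pos.ne'
  | one => intro _; exact ⟨⊥, Subgroup.card_bot⟩
  | coprime a b ha hb hab iha ihb =>
    intro h
    obtain ⟨H, hH⟩ := iha ((dvd_mul_right a b).trans h)
    obtain ⟨K, hK⟩ := ihb ((dvd_mul_left b a).trans h)
    refine ⟨H ⊔ K, ?_⟩
    have hdis : Disjoint H K := by
      rw [disjoint_iff]
      apply Subgroup.eq_bot_of_card_eq
      exact Nat.eq_one_of_dvd_coprimes hab (hH ▸ card_dvd_of_le inf_le_left)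
        (hK ▸ card_dvd_of_le inf_le_right)
    rw [Cfsg.Lib.Coprime.card_sup_of_inf_eq_bot (N := H) (H := K) le_normalizer_of_normal hdis.eq_bot,
      hH, hK]

theorem hasSubgroupOfEveryOrder_prod {G A : Type*} [Group G] [CommGroup A] [Finite G] [Finite A]
    [Group.IsSolvable G] (hA : ∀ p : ℕ, p.Prime → p ∣ Nat.card A → p ∣ Nat.card G)
    (hexp : ∀ p : ℕ, p.Prime → p ∣ Nat.card G →
      (Nat.card A).factorization p + 1 = (Nat.card G).factorization p) :
    Cfsg.HasSubgroupOfEveryOrder (G × A) := by
  intro d hd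
  rw [Nat.card_prod] at hd
  have hG0 : Nat.card G ≠ 0 := Nat.card_pos.ne'
  have hA0 : Nat.card A ≠ 0 := Nat.card_pos.ne'
  have hd0 : d ≠ 0 := fun e => mul_ne_zero hG0 hA0 (zero_dvd_iff.1 (e ▸ hd))
  set π : Set ℕ := {p | (Nat.card G).factorization p ≤ d.factorization p}
  obtain ⟨H, hH1, hH2⟩ := Cfsg.Lib.Coprime.exists_piHall (G := G) π
  have hHG := H.card_subgroup_dvd_card
  have hfac : ∀ p : ℕ, p.Prime → p ∈ π → (Nat.card H).factorization p = (Nat.card G).factorization p := by
    intro p hp hpπ
    have h1 := H.card_mul_index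
    rw [← h1, Nat.factorization_mul Nat.card_pos.ne' H.index_ne_zero_of_finite, Finsupp.add_apply,
      Nat.factorization_eq_zero_of_not_dvd (hH2 p hp hpπ), add_zero]
  have hfac0 : ∀ p : ℕ, p.Prime → p ∉ π → (Nat.card H).factorization p = 0 := fun p hp hpπ =>
    Nat.factorization_eq_zero_of_not_dvd fun h => hpπ (hH1 p hp h)
  have hHd : Nat.card H ∣ d := by
    rw [← Nat.factorization_prime_le_iff_dvd Nat.card_pos.ne' hd0]
    intro p hp
    by_cases hpπ : p ∈ π
    · rw [hfac p hp hpπ]; exact hpπ
    · rw [hfac0 p hp hpπ]; exact Nat.zero_le _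
  obtain ⟨e, he⟩ := hHd
  have he0 : e ≠ 0 := fun h => hd0 (by rw [he, h, mul_zero])
  have heA : e ∣ Nat.card A := by
    rw [← Nat.factorization_prime_le_iff_dvd he0 hA0]
    intro p hp
    have hde : d.factorization p = (Nat.card H).factorization p + e.factorization p := by
      rw [he, Nat.factorization_mul Nat.card_pos.ne' he0, Finsupp.add_apply]
    have hle : d.factorization p ≤ (Nat.card G).factorization p + (Nat.card A).factorization p := by
      have := (Nat.factorization_le_iff_dvd hd0 (mul_ne_zero hG0 hA0)).2 hd p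
      rwa [Nat.factorization_mul hG0 hA0, Finsupp.add_apply] at this
    by_cases hpπ : p ∈ π
    · rw [hfac p hp hpπ] at hde
      omega
    · rw [hfac0 p hp hpπ] at hde
      have hlt : d.factorization p < (Nat.card G).factorization p := not_le.1 hpπ
      have hpG : p ∣ Nat.card G := Nat.dvd_of_factorization_pos (by omega)
      have := hexp p hp hpG
      omega
  obtain ⟨B, hB⟩ := exists_subgroup_card_comm e heA
  exact ⟨H.prod B, by rw [Nat.card_congr (Subgroup.prodEquiv H B).toEquiv, Nat.card_prod, hB, ← he]⟩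

end Cfsg.Lib.SolvStruct
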