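/-
Groups whose conjugacy classes have prime length.
-/
import Mathlib
import Cfsg.Agent.SolvStruct.Basics

set_option linter.style.haveILetI false
set_option linter.unusedSectionVars false

namespace Cfsg.Lib.SolvStruct.PrimeClasses

open Subgroup MulAction
open scoped Pointwise

universe u

variable {G : Type u} [Group G]

/-- The conjugacy class of `x`. -/
def cls (x : G) : Set G := Set.range fun g : G => g * x * g⁻¹

theorem card_cls (x : G) : Nat.card (cls x) = (centralizer ({x} : Set G)).index := by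
  symm
  refine Nat.card_congr (Equiv.ofBijective (Quotient.lift (fun g : G => (⟨g * x * g⁻¹, g, rfl⟩ : cls x)) ?_) ⟨?_, ?_⟩)
  · intro a b hab
    have hab := QuotientGroup.leftRel_apply.1 hab
    rw [mem_centralizer_singleton_iff] at hab
    apply Subtype.ext
    show a * x * a⁻¹ = b * x * b⁻¹
    have := congrArg (fun t => a * t * b⁻¹) hab
    simpa [mul_assoc] using this.symm
  · intro q r
    induction q using Quotient.inductionOn' with | _ a =>
    induction r using Quotient.inductionOn' with | _ b =>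
    intro h
    have h' : a * x * a⁻¹ = b * x * b⁻¹ := congrArg Subtype.val h
    refine QuotientGroup.eq.2 (mem_centralizer_singleton_iff.2 ?_)
    have := congrArg (fun t => a⁻¹ * t * b) h'
    simpa [mul_assoc] using this.symm
  · rintro ⟨z, g, rfl⟩
    exact ⟨QuotientGroup.mk g, rfl⟩

variable [Finite G]

theorem cover {A B : Subgroup G} (h : A.index.Coprime B.index) (g : G) : ∃ a ∈ A, ∃ b ∈ B, g = a * b := by
  have hAB : A.index * B.index ∣ (A ⊓ B).index :=
    h.mul_dvd_of_dvd_of_dvd (index_dvd_of_le inf_le_left) (index_dvd_of_le inf_le_right)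
  have heq : (A ⊓ B).index = A.index * B.index :=
    le_antisymm index_inf_le (Nat.le_of_dvd (Nat.pos_of_ne_zero index_ne_zero_of_finite) hAB)
  have hrel : B.relIndex A = B.index := by
    have h1 := relIndex_mul_index (H := A ⊓ B) (K := A) inf_le_left
    rw [inf_relIndex_left, heq, mul_comm A.index] at h1
    exact Nat.eq_of_mul_eq_mul_right (Nat.pos_of_ne_zero index_ne_zero_of_finite) h1
  rw [← relIndex_top_right B] at hrel
  have hbij := (Nat.bijective_iff_injective_and_card
    (Subgroup.quotientSubgroupOfEmbeddingOfLE B (le_top : A ≤ ⊤))).2 ⟨Function.Embedding.injective _, hrel⟩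
  obtain ⟨q, hq⟩ := hbij.2 (QuotientGroup.mk (⟨g, mem_top g⟩ : (⊤ : Subgroup G)))
  induction q using QuotientGroup.induction_on with
  | H a =>
    rw [quotientSubgroupOfEmbeddingOfLE_apply_mk, QuotientGroup.eq, mem_subgroupOf] at hq
    exact ⟨a, a.2, _, hq, by simp⟩

/-- The left stabilizer of a conjugacy class. -/
def stab (x : G) : Subgroup G := stabilizer G (cls x)

theorem mem_stab {x n : G} : n ∈ stab x ↔ n • cls x = cls x := Iff.rfl

theorem cls_conj (x g z : G) (hz : z ∈ cls x) : g * z * g⁻¹ ∈ cls x := by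
  obtain ⟨h, rfl⟩ := hz
  exact ⟨g * h, by group⟩

instance stab_normal (x : G) : (stab x).Normal := by
  refine ⟨fun n hn g => ?_⟩
  rw [mem_stab] at hn ⊢
  refine Set.eq_of_subset_of_ncard_le ?_ (by rw [Set.ncard_smul_set]) (Set.toFinite _)
  rintro _ ⟨z, hz, rfl⟩
  show g * n * g⁻¹ * z ∈ cls x
  have h1 : g⁻¹ * z * g ∈ cls x := by simpa using cls_conj x g⁻¹ z hz
  have h2 : n * (g⁻¹ * z * g) ∈ cls x := by
    rw [← hn]; exact Set.smul_mem_smul_set h1
  have h3 := cls_conj x g _ h2
  have e : g * n * g⁻¹ * z = g * (n * (g⁻¹ * z * g)) * g⁻¹ := by group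
  rw [e]; exact h3

theorem card_stab_dvd (x : G) : Nat.card (stab x) ∣ (centralizer ({x} : Set G)).index := by
  rw [← card_cls]
  have hpre : ((↑) : G → G ⧸ stab x) ⁻¹' (((↑) : G → G ⧸ stab x) '' cls x) = cls x := by
    refine Set.Subset.antisymm ?_ (Set.subset_preimage_image _ _)
    rintro z ⟨w, hw, hwz⟩
    rw [QuotientGroup.eq] at hwz
    have h1 : w * (w⁻¹ * z) * w⁻¹ ∈ stab x := (stab_normal x).conj_mem _ hwz w
    have h2 : (w * (w⁻¹ * z) * w⁻¹) * w ∈ cls x := by
      rw [← mem_stab.1 h1]; exact Set.smul_mem_smul_set hw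
    simpa [mul_assoc] using h2
  rw [← hpre, Nat.card_congr (QuotientGroup.preimageMkEquivSubgroupProdSet _ _), Nat.card_prod]
  exact dvd_mul_right _ _

theorem comm_mem_stab {x y : G} {a b : ℕ} (ha : a.Prime) (hb : b.Prime)
    (h : ∀ z : G, (centralizer ({z} : Set G)).index = 1 ∨ ((centralizer ({z} : Set G)).index).Prime)
    (hx : (centralizer ({x} : Set G)).index = a) (hy : (centralizer ({y} : Set G)).index = b)
    (hba : b < a) (g : G) : g * y * g⁻¹ * y⁻¹ ∈ stab x := by
  have hcop : (centralizer ({x} : Set G)).index.Coprime (centralizer ({y} : Set G)).index := by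
    rw [hx, hy]; exact (Nat.coprime_primes ha hb).2 hba.ne'
  have hsub : cls y * cls x ⊆ cls (y * x) := by
    rintro _ ⟨_, ⟨i, rfl⟩, _, ⟨j, rfl⟩, rfl⟩
    obtain ⟨c, hc, d, hd, hcd⟩ := cover hcop (j⁻¹ * i)
    refine ⟨j * c, ?_⟩
    rw [mem_centralizer_singleton_iff] at hc hd
    have hi : i = j * c * d := by rw [mul_assoc, ← hcd]; group
    have hy' : i * y * i⁻¹ = j * c * y * (j * c)⁻¹ := by
      rw [hi, mul_assoc (j * c) d y, hd]; group
    have hx' : j * x * j⁻¹ = j * c * x * (j * c)⁻¹ := by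
      rw [mul_assoc j c x, hc]; group
    show j * c * (y * x) * (j * c)⁻¹ = i * y * i⁻¹ * (j * x * j⁻¹)
    rw [hy', hx']; group
  have hle : ∀ w ∈ cls y, w • cls x ⊆ cls (y * x) := fun w hw => by
    rintro _ ⟨z, hz, rfl⟩
    exact hsub ⟨w, hw, z, hz, rfl⟩
  have hcard : ∀ w ∈ cls y, (w • cls x).ncard = a := fun w _ => by
    rw [Set.ncard_smul_set, ← Nat.card_coe_set_eq, card_cls, hx]
  have hdvd : (centralizer ({y * x} : Set G)).index ∣ a * b := by
    have hinf : centralizer ({x} : Set G) ⊓ centralizer ({y} : Set G) ≤ centralizer ({y * x} : Set G) := by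
      intro c hc
      obtain ⟨hcx, hcy⟩ := Subgroup.mem_inf.1 hc
      rw [mem_centralizer_singleton_iff] at hcx hcy ⊢
      rw [← mul_assoc, hcy, mul_assoc, hcx, ← mul_assoc]
    refine (index_dvd_of_le hinf).trans ?_
    have h2 : (centralizer ({x} : Set G) ⊓ centralizer ({y} : Set G)).index = a * b := by
      refine le_antisymm (index_inf_le.trans_eq (by rw [hx, hy]))
        (Nat.le_of_dvd (Nat.pos_of_ne_zero index_ne_zero_of_finite) ?_)
      rw [← hx, ← hy]
      exact hcop.mul_dvd_of_dvd_of_dvd (index_dvd_of_le inf_le_left) (index_dvd_of_le inf_le_right)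
    rw [h2]
  have hy1 : y ∈ cls y := ⟨1, by simp⟩
  have hge : a ≤ (cls (y * x)).ncard := hcard y hy1 ▸ Set.ncard_le_ncard (hle y hy1) (Set.toFinite _)
  have heq : (cls (y * x)).ncard = a := by
    rw [← Nat.card_coe_set_eq, card_cls] at hge ⊢
    rcases h (y * x) with h1 | h1
    · rw [h1] at hge; exact absurd hge (not_le.2 ha.one_lt)
    · rcases (h1.dvd_mul).1 hdvd with h2 | h2
      · exact (Nat.prime_dvd_prime_iff_eq h1 ha).1 h2
      · rw [(Nat.prime_dvd_prime_iff_eq h1 hb).1 h2] at hge; omega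
  have hall : ∀ w ∈ cls y, w • cls x = cls (y * x) := fun w hw =>
    Set.eq_of_subset_of_ncard_le (hle w hw) (by rw [hcard w hw, heq]) (Set.toFinite _)
  have e1 := hall _ (⟨g, rfl⟩ : g * y * g⁻¹ ∈ cls y)
  have e2 := hall y hy1
  -- `y • K = K'` and `y' • K = K'`
  have e3 : cls x = y⁻¹ • cls (y * x) := by rw [← e2, inv_smul_smul]
  have e4 : (g * y * g⁻¹)⁻¹ • cls (y * x) = cls x := by rw [← e1, inv_smul_smul]
  have h5 : (g * y * g⁻¹)⁻¹ * y ∈ stab x := by rw [mem_stab, mul_smul, e2, e4]
  have h6 := (stab_normal x).conj_mem _ (inv_mem h5) y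
  have e : y * ((g * y * g⁻¹)⁻¹ * y)⁻¹ * y⁻¹ = g * y * g⁻¹ * y⁻¹ := by group
  rwa [e] at h6

theorem commutator_mem_center_of_one_prime {p : ℕ} (hp : p.Prime)
    (h : ∀ z : G, (centralizer ({z} : Set G)).index = 1 ∨ (centralizer ({z} : Set G)).index = p)
    (a b : G) : a * b * a⁻¹ * b⁻¹ ∈ center G := by
  classical
  have hQ : ∀ q : ℕ, q.Prime → q ≠ p → ∀ Q : Sylow q G, (Q : Subgroup G) ≤ center G := by
    intro q hq hqp Q
    haveI := Fact.mk hq
    have htop : centralizer ((Q : Subgroup G) : Set G) = ⊤ := by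
      by_contra hne
      obtain ⟨g, hg⟩ := exists_not_mem_conj _ hne
      obtain ⟨R⟩ : Nonempty (Sylow q (centralizer ({g} : Set G))) := inferInstance
      have hidx : ¬ q ∣ ((R : Subgroup (centralizer ({g} : Set G))).map (centralizer ({g} : Set G)).subtype).index := by
        rw [index_map_subtype]
        refine hq.not_dvd_mul R.not_dvd_index ?_
        rcases h g with h1 | h1 <;> rw [h1]
        · exact hq.not_dvd_one
        · exact fun hd => hqp ((Nat.prime_dvd_prime_iff_eq hq hp).1 hd)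
      obtain ⟨c, hc⟩ := MulAction.exists_smul_eq G ((R.2.map _).toSylow hidx) Q
      refine hg c⁻¹ ?_
      rw [inv_inv]
      refine mem_centralizer_iff.2 fun t ht => ?_
      rw [← hc, Sylow.coe_subgroup_smul] at ht
      obtain ⟨s, hs, rfl⟩ := ht
      obtain ⟨r, -, rfl⟩ := (hs : s ∈ ((R : Subgroup (centralizer ({g} : Set G))).map (centralizer ({g} : Set G)).subtype))
      have := mem_centralizer_singleton_iff.1 r.2
      show c * (r : G) * c⁻¹ * (c * g * c⁻¹) = c * g * c⁻¹ * (c * r * c⁻¹)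
      calc c * (r : G) * c⁻¹ * (c * g * c⁻¹) = c * ((r : G) * g) * c⁻¹ := by group
        _ = c * (g * r) * c⁻¹ := by rw [this]
        _ = _ := by group
    intro t ht
    rw [mem_center_iff]
    intro s
    exact ((mem_centralizer_iff.1 (htop ▸ mem_top s : s ∈ centralizer ((Q : Subgroup G) : Set G))) t ht).symm
  haveI := Fact.mk hp
  have hpg : IsPGroup p (G ⧸ center G) := by
    refine IsPGroup.of_card (n := (center G).index.primeFactorsList.length) ?_
    rw [← Subgroup.index_eq_card]
    refine Nat.eq_prime_pow_of_unique_prime_dvd index_ne_zero_of_finite fun {q} hq hqd => ?_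
    by_contra hqp
    haveI := Fact.mk hq
    obtain ⟨Q⟩ : Nonempty (Sylow q G) := inferInstance
    exact Q.not_dvd_index (hqd.trans (index_dvd_of_le (hQ q hq hqp Q)))
  have hnil : Group.IsNilpotent G :=
    haveI := hpg.isNilpotent
    Subgroup.isNilpotent_of_ker_le_center (QuotientGroup.mk' (center G)) (by rw [QuotientGroup.ker_mk'])
  rw [mem_center_iff]
  intro s
  suffices hm : a * b * a⁻¹ * b⁻¹ ∈ centralizer ({s} : Set G) from
    (mem_centralizer_singleton_iff.1 hm).symm
  have hs := h s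
  generalize centralizer ({s} : Set G) = C at hs ⊢
  rcases hs with h1 | h1
  · rw [index_eq_one] at h1; rw [h1]; exact mem_top _
  have hco : IsCoatom C := by
    refine ⟨fun ht => ?_, fun D hD => ?_⟩
    · rw [ht, index_top] at h1; exact hp.one_lt.ne h1
    · have h2 := relIndex_mul_index hD.le
      rw [h1] at h2
      rcases hp.eq_one_or_self_of_dvd _ ⟨_, (mul_comm _ _).trans h2 |>.symm⟩ with h3 | h3
      · exact index_eq_one.1 h3
      · rw [h3] at h2
        have : C.relIndex D = 1 := Nat.eq_of_mul_eq_mul_right hp.pos (h2.trans (one_mul p).symm)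
        exact absurd (relIndex_eq_one.1 this) hD.not_ge
  haveI : C.Normal := (Group.normalizerCondition_of_isNilpotent).normal_of_coatom C hco
  haveI : IsCyclic (G ⧸ C) := isCyclic_of_prime_card (p := p) (by rw [← index_eq_card, h1])
  haveI : IsMulCommutative (G ⧸ C) := IsCyclic.isMulCommutative (α := G ⧸ C)
  rw [← QuotientGroup.eq_one_iff]
  simp only [QuotientGroup.mk_mul, QuotientGroup.mk_inv]
  rw [mul_comm' (a : G ⧸ C) b]; group

theorem center_of_two_primes {p q : ℕ} (hp : p.Prime) (hq : q.Prime) (hqp : q < p) {x y : G}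
    (h : ∀ z : G, (centralizer ({z} : Set G)).index = 1 ∨ ((centralizer ({z} : Set G)).index).Prime)
    (hx : (centralizer ({x} : Set G)).index = p) (hy : (centralizer ({y} : Set G)).index = q) :
    ∃ a b : ℕ, a.Prime ∧ b.Prime ∧ a ≠ b ∧ Nat.card (G ⧸ center G) = a * b ∧
      ¬ IsMulCommutative (G ⧸ center G) := by
  haveI := Fact.mk hp
  have hyN := comm_mem_stab hp hq h hx hy hqp
  set N := stab x with hNdef
  have hNne : N ≠ ⊥ := by
    intro hbot
    have h1 : centralizer ({y} : Set G) = ⊤ := eq_top_iff.2 fun g _ => by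
      have := hyN g
      rw [hbot, mem_bot, mul_inv_eq_one, mul_inv_eq_iff_eq_mul] at this
      exact mem_centralizer_singleton_iff.2 this
    rw [h1, index_top] at hy; exact hq.one_lt.ne hy
  have hNc : Nat.card N = p := by
    rcases (Nat.dvd_prime hp).1 (hx ▸ card_stab_dvd x) with h1 | h1
    · exact absurd (card_eq_one.1 h1) hNne
    · exact h1
  -- all commutators lie in `N`
  have hall : ∀ z g : G, g * z * g⁻¹ * z⁻¹ ∈ N := by
    intro z g
    rcases h z with h1 | h1
    · rw [index_eq_one] at h1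
      have := mem_centralizer_singleton_iff.1 (h1 ▸ mem_top g : g ∈ centralizer ({z} : Set G))
      rw [mul_inv_eq_one.2 (mul_inv_eq_iff_eq_mul.2 this)]
      exact one_mem _
    rcases lt_trichotomy (centralizer ({z} : Set G)).index p with hlt | heq | hgt
    · exact comm_mem_stab hp h1 h hx rfl hlt g
    · have hz : ∀ k : G, k * y * k⁻¹ * y⁻¹ ∈ stab z := comm_mem_stab hp hq h heq hy hqp
      have hcl : cls z = (fun n => n * z) '' (N : Set G) → g * z * g⁻¹ * z⁻¹ ∈ N := by
        intro he
        obtain ⟨n, hn, hn'⟩ := (he ▸ ⟨g, rfl⟩ : g * z * g⁻¹ ∈ (fun n => n * z) '' (N : Set G))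
        rw [← hn']; simpa using hn
      apply hcl
      have hMN : stab z = N := by
        haveI : Fact (Nat.card N).Prime := ⟨hNc.symm ▸ hp⟩
        rcases eq_bot_or_eq_top_of_prime_card ((stab z).subgroupOf N) with h2 | h2
        · exfalso
          apply (Nat.Prime.one_lt hq).ne'
          rw [← hy, index_eq_one, eq_top_iff]
          intro k _
          have : (⟨_, hyN k⟩ : N) ∈ (stab z).subgroupOf N := hz k
          rw [h2, mem_bot, Subtype.ext_iff] at this
          exact mem_centralizer_singleton_iff.2 (mul_inv_eq_iff_eq_mul.1 (mul_inv_eq_one.1 this))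
        · refine (eq_of_le_of_card_ge (subgroupOf_eq_top.1 h2) ?_).symm
          rw [hNc, ← heq]
          exact Nat.le_of_dvd (Nat.pos_of_ne_zero index_ne_zero_of_finite) (card_stab_dvd z)
      refine (Set.eq_of_subset_of_ncard_le ?_ ?_ (Set.toFinite _)).symm
      · rintro _ ⟨n, hn, rfl⟩
        rw [← mem_stab.1 (hMN ▸ hn : n ∈ stab z)]
        exact Set.smul_mem_smul_set ⟨1, by simp⟩
      · rw [Set.ncard_image_of_injective _ (mul_left_injective z), ← Nat.card_coe_set_eq, card_cls, heq,
          ← Nat.card_coe_set_eq, ← hNc]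
        exact le_rfl
    · exfalso
      have hz : ∀ k : G, k * x * k⁻¹ * x⁻¹ ∈ stab z := comm_mem_stab h1 hp h rfl hx hgt
      have hsz : cls x ⊆ (fun n => n * x) '' (stab z : Set G) := by
        rintro _ ⟨k, rfl⟩
        exact ⟨_, hz k, by simp⟩
      -- `N x` lies in the class of `x`, so `N` lies in the stabilizer of the class of `z`
      have hNz : N ≤ stab z := by
        intro n hn
        obtain ⟨m, hm, hm'⟩ := hsz (show n * x ∈ cls x by
          rw [← mem_stab.1 hn]; exact Set.smul_mem_smul_set ⟨1, by simp⟩)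
        rwa [← mul_right_cancel hm']
      have h2 := (card_dvd_of_le hNz).trans (card_stab_dvd z)
      rw [hNc] at h2
      exact hgt.ne ((Nat.prime_dvd_prime_iff_eq hp h1).1 h2)
  obtain ⟨n, hn, hn1⟩ : ∃ n ∈ N, n ≠ 1 := by
    by_contra hc
    push Not at hc
    exact hNne ((eq_bot_iff_forall N).2 hc)
  haveI : Fact (Nat.card N).Prime := ⟨hNc.symm ▸ hp⟩
  have hgen : ∀ {D : Subgroup G} {w : G}, w ∈ N → w ≠ 1 → w ∈ D → N ≤ D := by
    intro D w hwN hw hwD
    rcases eq_bot_or_eq_top_of_prime_card (D.subgroupOf N) with h2 | h2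
    · have : (⟨w, hwN⟩ : N) ∈ D.subgroupOf N := hwD
      rw [h2, mem_bot, Subtype.ext_iff] at this
      exact absurd this hw
    · exact subgroupOf_eq_top.1 h2
  -- `N` is not central
  have hncen : centralizer ({n} : Set G) ≠ ⊤ := by
    intro htop
    have hNZ : N ≤ center G := hgen hn hn1 (mem_center_iff.2 fun g =>
      mem_centralizer_singleton_iff.1 (htop ▸ mem_top g : g ∈ centralizer ({n} : Set G)))
    let f : G →* N :=
      { toFun := fun g => ⟨g * y * g⁻¹ * y⁻¹, hall y g⟩
        map_one' := Subtype.ext (by simp)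
        map_mul' := fun a b => Subtype.ext (by
          show a * b * y * (a * b)⁻¹ * y⁻¹ = a * y * a⁻¹ * y⁻¹ * (b * y * b⁻¹ * y⁻¹)
          have hb := mem_center_iff.1 (hNZ (hall y b))
          calc a * b * y * (a * b)⁻¹ * y⁻¹ = a * (b * y * b⁻¹ * y⁻¹) * (y * a⁻¹ * y⁻¹) := by group
            _ = (b * y * b⁻¹ * y⁻¹) * a * (y * a⁻¹ * y⁻¹) := by rw [hb a]
            _ = (b * y * b⁻¹ * y⁻¹) * (a * y * a⁻¹ * y⁻¹) := by group
            _ = _ := (hb _).symm) }
    have hker : f.ker = centralizer ({y} : Set G) := by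
      ext g
      rw [MonoidHom.mem_ker, mem_centralizer_singleton_iff, Subtype.ext_iff]
      show g * y * g⁻¹ * y⁻¹ = 1 ↔ _
      rw [mul_inv_eq_one, mul_inv_eq_iff_eq_mul]
    have hd : q ∣ p := by
      rw [← hy, ← hNc, ← hker, Subgroup.index_ker]
      exact card_subgroup_dvd_card _
    exact hqp.ne ((Nat.prime_dvd_prime_iff_eq hq hp).1 hd)
  -- the class of `n` is shorter than `p`
  set r := (centralizer ({n} : Set G)).index with hr
  have hrprime : r.Prime := (h n).resolve_left fun h1 => hncen (index_eq_one.1 h1)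
  have hrp : r < p := by
    have hs : cls n ⊆ (N : Set G) \ {1} := by
      rintro _ ⟨g, rfl⟩
      refine ⟨(stab_normal x).conj_mem n hn g, fun h1 => hn1 ?_⟩
      simpa using (Set.mem_singleton_iff.1 h1)
    have h2 := Set.ncard_le_ncard hs (Set.toFinite _)
    rw [Set.ncard_sdiff (by simp) (Set.toFinite _), Set.ncard_singleton, ← Nat.card_coe_set_eq,
      ← Nat.card_coe_set_eq, card_cls] at h2
    rw [show Nat.card ↑(N : Set G) = p from hNc] at h2
    have := hp.two_le
    omega
  have hcop : (centralizer ({x} : Set G)).index.Coprime (centralizer ({n} : Set G)).index := by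
    rw [hx, ← hr]; exact (Nat.coprime_primes hp hrprime).2 hrp.ne'
  set Cx := centralizer ({x} : Set G)
  set Cn := centralizer ({n} : Set G)
  obtain ⟨w, hw, hwn⟩ : ∃ w ∈ Cx, w ∉ Cn := SetLike.not_le_iff_exists.1 fun hle => by
    have := index_dvd_of_le hle
    rw [hx, ← hr] at this
    exact hrp.ne ((Nat.prime_dvd_prime_iff_eq hrprime hp).1 this)
  set Cw := centralizer ({w} : Set G)
  have hwN : Cw ⊓ N = ⊥ := by
    refine (eq_bot_iff_forall _).2 fun m hm => by_contra fun hm1 => hwn ?_
    obtain ⟨hmw, hmN⟩ := Subgroup.mem_inf.1 hm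
    refine mem_centralizer_singleton_iff.2 ?_
    exact (mem_centralizer_singleton_iff.1 (hgen hmN hm1 hmw hn)).symm
  have hwi : Cw.index = p := by
    have hdvd : p ∣ Cw.index := by
      have h4 : Cw.relIndex (Cw ⊔ N) = p := by
        have e1 := relIndex_mul_relIndex (⊥ : Subgroup G) Cw (Cw ⊔ N) bot_le le_sup_left
        have e2 := relIndex_mul_relIndex (⊥ : Subgroup G) N (Cw ⊔ N) bot_le le_sup_right
        rw [relIndex_bot_left, relIndex_bot_left, relIndex_sup_right] at *
        rw [← inf_relIndex_left, hwN, relIndex_bot_left, hNc, ← e1, mul_comm] at e2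
        exact Nat.eq_of_mul_eq_mul_left Nat.card_pos e2.symm
      rw [← relIndex_mul_index (le_sup_left : Cw ≤ Cw ⊔ N), h4]
      exact dvd_mul_right _ _
    rcases h w with h1 | h1
    · rw [h1] at hdvd; exact absurd (Nat.dvd_one.1 hdvd) hp.ne_one
    · exact ((Nat.prime_dvd_prime_iff_eq hp h1).1 hdvd).symm
  have habel : ∀ u ∈ Cw, ∀ v ∈ Cw, u * v = v * u := by
    intro u hu v hv
    have : u * v * u⁻¹ * v⁻¹ ∈ Cw ⊓ N :=
      Subgroup.mem_inf.mpr ⟨mul_mem (mul_mem (mul_mem hu hv) (inv_mem hu)) (inv_mem hv), hall v u⟩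
    rw [hwN, mem_bot, mul_inv_eq_one, mul_inv_eq_iff_eq_mul] at this
    exact this
  have hxw : x ∈ Cw := mem_centralizer_singleton_iff.2 (mem_centralizer_singleton_iff.1 hw).symm
  have hCwx : Cw = Cx := by
    refine eq_of_le_of_card_ge (fun u hu => mem_centralizer_singleton_iff.2 (habel u hu x hxw)) ?_
    have e1 := Cw.card_mul_index
    rw [hwi, ← Cx.card_mul_index, hx] at e1
    exact (Nat.eq_of_mul_eq_mul_right hp.pos e1).ge
  have hD : center G = Cx ⊓ Cn := by
    refine le_antisymm (le_inf (center_le_centralizer _) (center_le_centralizer _)) fun d hd => ?_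
    obtain ⟨hdx, hdn⟩ := Subgroup.mem_inf.1 hd
    have hle : Cw ⊔ N ≤ centralizer ({d} : Set G) := sup_le
      (fun u hu => mem_centralizer_singleton_iff.2 (habel u hu d (hCwx ▸ hdx)))
      (hgen hn hn1 (mem_centralizer_singleton_iff.2 (mem_centralizer_singleton_iff.1 hdn).symm))
    have htop : Cw ⊔ N = ⊤ := by
      have h2 := relIndex_mul_index (le_sup_left : Cw ≤ Cw ⊔ N)
      rw [hwi] at h2
      rcases hp.eq_one_or_self_of_dvd _ ⟨_, (mul_comm _ _).trans h2 |>.symm⟩ with h3 | h3
      · exact index_eq_one.1 h3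
      · rw [h3] at h2
        have h4 : Cw.relIndex (Cw ⊔ N) = 1 := Nat.eq_of_mul_eq_mul_right hp.pos (h2.trans (one_mul p).symm)
        have h5 : n ∈ Cw := relIndex_eq_one.1 h4 (mem_sup_right hn)
        exact absurd ((Subgroup.eq_bot_iff_forall _).1 hwN n (Subgroup.mem_inf.mpr ⟨h5, hn⟩)) hn1
    rw [mem_center_iff]
    exact fun g => mem_centralizer_singleton_iff.1 (hle (htop ▸ mem_top g))
  refine ⟨p, r, hp, hrprime, hrp.ne', ?_, ?_⟩
  · rw [← index_eq_card, hD]
    refine le_antisymm (index_inf_le.trans_eq (by rw [hx, ← hr]))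
      (Nat.le_of_dvd (Nat.pos_of_ne_zero index_ne_zero_of_finite) ?_)
    rw [hr, ← hx]
    exact hcop.mul_dvd_of_dvd_of_dvd (index_dvd_of_le inf_le_left) (index_dvd_of_le inf_le_right)
  · intro hcomm
    -- otherwise the commutators would be central
    have hm : x * w = w * x := (habel x hxw w (hCwx.symm ▸ hw))
    have h1 : ∀ u v : G, u * v * u⁻¹ * v⁻¹ ∈ center G := fun u v => by
      rw [← QuotientGroup.eq_one_iff]
      simp only [QuotientGroup.mk_mul, QuotientGroup.mk_inv]
      rw [mul_comm' (u : G ⧸ center G) v]; group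
    obtain ⟨g, hg⟩ : ∃ g : G, g ∉ Cn := SetLike.exists_of_lt (lt_top_iff_ne_top.2 hncen) |>.imp fun _ h => h.2
    have h2 : g * n * g⁻¹ * n⁻¹ ∈ center G := h1 g n
    have h3 : g * n * g⁻¹ * n⁻¹ ∈ Cw ⊓ N :=
      Subgroup.mem_inf.mpr ⟨center_le_centralizer _ h2, hall n g⟩
    rw [hwN, mem_bot, mul_inv_eq_one, mul_inv_eq_iff_eq_mul] at h3
    exact hg (mem_centralizer_singleton_iff.2 h3)

end Cfsg.Lib.SolvStruct.PrimeClasses
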