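/-
Three solvable subgroups of pairwise coprime indices.
-/
import Cfsg.Agent.SolvStruct.PrimeClasses
import Cfsg.Agent.SolvStruct.SylowNumber
import Cfsg.Agent.Coprime.Hall
import Cfsg.Agent.Chars.Burnside

set_option linter.style.haveILetI false
set_option linter.unusedSectionVars false

namespace Cfsg.Lib.SolvStruct.ThreeIndices

open Subgroup
open scoped Pointwise

universe u

theorem isSolvable_of_three : ∀ (n : ℕ) (G : Type u) [Group G] [Finite G], Nat.card G ≤ n →
    ∀ A B C : Subgroup G, Group.IsSolvable A → Group.IsSolvable B → Group.IsSolvable C →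
      A.index.Coprime B.index → A.index.Coprime C.index → B.index.Coprime C.index → Group.IsSolvable G := by
  intro n
  induction n with
  | zero => intro G _ _ h; exact absurd h (by have := Nat.card_pos (α := G); omega)
  | succ n ih =>
    intro G _ _ hn A B C hA hB hC hAB hAC hBC
    haveI := hA
    haveI := hB
    haveI := hC
    rcases eq_or_ne A ⊥ with rfl | hne
    · rw [index_bot] at hAB
      have hB1 : B = ⊤ := index_eq_one.1 (Nat.eq_one_of_dvd_coprimes hAB B.index_dvd_card dvd_rfl)
      subst hB1
      exact solvable_of_surjective (f := (Subgroup.topEquiv (G := G)).toMonoidHom) (Subgroup.topEquiv).surjective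
    haveI : Nontrivial A := (Subgroup.nontrivial_iff_ne_bot A).2 hne
    obtain ⟨r, hr, N, hNn, hNne, -, m, hm⟩ := Cfsg.Lib.SolvStruct.SylowNumber.exists_minimal A hA
    haveI := Fact.mk hr
    have key : ∀ T : Subgroup G, Group.IsSolvable T → A.index.Coprime T.index → ¬ r ∣ T.index → Group.IsSolvable G := by
      intro T hT hcop hrT
      haveI := hT
      obtain ⟨R⟩ : Nonempty (Sylow r T) := inferInstance
      have hidx : ¬ r ∣ ((R : Subgroup T).map T.subtype).index := by
        rw [index_map_subtype]; exact hr.not_dvd_mul R.not_dvd_index hrT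
      obtain ⟨Q, hQ⟩ := ((IsPGroup.of_card (p := r) (G := N) hm).map A.subtype).exists_le_sylow
      obtain ⟨g, hg⟩ := MulAction.exists_smul_eq G ((R.2.map _).toSylow hidx) Q
      set T' := T.map (MulAut.conj g).toMonoidHom with hT'
      have hT'i : T'.index = T.index :=
        Subgroup.index_map_of_bijective (f := (MulAut.conj g).toMonoidHom) (MulAut.conj g).bijective T
      haveI : Group.IsSolvable T' :=
        solvable_of_surjective ((MulAut.conj g).toMonoidHom.subgroupMap_surjective T)
      have hNT : N.map A.subtype ≤ T' := by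
        refine hQ.trans ?_
        rw [← hg, Sylow.coe_subgroup_smul]
        exact map_mono (map_subtype_le _)
      -- the normal closure of `N`
      set M := Subgroup.normalClosure ((N.map A.subtype : Subgroup G) : Set G)
      have hMT : M ≤ T' := by
        show Subgroup.closure _ ≤ T'
        rw [Subgroup.closure_le]
        intro x hx
        obtain ⟨a₀, ha₀, hxa⟩ := Group.mem_conjugatesOfSet_iff.1 hx
        obtain ⟨c, rfl⟩ := isConj_iff.1 hxa
        obtain ⟨t, ht, a, ha, rfl⟩ := Cfsg.Lib.SolvStruct.PrimeClasses.cover (hT'i ▸ hcop.symm) c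
        obtain ⟨n₀, hn₀, rfl⟩ := ha₀
        have h1 : (((⟨a, ha⟩ : A) * n₀ * (⟨a, ha⟩ : A)⁻¹ : A) : G) ∈ T' :=
          hNT ⟨_, hNn.conj_mem n₀ hn₀ ⟨a, ha⟩, rfl⟩
        have e : t * a * (n₀ : G) * (t * a)⁻¹ = t * (a * n₀ * a⁻¹) * t⁻¹ := by group
        show t * a * (n₀ : G) * (t * a)⁻¹ ∈ T'
        rw [e]
        exact mul_mem (mul_mem ht h1) (inv_mem ht)
      haveI : M.Normal := Subgroup.normalClosure_normal
      have hMne : M ≠ ⊥ := fun h => hNne ((Subgroup.map_eq_bot_iff_of_injective N A.subtype_injective).1
        (le_bot_iff.1 (h ▸ Subgroup.subset_normalClosure)))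
      haveI hMs : Group.IsSolvable M := solvable_of_solvable_injective (inclusion_injective hMT)
      haveI : Group.IsSolvable (G ⧸ M) := by
        have hsur := QuotientGroup.mk'_surjective M
        refine ih _ (by have := Cfsg.Lib.Coprime.card_quotient_lt hMne; omega) (A.map (QuotientGroup.mk' M))
          (B.map (QuotientGroup.mk' M)) (C.map (QuotientGroup.mk' M))
          (solvable_of_surjective ((QuotientGroup.mk' M).subgroupMap_surjective A))
          (solvable_of_surjective ((QuotientGroup.mk' M).subgroupMap_surjective B))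
          (solvable_of_surjective ((QuotientGroup.mk' M).subgroupMap_surjective C)) ?_ ?_ ?_
        · exact Nat.Coprime.coprime_dvd_left (index_map_dvd _ hsur) (Nat.Coprime.coprime_dvd_right (index_map_dvd _ hsur) hAB)
        · exact Nat.Coprime.coprime_dvd_left (index_map_dvd _ hsur) (Nat.Coprime.coprime_dvd_right (index_map_dvd _ hsur) hAC)
        · exact Nat.Coprime.coprime_dvd_left (index_map_dvd _ hsur) (Nat.Coprime.coprime_dvd_right (index_map_dvd _ hsur) hBC)
      exact solvable_of_ker_le_range M.subtype (QuotientGroup.mk' M) (by rw [QuotientGroup.ker_mk', range_subtype])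
    by_cases hrB : r ∣ B.index
    · exact key C hC hAC fun hrC => hr.not_dvd_one (hBC ▸ Nat.dvd_gcd hrB hrC)
    · exact key B hB hAB hrB

theorem isSolvable_of_prime_power_index : ∀ (n : ℕ) (G : Type u) [Group G] [Finite G], Nat.card G ≤ n →
    (∀ H : Subgroup G, H ≠ ⊥ → ∀ p : ℕ, p.Prime → p ∣ Nat.card H →
      ∃ K : Subgroup H, K ≠ ⊤ ∧ ∃ k : ℕ, K.index = p ^ k) → Group.IsSolvable G := by
  intro n
  induction n with
  | zero => intro G _ _ h; exact absurd h (by have := Nat.card_pos (α := G); omega)
  | succ n ih =>
    intro G _ _ hn h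
    rcases subsingleton_or_nontrivial G with hs | hs
    · exact Group.isSolvable_of_comm fun a b => Subsingleton.elim _ _
    have hsub : ∀ K : Subgroup G, K ≠ ⊤ → Group.IsSolvable K := by
      intro K hK
      refine ih K ?_ fun H hH p hp hpd => ?_
      · have h1 := K.card_mul_index
        have h2 : 1 < K.index := Subgroup.one_lt_index_of_ne_top hK
        have h3 : 0 < Nat.card K := Nat.card_pos
        nlinarith
      · let e := H.equivMapOfInjective K.subtype K.subtype_injective
        obtain ⟨D, hD, k, hk⟩ := h (H.map K.subtype)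
          (fun h0 => hH ((Subgroup.map_eq_bot_iff_of_injective H K.subtype_injective).1 h0)) p hp
          (by rwa [← Nat.card_congr e.toEquiv])
        refine ⟨D.comap e.toMonoidHom, fun h0 => hD (Subgroup.comap_injective (f := e.toMonoidHom) e.surjective
          (h0.trans (Subgroup.comap_top _).symm)), k, ?_⟩
        rw [Subgroup.index_comap_of_surjective _ e.surjective, hk]
    have htop : ∀ p : ℕ, p.Prime → p ∣ Nat.card G → ∃ K : Subgroup G, Group.IsSolvable K ∧ ∃ k, K.index = p ^ k := by
      intro p hp hpd
      obtain ⟨K, hK, k, hk⟩ := h ⊤ top_ne_bot p hp (by rwa [card_top])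
      refine ⟨K.map (⊤ : Subgroup G).subtype, hsub _ fun h0 => hK ?_, k, by
        rw [index_map_subtype, hk, index_top, mul_one]⟩
      rw [← index_eq_one]
      have h1 := index_eq_one.2 h0
      rw [index_map_subtype, index_top, mul_one] at h1
      exact h1
    rcases lt_or_ge 2 (Nat.card G).primeFactors.card with h3 | h3
    · obtain ⟨p, hp, q, hq, r, hr, hpq, hpr, hqr⟩ := Finset.two_lt_card.1 h3
      obtain ⟨hp', hpd, -⟩ := Nat.mem_primeFactors.1 hp
      obtain ⟨hq', hqd, -⟩ := Nat.mem_primeFactors.1 hq
      obtain ⟨hr', hrd, -⟩ := Nat.mem_primeFactors.1 hr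
      obtain ⟨A, hA, a, ha⟩ := htop p hp' hpd
      obtain ⟨B, hB, b, hb⟩ := htop q hq' hqd
      obtain ⟨C, hC, c, hc⟩ := htop r hr' hrd
      refine isSolvable_of_three _ G le_rfl A B C hA hB hC ?_ ?_ ?_
      · rw [ha, hb]; exact Nat.Coprime.pow _ _ ((Nat.coprime_primes hp' hq').2 hpq)
      · rw [ha, hc]; exact Nat.Coprime.pow _ _ ((Nat.coprime_primes hp' hr').2 hpr)
      · rw [hb, hc]; exact Nat.Coprime.pow _ _ ((Nat.coprime_primes hq' hr').2 hqr)
    · -- at most two primes: Burnside
      have hne : (Nat.card G).primeFactors.Nonempty := Nat.nonempty_primeFactors.2 Finite.one_lt_card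
      have hprod := Nat.prod_factorization_pow_eq_self (n := Nat.card G) Nat.card_pos.ne'
      rw [Finsupp.prod, Nat.support_factorization] at hprod
      rcases (show (Nat.card G).primeFactors.card = 1 ∨ (Nat.card G).primeFactors.card = 2 by
        have := Finset.card_pos.2 hne; omega) with h1 | h2
      · obtain ⟨p, hp⟩ := Finset.card_eq_one.1 h1
        have hp' : p.Prime := Nat.prime_of_mem_primeFactors (hp ▸ Finset.mem_singleton_self p)
        rw [hp, Finset.prod_singleton] at hprod
        exact Cfsg.Lib.Chars.burnside_isSolvable p p hp' hp' G ⟨(Nat.card G).factorization p, 0, by rw [pow_zero, mul_one]; exact hprod.symm⟩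
      · obtain ⟨p, q, hpq, hpq'⟩ := Finset.card_eq_two.1 h2
        have hp' : p.Prime := Nat.prime_of_mem_primeFactors (hpq' ▸ Finset.mem_insert_self p {q})
        have hq' : q.Prime := Nat.prime_of_mem_primeFactors
          (hpq' ▸ Finset.mem_insert_of_mem (Finset.mem_singleton_self q))
        rw [hpq', Finset.prod_pair hpq] at hprod
        exact Cfsg.Lib.Chars.burnside_isSolvable p q hp' hq' G ⟨_, _, hprod.symm⟩

end Cfsg.Lib.SolvStruct.ThreeIndices
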