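/-
Assorted results on maximal subgroups and Sylow subgroups.
-/
import Cfsg.Agent.Chars.Burnside
import Cfsg.Agent.Small.Brodkey
import Cfsg.Agent.Coprime.SolvableBasics
import Cfsg.Agent.Coprime.Hall
import Cfsg.Agent.Transfer.Basic

set_option linter.style.haveILetI false
set_option linter.unusedSectionVars false

namespace Cfsg.Lib.SolvStruct

open Subgroup
open scoped Pointwise commutatorElement

universe u

variable {G : Type u} [Group G]

theorem exists_coatom_ge [Finite G] {H : Subgroup G} (h : H ≠ ⊤) : ∃ M : Subgroup G, IsCoatom M ∧ H ≤ M :=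
  (IsCoatomic.eq_top_or_exists_le_coatom H).resolve_left h

theorem exists_normal_sylow_aux (n : ℕ) : ∀ (G : Type u) [Group G] [Finite G] [Group.IsSolvable G]
    [Nontrivial G], Nat.card G = n →
    (∀ M : Subgroup G, IsCoatom M → (Nat.card M).Coprime M.index) →
    ∃ p : ℕ, p.Prime ∧ p ∣ Nat.card G ∧ ∀ P : Sylow p G, (P : Subgroup G).Normal := by
  induction n using Nat.strong_induction_on with
  | _ n ih =>
  intro G _ _ _ _ hn h
  obtain ⟨V, -, hVn, hVb, hVmin⟩ := Cfsg.Lib.Coprime.exists_minimal_normal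
    (inferInstance : (⊤ : Subgroup G).Normal) top_ne_bot
  haveI := hVn
  obtain ⟨hVc, p, hp, hVp, -⟩ := Cfsg.Lib.Coprime.minimal_normal_solvable inferInstance hVb hVmin
  haveI := hVc
  haveI := Fact.mk hp
  have hpV : p ∣ Nat.card V := by
    haveI := (Subgroup.nontrivial_iff_ne_bot V).2 hVb
    obtain ⟨k, hk0, hk⟩ := hVp.nontrivial_iff_card.1 inferInstance
    rw [hk]; exact dvd_pow_self p (by omega)
  have hpG : p ∣ Nat.card G := hpV.trans (Subgroup.card_subgroup_dvd_card V)
  by_cases hsyl : ¬ p ∣ V.index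
  · refine ⟨p, hp, hpG, fun P => ?_⟩
    have hPe : ((hVp.toSylow hsyl : Sylow p G) : Subgroup G) = V := rfl
    obtain ⟨g, hg⟩ := MulAction.exists_smul_eq G (hVp.toSylow hsyl) P
    rw [← hg, Cfsg.Lib.Transfer.sylow_smul_coe, hPe]
    exact Subgroup.Normal.map hVn _ (MulEquiv.surjective _)
  rw [not_not] at hsyl
  have hVM : ∀ M : Subgroup G, IsCoatom M → V ≤ M := by
    intro M hM
    by_contra hle
    have hMV : M ⊔ V = ⊤ := hM.2 _ (left_lt_sup.2 hle)
    have hdis : V ⊓ M = ⊥ := by
      refine (hVmin _ ?_ inf_le_left).resolve_right fun e => hle (e ▸ inf_le_right)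
      refine normalizer_eq_top_iff.1 (eq_top_iff.2 ?_)
      rw [← hMV]
      refine sup_le (Cfsg.Lib.Coprime.le_normalizer_inf le_normalizer_of_normal le_normalizer) ?_
      refine le_trans (fun v hv => ?_) (Subgroup.centralizer_le_normalizer _)
      exact fun w hw => congrArg Subtype.val (mul_comm' (⟨w, (Subgroup.mem_inf.1 hw).1⟩ : V) ⟨v, hv⟩)
    have hcard := Cfsg.Lib.Coprime.card_sup_of_inf_eq_bot (N := V) (H := M) le_normalizer_of_normal hdis
    rw [sup_comm, hMV, Subgroup.card_top] at hcard
    have hidx : M.index = Nat.card V := by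
      have := M.card_mul_index
      rw [hcard, mul_comm (Nat.card V)] at this
      exact Nat.eq_of_mul_eq_mul_left Nat.card_pos this
    have hVi : V.index = Nat.card M := by
      have := V.card_mul_index
      rw [hcard] at this
      exact Nat.eq_of_mul_eq_mul_left Nat.card_pos this
    exact hp.not_dvd_one (Nat.dvd_gcd (hVi ▸ hsyl) (hidx ▸ hpV) |>.trans (dvd_of_eq (h M hM)))
  -- `G / V`
  have hVtop : V ≠ ⊤ := fun e => by
    rw [e, Subgroup.index_top] at hsyl
    exact hp.not_dvd_one hsyl
  set π := QuotientGroup.mk' V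
  haveI : Nontrivial (G ⧸ V) := by
    rw [← Finite.one_lt_card_iff_nontrivial, ← Subgroup.index_eq_card]
    exact lt_of_le_of_ne (Nat.one_le_iff_ne_zero.2 Subgroup.index_ne_zero_of_finite)
      (fun e => hVtop (Subgroup.index_eq_one.1 e.symm))
  obtain ⟨q, hq, hqd, hqn⟩ := ih _ (hn ▸ Cfsg.Lib.Coprime.card_quotient_lt hVb) (G ⧸ V) rfl (by
    intro M hM
    have hM' : IsCoatom (M.comap π) := by
      refine ⟨fun e => hM.1 (Subgroup.comap_injective (QuotientGroup.mk'_surjective V) (e.trans (Subgroup.comap_top π).symm)),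
        fun L hL => ?_⟩
      have hVL : V ≤ L := le_trans (fun v hv => by
        show π v ∈ M
        rw [show π v = 1 from (QuotientGroup.eq_one_iff v).2 hv]; exact one_mem M) hL.le
      have e : (L.map π).comap π = L := by
        rw [Subgroup.comap_map_eq, QuotientGroup.ker_mk', sup_eq_left.2 hVL]
      have := hM.2 (L.map π) (lt_of_le_of_ne (by
        rw [← Subgroup.map_comap_eq_self_of_surjective (QuotientGroup.mk'_surjective V) M]
        exact Subgroup.map_mono hL.le) (fun e' => hL.ne (by rw [e', e])))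
      rw [← e, this, Subgroup.comap_top]
    have h1 := h _ hM'
    rw [Subgroup.index_comap_of_surjective _ (QuotientGroup.mk'_surjective V)] at h1
    refine Nat.Coprime.coprime_dvd_left ?_ h1
    have := Subgroup.card_map_dvd (M.comap π) π
    rwa [Subgroup.map_comap_eq_self_of_surjective (QuotientGroup.mk'_surjective V) M] at this)
  haveI := Fact.mk hq
  have hqG : q ∣ Nat.card G := by
    rw [← V.card_mul_index, Subgroup.index_eq_card]
    exact hqd.trans (dvd_mul_left _ _)
  refine ⟨q, hq, hqG, fun P => ?_⟩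
  haveI := hqn (P.mapSurjective (QuotientGroup.mk'_surjective V))
  have hU : ((P : Subgroup G) ⊔ V).Normal := by
    have := (hqn (P.mapSurjective (QuotientGroup.mk'_surjective V))).comap π
    rwa [Sylow.coe_mapSurjective, Subgroup.comap_map_eq, QuotientGroup.ker_mk'] at this
  by_cases hqp : q = p
  · subst hqp
    have hle : V ≤ (P : Subgroup G) := Cfsg.Lib.Coprime.pCore_le_sylow q P |> fun hh =>
      le_trans (le_sSup (show V ∈ {K : Subgroup G | K.Normal ∧ IsPGroup q K} from ⟨hVn, hVp⟩)) hh
    rwa [sup_eq_left.2 hle] at hU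
  haveI := hU
  set U := (P : Subgroup G) ⊔ V
  have hfr := Sylow.normalizer_sup_eq_top' (N := U) P le_sup_left
  by_contra hPn
  obtain ⟨M, hM, hNM⟩ := exists_coatom_ge (fun e : normalizer (P : Set G) = ⊤ => hPn (normalizer_eq_top_iff.1 e))
  refine hM.1 (eq_top_iff.2 ?_)
  rw [← hfr]
  exact sup_le hNM (sup_le (le_normalizer.trans hNM) (hVM M hM))

theorem isSolvable_of_index_prime_sq_aux (n : ℕ) : ∀ (G : Type u) [Group G] [Finite G], Nat.card G = n →
    (∀ M : Subgroup G, IsCoatom M → ∃ p : ℕ, p.Prime ∧ (M.index = p ∨ M.index = p ^ 2)) →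
    Group.IsSolvable G := by
  induction n using Nat.strong_induction_on with
  | _ n ih =>
  intro G _ _ hn h
  rcases eq_or_ne (Nat.card G) 1 with h1 | h1
  · haveI : Subsingleton G := (Nat.card_eq_one_iff_unique.1 h1).1
    infer_instance
  obtain ⟨p, hp, hpmax⟩ : ∃ p, p ∈ (Nat.card G).primeFactors ∧ ∀ q ∈ (Nat.card G).primeFactors, q ≤ p := by
    have hne : (Nat.card G).primeFactors.Nonempty := Nat.nonempty_primeFactors.2 (by
      have : 0 < Nat.card G := Nat.card_pos
      omega)
    exact ⟨_, Finset.max'_mem _ hne, fun q hq => Finset.le_max' _ q hq⟩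
  have hpp := Nat.prime_of_mem_primeFactors hp
  haveI := Fact.mk hpp
  obtain ⟨P⟩ : Nonempty (Sylow p G) := inferInstance
  by_cases hPn : (P : Subgroup G).Normal
  · haveI := hPn
    have hPb : (P : Subgroup G) ≠ ⊥ := fun e => by
      have := Sylow.dvd_card_of_dvd_card P (Nat.dvd_of_mem_primeFactors hp)
      rw [e, Subgroup.card_bot, Nat.dvd_one] at this
      exact hpp.ne_one this
    haveI := P.2.isNilpotent
    have hq := ih _ (hn ▸ Cfsg.Lib.Coprime.card_quotient_lt hPb) (G ⧸ (P : Subgroup G)) rfl fun M hM => by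
      have hM' : IsCoatom (M.comap (QuotientGroup.mk' (P : Subgroup G))) := by
        refine ⟨fun e => hM.1 (Subgroup.comap_injective (QuotientGroup.mk'_surjective _) (e.trans (Subgroup.comap_top _).symm)),
          fun L hL => ?_⟩
        have hVL : (P : Subgroup G) ≤ L := le_trans (fun v hv => by
          show QuotientGroup.mk' (P : Subgroup G) v ∈ M
          rw [show QuotientGroup.mk' (P : Subgroup G) v = 1 from (QuotientGroup.eq_one_iff v).2 hv]
          exact one_mem M) hL.le
        have e : (L.map (QuotientGroup.mk' (P : Subgroup G))).comap (QuotientGroup.mk' (P : Subgroup G)) = L := by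
          rw [Subgroup.comap_map_eq, QuotientGroup.ker_mk', sup_eq_left.2 hVL]
        have := hM.2 (L.map (QuotientGroup.mk' (P : Subgroup G))) (lt_of_le_of_ne (by
          rw [← Subgroup.map_comap_eq_self_of_surjective (QuotientGroup.mk'_surjective (P : Subgroup G)) M]
          exact Subgroup.map_mono hL.le) (fun e' => hL.ne (by rw [e', e])))
        rw [← e, this, Subgroup.comap_top]
      obtain ⟨r, hr, hr'⟩ := h _ hM'
      rw [Subgroup.index_comap_of_surjective _ (QuotientGroup.mk'_surjective _)] at hr'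
      exact ⟨r, hr, hr'⟩
    exact (Group.isSolvable_iff_subgroup_quotient (P : Subgroup G)).2 ⟨inferInstance, hq⟩
  obtain ⟨M, hM, hNM⟩ := exists_coatom_ge (fun e : normalizer (P : Set G) = ⊤ => hPn (normalizer_eq_top_iff.1 e))
  have hPM : (P : Subgroup G) ≤ M := le_normalizer.trans hNM
  have hmod : M.index ≡ 1 [MOD p] := by
    have h1 := card_sylow_modEq_one p G
    have h2 := card_sylow_modEq_one p M
    rw [P.card_eq_index_normalizer, ← Subgroup.relIndex_mul_index hNM] at h1
    rw [(P.subtype hPM).card_eq_index_normalizer] at h2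
    have e : normalizer ((P.subtype hPM : Sylow p M) : Set M) = (normalizer (P : Set G)).subgroupOf M := by
      ext v
      rw [Subgroup.mem_subgroupOf, Subgroup.mem_set_normalizer_iff, Subgroup.mem_set_normalizer_iff]
      constructor
      · intro hv z
        constructor
        · intro hz
          exact (hv ⟨z, hPM hz⟩).1 hz
        · intro hz
          have hzM : z ∈ M := by
            have := M.mul_mem (M.mul_mem (M.inv_mem v.2) (hPM hz)) v.2
            rwa [show (v : G)⁻¹ * ((v : G) * z * (v : G)⁻¹) * v = z by group] at this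
          exact (hv ⟨z, hzM⟩).2 hz
      · intro hv z
        exact hv z
    rw [e] at h2
    change (normalizer (P : Set G)).relIndex M ≡ 1 [MOD p] at h2
    calc M.index = 1 * M.index := (one_mul _).symm
      _ ≡ (normalizer (P : Set G)).relIndex M * M.index [MOD p] := (h2.symm.mul_right _)
      _ ≡ 1 [MOD p] := h1
  obtain ⟨q, hq, hqi⟩ := h M hM
  have hqd : q ∣ M.index := by rcases hqi with e | e <;> rw [e] <;> simp
  have hqG : q ∈ (Nat.card G).primeFactors :=
    Nat.mem_primeFactors.2 ⟨hq, hqd.trans M.index_dvd_card, Nat.card_pos.ne'⟩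
  have hqle := hpmax q hqG
  have hqne : q ≠ p := by
    rintro rfl
    have : q ∣ 1 := (hmod.dvd_iff dvd_rfl).1 hqd
    exact hq.not_dvd_one this
  have h2 := hq.two_le
  have hlt : q < p := lt_of_le_of_ne hqle hqne
  have hsq : M.index = q ^ 2 := hqi.resolve_left fun e => by
    rw [e, Nat.ModEq, Nat.mod_eq_of_lt hlt, Nat.mod_eq_of_lt hpp.one_lt] at hmod
    omega
  have hq1 : p = q + 1 := by
    have hd : p ∣ q ^ 2 - 1 := (Nat.modEq_iff_dvd' (Nat.one_le_pow _ _ (by omega))).1 (hsq ▸ hmod).symm
    rw [show q ^ 2 - 1 = (q + 1) * (q - 1) by rw [show q ^ 2 - 1 = q ^ 2 - 1 ^ 2 by norm_num, Nat.sq_sub_sq]] at hd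
    rcases hpp.dvd_mul.1 hd with h3 | h3
    · have := Nat.le_of_dvd (by omega) h3; omega
    · have := Nat.le_of_dvd (by omega) h3; omega
  have hp3 : p = 3 := by
    rcases hq.eq_two_or_odd with e | e
    · omega
    · rcases hpp.eq_two_or_odd with e' | e'
      · omega
      · omega
  refine Cfsg.Lib.Chars.burnside_isSolvable 2 3 Nat.prime_two Nat.prime_three G ?_
  refine ⟨(Nat.card G).factorization 2, (Nat.card G).factorization 3, ?_⟩
  refine (Nat.prod_primeFactors_pow_factorization (n := Nat.card G) Nat.card_pos.ne').trans ?_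
  have hsub : (Nat.card G).primeFactors ⊆ {2, 3} := fun r hr => by
    have h1 := hpmax r hr
    have h2 := (Nat.prime_of_mem_primeFactors hr).two_le
    simp only [Finset.mem_insert, Finset.mem_singleton]
    omega
  rw [Finset.prod_subset hsub fun r _ hr => by
    rw [← Nat.support_factorization, Finsupp.notMem_support_iff] at hr
    rw [hr, pow_zero], Finset.prod_pair (by norm_num)]

theorem card_sylow_eq_prime_of_lt_sq [Finite G] [IsSimpleGroup G] {p : ℕ} [hp : Fact p.Prime]
    (hS : ¬ IsMulCommutative G) (hpd : p ∣ Nat.card G) (hn : Nat.card (Sylow p G) < p ^ 2) (P : Sylow p G) :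
    Nat.card P = p := by
  classical
  have hno : ∀ U : Subgroup G, U.Normal → IsPGroup p U → U = ⊥ := by
    intro U hU hUp
    rcases IsSimpleGroup.eq_bot_or_eq_top_of_normal U hU with h | h
    · exact h
    exfalso
    have hG : IsPGroup p G := (h ▸ hUp).of_equiv Subgroup.topEquiv
    haveI := hG.isNilpotent
    apply hS
    rcases IsSimpleGroup.eq_bot_or_eq_top_of_normal (Subgroup.center G) inferInstance with hc | hc
    · haveI : Nontrivial G := IsSimpleGroup.toNontrivial
      haveI := hG.center_nontrivial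
      exact absurd hc ((Subgroup.nontrivial_iff_ne_bot _).1 inferInstance)
    · exact ⟨⟨fun a b => (Subgroup.mem_center_iff.1 (hc.ge (Subgroup.mem_top b)) a)⟩⟩
  set φ := MulAction.toPermHom G (Sylow p G) with hφdef
  have hker : φ.ker = ⊥ := by
    rcases IsSimpleGroup.eq_bot_or_eq_top_of_normal φ.ker inferInstance with h | h
    · exact h
    exfalso
    have hn' : (P : Subgroup G).Normal := normalizer_eq_top_iff.1 (eq_top_iff.2 fun g _ =>
      Sylow.smul_eq_iff_mem_normalizer.1 (Equiv.congr_fun (h.ge (Subgroup.mem_top g)) P))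
    have hb := hno _ hn' P.2
    have := Sylow.dvd_card_of_dvd_card P hpd
    rw [hb, Subgroup.card_bot, Nat.dvd_one] at this
    exact hp.out.ne_one this
  have hφ := (MonoidHom.ker_eq_bot_iff φ).1 hker
  -- orbits of a `p`-subgroup have at most `p` points
  have horb : ∀ (R : Sylow p G) (X : Sylow p G), (MulAction.stabilizer (R : Subgroup G) X).index ∣ p := by
    intro R X
    obtain ⟨k, hk⟩ := R.2.exists_card_eq
    obtain ⟨j, -, hj⟩ := (Nat.dvd_prime_pow hp.out).1 (hk ▸ (MulAction.stabilizer (R : Subgroup G) X).index_dvd_card)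
    rw [hj]
    refine (Nat.pow_dvd_pow p (show j ≤ 1 from ?_)).trans (pow_one p).dvd
    by_contra hlt
    have h1 : p ^ 2 ≤ (MulAction.stabilizer (R : Subgroup G) X).index :=
      hj ▸ Nat.pow_le_pow_right hp.out.pos (not_le.1 hlt)
    rw [MulAction.index_stabilizer] at h1
    have h2 := Set.ncard_le_ncard (Set.subset_univ (MulAction.orbit (R : Subgroup G) X)) (Set.toFinite _)
    rw [Set.ncard_univ] at h2
    omega
  have hab : ∀ R : Sylow p G, IsMulCommutative (R : Subgroup G) := by
    intro R
    haveI := R.2.isNilpotent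
    refine ⟨⟨fun u v => ?_⟩⟩
    rw [← commutatorElement_eq_one_iff_mul_comm]
    refine Subtype.ext (hφ (Equiv.ext fun X => ?_))
    show (⁅u, v⁆ : (R : Subgroup G)) • X = (1 : G) • X
    rw [one_smul, ← MulAction.mem_stabilizer_iff]
    set T := MulAction.stabilizer (R : Subgroup G) X
    rcases (Nat.dvd_prime hp.out).1 (horb R X) with h1 | h1
    · rw [Subgroup.index_eq_one] at h1
      exact h1.ge (Subgroup.mem_top _)
    · haveI hTn : T.Normal := by
        refine Subgroup.normal_of_index_eq_minFac_card ?_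
        obtain ⟨k, hk⟩ := R.2.exists_card_eq
        have hk0 : k ≠ 0 := fun e => by
          have := T.index_dvd_card
          rw [h1, hk, e, pow_zero, Nat.dvd_one] at this
          exact hp.out.ne_one this
        rw [h1, hk, Nat.Prime.pow_minFac hp.out hk0]
      rw [← QuotientGroup.eq_one_iff, ← QuotientGroup.mk'_apply, map_commutatorElement,
        commutatorElement_eq_one_iff_commute]
      haveI : Fact (Nat.card ((R : Subgroup G) ⧸ T)).Prime := ⟨by rw [← Subgroup.index_eq_card, h1]; exact hp.out⟩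
      haveI : IsCyclic ((R : Subgroup G) ⧸ T) := isCyclic_of_prime_card (p := p) (by rw [← Subgroup.index_eq_card, h1])
      letI := IsCyclic.commGroup (α := (R : Subgroup G) ⧸ T)
      exact Commute.all _ _
  obtain ⟨A, B, hAB⟩ := Cfsg.Lib.Small.exists_inf_eq_iInf p hab
  have hbot : (⨅ R : Sylow p G, (R : Subgroup G)) = ⊥ := by
    refine hno _ ?_ (P.2.to_le (iInf_le _ P))
    refine ⟨fun v hv g => ?_⟩
    rw [Subgroup.mem_iInf] at hv ⊢
    intro R
    have h2 := hv (g⁻¹ • R)
    rw [Sylow.coe_subgroup_smul, Subgroup.mem_pointwise_smul_iff_inv_smul_mem, MulAut.smul_def] at h2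
    simpa [mul_assoc] using h2
  rw [hbot] at hAB
  have hstab : MulAction.stabilizer (A : Subgroup G) B = ⊥ := by
    rw [eq_bot_iff_forall]
    intro a ha
    have haN : (a : G) ∈ normalizer (B : Set G) := Sylow.smul_eq_iff_mem_normalizer.1 (MulAction.mem_stabilizer_iff.1 ha)
    obtain ⟨k, hk⟩ := IsPGroup.iff_orderOf.1 A.2 a
    rw [← Subgroup.orderOf_coe] at hk
    have h1 := (IsPGroup.of_card ((Nat.card_zpowers (a : G)).trans hk)).inf_normalizer_sylow B
    rw [inf_eq_left.2 (zpowers_le.2 haN)] at h1
    have : (a : G) ∈ (A : Subgroup G) ⊓ (B : Subgroup G) :=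
      Subgroup.mem_inf.2 ⟨a.2, h1.le.trans inf_le_right (mem_zpowers _)⟩
    rw [hAB, Subgroup.mem_bot] at this
    exact Subtype.ext this
  have h3 := horb A B
  rw [hstab, Subgroup.index_bot] at h3
  have h4 := Sylow.dvd_card_of_dvd_card A hpd
  have h5 : Nat.card (A : Subgroup G) = p := Nat.dvd_antisymm h3 h4
  exact (P.card_eq_multiplicity.trans A.card_eq_multiplicity.symm).trans h5

end Cfsg.Lib.SolvStruct
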