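/-
A solvable group is the product, in any order, of Sylow subgroups for all its primes.
-/
import Cfsg.Agent.Coprime.Hall

set_option linter.style.haveILetI false

namespace Cfsg.Lib.SylowProd

open Subgroup

universe u

theorem prod_mul_mem {G : Type u} [Group G] (N : Subgroup G) [N.Normal] :
    ∀ {t : ℕ} (S : Fin t → Subgroup G) (s : Fin t → G), (∀ i, s i ∈ S i) → (∃ j, N ≤ S j) → ∀ n ∈ N,
      ∃ s' : Fin t → G, (∀ i, s' i ∈ S i) ∧ (List.ofFn s).prod * n = (List.ofFn s').prod := by
  intro t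
  induction t with
  | zero => intro S s _ hj; obtain ⟨j, -⟩ := hj; exact j.elim0
  | succ t ih =>
    intro S s hs hj n hn
    obtain ⟨j, hj⟩ := hj
    simp only [List.ofFn_succ, List.prod_cons]
    set tl := (List.ofFn fun i => s i.succ).prod
    rcases Fin.eq_zero_or_eq_succ j with rfl | ⟨j', rfl⟩
    · refine ⟨Fin.cons (s 0 * (tl * n * tl⁻¹)) (fun i => s i.succ), fun i => ?_, ?_⟩
      · rcases Fin.eq_zero_or_eq_succ i with rfl | ⟨i', rfl⟩
        · rw [Fin.cons_zero]; exact mul_mem (hs 0) (hj (‹N.Normal›.conj_mem n hn tl))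
        · rw [Fin.cons_succ]; exact hs _
      · simp only [Fin.cons_zero, Fin.cons_succ]
        show s 0 * tl * n = s 0 * (tl * n * tl⁻¹) * tl
        group
    · obtain ⟨s', hs', he⟩ := ih (fun i => S i.succ) (fun i => s i.succ) (fun i => hs _) ⟨j', hj⟩ n hn
      refine ⟨Fin.cons (s 0) s', fun i => ?_, ?_⟩
      · rcases Fin.eq_zero_or_eq_succ i with rfl | ⟨i', rfl⟩
        · rw [Fin.cons_zero]; exact hs 0
        · rw [Fin.cons_succ]; exact hs' _
      · simp only [Fin.cons_zero, Fin.cons_succ]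
        rw [mul_assoc, he]

theorem mem_prod : ∀ (m : ℕ) (G : Type u) [Group G] [Finite G] [Group.IsSolvable G] (t : ℕ) (p : Fin t → ℕ),
    (∀ i, (p i).Prime) → Function.Injective p → (∀ q : ℕ, q.Prime → q ∣ Nat.card G → ∃ i, p i = q) →
    ∀ S : (i : Fin t) → Sylow (p i) G, Nat.card G ≤ m → ∀ g : G,
      ∃ s : (i : Fin t) → G, (∀ i, s i ∈ (S i : Subgroup G)) ∧ g = (List.ofFn s).prod := by
  intro m
  induction m with
  | zero => intro G _ _ _ t p _ _ _ S h; exact absurd h (not_le.2 Nat.card_pos)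
  | succ m ih =>
    intro G _ _ _ t p hp hinj hall S hm g
    rcases subsingleton_or_nontrivial G with h | h
    · exact ⟨fun _ => 1, fun i => one_mem _, Subsingleton.elim _ _⟩
    obtain ⟨N, -, hN, hNb, hmin⟩ := Cfsg.Lib.Coprime.exists_minimal_normal
      (inferInstance : (⊤ : Subgroup G).Normal) top_ne_bot
    haveI := hN
    obtain ⟨-, q, hq, hNp, -⟩ := Cfsg.Lib.Coprime.minimal_normal_solvable inferInstance hNb hmin
    haveI := Fact.mk hq
    obtain ⟨j, hj⟩ := hall q hq ((hNp.card_eq_or_dvd.resolve_left fun e => hNb (card_eq_one.1 e)).trans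
      (card_subgroup_dvd_card N))
    subst hj
    set π := QuotientGroup.mk' N
    have hlt : Nat.card (G ⧸ N) ≤ m := by
      have := Cfsg.Lib.Coprime.card_quotient_lt hNb
      omega
    haveI : ∀ i, Fact (p i).Prime := fun i => ⟨hp i⟩
    obtain ⟨s, hs, hsg⟩ := ih (G ⧸ N) t p hp hinj
      (fun r hr hd => hall r hr (hd.trans (card_quotient_dvd_card N)))
      (fun i => (S i).mapSurjective (QuotientGroup.mk'_surjective N)) hlt (π g)
    have hlift : ∀ i, ∃ x ∈ (S i : Subgroup G), π x = s i := fun i => by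
      have := hs i
      rwa [Sylow.coe_mapSurjective] at this
    choose x hx hxs using hlift
    have hprod : π (List.ofFn x).prod = π g := by
      rw [map_list_prod, List.map_ofFn, hsg, show (π ∘ x) = s from funext hxs]
    have hNS : N ≤ (S j : Subgroup G) := hNp.le_sylow_of_normal (S j)
    obtain ⟨s', hs', he⟩ := prod_mul_mem N (fun i => (S i : Subgroup G)) x hx ⟨j, hNS⟩ _ (QuotientGroup.eq.1 hprod)
    exact ⟨s', hs', by rw [← he, mul_inv_cancel_left]⟩

end Cfsg.Lib.SylowProd
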