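/-
Herstein: a group with an abelian maximal subgroup is solvable of derived length at most three.
-/
import Cfsg.Agent.Frobenius.Kernel

set_option linter.style.haveILetI false
set_option linter.unusedSectionVars false

namespace Cfsg.Lib.SolvStruct

open Subgroup
open scoped Pointwise commutatorElement

universe u

theorem derivedSeries_succ_le {G : Type*} [Group G] {n : ℕ} {H : Subgroup G} (h : derivedSeries G n ≤ H)
    (hab : ∀ a ∈ H, ∀ b ∈ H, a * b = b * a) : derivedSeries G (n + 1) = ⊥ := by
  rw [eq_bot_iff, derivedSeries_succ]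
  refine (commutator_mono h h).trans ((commutator_le).2 fun a ha b hb => ?_)
  rw [Subgroup.mem_bot, commutatorElement_def, hab a ha b hb]
  group

theorem commutator_le_of_complement {G : Type*} [Group G] {N A : Subgroup G} [N.Normal]
    (hc : N.IsComplement' A) (hab : ∀ a ∈ A, ∀ b ∈ A, a * b = b * a) : commutator G ≤ N := by
  have key : ∀ g : G, ∃ a ∈ A, (g : G ⧸ N) = (a : G ⧸ N) := by
    intro g
    obtain ⟨⟨n, a⟩, h⟩ := hc.2 g
    refine ⟨a, a.2, ?_⟩
    rw [← h, QuotientGroup.mk_mul, (QuotientGroup.eq_one_iff (n : G)).2 n.2, one_mul]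
  rw [_root_.commutator_def, commutator_le]
  intro x _ y _
  obtain ⟨a, ha, hx⟩ := key x
  obtain ⟨b, hb, hy⟩ := key y
  rw [← QuotientGroup.eq_one_iff, ← QuotientGroup.mk'_apply, map_commutatorElement,
    QuotientGroup.mk'_apply, QuotientGroup.mk'_apply, hx, hy, commutatorElement_eq_one_iff_mul_comm,
    ← QuotientGroup.mk_mul, ← QuotientGroup.mk_mul, hab a ha b hb]

/-- **Herstein.** -/
theorem derivedSeries_three_of_abelian_maximal {G : Type u} [Group G] [Finite G] (A : Subgroup G)
    (hA : IsCoatom A) (hab : ∀ a ∈ A, ∀ b ∈ A, a * b = b * a) : derivedSeries G 3 = ⊥ := by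
  have step : derivedSeries G 2 = ⊥ → derivedSeries G 3 = ⊥ := fun h =>
    derivedSeries_succ_le (H := ⊥) h.le fun a ha b hb => by
      rw [Subgroup.mem_bot.1 ha, Subgroup.mem_bot.1 hb]
  set Z := Subgroup.center G with hZdef
  by_cases hZA : Z ≤ A
  swap
  · -- then `G` is abelian
    have hAC : A < A ⊔ Z := left_lt_sup.2 hZA
    have htop := hA.2 _ hAC
    apply step
    refine derivedSeries_succ_le (H := ⊤) le_top fun a _ b _ => ?_
    have : A ⊔ Z ≤ centralizer ((A ⊔ Z : Subgroup G) : Set G) := by
      refine sup_le (fun u hu v hv => ?_) (Subgroup.center_le_centralizer _)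
      have : A ⊔ Z ≤ centralizer ({u} : Set G) := by
        refine sup_le (fun w hw => mem_centralizer_singleton_iff.2 (hab w hw u hu)) (Subgroup.center_le_centralizer _)
      exact mem_centralizer_singleton_iff.1 (this hv)
    rw [htop] at this
    exact (this (Subgroup.mem_top a) b (Subgroup.mem_top b)).symm
  by_cases hAn : A.Normal
  · -- `G / A` has no proper nontrivial subgroup, so it is cyclic
    apply step
    refine derivedSeries_succ_le (n := 1) (H := A) ?_ hab
    rw [derivedSeries_one]
    obtain ⟨g, hg⟩ : ∃ g, g ∉ A := by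
      by_contra h
      push Not at h
      exact hA.1 (eq_top_iff.2 fun g _ => h g)
    have htop : zpowers (g : G ⧸ A) = ⊤ := by
      have hlt : A < (zpowers (g : G ⧸ A)).comap (QuotientGroup.mk' A) := by
        refine lt_of_le_not_ge ?_ fun h => hg (h (mem_zpowers (g : G ⧸ A)))
        intro a ha
        show ((a : G) : G ⧸ A) ∈ zpowers (g : G ⧸ A)
        rw [(QuotientGroup.eq_one_iff a).2 ha]
        exact one_mem _
      have := hA.2 _ hlt
      rw [← Subgroup.comap_top (QuotientGroup.mk' A)] at this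
      exact Subgroup.comap_injective (QuotientGroup.mk'_surjective A) this
    rw [_root_.commutator_def, commutator_le]
    intro x _ y _
    rw [← QuotientGroup.eq_one_iff, ← QuotientGroup.mk'_apply, map_commutatorElement,
      commutatorElement_eq_one_iff_mul_comm]
    obtain ⟨i, hi⟩ := htop.ge (Subgroup.mem_top (QuotientGroup.mk' A x))
    obtain ⟨j, hj⟩ := htop.ge (Subgroup.mem_top (QuotientGroup.mk' A y))
    rw [← hi, ← hj]
    exact ((Commute.refl (g : G ⧸ A)).zpow_zpow i j).eq
  -- `A` is self-normalising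
  have hNA : normalizer (A : Set G) = A :=
    ((eq_or_lt_of_le le_normalizer).resolve_right fun h => hAn (normalizer_eq_top_iff.1 (hA.2 _ h))).symm
  have hTI : ∀ x : G, x ∉ A → ∀ a ∈ A, x⁻¹ * a * x ∈ A → a ∈ Z := by
    intro x hx a ha hax
    have hc : A < centralizer ({a} : Set G) := by
      refine lt_of_le_not_ge (fun u hu => mem_centralizer_singleton_iff.2 (hab u hu a ha)) fun hle => ?_
      -- otherwise `x A x⁻¹ ≤ A`
      apply hx
      rw [← hNA]
      have hsub : A.map (MulAut.conj x).toMonoidHom ≤ A := by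
        rintro _ ⟨u, hu, rfl⟩
        apply hle
        rw [mem_centralizer_singleton_iff]
        show x * u * x⁻¹ * a = a * (x * u * x⁻¹)
        have := hab u hu _ hax
        calc x * u * x⁻¹ * a = x * (u * (x⁻¹ * a * x)) * x⁻¹ := by group
          _ = x * ((x⁻¹ * a * x) * u) * x⁻¹ := by rw [this]
          _ = _ := by group
      have heq : A.map (MulAut.conj x).toMonoidHom = A :=
        Subgroup.eq_of_le_of_card_ge hsub (le_of_eq (Subgroup.card_map_of_injective (MulAut.conj x).injective).symm)
      rw [Subgroup.mem_normalizer_iff]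
      intro u
      conv_rhs => rw [← heq]
      exact ⟨fun hu => ⟨u, hu, rfl⟩, fun ⟨v, hv, e⟩ => by
        have : v = u := (MulAut.conj x).injective e
        exact this ▸ hv⟩
    have := hA.2 _ hc
    rw [hZdef, Subgroup.mem_center_iff]
    exact fun g => mem_centralizer_singleton_iff.1 (this.ge (Subgroup.mem_top g))
  let π := QuotientGroup.mk' Z
  have hπ : Function.Surjective π := QuotientGroup.mk'_surjective Z
  set Ab := A.map π with hAbdef
  have hcomap : Ab.comap π = A := by
    rw [hAbdef, Subgroup.comap_map_eq, QuotientGroup.ker_mk', sup_eq_left.2 hZA]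
  have hmax : IsCoatom Ab := by
    refine ⟨fun h => hA.1 (by rw [← hcomap, h, Subgroup.comap_top]), fun L hL => ?_⟩
    have := hA.2 (L.comap π) (hcomap ▸ (Subgroup.comap_lt_comap_of_surjective hπ).2 hL)
    exact Subgroup.comap_injective hπ (this.trans (Subgroup.comap_top π).symm)
  have habb : ∀ a ∈ Ab, ∀ b ∈ Ab, a * b = b * a := by
    rintro _ ⟨a, ha, rfl⟩ _ ⟨b, hb, rfl⟩
    rw [← map_mul, ← map_mul, hab a ha b hb]
  by_cases hAbot : Ab = ⊥
  · exfalso
    refine hAn ?_
    have : A = Z := le_antisymm (by rw [← hcomap, hAbot, MonoidHom.comap_bot, QuotientGroup.ker_mk']) hZA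
    rw [this]; infer_instance
  have hFr : IsFrobeniusComplement Ab := by
    refine ⟨hAbot, hmax.1, fun g hg => ?_⟩
    obtain ⟨x, rfl⟩ := hπ g
    have hx : x ∉ A := fun h => hg ⟨x, h, rfl⟩
    rw [eq_bot_iff_forall]
    rintro z ⟨hz1, hz2⟩
    obtain ⟨a, ha, rfl⟩ := hz1
    have h2 : (π x)⁻¹ * π a * π x ∈ Ab := by
      have hz2' : π a ∈ (MulAut.conj (π x) • Ab : Subgroup (G ⧸ Z)) := hz2
      rw [Subgroup.mem_pointwise_smul_iff_inv_smul_mem, ← map_inv, MulAut.smul_def, MulAut.conj_apply, inv_inv] at hz2'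
      exact hz2'
    rw [← map_inv, ← map_mul, ← map_mul] at h2
    have haZ : a ∈ Z := hTI x hx a ha (hcomap.le h2)
    exact (QuotientGroup.eq_one_iff a).2 haZ
  obtain ⟨N, hNset, hNn, hNc⟩ := Cfsg.Lib.Frobenius.exists_kernel hFr
  haveI := hNn
  haveI hNnil : Group.IsNilpotent N := Cfsg.Lib.Frobenius.isNilpotent_kernel hFr hNset
  -- no invariant subgroups between
  have hinv : ∀ L : Subgroup (G ⧸ Z), L.Normal → L ≤ N → L = ⊥ ∨ L = N := by
    intro L hL hLN
    have hd : N ⊓ Ab = ⊥ := disjoint_iff.1 hNc.disjoint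
    rcases eq_or_lt_of_le (le_sup_right : Ab ≤ L ⊔ Ab) with h | h
    · left
      rw [eq_bot_iff, ← hd]
      exact le_inf hLN (le_sup_left.trans h.ge)
    · right
      refine le_antisymm hLN fun n hn => ?_
      obtain ⟨l, hl, a, ha, hla⟩ := Subgroup.mem_sup_of_normal_left.1 ((hmax.2 _ h).ge (Subgroup.mem_top n))
      have : a ∈ N ⊓ Ab := Subgroup.mem_inf.2 ⟨by rw [show a = l⁻¹ * n by rw [← hla]; group]; exact mul_mem (inv_mem (hLN hl)) hn, ha⟩
      rw [hd, Subgroup.mem_bot] at this
      rw [← hla, this, mul_one]; exact hl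
  have hNab : ∀ a ∈ N, ∀ b ∈ N, a * b = b * a := by
    rcases hinv ((commutator N).map N.subtype) inferInstance (Subgroup.map_subtype_le _) with h | h
    · intro a ha b hb
      have hab' : (⁅(⟨a, ha⟩ : N), ⟨b, hb⟩⁆ : N) ∈ commutator N :=
        Subgroup.commutator_mem_commutator (Subgroup.mem_top _) (Subgroup.mem_top _)
      have := h.le (Subgroup.mem_map_of_mem N.subtype hab')
      rw [Subgroup.mem_bot, map_commutatorElement, commutatorElement_eq_one_iff_mul_comm] at this
      exact this
    · intro a ha b hb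
      haveI : Group.IsSolvable N := inferInstance
      rcases subsingleton_or_nontrivial N with hs | hn
      · exact (congrArg Subtype.val (Subsingleton.elim (⟨a * b, mul_mem ha hb⟩ : N) ⟨b * a, mul_mem hb ha⟩) :)
      · exfalso
        refine (Group.IsSolvable.commutator_lt_top_of_nontrivial N).ne ?_
        refine Subgroup.map_injective N.subtype_injective ?_
        rw [h, ← MonoidHom.range_eq_map, Subgroup.range_subtype]
  have h2 : derivedSeries (G ⧸ Z) 2 = ⊥ :=
    derivedSeries_succ_le (n := 1) (H := N) (by rw [derivedSeries_one]; exact commutator_le_of_complement hNc habb) hNab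
  refine derivedSeries_succ_le (n := 2) (H := Z) ?_ fun a _ b hb => (Subgroup.mem_center_iff.1 hb a)
  have := map_derivedSeries_eq hπ 2
  rw [h2, Subgroup.map_eq_bot_iff, QuotientGroup.ker_mk'] at this
  exact this

theorem isSolvable_of_abelian_maximal {G : Type u} [Group G] [Finite G] (A : Subgroup G)
    (hA : IsCoatom A) (hab : ∀ a ∈ A, ∀ b ∈ A, a * b = b * a) : Group.IsSolvable G :=
  (Group.isSolvable_def G).2 ⟨3, derivedSeries_three_of_abelian_maximal A hA hab⟩

end Cfsg.Lib.SolvStruct
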