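/-
Sylow and Hall subgroups of factorised groups.
-/
import Cfsg.Agent.Coprime.Hall
import Cfsg.Agent.Transfer.Basic

set_option linter.style.haveILetI false
set_option linter.unusedSectionVars false

namespace Cfsg.Lib.SolvStruct

open Subgroup Cfsg.Lib.Transfer
open scoped Pointwise

universe u

variable {G : Type u} [Group G]

theorem card_setMul_mul_card_inf [Finite G] (H K : Subgroup G) :
    Nat.card ↥((H : Set G) * (K : Set G)) * Nat.card ↥(H ⊓ K) = Nat.card H * Nat.card K := by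
  classical
  rw [← Nat.card_prod, ← Nat.card_prod]
  set Z := ↥((H : Set G) * (K : Set G))
  have hs : ∀ z : Z, ∃ x : H × K, (x.1 : G) * x.2 = z := fun z => by
    obtain ⟨a, ha, b, hb, e⟩ := Set.mem_mul.1 z.2
    exact ⟨(⟨a, ha⟩, ⟨b, hb⟩), e⟩
  choose s hs' using hs
  let m : H × K → Z := fun x => ⟨(x.1 : G) * x.2, Set.mem_mul.2 ⟨_, x.1.2, _, x.2.2, rfl⟩⟩
  have hm : ∀ x : H × K, ((m x : Z) : G) = (x.1 : G) * x.2 := fun x => rfl
  let f : Z × ↥(H ⊓ K) → H × K := fun zd =>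
    (⟨((s zd.1).1 : G) * zd.2, mul_mem (s zd.1).1.2 (Subgroup.mem_inf.1 zd.2.2).1⟩,
      ⟨(zd.2 : G)⁻¹ * (s zd.1).2, mul_mem (inv_mem (Subgroup.mem_inf.1 zd.2.2).2) (s zd.1).2.2⟩)
  refine Nat.card_eq_of_bijective f ⟨?_, ?_⟩
  · intro a b e
    have h1 : ((s a.1).1 : G) * a.2 = (s b.1).1 * b.2 := congrArg (fun x : H × K => (x.1 : G)) e
    have h2 : (a.2 : G)⁻¹ * (s a.1).2 = (b.2 : G)⁻¹ * (s b.1).2 := congrArg (fun x : H × K => (x.2 : G)) e
    have h3 : a.1 = b.1 := Subtype.ext (by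
      rw [← hs' a.1, ← hs' b.1]
      calc ((s a.1).1 : G) * (s a.1).2 = ((s a.1).1 * a.2) * ((a.2 : G)⁻¹ * (s a.1).2) := by group
        _ = ((s b.1).1 * b.2) * ((b.2 : G)⁻¹ * (s b.1).2) := by rw [h1, h2]
        _ = _ := by group)
    rw [h3] at h1
    exact Prod.ext h3 (Subtype.ext (mul_left_cancel h1))
  · intro x
    have e : ((s (m x)).1 : G)⁻¹ * x.1 = (s (m x)).2 * (x.2 : G)⁻¹ := by
      rw [eq_mul_inv_iff_mul_eq, mul_assoc, inv_mul_eq_iff_eq_mul]
      exact ((hs' (m x)).trans (hm x)).symm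
    have hd : ((s (m x)).1 : G)⁻¹ * x.1 ∈ H ⊓ K := by
      refine Subgroup.mem_inf.2 ⟨mul_mem (inv_mem (s (m x)).1.2) x.1.2, ?_⟩
      rw [e]
      exact mul_mem (s (m x)).2.2 (inv_mem x.2.2)
    refine ⟨(m x, ⟨_, hd⟩), Prod.ext (Subtype.ext (mul_inv_cancel_left _ _)) (Subtype.ext ?_)⟩
    show (((s (m x)).1 : G)⁻¹ * x.1)⁻¹ * (s (m x)).2 = x.2
    rw [e]; group

theorem setMul_eq_of_card_le [Finite G] (A B M : Subgroup G) (hA : A ≤ M) (hB : B ≤ M)
    (h : Nat.card M * Nat.card ↥(A ⊓ B) ≤ Nat.card A * Nat.card B) :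
    (M : Set G) = (A : Set G) * (B : Set G) := by
  refine (Set.eq_of_subset_of_ncard_le ?_ ?_ (Set.toFinite _)).symm
  · rintro _ ⟨a, ha, b, hb, rfl⟩
    exact mul_mem (hA ha) (hB hb)
  · rw [← card_setMul_mul_card_inf A B] at h
    rw [← Nat.card_coe_set_eq, ← Nat.card_coe_set_eq]
    exact Nat.le_of_mul_le_mul_right h Nat.card_pos

theorem exists_sylow_product [Finite G] (H K : Subgroup G) (hHK : ∀ g : G, ∃ h ∈ H, ∃ k ∈ K, g = h * k)
    (p : ℕ) [hp : Fact p.Prime] : ∃ (P : Sylow p H) (Q : Sylow p K) (R : Sylow p G),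
      ((R : Subgroup G) : Set G) = (((P : Subgroup H).map H.subtype : Subgroup G) : Set G) *
        (((Q : Subgroup K).map K.subtype : Subgroup G) : Set G) := by
  obtain ⟨P0⟩ : Nonempty (Sylow p H) := inferInstance
  obtain ⟨Q0⟩ : Nonempty (Sylow p K) := inferInstance
  obtain ⟨R0, hR0⟩ := (P0.2.map H.subtype).exists_le_sylow
  obtain ⟨R1, hR1⟩ := (Q0.2.map K.subtype).exists_le_sylow
  obtain ⟨g, hg⟩ := MulAction.exists_smul_eq G R1 R0
  obtain ⟨h, hh, k, hk, rfl⟩ := hHK g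
  set R : Sylow p G := k • R1
  set P : Sylow p H := (⟨h, hh⟩ : H)⁻¹ • P0
  set Q : Sylow p K := (⟨k, hk⟩ : K) • Q0
  refine ⟨P, Q, R, setMul_eq_of_card_le _ _ _ ?_ ?_ ?_⟩
  · rintro _ ⟨x, hx, rfl⟩
    rw [SetLike.mem_coe, show P = (⟨h, hh⟩ : H)⁻¹ • P0 from rfl, sylow_smul_coe, mem_map_conj, inv_inv] at hx
    have h1 : h * (x : G) * h⁻¹ ∈ (R0 : Subgroup G) := hR0 ⟨_, hx, rfl⟩
    have hR : R = h⁻¹ • R0 := by rw [← hg, smul_smul, inv_mul_cancel_left]
    rw [hR, sylow_smul_coe, mem_map_conj, inv_inv]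
    exact h1
  · rintro _ ⟨x, hx, rfl⟩
    rw [SetLike.mem_coe, show Q = (⟨k, hk⟩ : K) • Q0 from rfl, sylow_smul_coe, mem_map_conj] at hx
    rw [show R = k • R1 from rfl, sylow_smul_coe, mem_map_conj]
    exact hR1 ⟨_, hx, rfl⟩
  · have hGc : Nat.card G * Nat.card ↥(H ⊓ K) = Nat.card H * Nat.card K := by
      rw [← card_setMul_mul_card_inf]
      congr 1
      have e : (H : Set G) * (K : Set G) = Set.univ := Set.eq_univ_of_forall fun g => by
        obtain ⟨a, ha, b, hb, rfl⟩ := hHK g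
        exact ⟨a, ha, b, hb, rfl⟩
      rw [e]
      exact (Nat.card_congr (Equiv.Set.univ G)).symm
    have hf := congrArg (fun n => n.factorization p) hGc
    simp only [Nat.factorization_mul Nat.card_pos.ne' Nat.card_pos.ne', Finsupp.add_apply] at hf
    rw [card_map_of_injective H.subtype_injective, card_map_of_injective K.subtype_injective,
      P.card_eq_multiplicity, Q.card_eq_multiplicity, R.card_eq_multiplicity, ← pow_add, ← hf, pow_add]
    refine Nat.mul_le_mul_left _ ?_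
    set D := (P : Subgroup H).map H.subtype ⊓ (Q : Subgroup K).map K.subtype
    have hle : D ≤ H ⊓ K := inf_le_inf (map_subtype_le _) (map_subtype_le _)
    obtain ⟨i, hi⟩ := ((P.2.map H.subtype).to_le (inf_le_left : D ≤ _)).exists_card_eq
    rw [hi]
    refine Nat.pow_le_pow_right hp.out.pos ?_
    exact (hp.out.pow_dvd_iff_le_factorization Nat.card_pos.ne').1 (hi ▸ card_dvd_of_le hle)

theorem hall_product [Finite G] [Group.IsSolvable G] (H K A B : Subgroup G)
    (hHK : ∀ g : G, ∃ h ∈ H, ∃ k ∈ K, g = h * k) (hA : A ≤ H) (hAn : (A.subgroupOf H).Normal)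
    (hB : B ≤ K) (hBn : (B.subgroupOf K).Normal) (hAh : (Nat.card A).Coprime A.index)
    (hBh : (Nat.card B).Coprime B.index) (x y : G) :
    ∃ S : Subgroup G, (S : Set G) =
      ((MulAut.conj x • A : Subgroup G) : Set G) * ((MulAut.conj y • B : Subgroup G) : Set G) := by
  have hconjA : ∀ h ∈ H, MulAut.conj h • A = A := fun h hh =>
    map_conj_eq_self_iff.2 ((normal_subgroupOf_iff_le_normalizer hA).1 hAn hh)
  have hconjB : ∀ k ∈ K, MulAut.conj k • B = B := fun k hk =>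
    map_conj_eq_self_iff.2 ((normal_subgroupOf_iff_le_normalizer hB).1 hBn hk)
  -- `A B` is a subgroup
  set π : Set ℕ := {p | p ∣ Nat.card A ∨ p ∣ Nat.card B}
  obtain ⟨M0, hM0, hAM0⟩ := Cfsg.Lib.Coprime.exists_piHall_ge (π := π) (K := A)
    (fun p _ hd => Or.inl hd)
  obtain ⟨z, hz⟩ := Cfsg.Lib.Coprime.le_conj_piHall hM0 (K := B) (fun p _ hd => Or.inr hd)
  obtain ⟨k, hk, h, hh, rfl⟩ : ∃ k ∈ K, ∃ h ∈ H, z = k * h := by
    obtain ⟨h, hh, k, hk, e⟩ := hHK z⁻¹
    exact ⟨k⁻¹, inv_mem hk, h⁻¹, inv_mem hh, by rw [← mul_inv_rev, ← e, inv_inv]⟩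
  set M := MulAut.conj h • M0
  have hM : Cfsg.IsPiHall π M := Cfsg.Lib.Coprime.isPiHall_conjMap hM0 h
  have hAM : A ≤ M := by
    rw [← hconjA h hh]
    exact map_mono hAM0
  have hBM : B ≤ M := by
    have h1 : MulAut.conj k⁻¹ • B ≤ MulAut.conj k⁻¹ • (MulAut.conj (k * h) • M0) := map_mono hz
    rwa [hconjB k⁻¹ (inv_mem hk), smul_smul, ← map_mul, inv_mul_cancel_left] at h1
  have hfull : ∀ (C : Subgroup G), (Nat.card C).Coprime C.index → ∀ p : ℕ, p.Prime → p ∣ Nat.card C →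
      (Nat.card C).factorization p = (Nat.card G).factorization p := by
    intro C hC p hp hpC
    rw [← C.card_mul_index, Nat.factorization_mul Nat.card_pos.ne' C.index_ne_zero_of_finite,
      Finsupp.add_apply, Nat.factorization_eq_zero_of_not_dvd (n := C.index)
        (fun hd => hp.not_dvd_one ((Nat.dvd_gcd hpC hd).trans hC.dvd)), add_zero]
  have hMAB : (M : Set G) = (A : Set G) * (B : Set G) := by
    refine setMul_eq_of_card_le A B M hAM hBM (Nat.le_of_dvd (Nat.mul_pos Nat.card_pos Nat.card_pos) ?_)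
    rw [← Nat.factorization_prime_le_iff_dvd (mul_ne_zero Nat.card_pos.ne' Nat.card_pos.ne')
      (mul_ne_zero Nat.card_pos.ne' Nat.card_pos.ne')]
    intro p hp
    simp only [Nat.factorization_mul Nat.card_pos.ne' Nat.card_pos.ne', Finsupp.add_apply]
    have hle : ∀ {C D : Subgroup G}, C ≤ D →
        (Nat.card C).factorization p ≤ (Nat.card D).factorization p := fun hCD =>
      (Nat.factorization_le_iff_dvd Nat.card_pos.ne' Nat.card_pos.ne').2 (card_dvd_of_le hCD) p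
    have hMG : (Nat.card M).factorization p ≤ (Nat.card G).factorization p :=
      (Nat.factorization_le_iff_dvd Nat.card_pos.ne' Nat.card_pos.ne').2 M.card_subgroup_dvd_card p
    by_cases hpA : p ∣ Nat.card A
    · exact add_le_add (hMG.trans (hfull A hAh p hp hpA).ge) (hle inf_le_right)
    · have h0 : (Nat.card ↥(A ⊓ B)).factorization p = 0 :=
        Nat.factorization_eq_zero_of_not_dvd fun hd => hpA (hd.trans (card_dvd_of_le inf_le_left))
      by_cases hpB : p ∣ Nat.card B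
      · rw [h0, add_zero, hfull B hBh p hp hpB]
        exact hMG.trans (Nat.le_add_left _ _)
      · have hM0' : (Nat.card M).factorization p = 0 :=
          Nat.factorization_eq_zero_of_not_dvd fun hd => (hM.1 p hp hd).elim hpA hpB
        omega
  obtain ⟨h', hh', k', hk', e⟩ := hHK (x⁻¹ * y)
  refine ⟨MulAut.conj (x * h') • M, ?_⟩
  have eA : MulAut.conj x • A = MulAut.conj (x * h') • A := by
    rw [map_mul, ← smul_smul, hconjA h' hh']
  have eB : MulAut.conj y • B = MulAut.conj (x * h') • B := by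
    rw [show y = x * h' * k' by rw [mul_assoc, ← e, mul_inv_cancel_left], map_mul, ← smul_smul,
      hconjB k' hk']
  rw [eA, eB]
  show (MulAut.conj (x * h') : G → G) '' (M : Set G) = _
  rw [hMAB, Set.image_mul]
  rfl

end Cfsg.Lib.SolvStruct
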