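/-
Carter subgroups and system normalizers.
-/
import Cfsg.Agent.SolvStruct.Carter
import Cfsg.Agent.SolvStruct.Products

set_option linter.style.haveILetI false
set_option linter.unusedSectionVars false

namespace Cfsg.Lib.Carter

open Subgroup Cfsg.Lib.Transfer Cfsg.Lib.Coprime Cfsg.Lib.Systems
open scoped Pointwise commutatorElement

universe u

variable {G : Type u} [Group G] [Finite G]

/-- The `q'`-part of a nilpotent subgroup. -/
theorem exists_prime_complement (C : Subgroup G) (hC : Group.IsNilpotent C) (q : Nat.Primes) :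
    ∃ Nc : Subgroup G, Nc ≤ C ∧ (Nat.card Nc).Coprime q ∧ (∃ k, Nc.relIndex C = (q : ℕ) ^ k) ∧
      C ≤ normalizer (Nc : Set G) ∧ ∀ x ∈ C, (x ∈ Nc ↔ (orderOf x).Coprime q) := by
  haveI := Fact.mk q.2
  haveI := hC
  obtain ⟨N, hN, hc, k, hk⟩ := hasNormalPComplement_iff.1
    (Cfsg.Lib.Splitting.hasNormalPComplement_of_nilpotent (G := C) (q : ℕ))
  haveI := hN
  refine ⟨N.map C.subtype, map_subtype_le _, by rwa [card_map_of_injective C.subtype_injective],
    ⟨k, ?_⟩, ?_, fun x hx => ?_⟩
  · show ((N.map C.subtype).subgroupOf C).index = _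
    rw [subgroupOf, comap_map_eq_self_of_injective C.subtype_injective, hk]
  · rw [← normal_subgroupOf_iff_le_normalizer (map_subtype_le _), subgroupOf,
      comap_map_eq_self_of_injective C.subtype_injective]
    exact hN
  · rw [show x = C.subtype ⟨x, hx⟩ from rfl, mem_map_iff_mem C.subtype_injective,
      mem_iff_coprime_orderOf hc hk]
    show (orderOf (⟨x, hx⟩ : C)).Coprime q ↔ _
    rw [← Subgroup.orderOf_coe]
    rfl

theorem relIndex_mul_card {A B : Subgroup G} (h : A ≤ B) : A.relIndex B * Nat.card A = Nat.card B := by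
  have := relIndex_mul_relIndex (⊥ : Subgroup G) A B bot_le h
  rw [relIndex_bot_left, relIndex_bot_left] at this
  rw [← this, mul_comm]

theorem relIndex_eq_of_product {C M H : Subgroup G} (hC : C ≤ H) (hM : M ≤ H)
    (h : ∀ x ∈ H, ∃ c ∈ C, ∃ m ∈ M, x = c * m) : M.relIndex H = (C ⊓ M).relIndex C := by
  have hset : (H : Set G) = (C : Set G) * (M : Set G) := by
    ext x
    constructor
    · intro hx
      obtain ⟨c, hc, m, hm, rfl⟩ := h x hx
      exact ⟨c, hc, m, hm, rfl⟩
    · rintro ⟨c, hc, m, hm, rfl⟩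
      exact mul_mem (hC hc) (hM hm)
  have h1 := Cfsg.Lib.SolvStruct.card_setMul_mul_card_inf C M
  rw [← hset] at h1
  change Nat.card H * _ = _ at h1
  rw [← relIndex_mul_card hM, ← relIndex_mul_card (inf_le_left : C ⊓ M ≤ C)] at h1
  refine Nat.eq_of_mul_eq_mul_right (Nat.mul_pos (Nat.card_pos (α := ↥(C ⊓ M))) (Nat.card_pos (α := M))) ?_
  calc M.relIndex H * (Nat.card ↥(C ⊓ M) * Nat.card M) = M.relIndex H * Nat.card M * Nat.card ↥(C ⊓ M) := by ring
    _ = (C ⊓ M).relIndex C * Nat.card ↥(C ⊓ M) * Nat.card M := h1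
    _ = _ := by ring

theorem systemNormalizer_le_carter_aux (n : ℕ) : ∀ (G : Type u) [Group G] [Finite G] [Group.IsSolvable G],
    Nat.card G = n → ∀ (C : Subgroup G) (K : Nat.Primes → Subgroup G), Cfsg.IsCarterSubgroup C →
      Cfsg.IsComplementSystem K →
      (∀ p : Nat.Primes, ∀ x ∈ C, (orderOf x).Coprime p → x ∈ K p) → Cfsg.systemNormalizer K ≤ C := by
  induction n using Nat.strong_induction_on with
  | _ n ih =>
  intro G _ _ _ hn C K hC hK hred
  by_cases hCt : C = ⊤
  · rw [hCt]; exact le_top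
  haveI : Nontrivial G := by
    by_contra h
    rw [not_nontrivial_iff_subsingleton] at h
    exact hCt (Subsingleton.elim _ _)
  obtain ⟨N, -, hNn, hNb, hNmin⟩ := exists_minimal_normal (inferInstance : (⊤ : Subgroup G).Normal) top_ne_bot
  haveI := hNn
  obtain ⟨hNc, p0, hp0, hNp, -⟩ := minimal_normal_solvable inferInstance hNb hNmin
  haveI := Fact.mk hp0
  set f := QuotientGroup.mk' N
  have hf := QuotientGroup.mk'_surjective N
  -- the image of `K` reduces into the image of `C`
  have hq := ih _ (hn ▸ card_quotient_lt hNb) (G ⧸ N) rfl (C.map f) (fun p => (K p).map f)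
    (carter_map N hC) (map_system hK f hf) (by
      rintro p _ ⟨x, hx, rfl⟩ hcop
      haveI := Fact.mk p.2
      obtain ⟨a, b, ha, hb, hab, ⟨k, hk⟩, hbc⟩ := exists_pPart (p : ℕ) x
      have hfa : f a = 1 := by
        rw [← orderOf_eq_one_iff]
        refine Nat.eq_one_of_dvd_coprimes (hcop.pow_right k) ?_ ((orderOf_map_dvd f a).trans hk.dvd)
        exact orderOf_dvd_of_mem_zpowers (by rw [← MonoidHom.map_zpowers]; exact ⟨a, ha, rfl⟩)
      exact ⟨b, hred p b ((zpowers_le.2 hx) hb) hbc, by
        show f b = f x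
        rw [← hab, map_mul, hfa, one_mul]⟩)
  rw [systemNormalizer_map hK N] at hq
  set H := C ⊔ N
  have hDH : Cfsg.systemNormalizer K ≤ H := by
    have h1 := map_le_iff_le_comap.1 hq
    rwa [comap_map_eq, QuotientGroup.ker_mk'] at h1
  have hsplit : ∀ x ∈ H, ∃ c ∈ C, ∃ m ∈ N, x = c * m := fun x hx => by
    obtain ⟨c, hc, m, hm, rfl⟩ := mem_sup_of_normal_right.1 hx
    exact ⟨c, hc, m, hm, rfl⟩
  -- `N` lies in `K q` for `q ≠ p0`
  have hNK : ∀ q : Nat.Primes, (q : ℕ) ≠ p0 → N ≤ K q := fun q hne => by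
    obtain ⟨g, hg⟩ := le_conj_piHall (isPiHall_system hK q) (K := N) (fun r hr hd => by
      obtain ⟨k, hk⟩ := hNp.exists_card_eq
      rw [(Nat.prime_dvd_prime_iff_eq hr hp0).1 (hr.dvd_of_dvd_pow (hk ▸ hd))]
      exact fun e => hne e.symm)
    intro x hx
    have h1 := hg (hNn.conj_mem x hx g)
    rw [mem_conjMap] at h1
    simpa [mul_assoc] using h1
  by_cases hH : H = ⊤
  · -- `C` is a complement of `N`
    obtain ⟨hCm, hCN⟩ := complement_coatom N C hNc hNmin hH hCt
    have hNcen : ¬ N ≤ center G := fun hle => hNb (by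
      rw [← le_bot_iff, ← hCN]
      exact le_inf ((hle.trans (center_le_normalizer _)).trans hC.2.le) le_rfl)
    have hCD : C ≤ Cfsg.systemNormalizer K := fun c hc => mem_systemNormalizer.2 fun q => by
      obtain ⟨Nc, hNcC, hNcc, ⟨k, hk⟩, hnorm, hmem⟩ := exists_prime_complement C hC.1 q
      have hNcK : Nc ≤ K q := fun x hx => hred q x (hNcC hx) ((hmem x (hNcC hx)).1 hx)
      rcases eq_or_ne (q : ℕ) p0 with hq0 | hq0
      · -- `K q` is the complement part of `C`
        have hHall : Cfsg.IsPiHall {r : ℕ | r ≠ q} Nc := by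
          refine ⟨fun r hr hd => fun (e : r = (q : ℕ)) => hr.not_dvd_one
            (hNcc ▸ Nat.dvd_gcd hd (e ▸ dvd_rfl)), fun r hr hne hd => ?_⟩
          rw [← relIndex_mul_index hNcC, hk] at hd
          have hCi : C.index ∣ Nat.card N := by
            have h1 := relIndex_eq_of_product (C := N) (M := C) (H := H) le_sup_right le_sup_left
              fun x hx => by
                obtain ⟨m, hm, c, hc, rfl⟩ := mem_sup_of_normal_left.1 (show x ∈ N ⊔ C by rwa [sup_comm])
                exact ⟨m, hm, c, hc, rfl⟩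
            rw [hH, relIndex_top_right] at h1
            exact h1 ▸ relIndex_dvd_card _ _
          rcases hr.dvd_mul.1 hd with h1 | h1
          · exact hne ((Nat.prime_dvd_prime_iff_eq hr q.2).1 (hr.dvd_of_dvd_pow h1))
          · obtain ⟨i, hi⟩ := hNp.exists_card_eq
            exact hne (((Nat.prime_dvd_prime_iff_eq hr hp0).1
              (hr.dvd_of_dvd_pow (hi ▸ h1.trans hCi))).trans hq0.symm)
        rw [← eq_of_le_of_card_ge hNcK (piHall_card_eq (isPiHall_system hK q) hHall).le]
        exact hnorm hc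
      · have hKq : K q = Nc ⊔ N := by
          refine le_antisymm (fun x hx => ?_) (sup_le hNcK (hNK q hq0))
          obtain ⟨c', hc', m, hm, rfl⟩ := hsplit x (hH ▸ mem_top x)
          have hcK : c' ∈ K q := by
            simpa using mul_mem hx (inv_mem (hNK q hq0 hm))
          refine mul_mem (mem_sup_left ((hmem c' hc').2 ?_)) (mem_sup_right hm)
          haveI := Fact.mk q.2
          refine Nat.Coprime.coprime_dvd_left ?_ (q.2.coprime_iff_not_dvd.2 (not_dvd_card hK q)).symm
          rw [← Subgroup.orderOf_mk c' hcK]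
          exact orderOf_dvd_natCard _
        rw [hKq]
        exact le_normalizer_sup (H := C) hnorm le_normalizer_of_normal hc
    intro d hd
    obtain ⟨c, hc, m, hm, rfl⟩ := hsplit d (hH ▸ mem_top d)
    have hm' : m ∈ N ⊓ Cfsg.systemNormalizer K :=
      ⟨hm, by simpa using mul_mem (inv_mem (hCD hc)) hd⟩
    rw [minimal_inf_systemNormalizer hK hNb hNmin hNcen, mem_bot] at hm'
    rw [hm', mul_one]
    exact hc
  -- recursion in `H`
  let K' : Nat.Primes → Subgroup H := fun q => (K q).subgroupOf H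
  have hK' : Cfsg.IsComplementSystem K' := by
    rw [isComplementSystem_iff]
    intro q
    refine ⟨fun r hr hd => fun (e : r = (q : ℕ)) => not_dvd_card hK q ?_, fun r hr hne hd => ?_⟩
    · subst e
      refine hd.trans ?_
      rw [← card_map_of_injective H.subtype_injective, subgroupOf_map_subtype]
      exact card_dvd_of_le inf_le_left
    change r ∣ (K q).relIndex H at hd
    obtain ⟨Nc, hNcC, hNcc, ⟨k, hk⟩, -, hmem⟩ := exists_prime_complement C hC.1 q
    have hNcK : Nc ≤ K q := fun x hx => hred q x (hNcC hx) ((hmem x (hNcC hx)).1 hx)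
    rcases eq_or_ne (q : ℕ) p0 with hq0 | hq0
    · have h1 : (K q).relIndex H ∣ Nc.relIndex C * C.relIndex H := by
        rw [relIndex_mul_relIndex Nc C H hNcC le_sup_left]
        exact relIndex_dvd_of_le_left H hNcK
      have h2 : C.relIndex H ∣ Nat.card N := by
        rw [relIndex_eq_of_product (C := N) (M := C) (H := H) le_sup_right le_sup_left fun x hx => by
          obtain ⟨m, hm, c, hc, rfl⟩ := mem_sup_of_normal_left.1 (show x ∈ N ⊔ C by rwa [sup_comm])
          exact ⟨m, hm, c, hc, rfl⟩]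
        exact relIndex_dvd_card _ _
      rcases hr.dvd_mul.1 (hd.trans h1) with h3 | h3
      · exact hne ((Nat.prime_dvd_prime_iff_eq hr q.2).1 (hr.dvd_of_dvd_pow (hk ▸ h3)))
      · obtain ⟨i, hi⟩ := hNp.exists_card_eq
        exact hne (((Nat.prime_dvd_prime_iff_eq hr hp0).1
          (hr.dvd_of_dvd_pow (hi ▸ h3.trans h2))).trans hq0.symm)
    · rw [← inf_relIndex_right, relIndex_eq_of_product (C := C) (M := K q ⊓ H) (H := H) le_sup_left inf_le_right
        fun x hx => by
          obtain ⟨c, hc, m, hm, rfl⟩ := hsplit x hx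
          exact ⟨c, hc, m, ⟨hNK q hq0 hm, mem_sup_right hm⟩, rfl⟩] at hd
      have h1 : (C ⊓ (K q ⊓ H)).relIndex C ∣ Nc.relIndex C :=
        relIndex_dvd_of_le_left C (le_inf hNcC (le_inf hNcK (hNcC.trans le_sup_left)))
      exact hne ((Nat.prime_dvd_prime_iff_eq hr q.2).1 (hr.dvd_of_dvd_pow (hk ▸ hd.trans h1)))
  have hrec := ih _ (hn ▸ lt_of_le_of_ne (card_le_card_group H) fun e => hH ((card_eq_iff_eq_top H).1 e)) H rfl
    (C.subgroupOf H) K' (carter_subgroupOf hC le_sup_left) hK'
    (fun q x hx hcop => hred q x hx (by rwa [Subgroup.orderOf_coe]))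
  intro d hd
  refine hrec (x := ⟨d, hDH hd⟩) (mem_systemNormalizer.2 fun q => mem_normalizer_iff.2 fun x => ?_)
  exact mem_normalizer_iff.1 (mem_systemNormalizer.1 hd q) x

theorem exists_system_le_carter [Group.IsSolvable G] {C : Subgroup G} (hC : Cfsg.IsCarterSubgroup C) :
    ∃ K : Nat.Primes → Subgroup G, Cfsg.IsComplementSystem K ∧ Cfsg.systemNormalizer K ≤ C := by
  choose Nc hNcC hNcc _ _ hmem using fun q : Nat.Primes => exists_prime_complement C hC.1 q
  choose K hK hle using fun q : Nat.Primes =>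
    exists_piHall_ge (π := {r : ℕ | r ≠ q}) (K := Nc q)
      (fun r hr hd => fun (e : r = (q : ℕ)) => hr.not_dvd_one (hNcc q ▸ Nat.dvd_gcd hd (e ▸ dvd_rfl)))
  refine ⟨K, isComplementSystem_iff.2 hK, ?_⟩
  exact systemNormalizer_le_carter_aux _ G rfl C K hC (isComplementSystem_iff.2 hK)
    fun q x hx hcop => hle q ((hmem q x hx).2 hcop)

theorem exists_carter_ge_systemNormalizer [Group.IsSolvable G] {K : Nat.Primes → Subgroup G}
    (hK : Cfsg.IsComplementSystem K) :
    ∃ C : Subgroup G, Cfsg.IsCarterSubgroup C ∧ Cfsg.systemNormalizer K ≤ C := by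
  obtain ⟨C, hC⟩ := exists_carter G
  obtain ⟨L, hL, hLC⟩ := exists_system_le_carter hC
  obtain ⟨g, hg⟩ := systems_conj hL hK
  refine ⟨conjMap g C, carter_conjMap hC g, ?_⟩
  rw [show K = fun p => MulAut.conj g • L p from funext fun p => (hg p).symm, systemNormalizer_conj]
  exact conjMap_mono hLC

theorem carter_le_systemNormalizer_aux (n : ℕ) : ∀ (G : Type u) [Group G] [Finite G] [Group.IsSolvable G],
    Nat.card G = n → ∀ (F : Subgroup G) [F.Normal], Group.IsNilpotent F → Group.IsNilpotent (G ⧸ F) →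
    ∀ (C : Subgroup G) (K : Nat.Primes → Subgroup G), Cfsg.IsCarterSubgroup C →
      Cfsg.IsComplementSystem K → Cfsg.systemNormalizer K ≤ C → C ≤ Cfsg.systemNormalizer K := by
  induction n using Nat.strong_induction_on with
  | _ n ih =>
  intro G _ _ _ hn F _ hF hGF C K hC hK hDC
  set D := Cfsg.systemNormalizer K
  by_cases hG1 : Subsingleton G
  · exact fun x _ => Subsingleton.elim 1 x ▸ one_mem D
  haveI : Nontrivial G := not_subsingleton_iff_nontrivial.1 hG1
  -- a minimal normal subgroup centralised by `F`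
  obtain ⟨N, hNn, hNb, hNmin, hFN⟩ : ∃ N : Subgroup G, N.Normal ∧ N ≠ ⊥ ∧
      (∀ M : Subgroup G, M.Normal → M ≤ N → M = ⊥ ∨ M = N) ∧ F ≤ centralizer (N : Set G) := by
    by_cases hFb : F = ⊥
    · obtain ⟨N, -, h1, h2, h3⟩ := exists_minimal_normal (inferInstance : (⊤ : Subgroup G).Normal) top_ne_bot
      exact ⟨N, h1, h2, h3, hFb ▸ bot_le⟩
    · obtain ⟨N, hNF, h1, h2, h3⟩ := exists_minimal_normal ‹F.Normal› hFb
      haveI := h1
      refine ⟨N, h1, h2, h3, ?_⟩
      haveI := hF
      have hne : N ⊓ centralizer (F : Set G) ≠ ⊥ := fun e => by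
        refine inf_center_ne_bot (N.subgroupOf F) (fun e' => h2 (by
          rw [← map_subgroupOf_eq_of_le hNF, e', Subgroup.map_bot])) ?_
        rw [eq_bot_iff_forall]
        intro z hz
        have h4 : (z : G) ∈ N ⊓ centralizer (F : Set G) :=
          ⟨hz.1, fun f hf => congrArg Subtype.val (mem_center_iff.1 hz.2 ⟨f, hf⟩)⟩
        rw [e, mem_bot] at h4
        exact Subtype.ext h4
      have h5 := (h3 _ inferInstance inf_le_left).resolve_left hne
      exact fun f hf m hm => ((inf_eq_left.1 h5 hm) f hf).symm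
  haveI := hNn
  -- `G = D F`
  have hDF : D ⊔ F = ⊤ := by
    by_contra hne
    obtain ⟨M, hM, hle⟩ := (IsCoatomic.eq_top_or_exists_le_coatom (D ⊔ F)).resolve_left hne
    have hMn : M.Normal := by
      have hFM : F ≤ M := le_sup_right.trans hle
      set π := QuotientGroup.mk' F
      have hπ := QuotientGroup.mk'_surjective F
      have hM' : IsCoatom (M.map π) := by
        refine ⟨fun e => hM.1 ?_, fun L hL => ?_⟩
        · have h1 := congrArg (Subgroup.comap π) e
          rwa [comap_map_eq, QuotientGroup.ker_mk', sup_eq_left.2 hFM, comap_top] at h1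
        · have h1 : M < L.comap π := by
            refine lt_of_le_of_ne (map_le_iff_le_comap.1 hL.le) fun e => hL.ne ?_
            rw [e, map_comap_eq_self_of_surjective hπ]
          exact comap_injective hπ ((hM.2 _ h1).trans (comap_top π).symm)
      have h02 := (Group.isNilpotent_of_finite_tfae (G := G ⧸ F)).out 0 2
      have hn' : (M.map π).Normal := h02.1 hGF _ hM'
      have h2 := hn'.comap π
      rwa [comap_map_eq, QuotientGroup.ker_mk', sup_eq_left.2 hFM] at h2
    haveI := hMn
    exact hM.1 (top_le_iff.1 ((normalClosure_systemNormalizer hK).ge.trans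
      (normalClosure_le_normal (SetLike.coe_subset_coe.2 (le_sup_left.trans hle)))))
  have hgen : ∀ x : G, (∀ d ∈ C, x * d = d * x) → (∀ f ∈ F, x * f = f * x) → x ∈ center G := by
    intro x h1 h2
    refine mem_center_iff.2 fun g => ?_
    obtain ⟨d, hd, f, hf, rfl⟩ := mem_sup_of_normal_right.1 (hDF.ge (mem_top g))
    rw [mul_assoc, ← h2 f hf, ← mul_assoc, ← h1 d (hDC hd), mul_assoc]
  -- induction
  set q := QuotientGroup.mk' N
  have hq := QuotientGroup.mk'_surjective N
  haveI : (F.map q).Normal := ‹F.Normal›.map q hq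
  have hF' : Group.IsNilpotent (F.map q) := by
    haveI := hF
    exact Group.nilpotent_of_surjective (q.subgroupMap F) (q.subgroupMap_surjective F)
  have hGF' : Group.IsNilpotent ((G ⧸ N) ⧸ F.map q) := by
    haveI := hGF
    let φ : G ⧸ F →* (G ⧸ N) ⧸ F.map q := QuotientGroup.map F (F.map q) q (le_comap_map q F)
    refine Group.nilpotent_of_surjective φ fun y => ?_
    obtain ⟨y, rfl⟩ := QuotientGroup.mk'_surjective _ y
    obtain ⟨x, rfl⟩ := hq y
    exact ⟨x, rfl⟩
  have hrec := ih _ (hn ▸ card_quotient_lt hNb) (G ⧸ N) rfl (F.map q) hF' hGF' (C.map q)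
    (fun p => (K p).map q) (carter_map N hC) (map_system hK q hq) (by
      rw [systemNormalizer_map hK N]; exact map_mono hDC)
  rw [systemNormalizer_map hK N] at hrec
  have hCDN : C ≤ D ⊔ N := by
    have h1 := map_le_iff_le_comap.1 hrec
    rwa [comap_map_eq, QuotientGroup.ker_mk'] at h1
  have hWn : (C ⊓ N).Normal := by
    refine ⟨fun x hx g => ?_⟩
    obtain ⟨d, hd, f, hf, rfl⟩ := mem_sup_of_normal_right.1 (hDF.ge (mem_top g))
    have h1 : f * x = x * f := ((hFN hf) x hx.2).symm
    rw [show d * f * x * (d * f)⁻¹ = d * (f * x * f⁻¹) * d⁻¹ by group, h1, mul_inv_cancel_right]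
    exact Subgroup.mem_inf.2 ⟨mul_mem (mul_mem (hDC hd) hx.1) (inv_mem (hDC hd)), hNn.conj_mem x hx.2 d⟩
  have hCNcases := hNmin _ hWn inf_le_right
  intro c hc
  obtain ⟨d, hd, m, hm, rfl⟩ := mem_sup_of_normal_right.1 (hCDN hc)
  have hmC : m ∈ C ⊓ N := ⟨by simpa using mul_mem (inv_mem (hDC hd)) hc, hm⟩
  rcases hCNcases with e | e
  · rw [e, mem_bot] at hmC
    rw [hmC, mul_one]
    exact hd
  · -- `N` is central
    have hNC : N ≤ C := e ▸ inf_le_left
    have hcen : N ≤ center G := by
      haveI := hC.1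
      haveI : (N.subgroupOf C).Normal := inferInstance
      have hne := inf_center_ne_bot (N.subgroupOf C) (fun e' => hNb (by
        rw [← map_subgroupOf_eq_of_le hNC, e', Subgroup.map_bot]))
      obtain ⟨z, hz, hz1⟩ := ((N.subgroupOf C ⊓ center C).bot_or_exists_ne_one).resolve_left hne
      have hzc : (z : G) ∈ center G := hgen z
        (fun d hd => (congrArg Subtype.val (mem_center_iff.1 hz.2 ⟨d, hd⟩)).symm)
        (fun f hf => (hFN hf) z hz.1)
      have h6 := (hNmin (N ⊓ center G) inferInstance inf_le_left).resolve_left fun e' => hz1 (by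
        have h7 : (z : G) ∈ N ⊓ center G := ⟨hz.1, hzc⟩
        rw [e', mem_bot] at h7
        exact Subtype.ext h7)
      exact inf_eq_left.1 h6
    exact mul_mem hd (mem_systemNormalizer.2 fun p => center_le_normalizer _ (hcen hm))

theorem isSolvable_of_nilpotent_length_two (F : Subgroup G) [F.Normal] (hF : Group.IsNilpotent F)
    (hGF : Group.IsNilpotent (G ⧸ F)) : Group.IsSolvable G := by
  haveI := hF
  haveI := hGF
  exact (Group.isSolvable_iff_subgroup_quotient F).2 ⟨inferInstance, inferInstance⟩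

theorem carter_iff_systemNormalizer (F : Subgroup G) [F.Normal] (hF : Group.IsNilpotent F)
    (hGF : Group.IsNilpotent (G ⧸ F)) (C : Subgroup G) :
    Cfsg.IsCarterSubgroup C ↔
      ∃ K : Nat.Primes → Subgroup G, Cfsg.IsComplementSystem K ∧ C = Cfsg.systemNormalizer K := by
  haveI := isSolvable_of_nilpotent_length_two F hF hGF
  constructor
  · intro hC
    obtain ⟨K, hK, hle⟩ := exists_system_le_carter hC
    exact ⟨K, hK, le_antisymm (carter_le_systemNormalizer_aux _ G rfl F hF hGF C K hC hK hle) hle⟩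
  · rintro ⟨K, hK, rfl⟩
    obtain ⟨C, hC, hle⟩ := exists_carter_ge_systemNormalizer hK
    rwa [le_antisymm hle (carter_le_systemNormalizer_aux _ G rfl F hF hGF C K hC hK hle)]

end Cfsg.Lib.Carter
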