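/-
Products of two abelian subgroups.
-/
import Cfsg.Agent.S0572
import Cfsg.Agent.Coprime.Fitting
import Cfsg.Agent.Coprime.SolvableBasics
import Cfsg.Agent.Transfer.Basic

set_option linter.style.haveILetI false
set_option linter.unusedSectionVars false

namespace Cfsg.Lib.SolvStruct

open Subgroup Cfsg.Lib.Transfer
open scoped commutatorElement Pointwise

variable {G : Type*} [Group G]

theorem comm_of_abelian {A : Subgroup G} (hA : IsMulCommutative A) {x y : G} (hx : x ∈ A) (hy : y ∈ A) :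
    x * y = y * x :=
  congrArg Subtype.val (mul_comm' (⟨x, hx⟩ : A) ⟨y, hy⟩)

theorem inf_centralizer_normal (N : Subgroup G) [N.Normal] (S : Set G)
    (h : ∀ x ∈ N ⊓ centralizer S, ∀ c ∈ commutator G, c * x = x * c) : (N ⊓ centralizer S).Normal := by
  refine ⟨fun x hx g => ⟨‹N.Normal›.conj_mem x hx.1 g, fun s hs => ?_⟩⟩
  have hc : ⁅g⁻¹, s⁆ ∈ commutator G := commutator_mem_commutator (mem_top _) (mem_top _)
  have h1 := h x hx _ hc
  have h2 : s * x = x * s := hx.2 s hs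
  have h3 : g⁻¹ * s * g * x = x * (g⁻¹ * s * g) := by
    rw [show g⁻¹ * s * g = ⁅g⁻¹, s⁆ * s by rw [commutatorElement_def]; group, mul_assoc, h2,
      ← mul_assoc, h1, mul_assoc]
  calc s * (g * x * g⁻¹) = g * (g⁻¹ * s * g * x) * g⁻¹ := by group
    _ = g * (x * (g⁻¹ * s * g)) * g⁻¹ := by rw [h3]
    _ = g * x * g⁻¹ * s := by group

theorem exists_normal_le_of_abelian_product [Finite G] [Nontrivial G] (A B : Subgroup G)
    (hA : IsMulCommutative A) (hB : IsMulCommutative B) (hAB : ∀ g : G, ∃ a ∈ A, ∃ b ∈ B, g = a * b) :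
    ∃ N : Subgroup G, N.Normal ∧ N ≠ ⊥ ∧ (N ≤ A ∨ N ≤ B) := by
  classical
  haveI := hA
  haveI := hB
  by_cases hdis : A ⊓ B = ⊥
  swap
  · refine ⟨A ⊓ B, ⟨fun x hx g => ?_⟩, hdis, Or.inl inf_le_left⟩
    obtain ⟨a, ha, b, hb, rfl⟩ := hAB g
    rw [mul_assoc a b x, comm_of_abelian hB hb hx.2, ← mul_assoc a x b, comm_of_abelian hA ha hx.1]
    simpa [mul_assoc] using hx
  by_cases hG' : commutator G = ⊥
  · have hn : ∀ H : Subgroup G, H.Normal := fun H => ⟨fun x hx g => by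
      have : ⁅g, x⁆ ∈ commutator G := commutator_mem_commutator (mem_top _) (mem_top _)
      rw [hG', mem_bot, commutatorElement_eq_one_iff_mul_comm] at this
      rwa [this, mul_inv_cancel_right]⟩
    by_cases hAb : A = ⊥
    · refine ⟨⊤, inferInstance, top_ne_bot, Or.inr fun g _ => ?_⟩
      obtain ⟨a, ha, b, hb, rfl⟩ := hAB g
      rw [hAb, mem_bot] at ha
      rwa [ha, one_mul]
    · exact ⟨A, hn A, hAb, Or.inl le_rfl⟩
  have hab' : ∀ c ∈ commutator G, ∀ d ∈ commutator G, c * d = d * c := by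
    intro c hc d hd
    have h2 := Cfsg.Agent.S0572.result A B hAB
    rw [derivedSeries_succ, derivedSeries_one, commutator_eq_bot_iff_le_centralizer] at h2
    exact h2 hd c hc
  haveI : Nontrivial (commutator G) := (nontrivial_iff_ne_bot _).2 hG'
  obtain ⟨p, hp, hpd⟩ := Nat.exists_prime_and_dvd
    (Finite.one_lt_card (α := commutator G)).ne'
  haveI := Fact.mk hp
  -- the `p`-elements and `p'`-elements of `G'` form normal subgroups
  let X : Subgroup G :=
    { carrier := {x | x ∈ commutator G ∧ ∃ k, x ^ p ^ k = 1}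
      one_mem' := ⟨one_mem _, 0, one_pow _⟩
      mul_mem' := fun {x y} ⟨hx, k, hk⟩ ⟨hy, l, hl⟩ => ⟨mul_mem hx hy, k + l, by
        rw [(show Commute x y from hab' x hx y hy).mul_pow, pow_add, pow_mul, hk, one_pow, one_mul,
          mul_comm, pow_mul, hl, one_pow]⟩
      inv_mem' := fun {x} ⟨hx, k, hk⟩ => ⟨inv_mem hx, k, by rw [inv_pow, hk, inv_one]⟩ }
  haveI hXn : X.Normal := ⟨fun x ⟨hx, k, hk⟩ g =>
    ⟨(inferInstance : (commutator G).Normal).conj_mem x hx g, k, by rw [conj_pow, hk]; group⟩⟩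
  have hXp : IsPGroup p X := fun x => by
    obtain ⟨k, hk⟩ := x.2.2
    exact ⟨k, Subtype.ext hk⟩
  set U := Cfsg.pCore p G
  have hXU : X ≤ U := le_sSup (show X ∈ {K : Subgroup G | K.Normal ∧ IsPGroup p K} from ⟨hXn, hXp⟩)
  have hUp : IsPGroup p U := Cfsg.Lib.Components.isPGroup_pCore p
  haveI hUn : U.Normal := Cfsg.Lib.Components.pCore_normal' p
  have hU : U ≠ ⊥ := by
    obtain ⟨x, hx⟩ := exists_prime_orderOf_dvd_card' p hpd
    intro e
    have h1 : (x : G) ∈ X := ⟨x.2, 1, by rw [pow_one, ← hx, ← Subgroup.orderOf_coe, pow_orderOf_eq_one]⟩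
    have h2 := hXU h1
    rw [e, mem_bot, OneMemClass.coe_eq_one] at h2
    rw [h2, orderOf_one] at hx
    exact hp.ne_one hx.symm
  -- the product of the Sylow subgroups of `A` and `B` is a Sylow subgroup
  obtain ⟨PA⟩ : Nonempty (Sylow p A) := inferInstance
  obtain ⟨PB⟩ : Nonempty (Sylow p B) := inferInstance
  set Ap := (PA : Subgroup A).map A.subtype
  set Bp := (PB : Subgroup B).map B.subtype
  obtain ⟨P0, hP0⟩ := (PA.2.map A.subtype).exists_le_sylow
  obtain ⟨Q0, hQ0⟩ := (PB.2.map B.subtype).exists_le_sylow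
  obtain ⟨g, hg⟩ := MulAction.exists_smul_eq G P0 Q0
  obtain ⟨α, hα, β, hβ, hgab⟩ := hAB g⁻¹
  set T : Sylow p G := α⁻¹ • P0
  have hAT : Ap ≤ (T : Subgroup G) := fun x hx => by
    rw [sylow_smul_coe, mem_map_conj, inv_inv]
    rw [comm_of_abelian hA hα (map_subtype_le _ hx), mul_inv_cancel_right]
    exact hP0 hx
  have hBT : Bp ≤ (T : Subgroup G) := fun x hx => by
    have hT' : T = β • Q0 := by
      rw [← hg, smul_smul, eq_inv_mul_of_mul_eq hgab.symm, mul_assoc, inv_mul_cancel, mul_one]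
    rw [hT', sylow_smul_coe, mem_map_conj]
    rw [comm_of_abelian hB (inv_mem hβ) (map_subtype_le _ hx), mul_assoc, inv_mul_cancel, mul_one]
    exact hQ0 hx
  have hTsplit : ∀ t ∈ (T : Subgroup G), ∃ a ∈ Ap, ∃ b ∈ Bp, a * b = t := by
    have hinj : ∀ a ∈ A, ∀ b ∈ B, ∀ a' ∈ A, ∀ b' ∈ B, a * b = a' * b' → a = a' ∧ b = b' := by
      intro a ha b hb a' ha' b' hb' e
      have h1 : a'⁻¹ * a = b' * b⁻¹ := by
        rw [eq_mul_inv_iff_mul_eq, mul_assoc, e, inv_mul_cancel_left]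
      have h2 : a'⁻¹ * a ∈ A ⊓ B :=
        Subgroup.mem_inf.2 ⟨mul_mem (inv_mem ha') ha, h1 ▸ mul_mem hb' (inv_mem hb)⟩
      rw [hdis, mem_bot, inv_mul_eq_one] at h2
      subst h2
      exact ⟨rfl, mul_left_cancel e⟩
    have hcardG : Nat.card G = Nat.card A * Nat.card B := by
      rw [← Nat.card_prod]
      refine (Nat.card_eq_of_bijective (fun x : A × B => (x.1 : G) * x.2) ⟨?_, ?_⟩).symm
      · intro x y e
        obtain ⟨h1, h2⟩ := hinj _ x.1.2 _ x.2.2 _ y.1.2 _ y.2.2 e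
        exact Prod.ext (Subtype.ext h1) (Subtype.ext h2)
      · intro t
        obtain ⟨a, ha, b, hb, rfl⟩ := hAB t
        exact ⟨(⟨a, ha⟩, ⟨b, hb⟩), rfl⟩
    let f : Ap × Bp → (T : Subgroup G) := fun x =>
      ⟨(x.1 : G) * x.2, mul_mem (hAT x.1.2) (hBT x.2.2)⟩
    have hf : Function.Injective f := fun x y e => by
      obtain ⟨h1, h2⟩ := hinj _ (map_subtype_le _ x.1.2) _ (map_subtype_le _ x.2.2) _
        (map_subtype_le _ y.1.2) _ (map_subtype_le _ y.2.2) (congrArg Subtype.val e)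
      exact Prod.ext (Subtype.ext h1) (Subtype.ext h2)
    have hcard : Nat.card (Ap × Bp) = Nat.card (T : Subgroup G) := by
      rw [Nat.card_prod, card_map_of_injective A.subtype_injective,
        card_map_of_injective B.subtype_injective, PA.card_eq_multiplicity, PB.card_eq_multiplicity,
        T.card_eq_multiplicity, ← pow_add, hcardG,
        Nat.factorization_mul Nat.card_pos.ne' Nat.card_pos.ne', Finsupp.add_apply]
    have hs := ((Nat.bijective_iff_injective_and_card f).2 ⟨hf, hcard⟩).2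
    intro t ht
    obtain ⟨x, hx⟩ := hs ⟨t, ht⟩
    exact ⟨_, x.1.2, _, x.2.2, congrArg Subtype.val hx⟩
  have hUT : U ≤ (T : Subgroup G) := Cfsg.Lib.Coprime.pCore_le_sylow p T
  set W := U ⊓ centralizer ((T : Subgroup G) : Set G)
  have hWcomm : ∀ x ∈ W, ∀ c ∈ commutator G, c * x = x * c := by
    intro x hx c hc
    obtain ⟨a, b, ha, hb, hab, ⟨k, hk⟩, hbc⟩ := exists_pPart p c
    have haX : a ∈ X := ⟨(zpowers_le.2 hc) ha, k, hk ▸ pow_orderOf_eq_one a⟩
    have h1 : a * x = x * a := hx.2 a (hUT (hXU haX))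
    have h2 : b * x = x * b := by
      have hbG := (zpowers_le.2 hc) hb
      rw [← commutatorElement_eq_one_iff_mul_comm]
      have hdU : ⁅b, x⁆ ∈ U := by
        rw [commutatorElement_def]
        exact mul_mem (hUn.conj_mem x hx.1 b) (inv_mem hx.1)
      have hcj : x * b⁻¹ * x⁻¹ ∈ commutator G :=
        (inferInstance : (commutator G).Normal).conj_mem _ (inv_mem hbG) x
      rw [← orderOf_eq_one_iff]
      obtain ⟨l, hl⟩ := IsPGroup.iff_orderOf.1 hUp ⟨_, hdU⟩
      refine Nat.eq_one_of_dvd_coprimes (hbc.pow_right l) ?_ ?_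
      · refine orderOf_dvd_of_pow_eq_one ?_
        rw [commutatorElement_def, mul_assoc b x, mul_assoc b,
          (show Commute b (x * b⁻¹ * x⁻¹) from hab' _ hbG _ hcj).mul_pow, conj_pow, inv_pow,
          pow_orderOf_eq_one]
        group
      · rw [← hl, ← Subgroup.orderOf_coe]
    rw [← hab, mul_assoc, h2, ← mul_assoc, h1, mul_assoc]
  haveI hWn : W.Normal := inf_centralizer_normal U _ hWcomm
  have hWb : W ≠ ⊥ := by
    haveI := T.2.isNilpotent
    intro e
    refine Cfsg.Lib.Coprime.inf_center_ne_bot (U.subgroupOf (T : Subgroup G)) ?_ ?_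
    · rw [Ne, subgroupOf_eq_bot]
      exact fun h => hU (h.eq_bot_of_le hUT)
    · rw [eq_bot_iff_forall]
      intro z hz
      have h1 : (z : G) ∈ W := ⟨hz.1, fun t ht => congrArg Subtype.val (mem_center_iff.1 hz.2 ⟨t, ht⟩)⟩
      rw [e, mem_bot] at h1
      exact Subtype.ext h1
  -- `W` splits
  have hWsplit : ∀ z ∈ W, ∃ a ∈ W ⊓ A, ∃ b ∈ W ⊓ B, a * b = z := by
    intro z hz
    obtain ⟨a, ha, b, hb, hzab⟩ := hTsplit z (hUT hz.1)
    have haA : a ∈ A := map_subtype_le _ ha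
    have hbB : b ∈ B := map_subtype_le _ hb
    have hae : a = z * b⁻¹ := by rw [← hzab, mul_inv_cancel_right]
    have haC : a ∈ centralizer ((T : Subgroup G) : Set G) := by
      intro t ht
      obtain ⟨a', ha', b', hb', rfl⟩ := hTsplit t ht
      have h1 : a * a' = a' * a := comm_of_abelian hA haA (map_subtype_le _ ha')
      have h2 : a * b' = b' * a := by
        have h3 : b' * z = z * b' := hz.2 b' (hBT hb')
        have h4 : b⁻¹ * b' = b' * b⁻¹ :=
          comm_of_abelian hB (inv_mem hbB) (map_subtype_le _ hb')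
        rw [hae, mul_assoc, h4, ← mul_assoc, ← h3, mul_assoc]
      rw [mul_assoc, ← h2, ← mul_assoc, ← h1, mul_assoc]
    have haU : a ∈ U := by
      set V := W ⊔ zpowers a
      have hVn : V.Normal := by
        refine ⟨fun v hv g => ?_⟩
        have hga : ∀ g : G, g * a * g⁻¹ ∈ V := by
          intro g
          obtain ⟨γ, hγ, δ, hδ, rfl⟩ := hAB g
          have h4 : δ * b⁻¹ * δ⁻¹ = b⁻¹ := by
            rw [comm_of_abelian hB hδ (inv_mem hbB), mul_inv_cancel_right]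
          have h5 : δ * a * δ⁻¹ = (δ * z * δ⁻¹ * z⁻¹) * a := by
            calc δ * a * δ⁻¹ = (δ * z * δ⁻¹) * (δ * b⁻¹ * δ⁻¹) := by rw [hae]; group
              _ = _ := by rw [h4, hae]; group
          have h6 : γ * a * γ⁻¹ = a := by rw [comm_of_abelian hA hγ haA, mul_inv_cancel_right]
          rw [show γ * δ * a * (γ * δ)⁻¹ = γ * (δ * a * δ⁻¹) * γ⁻¹ by group, h5,
            show γ * ((δ * z * δ⁻¹ * z⁻¹) * a) * γ⁻¹ =
              (γ * (δ * z * δ⁻¹ * z⁻¹) * γ⁻¹) * (γ * a * γ⁻¹) by group, h6]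
          exact mul_mem (mem_sup_left (hWn.conj_mem _
            (mul_mem (hWn.conj_mem z hz δ) (inv_mem hz)) γ)) (mem_sup_right (mem_zpowers a))
        obtain ⟨w, hw, t, ht, rfl⟩ := mem_sup_of_normal_left.1 hv
        obtain ⟨k, rfl⟩ := mem_zpowers_iff.1 ht
        rw [← MulAut.conj_apply, map_mul, map_zpow, MulAut.conj_apply, MulAut.conj_apply]
        exact mul_mem (mem_sup_left (hWn.conj_mem w hw g)) (zpow_mem (hga g) k)
      have hVp : IsPGroup p V := T.2.to_le (sup_le (inf_le_left.trans hUT) (zpowers_le.2 (hAT ha)))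
      exact le_sSup (show V ∈ {K : Subgroup G | K.Normal ∧ IsPGroup p K} from ⟨hVn, hVp⟩)
        (mem_sup_right (mem_zpowers a))
    refine ⟨a, ⟨⟨haU, haC⟩, haA⟩, b, ⟨?_, hbB⟩, hzab⟩
    rw [eq_inv_mul_of_mul_eq hzab]
    have haW : a ∈ W := Subgroup.mem_inf.2 ⟨haU, haC⟩
    exact (mul_mem (inv_mem haW) hz : a⁻¹ * z ∈ W)
  -- `C_W(A)`
  haveI hCn : (W ⊓ centralizer (A : Set G)).Normal :=
    inf_centralizer_normal W _ fun x hx => hWcomm x hx.1
  by_cases hBA : ∀ b ∈ W ⊓ B, b ∈ centralizer (A : Set G) → b = 1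
  · by_cases hCb : W ⊓ centralizer (A : Set G) = ⊥
    · refine ⟨W, hWn, hWb, Or.inr fun z hz => ?_⟩
      obtain ⟨a, ha, b, hb, rfl⟩ := hWsplit z hz
      have : a ∈ (⊥ : Subgroup G) := hCb ▸ ⟨ha.1, fun x hx => comm_of_abelian hA hx ha.2⟩
      rw [mem_bot] at this
      rw [this, one_mul]
      exact hb.2
    · refine ⟨_, hCn, hCb, Or.inl fun z hz => ?_⟩
      obtain ⟨a, ha, b, hb, hzab⟩ := hWsplit z hz.1
      have hb1 : b = 1 := hBA b hb (eq_inv_mul_of_mul_eq hzab ▸
        mul_mem (inv_mem fun x hx => comm_of_abelian hA hx ha.2) hz.2)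
      rw [← hzab, hb1, mul_one]
      exact ha.2
  · push_neg at hBA
    obtain ⟨b, hb, hbA, hb1⟩ := hBA
    refine ⟨zpowers b, ⟨fun x hx g => ?_⟩, zpowers_ne_bot.2 hb1, Or.inr (zpowers_le.2 hb.2)⟩
    obtain ⟨a, ha, c, hc, rfl⟩ := hAB g
    have hxA : a * x = x * a := (zpowers_le.2 hbA) hx a ha
    have hxB : c * x = x * c := comm_of_abelian hB hc ((zpowers_le.2 hb.2) hx)
    rw [mul_assoc a c x, hxB, ← mul_assoc a x c, hxA]
    simpa [mul_assoc] using hx

end Cfsg.Lib.SolvStruct
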