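import Cfsg.Agent.SolvStruct.KegelWielandt.General
import Cfsg.Agent.Coprime.Hall
import Cfsg.Agent.S0572

/-!
Derived length of a product of an abelian group and a group of class at most two.
-/

set_option autoImplicit false
set_option linter.unusedSectionVars false

namespace Cfsg.Lib.SolvStruct.ClassTwo

open Subgroup
open scoped commutatorElement

universe u

/-- If `G = AB` is solvable with `A` abelian, `B` of class at most two and `A` together with `B'`
generates `G`, then `B` is abelian. -/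
theorem derived_eq_bot_of_sup_eq_top : ∀ (n : ℕ) (G : Type u) [Group G] [Finite G],
    Nat.card G = n → Group.IsSolvable G → ∀ (A B : Subgroup G), IsMulCommutative A →
    ⁅⁅B, B⁆, B⁆ = ⊥ → A ⊔ ⁅B, B⁆ = ⊤ → ⁅B, B⁆ = ⊥ := by
  intro n
  induction n using Nat.strong_induction_on with
  | _ n ih =>
  intro G _ _ hn hsol A B hA hB hgen
  rcases subsingleton_or_nontrivial G with h | h
  · exact Subsingleton.elim _ _
  obtain ⟨M, -, hMn, hMne, hMmin⟩ :=
    Cfsg.Lib.Coprime.exists_minimal_normal (G := G) (K := ⊤) inferInstance top_ne_bot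
  haveI := hMn
  haveI : Group.IsSolvable G := hsol
  obtain ⟨hMab, -⟩ := Cfsg.Lib.Coprime.minimal_normal_solvable (N := M) inferInstance hMne hMmin
  have hcM : ∀ x ∈ M, ∀ y ∈ M, x * y = y * x := fun x hx y hy =>
    congrArg Subtype.val (IsMulCommutative.is_comm.comm (⟨x, hx⟩ : M) ⟨y, hy⟩)
  have hcA : ∀ x ∈ A, ∀ y ∈ A, x * y = y * x := fun x hx y hy =>
    congrArg Subtype.val (IsMulCommutative.is_comm.comm (⟨x, hx⟩ : A) ⟨y, hy⟩)
  -- the quotient by `M`
  have hBM : ⁅B, B⁆ ≤ M := by
    have hlt : Nat.card (G ⧸ M) < n := by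
      rw [← hn, ← Subgroup.index_eq_card]
      have h1 := M.card_mul_index
      have h2 : 1 < Nat.card M := (Subgroup.one_lt_card_iff_ne_bot M).2 hMne
      have h3 : 0 < M.index := Nat.pos_of_ne_zero Subgroup.index_ne_zero_of_finite
      nlinarith
    have h := ih _ hlt (G ⧸ M) rfl inferInstance (A.map (QuotientGroup.mk' M))
      (B.map (QuotientGroup.mk' M)) inferInstance
      (by rw [← map_commutator, ← map_commutator, hB, Subgroup.map_bot])
      (by rw [← map_commutator, ← Subgroup.map_sup, hgen,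
        Subgroup.map_top_of_surjective _ (QuotientGroup.mk'_surjective M)])
    rw [← map_commutator, Subgroup.map_eq_bot_iff, QuotientGroup.ker_mk'] at h
    exact h
  have hAM : A ⊔ M = ⊤ := top_le_iff.1 (hgen.ge.trans (sup_le_sup_left hBM A))
  have hdec : ∀ g : G, ∃ a ∈ A, ∃ m ∈ M, a * m = g := fun g =>
    Subgroup.mem_sup_of_normal_right.1 (hAM.ge (mem_top g))
  -- `A` meets `M` trivially unless `G` is abelian
  by_cases hcomm : ∀ g : G, ∀ h : G, g * h = h * g
  · rw [commutator_eq_bot_iff_le_centralizer]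
    exact fun x _ => mem_centralizer_iff.2 fun y _ => hcomm y x
  -- the elements of `B` commute or centralise no element of `M`
  by_cases hall : ∀ b ∈ B, ∀ a ∈ A, ∀ m ∈ M, a * m = b → ∀ x ∈ M, a * x = x * a
  · rw [commutator_eq_bot_iff_le_centralizer]
    intro b hb
    refine mem_centralizer_iff.2 fun c hc => ?_
    obtain ⟨a, ha, m, hm, rfl⟩ := hdec b
    obtain ⟨a', ha', m', hm', rfl⟩ := hdec c
    have e1 := hall _ hb a ha m hm rfl
    have e2 := hall _ hc a' ha' m' hm' rfl
    calc a' * m' * (a * m) = a' * (a * m') * m := by rw [e1 m' hm']; group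
      _ = a * a' * (m * m') := by rw [hcM m hm m' hm', ← mul_assoc, hcA a' ha' a ha]; group
      _ = a * (a' * m) * m' := by group
      _ = a * m * (a' * m') := by rw [e2 m hm]; group
  push_neg at hall
  obtain ⟨b, hb, a, ha, m, hm, hab, x0, hx0, hne⟩ := hall
  -- the centraliser of `a` in `M` is normal in `G`
  haveI hCn : (M ⊓ centralizer {a}).Normal := by
    refine ⟨fun y hy g => ?_⟩
    obtain ⟨hyM, hyC⟩ := mem_inf.1 hy
    rw [mem_centralizer_singleton_iff] at hyC
    obtain ⟨a1, ha1, m1, hm1, rfl⟩ := hdec g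
    have e : a1 * m1 * y * (a1 * m1)⁻¹ = a1 * y * a1⁻¹ := by
      calc a1 * m1 * y * (a1 * m1)⁻¹ = a1 * (m1 * y * m1⁻¹) * a1⁻¹ := by group
        _ = a1 * y * a1⁻¹ := by rw [hcM m1 hm1 y hyM, mul_inv_cancel_right]
    rw [e]
    refine mem_inf.2 ⟨hMn.conj_mem y hyM a1, mem_centralizer_singleton_iff.2 ?_⟩
    calc a1 * y * a1⁻¹ * a = a1 * y * (a1⁻¹ * a) := by group
      _ = a1 * y * (a * a1⁻¹) := by rw [hcA a1⁻¹ (inv_mem ha1) a ha]
      _ = a1 * (y * a) * a1⁻¹ := by group
      _ = a1 * (a * y) * a1⁻¹ := by rw [hyC]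
      _ = a1 * a * y * a1⁻¹ := by group
      _ = a * a1 * y * a1⁻¹ := by rw [hcA a1 ha1 a ha]
      _ = a * (a1 * y * a1⁻¹) := by group
  have hC : M ⊓ centralizer {a} = ⊥ := by
    refine (hMmin _ hCn inf_le_left).resolve_right fun h => hne ?_
    exact (mem_centralizer_singleton_iff.1 (mem_inf.1 (h.ge hx0)).2).symm
  have hfree : ∀ y ∈ M, a * y = y * a → y = 1 := fun y hy h => by
    rw [← mem_bot, ← hC]
    exact mem_inf.2 ⟨hy, mem_centralizer_singleton_iff.2 h.symm⟩
  -- conjugation by `b` agrees with conjugation by `a` on `M`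
  have hbc : ∀ y ∈ M, b * y = y * b → y = 1 := fun y hy h => by
    refine hfree y hy ?_
    rw [← hab] at h
    have h1 : a * y * m = y * a * m := by
      calc a * y * m = a * (y * m) := mul_assoc _ _ _
        _ = a * (m * y) := by rw [hcM y hy m hm]
        _ = a * m * y := (mul_assoc _ _ _).symm
        _ = y * (a * m) := h
        _ = y * a * m := (mul_assoc _ _ _).symm
    exact mul_right_cancel h1
  rw [eq_bot_iff]
  intro y hy
  rw [mem_bot]
  have hyB : y ∈ B := commutator_le_self B hy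
  have hyM : y ∈ M := hBM hy
  -- `⁅b, y⁆` is central in `B`, hence trivial
  have h1 : ⁅b, y⁆ = 1 := by
    refine hbc _ (hBM (commutator_mem_commutator hb hyB)) ?_
    have : ⁅⁅b, y⁆, b⁆ ∈ (⊥ : Subgroup G) :=
      hB ▸ commutator_mem_commutator (commutator_mem_commutator hb hyB) hb
    exact (commutatorElement_eq_one_iff_mul_comm.1 (mem_bot.1 this)).symm
  exact hbc y hyM (commutatorElement_eq_one_iff_mul_comm.1 h1)

theorem derivedSeries_two_add_le {G : Type u} [Group G] (H : Subgroup G)
    (h : derivedSeries G 2 ≤ H) :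
    ∀ k, derivedSeries G (2 + k) ≤ (derivedSeries H k).map H.subtype := by
  intro k
  induction k with
  | zero =>
    intro x hx
    exact ⟨⟨x, h hx⟩, by simp, rfl⟩
  | succ k ih =>
    rw [← add_assoc, derivedSeries_succ, derivedSeries_succ, map_commutator]
    exact commutator_mono ih ih

theorem derivedSeries_eq_bot : ∀ (k : ℕ) (G : Type u) [Group G] [Finite G] (A B : Subgroup G),
    IsMulCommutative A → ⁅⁅B, B⁆, B⁆ = ⊥ → (∀ g : G, ∃ a ∈ A, ∃ b ∈ B, g = a * b) →
    (Nat.card ↥⁅B, B⁆).primeFactorsList.length = k → derivedSeries G (2 * (1 + k)) = ⊥ := by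
  intro k
  induction k using Nat.strong_induction_on with
  | _ k ih =>
  intro G _ _ A B hA hB hAB hk
  by_cases hD : ⁅B, B⁆ = ⊥
  · have hc : IsMulCommutative B := ⟨⟨fun x y => Subtype.ext (by
      have : ⁅(x : G), (y : G)⁆ ∈ ⁅B, B⁆ := commutator_mem_commutator x.2 y.2
      rw [hD, mem_bot] at this
      exact commutatorElement_eq_one_iff_mul_comm.1 this)⟩⟩
    exact eq_bot_iff.2 ((derivedSeries_antitone G (by omega : 2 ≤ 2 * (1 + k))).trans
      (Cfsg.Agent.S0572.result A B hAB).le)
  set H := A ⊔ ⁅B, B⁆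
  -- the normal closure of `B'` lies in `H`
  set K := normalClosure ((⁅B, B⁆ : Subgroup G) : Set G)
  have hKH : K ≤ H := by
    refine (Subgroup.closure_le H).2 fun x hx => ?_
    obtain ⟨y, hy, hxy⟩ := Group.mem_conjugatesOfSet_iff.1 hx
    obtain ⟨g, rfl⟩ := isConj_iff.1 hxy
    obtain ⟨a, ha, b, hb, rfl⟩ := hAB g
    have hyD : b * y * b⁻¹ ∈ ⁅B, B⁆ := by
      have h0 : ⁅y, b⁆ = 1 := mem_bot.1 (hB ▸ commutator_mem_commutator hy hb)
      rw [commutatorElement_eq_one_iff_mul_comm] at h0
      rw [← h0, mul_inv_cancel_right]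
      exact hy
    have haH : a ∈ H := le_sup_left (b := ⁅B, B⁆) ha
    show a * b * y * (a * b)⁻¹ ∈ H
    rw [show a * b * y * (a * b)⁻¹ = a * (b * y * b⁻¹) * a⁻¹ by group]
    exact mul_mem (mul_mem haH (le_sup_right (a := A) hyD)) (inv_mem haH)
  -- `G / K` is metabelian
  have h2 : derivedSeries G 2 ≤ H := by
    set f := QuotientGroup.mk' K
    have hf : Function.Surjective f := QuotientGroup.mk'_surjective K
    haveI : IsMulCommutative (A.map f) := inferInstance
    haveI : IsMulCommutative (B.map f) := by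
      have h0 : ⁅B.map f, B.map f⁆ = ⊥ := by
        rw [← map_commutator, Subgroup.map_eq_bot_iff, QuotientGroup.ker_mk']
        exact Subgroup.subset_normalClosure
      refine ⟨⟨fun x y => Subtype.ext ?_⟩⟩
      have := commutator_mem_commutator x.2 y.2
      rw [h0, mem_bot] at this
      exact commutatorElement_eq_one_iff_mul_comm.1 this
    have h0 := Cfsg.Agent.S0572.result (A.map f) (B.map f) fun x => by
      obtain ⟨g, rfl⟩ := hf x
      obtain ⟨a, ha, b, hb, rfl⟩ := hAB g
      exact ⟨f a, mem_map_of_mem f ha, f b, mem_map_of_mem f hb, map_mul f a b⟩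
    rw [← map_derivedSeries_eq hf, Subgroup.map_eq_bot_iff, QuotientGroup.ker_mk'] at h0
    exact h0.trans hKH
  -- the factorisation of `H`
  set A1 := A.subgroupOf H
  set B1 := B.subgroupOf H
  have hA1 : IsMulCommutative A1 := ⟨⟨fun x y => by
    have h0 : ((x : H) : G) * ((y : H) : G) = ((y : H) : G) * ((x : H) : G) :=
      congrArg Subtype.val (IsMulCommutative.is_comm.comm
        (⟨((x : H) : G), x.2⟩ : A) ⟨((y : H) : G), y.2⟩)
    exact Subtype.ext (Subtype.ext h0)⟩⟩
  have hmapB : B1.map H.subtype ≤ B := by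
    rintro _ ⟨x, hx, rfl⟩
    exact hx
  have hB1 : ⁅⁅B1, B1⁆, B1⁆ = ⊥ := by
    rw [← (Subgroup.map_injective H.subtype_injective).eq_iff, map_commutator, map_commutator,
      Subgroup.map_bot, eq_bot_iff, ← hB]
    exact commutator_mono (commutator_mono hmapB hmapB) hmapB
  have hAB1 : ∀ g : H, ∃ a ∈ A1, ∃ b ∈ B1, g = a * b := by
    intro g
    obtain ⟨a, ha, b, hb, h⟩ := hAB g
    have haH : a ∈ H := le_sup_left (b := ⁅B, B⁆) ha
    have hbH : b ∈ H := by
      rw [show b = a⁻¹ * g by rw [h, inv_mul_cancel_left]]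
      exact mul_mem (inv_mem haH) g.2
    exact ⟨⟨a, haH⟩, ha, ⟨b, hbH⟩, hb, Subtype.ext h⟩
  have hle : (⁅B1, B1⁆).map H.subtype ≤ ⁅B, B⁆ := by
    rw [map_commutator]
    exact commutator_mono hmapB hmapB
  have hcard : Nat.card ↥((⁅B1, B1⁆).map H.subtype) = Nat.card ↥⁅B1, B1⁆ :=
    Subgroup.card_map_of_injective H.subtype_injective
  have hdvd : Nat.card ↥⁅B1, B1⁆ ∣ Nat.card ↥⁅B, B⁆ := hcard ▸ Subgroup.card_dvd_of_le hle
  have hneq : Nat.card ↥⁅B1, B1⁆ ≠ Nat.card ↥⁅B, B⁆ := by
    intro he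
    have heq : (⁅B1, B1⁆).map H.subtype = ⁅B, B⁆ :=
      Subgroup.eq_of_le_of_card_ge hle (by rw [hcard, he])
    have hsol : Group.IsSolvable H := by
      haveI : Group.IsSolvable G := by
        haveI hAn : Group.IsNilpotent A := by
          letI : CommGroup A := { mul_comm := fun x y => IsMulCommutative.is_comm.comm x y }
          infer_instance
        have hBn : Group.IsNilpotent B := by
          have hq : commutator B ≤ center B := fun z hz => mem_center_iff.2 fun w => by
            have hz' : (z : G) ∈ ⁅B, B⁆ := by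
              rw [← Subgroup.map_subtype_commutator]
              exact mem_map_of_mem _ hz
            have h0 : ⁅(z : G), (w : G)⁆ = 1 := mem_bot.1 (hB ▸ commutator_mem_commutator hz' w.2)
            exact Subtype.ext (commutatorElement_eq_one_iff_mul_comm.1 h0).symm
          haveI : Group.IsNilpotent (Abelianization B) := inferInstance
          exact Subgroup.isNilpotent_of_ker_le_center Abelianization.of
            (by rw [Abelianization.ker_of]; exact hq)
        exact Cfsg.Lib.SolvStruct.KW.solvable_of_nilpotent_factors _ G rfl A B hAn hBn hAB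
      infer_instance
    have htop : A1 ⊔ ⁅B1, B1⁆ = ⊤ := by
      apply Subgroup.map_injective H.subtype_injective
      rw [Subgroup.map_sup, heq, subgroupOf_map_subtype, inf_of_le_left le_sup_left,
        ← MonoidHom.range_eq_map, range_subtype]
    have := derived_eq_bot_of_sup_eq_top _ H rfl hsol A1 B1 hA1 hB1 htop
    rw [this, Subgroup.map_bot] at heq
    exact hD heq.symm
  have hlt : (Nat.card ↥⁅B1, B1⁆).primeFactorsList.length < k := by
    have hpos : Nat.card ↥⁅B, B⁆ ≠ 0 := Nat.card_pos.ne'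
    have hsub := Nat.primeFactorsList_sublist_of_dvd hdvd hpos
    rw [← hk]
    refine lt_of_le_of_ne hsub.length_le fun he => hneq ?_
    rw [← Nat.prod_primeFactorsList (Nat.card_pos (α := ↥⁅B1, B1⁆)).ne', hsub.eq_of_length he,
      Nat.prod_primeFactorsList hpos]
  have hH := ih _ hlt H A1 B1 hA1 hB1 hAB1 rfl
  rw [eq_bot_iff]
  refine (derivedSeries_antitone G (by omega :
    2 + 2 * (1 + (Nat.card ↥⁅B1, B1⁆).primeFactorsList.length) ≤ 2 * (1 + k))).trans ?_
  refine (derivedSeries_two_add_le H h2 _).trans ?_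
  rw [hH, Subgroup.map_bot]

end Cfsg.Lib.SolvStruct.ClassTwo
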