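/-
Supersolvable Hall subgroups of equal order are conjugate.
-/
import Cfsg.Agent.SolvStruct.Huppert

set_option linter.style.haveILetI false
set_option linter.unusedSectionVars false

namespace Cfsg.Lib.SolvStruct.SupersolvableHall

open Subgroup
open scoped Pointwise

universe u

theorem exists_normal_sylow {G : Type u} [Group G] [Finite G] (H : Subgroup G) (hH : Cfsg.IsSupersolvable H)
    {p : ℕ} [Fact p.Prime] (hmax : ∀ q, q.Prime → q ∣ Nat.card H → q ≤ p) (hi : ¬ p ∣ H.index) :
    ∃ P : Sylow p G, (P : Subgroup G) ≤ H ∧ H ≤ normalizer ((P : Subgroup G) : Set G) := by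
  have hp : p.Prime := Fact.out
  obtain ⟨T, hTn, hTge, hTlt⟩ := Cfsg.Lib.Supersolvable.exists_normal_hall_ge hH p
  have hTp : IsPGroup p T := by
    refine IsPGroup.of_card (n := (Nat.card T).primeFactorsList.length)
      (Nat.eq_prime_pow_of_unique_prime_dvd Nat.card_pos.ne' fun {q} hq hqd => ?_)
    exact le_antisymm (hmax q hq (hqd.trans (card_subgroup_dvd_card T))) (hTge q hq hqd)
  have hidx : ¬ p ∣ (T.map H.subtype).index := by
    rw [index_map_subtype]
    exact hp.not_dvd_mul (fun h => lt_irrefl p (hTlt p hp h)) hi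
  refine ⟨(hTp.map H.subtype).toSylow hidx, map_subtype_le T, fun g hg => ?_⟩
  refine Subgroup.mem_normalizer_iff.2 fun x => ⟨?_, ?_⟩
  · rintro ⟨t, ht, rfl⟩
    exact ⟨⟨g, hg⟩ * t * ⟨g, hg⟩⁻¹, hTn.conj_mem t ht _, rfl⟩
  · rintro ⟨t, ht, htx⟩
    refine ⟨⟨g, hg⟩⁻¹ * t * ⟨g, hg⟩, hTn.conj_mem' t ht _, ?_⟩
    show g⁻¹ * (t : G) * g = x
    rw [show (t : G) = g * x * g⁻¹ from htx]; group

theorem conj_of_card_eq : ∀ (n : ℕ) (G : Type u) [Group G] [Finite G], ∀ H K : Subgroup G, Nat.card H ≤ n →
    Cfsg.IsSupersolvable H → Cfsg.IsSupersolvable K → Nat.card H = Nat.card K → (Nat.card H).Coprime H.index →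
    ∃ x : G, MulAut.conj x • H = K := by
  intro n
  induction n with
  | zero => intro G _ _ H K h; exact absurd h (by have := Nat.card_pos (α := H); omega)
  | succ n ih =>
    intro G _ _ H K hn hH hK hcard hcop
    rcases eq_or_ne H ⊥ with rfl | hne
    · rw [card_bot] at hcard
      exact ⟨1, by rw [map_one, one_smul]; exact (card_eq_one.1 hcard.symm).symm⟩
    have hneq : (Nat.card H).primeFactors.Nonempty := by
      rw [Nat.nonempty_primeFactors]; exact (one_lt_card_iff_ne_bot H).2 hne
    set p := (Nat.card H).primeFactors.max' hneq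
    have hpm : p ∈ (Nat.card H).primeFactors := Finset.max'_mem _ hneq
    obtain ⟨hp, hpd, -⟩ := Nat.mem_primeFactors.1 hpm
    haveI := Fact.mk hp
    have hmax : ∀ q, q.Prime → q ∣ Nat.card H → q ≤ p := fun q hq hqd =>
      Finset.le_max' _ _ (Nat.mem_primeFactors.2 ⟨hq, hqd, Nat.card_pos.ne'⟩)
    have hiK : K.index = H.index := by
      have h1 := K.card_mul_index
      rw [← H.card_mul_index, ← hcard] at h1
      exact Nat.eq_of_mul_eq_mul_left Nat.card_pos h1
    have hpi : ¬ p ∣ H.index := fun h => hp.not_dvd_one (hcop ▸ Nat.dvd_gcd hpd h)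
    obtain ⟨P, hPH, hHN⟩ := exists_normal_sylow H hH hmax hpi
    obtain ⟨Q, hQK, hKN⟩ := exists_normal_sylow K hK (hcard ▸ hmax) (hiK ▸ hpi)
    obtain ⟨g, hg⟩ := MulAction.exists_smul_eq G Q P
    -- move `K` into the normalizer of `P`
    set K' := MulAut.conj g • K with hK'
    have hconj : ((P : Subgroup G)) = MulAut.conj g • (Q : Subgroup G) := by rw [← hg, Sylow.coe_subgroup_smul]
    have hPK : (P : Subgroup G) ≤ K' := hconj ▸ pointwise_smul_le_pointwise_smul_iff.2 hQK
    have hK'N : K' ≤ normalizer ((P : Subgroup G) : Set G) := by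
      rintro _ ⟨k, hk, rfl⟩
      refine Subgroup.mem_normalizer_iff_map_conj_eq.2 ?_
      have h1 := Subgroup.mem_normalizer_iff_map_conj_eq.1 (hKN hk)
      rw [hconj]
      show (((Q : Subgroup G)).map (MulAut.conj g).toMonoidHom).map (MulAut.conj (g * k * g⁻¹)).toMonoidHom = _
      rw [Subgroup.map_map,
        show ((MulAut.conj (g * k * g⁻¹)).toMonoidHom.comp (MulAut.conj g).toMonoidHom) =
          (MulAut.conj g).toMonoidHom.comp (MulAut.conj k).toMonoidHom from MonoidHom.ext fun z => by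
          show g * k * g⁻¹ * (g * z * g⁻¹) * (g * k * g⁻¹)⁻¹ = g * (k * z * k⁻¹) * g⁻¹
          group, ← Subgroup.map_map]
      exact congrArg (fun S => Subgroup.map (MulAut.conj g).toMonoidHom S) h1
    have hK'ss : Cfsg.IsSupersolvable K' :=
      isSupersolvable_of_surjective hK (Subgroup.equivSMul (MulAut.conj g) K).toMonoidHom
        (Subgroup.equivSMul (MulAut.conj g) K).surjective
    have hK'c : Nat.card K' = Nat.card H := by
      rw [hcard]; exact Nat.card_congr (Subgroup.equivSMul (MulAut.conj g) K).symm.toEquiv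
    set N := normalizer ((P : Subgroup G) : Set G) with hN
    set PN := (P : Subgroup G).subgroupOf N
    haveI : PN.Normal := (normal_subgroupOf_iff_le_normalizer le_normalizer).2 le_rfl
    set π := QuotientGroup.mk' PN
    have key : ∀ L : Subgroup G, (P : Subgroup G) ≤ L → L ≤ N → Cfsg.IsSupersolvable L →
        Cfsg.IsSupersolvable ((L.subgroupOf N).map π) ∧
          Nat.card ((L.subgroupOf N).map π) * Nat.card (P : Subgroup G) = Nat.card L ∧
          ((L.subgroupOf N).map π).comap π = L.subgroupOf N := by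
      intro L hPL hLN hL
      have hker : π.ker ≤ L.subgroupOf N := by rw [QuotientGroup.ker_mk']; exact fun x hx => hPL hx
      refine ⟨?_, ?_, comap_map_eq_self hker⟩
      · exact isSupersolvable_of_surjective hL ((π.subgroupMap (L.subgroupOf N)).comp
          (subgroupOfEquivOfLe hLN).symm.toMonoidHom)
          ((π.subgroupMap_surjective _).comp (subgroupOfEquivOfLe hLN).symm.surjective)
      · have h1 := Cfsg.Lib.Coprime.card_comap_mk' ((L.subgroupOf N).map π)
        rw [comap_map_eq_self hker, Nat.card_congr (subgroupOfEquivOfLe hLN).toEquiv,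
          Nat.card_congr (subgroupOfEquivOfLe (le_normalizer : (P : Subgroup G) ≤ N)).toEquiv] at h1
        rw [h1, mul_comm]
    obtain ⟨hHs, hHc, hHe⟩ := key H hPH hHN hH
    obtain ⟨hKs, hKc, hKe⟩ := key K' hPK hK'N hK'ss
    have hlt : Nat.card ((H.subgroupOf N).map π) ≤ n := by
      have h1 : 1 < Nat.card (P : Subgroup G) :=
        (one_lt_card_iff_ne_bot _).2 (P.ne_bot_of_dvd_card (hpd.trans (card_subgroup_dvd_card H)))
      have h2 : 0 < Nat.card ((H.subgroupOf N).map π) := Nat.card_pos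
      nlinarith
    have hceq : Nat.card ((H.subgroupOf N).map π) = Nat.card ((K'.subgroupOf N).map π) :=
      Nat.eq_of_mul_eq_mul_right Nat.card_pos (hHc.trans (hK'c.symm.trans hKc.symm))
    have hcop' : (Nat.card ((H.subgroupOf N).map π)).Coprime ((H.subgroupOf N).map π).index := by
      rw [← index_comap_of_surjective _ (QuotientGroup.mk'_surjective PN), hHe]
      exact (Nat.Coprime.coprime_dvd_left ⟨_, hHc.symm⟩ hcop).coprime_dvd_right
        (relIndex_dvd_index_of_le hHN)
    obtain ⟨x, hx⟩ := ih _ _ _ hlt hHs hKs hceq hcop'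
    obtain ⟨y, rfl⟩ := QuotientGroup.mk'_surjective PN x
    refine ⟨g⁻¹ * y, ?_⟩
    have hHK : MulAut.conj (y : G) • H = K' := by
      refine eq_of_le_of_card_ge ?_ (by
        rw [hK'c]; exact (Nat.card_congr (Subgroup.equivSMul (MulAut.conj (y : G)) H).toEquiv).le)
      rintro _ ⟨h, hh, rfl⟩
      have h1 : π (y * ⟨h, hHN hh⟩ * y⁻¹) ∈ (K'.subgroupOf N).map π := by
        rw [← hx, map_mul, map_mul, map_inv]
        exact ⟨π ⟨h, hHN hh⟩, mem_map_of_mem π (show (⟨h, hHN hh⟩ : N) ∈ H.subgroupOf N from hh), rfl⟩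
      exact mem_subgroupOf.1 (hKe.le h1)
    rw [map_mul, mul_smul, hHK, hK', map_inv, inv_smul_smul]

end Cfsg.Lib.SolvStruct.SupersolvableHall
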