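import Cfsg.Agent.SolvStruct.AltEight.GLFour
import Cfsg.Agent.Classical.Misc.PSLFourTwo
import Cfsg.Agent.Components.ZJ.Stable
import Cfsg.Agent.PGroups.AutOrder
import Cfsg.Prelude.Def_CaseTheorems

/-!
A constrained group whose 2-core has sectional rank at most four embeds into the alternating group of
degree eight modulo that core.
-/

set_option autoImplicit false

namespace Cfsg.Lib.SectRankFour

open Subgroup

variable {X : Type*} [Group X] [Finite X]

theorem aut_into_gl {Q : Type*} [Group Q] [Finite Q] [IsMulCommutative Q] (hexp : ∀ x : Q, x ^ 2 = 1)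
    {r : ℕ} (hr : Nat.card Q = 2 ^ r) (h4 : r ≤ 4) :
    ∃ f : MulAut Q →* GL (Fin 4) (ZMod 2), Function.Injective f := by
  classical
  haveI : Fact (Nat.Prime 2) := ⟨Nat.prime_two⟩
  letI : CommGroup Q := { mul_comm := mul_comm' }
  letI : Module (ZMod 2) (Additive Q) := AddCommGroup.zmodModule (n := 2) (fun x => hexp (Additive.toMul x))
  haveI : Finite (Additive Q) := inferInstanceAs (Finite Q)
  haveI : Module.Finite (ZMod 2) (Additive Q) := Module.Finite.of_finite
  have hfin : Module.finrank (ZMod 2) (Additive Q) = r := by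
    have h1 : Nat.card (Additive Q) = Nat.card (ZMod 2) ^ Module.finrank (ZMod 2) (Additive Q) :=
      Module.natCard_eq_pow_finrank
    rw [(Nat.card_congr Additive.toMul).trans hr, Nat.card_zmod] at h1
    exact (Nat.pow_right_injective le_rfl h1).symm
  let e : (Additive Q × (Fin (4 - r) → ZMod 2)) ≃ₗ[ZMod 2] (Fin 4 → ZMod 2) :=
    LinearEquiv.ofFinrankEq _ _ (by rw [Module.finrank_prod, hfin, Module.finrank_fin_fun, Module.finrank_fin_fun]; omega)
  let ext : MulAut Q → ((Additive Q × (Fin (4 - r) → ZMod 2)) ≃ₗ[ZMod 2] (Additive Q × (Fin (4 - r) → ZMod 2))) :=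
    fun a => ((MulEquiv.toAdditive a).toLinearEquiv fun c x => ZMod.map_smul (MulEquiv.toAdditive a) c x).prodCongr
      (LinearEquiv.refl _ _)
  have hext : ∀ a b v, ext (a * b) v = ext a (ext b v) := fun a b v => rfl
  let g : MulAut Q →* ((Fin 4 → ZMod 2) →ₗ[ZMod 2] (Fin 4 → ZMod 2)) :=
    { toFun := fun a => ((e.symm.trans (ext a)).trans e).toLinearMap
      map_one' := by
        apply LinearMap.ext
        intro v
        show e (ext 1 (e.symm v)) = v
        exact e.apply_symm_apply v
      map_mul' := fun a b => by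
        apply LinearMap.ext
        intro v
        show e (ext (a * b) (e.symm v)) = e (ext a (e.symm (e (ext b (e.symm v)))))
        rw [hext, e.symm_apply_apply] }
  refine ⟨(LinearMap.toMatrixAlgEquiv' : ((Fin 4 → ZMod 2) →ₗ[ZMod 2] (Fin 4 → ZMod 2)) ≃ₐ[ZMod 2] Matrix (Fin 4) (Fin 4) (ZMod 2)).toMulEquiv.toMonoidHom.comp g |>.toHomUnits, fun a b h => ?_⟩
  have hg : g a = g b := LinearMap.toMatrixAlgEquiv'.injective (congrArg Units.val h)
  apply MulEquiv.ext
  intro x
  have := congrArg e.symm (LinearMap.congr_fun hg (e (Additive.ofMul x, 0)))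
  simp only [g, MonoidHom.coe_mk, OneHom.coe_mk, LinearEquiv.coe_coe, LinearEquiv.trans_apply,
    LinearEquiv.symm_apply_apply] at this
  exact congrArg (fun v => Additive.toMul v.1) this

theorem gl_to_alt : Nonempty (GL (Fin 4) (ZMod 2) ≃* alternatingGroup (Fin 8)) := by
  haveI : Fact (Nat.Prime 2) := ⟨Nat.prime_two⟩
  obtain ⟨e1⟩ := Cfsg.Lib.SolvStruct.AltEight.gl_equiv_psl 4
  obtain ⟨e2⟩ := Cfsg.Lib.Classical.PSLFourTwo.equiv (F := ZMod 2) (ZMod.card 2)
  exact ⟨e1.trans e2⟩

/-- Automorphisms act on the Frattini quotient. -/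
noncomputable def actQuot {P : Type*} [Group P] : MulAut P →* MulAut (P ⧸ frattini P) where
  toFun a := QuotientGroup.congr (frattini P) (frattini P) a (Subgroup.characteristic_iff_map_eq.mp inferInstance a)
  map_one' := by ext q; induction q using QuotientGroup.induction_on; rfl
  map_mul' a b := by ext q; induction q using QuotientGroup.induction_on; rfl

theorem embedding (hc : Cfsg.IsPConstrained 2 X) (hO : Cfsg.pPrimeCore 2 X = ⊥)
    (h4 : Cfsg.SectionalPRankLE 2 4 ↥(Cfsg.pCore 2 X)) :
    ∃ f : X ⧸ Cfsg.pCore 2 X →* ↥(alternatingGroup (Fin 8)), Function.Injective f := by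
  classical
  haveI : Fact (Nat.Prime 2) := ⟨Nat.prime_two⟩
  set P := Cfsg.pCore 2 X
  have hP : IsPGroup 2 P := Cfsg.Lib.Components.isPGroup_pCore 2
  have hcen : centralizer (P : Set X) ≤ P := Cfsg.Lib.ZJ.charP_of_isPConstrained hO hc
  haveI hcomm := Cfsg.Lib.PGroups.isMulCommutative_quotient_frattini hP
  have hexp := Cfsg.Lib.PGroups.pow_prime_quotient_frattini hP
  obtain ⟨r, hr⟩ := IsPGroup.iff_card.1 (hP.to_quotient (frattini P))
  obtain ⟨n, hn⟩ := IsPGroup.iff_card.1 hP
  -- the section of the 2-core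
  have hle : r ≤ 4 := by
    let N : Subgroup (⊤ : Subgroup P) := (frattini P).subgroupOf ⊤
    have h := h4 ⊤ N ⊤ ⟨⟨fun a b => ?_⟩⟩ (fun a _ => ?_)
    · rw [Subgroup.card_top, ← Subgroup.index_eq_card] at h
      have : N.index = (frattini P).index := by
        show (frattini P).relIndex ⊤ = _
        rw [Subgroup.relIndex_top_right]
      rw [this, Subgroup.index_eq_card, hr] at h
      exact (Nat.pow_le_pow_iff_right one_lt_two).1 h
    · obtain ⟨x, hx⟩ := QuotientGroup.mk_surjective a.1
      obtain ⟨y, hy⟩ := QuotientGroup.mk_surjective b.1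
      apply Subtype.ext
      show a.1 * b.1 = b.1 * a.1
      rw [← hx, ← hy, ← QuotientGroup.mk_mul, ← QuotientGroup.mk_mul, QuotientGroup.eq]
      show _ ∈ frattini P
      exact QuotientGroup.eq.1 (hcomm.is_comm.comm (QuotientGroup.mk (x : P)) (QuotientGroup.mk (y : P)))
    · induction a using QuotientGroup.induction_on with
      | H x =>
        rw [← QuotientGroup.mk_pow, QuotientGroup.eq_one_iff]
        show ((x : P) ^ 2) ∈ frattini P
        exact Cfsg.Lib.PGroups.pow_mem_frattini hP _
  obtain ⟨j, hj⟩ := aut_into_gl hexp hr hle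
  obtain ⟨e⟩ := gl_to_alt
  let φ : X →* MulAut (P ⧸ frattini P) := actQuot.comp (MulAut.conjNormal (H := P))
  have hker : φ.ker = P := by
    apply le_antisymm
    · refine Cfsg.Lib.Components.le_pCore ?_
      have hA : IsPGroup 2 (φ.ker.map (MulAut.conjNormal (H := P))) := by
        have hd := Cfsg.Lib.PGroups.card_stabilizing_dvd hn
          (show (frattini P).index = 2 ^ r by rw [Subgroup.index_eq_card, hr])
          (φ.ker.map (MulAut.conjNormal (H := P))) (by
            rintro _ ⟨g, hg, rfl⟩ x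
            have h1 := DFunLike.congr_fun (MonoidHom.mem_ker.1 hg) (x : P ⧸ frattini P)
            have h2 : ((MulAut.conjNormal g x : P) : P ⧸ frattini P) = (x : P ⧸ frattini P) := h1
            rw [← div_eq_mul_inv]
            exact QuotientGroup.eq_iff_div_mem.1 h2)
        obtain ⟨k, _, hk⟩ := (Nat.dvd_prime_pow Nat.prime_two).1 hd
        exact IsPGroup.of_card hk
      have hk : IsPGroup 2 (MulAut.conjNormal (H := P)).ker := hP.to_le (fun g hg => hcen ?_)
      · exact (hA.comap_of_ker_isPGroup _ hk).to_le (Subgroup.le_comap_map _ _)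
      · rw [Subgroup.mem_centralizer_iff]
        intro x hx
        have h1 := congrArg Subtype.val (DFunLike.congr_fun (MonoidHom.mem_ker.1 hg) ⟨x, hx⟩)
        rw [MulAut.conjNormal_apply, MulAut.one_apply] at h1
        exact (mul_inv_eq_iff_eq_mul.1 h1).symm
    · intro g hg
      rw [MonoidHom.mem_ker]
      ext q
      induction q using QuotientGroup.induction_on with
      | H x =>
        show ((MulAut.conjNormal g x : P) : P ⧸ frattini P) = x
        have : (MulAut.conjNormal g x : P) = (⟨g, hg⟩ : P) * x * (⟨g, hg⟩ : P)⁻¹ := by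
          apply Subtype.ext
          rw [MulAut.conjNormal_apply]; rfl
        rw [this, QuotientGroup.mk_mul, QuotientGroup.mk_mul, QuotientGroup.mk_inv,
          hcomm.is_comm.comm ((⟨g, hg⟩ : P) : P ⧸ frattini P), mul_inv_cancel_right]
  exact ⟨(e.toMonoidHom.comp (j.comp (QuotientGroup.kerLift φ))).comp
      (QuotientGroup.quotientMulEquivOfEq hker.symm).toMonoidHom,
    e.injective.comp (hj.comp (QuotientGroup.kerLift_injective φ)) |>.comp (MulEquiv.injective _)⟩

end Cfsg.Lib.SectRankFour
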