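/-
Every class of the symmetric group of degree eight meets the "commuting translates" of a 3-cycle.
-/
import Cfsg.Prelude
import Cfsg.Agent.Components.Cores

set_option linter.style.haveILetI false
set_option linter.unusedSectionVars false

namespace Cfsg.Lib.SolvStruct.ThreeCycleEight

open Equiv Equiv.Perm
open scoped Pointwise

theorem commute_of_support_eq {α : Type*} [Fintype α] [DecidableEq α] {σ τ : Perm α}
    (hσ : σ.IsThreeCycle) (hτ : τ.IsThreeCycle) (h : τ.support = σ.support) : Commute σ τ := by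
  obtain ⟨a, ha⟩ : ∃ a, a ∈ σ.support := Finset.card_pos.1 (by rw [hσ.card_support]; norm_num)
  have hS := hσ.support_eq_iff_mem_support.2 ha
  have eσ := hσ.eq_swap_mul_swap_iff_mem_support.2 ha
  have hSn := hσ.nodup_iff_mem_support.2 ha
  have ha' : a ∈ τ.support := h ▸ ha
  have eτ := hτ.eq_swap_mul_swap_iff_mem_support.2 ha'
  have hTn := hτ.nodup_iff_mem_support.2 ha'
  have h1 : τ a ∈ σ.support := h ▸ Perm.apply_mem_support.2 ha'
  have h2 : τ (τ a) ∈ σ.support := h ▸ Perm.apply_mem_support.2 (Perm.apply_mem_support.2 ha')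
  rw [hS] at h1 h2
  simp only [Finset.mem_insert, Finset.mem_singleton] at h1 h2
  have hσσ : (σ * σ).IsThreeCycle := IsThreeCycle.isThreeCycle_sq hσ
  have h3 : σ (σ (σ a)) = a := by
    have : (σ ^ 3) a = a := by simp [← hσ.orderOf]
    simpa [pow_succ] using this
  rcases h1 with e1 | e1 | e1
  · exfalso; simp [e1] at hTn
  · have e2 : τ (τ a) = σ (σ a) := by
      rcases h2 with e | e | e
      · exfalso; rw [e] at hTn; simp at hTn
      · exfalso; rw [e, e1] at hTn; simp at hTn
      · exact e
    have : τ = σ := by rw [eτ, e2, e1]; exact eσ.symm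
    rw [this]
  · have e2 : τ (τ a) = σ a := by
      rcases h2 with e | e | e
      · exfalso; rw [e] at hTn; simp at hTn
      · exact e
      · exfalso; rw [e, e1] at hTn; simp at hTn
    have : τ = σ * σ := by
      have ha2 : a ∈ (σ * σ).support := by
        rw [Perm.mem_support, Perm.mul_apply, ← e1]
        exact Perm.mem_support.1 ha'
      rw [eτ, e2, e1, hσσ.eq_swap_mul_swap_iff_mem_support.2 ha2]
      simp [Perm.mul_apply, h3]
    rw [this]
    exact (Commute.refl σ).mul_right (Commute.refl σ)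

/-- A permutation of eight points maps some 3-set to itself or off itself. -/
theorem exists_triple (c : Perm (Fin 8)) :
    ∃ T : Finset (Fin 8), T.card = 3 ∧ (T.map c.toEmbedding = T ∨ _root_.Disjoint (T.map c.toEmbedding) T) := by
  classical
  by_cases h5 : c.support.card ≤ 5
  · obtain ⟨T, hT, hTc⟩ := Finset.exists_subset_card_eq (s := c.supportᶜ) (n := 3) (by
      rw [Finset.card_compl, Fintype.card_fin]; omega)
    refine ⟨T, hTc, Or.inl ?_⟩
    ext x
    simp only [Finset.mem_map, Equiv.coe_toEmbedding]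
    constructor
    · rintro ⟨y, hy, rfl⟩
      rwa [notMem_support.1 (Finset.mem_compl.1 (hT hy))]
    · exact fun hx => ⟨x, hx, notMem_support.1 (Finset.mem_compl.1 (hT hx))⟩
  have triple : ∀ x y z : Fin 8, c x ≠ x → c y ≠ y → c z ≠ z → x ≠ y → x ≠ z → y ≠ z → c x ≠ y → c y ≠ x →
      c x ≠ z → c z ≠ x → c y ≠ z → c z ≠ y →
      ∃ T : Finset (Fin 8), T.card = 3 ∧ (T.map c.toEmbedding = T ∨ _root_.Disjoint (T.map c.toEmbedding) T) := by
    intro x y z a1 a2 a3 a4 a5 a6 a7 a8 a9 a10 a11 a12
    refine ⟨{x, y, z}, by simp [a4, a5, a6], Or.inr ?_⟩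
    rw [Finset.disjoint_left]
    intro w hw
    simp only [Finset.mem_map, Equiv.coe_toEmbedding, Finset.mem_insert, Finset.mem_singleton] at hw ⊢
    obtain ⟨u, (rfl | rfl | rfl), rfl⟩ := hw <;> simp [a1, a2, a3, a7, a8, a9, a10, a11, a12]
  have pick : ∀ F : Finset (Fin 8), F.card < c.support.card → ∃ z, c z ≠ z ∧ z ∉ F := by
    intro F hF
    obtain ⟨z, hz, hzF⟩ := Finset.exists_mem_notMem_of_card_lt_card hF
    exact ⟨z, Perm.mem_support.1 hz, hzF⟩
  obtain ⟨x, hx, -⟩ := pick ∅ (by rw [Finset.card_empty]; omega)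
  by_cases h3 : c (c (c x)) = x
  · -- an orbit of length three
    have hxx : c x ≠ x := hx
    refine ⟨{x, c x, c (c x)}, ?_, Or.inl ?_⟩
    · have e1 : x ≠ c (c x) := fun e => hxx (by
        conv_lhs => rw [e]
        exact h3)
      have e2 : c x ≠ c (c x) := fun e => hxx (c.injective e).symm
      simp [hxx.symm, e1, e2]
    · ext w
      simp only [Finset.mem_map, Equiv.coe_toEmbedding, Finset.mem_insert, Finset.mem_singleton]
      constructor
      · rintro ⟨u, (rfl | rfl | rfl), rfl⟩
        · exact Or.inr (Or.inl rfl)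
        · exact Or.inr (Or.inr rfl)
        · exact Or.inl h3
      · rintro (rfl | rfl | rfl)
        · exact ⟨_, Or.inr (Or.inr rfl), h3⟩
        · exact ⟨_, Or.inl rfl, rfl⟩
        · exact ⟨_, Or.inr (Or.inl rfl), rfl⟩
  by_cases h2 : c (c x) = x
  · obtain ⟨y, hy, hyF⟩ := pick {x, c x} (lt_of_le_of_lt Finset.card_le_two (by omega))
    obtain ⟨z, hz, hzF⟩ := pick {x, c x, y, c y, c.symm y} (by
      refine lt_of_le_of_lt Finset.card_le_five ?_
      omega)
    simp only [Finset.mem_insert, Finset.mem_singleton, not_or] at hyF hzF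
    refine triple x y z hx hy hz (Ne.symm hyF.1) (Ne.symm hzF.1) (Ne.symm hzF.2.2.1) (Ne.symm hyF.2)
      (fun e => hyF.2 ?_) (Ne.symm hzF.2.1) (fun e => hzF.2.1 ?_) (Ne.symm hzF.2.2.2.1)
      (fun e => hzF.2.2.2.2 (c.eq_symm_apply.2 e))
    · exact c.injective (e.trans h2.symm)
    · exact c.injective (e.trans h2.symm)
  · set y := c (c x) with hy'
    have hy : c y ≠ y := fun e => hx (c.injective (c.injective e))
    obtain ⟨z, hz, hzF⟩ := pick {x, c x, c.symm x, y, c y} (by
      refine lt_of_le_of_lt Finset.card_le_five ?_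
      omega)
    simp only [Finset.mem_insert, Finset.mem_singleton, not_or] at hzF
    refine triple x y z hx hy hz (Ne.symm h2) (Ne.symm hzF.1) (Ne.symm hzF.2.2.2.1) ?_ h3
      (Ne.symm hzF.2.1) (fun e => hzF.2.2.1 (c.eq_symm_apply.2 e)) (Ne.symm hzF.2.2.2.2) (fun e => hzF.2.1 (c.injective e))
    exact fun e => hx (c.injective e).symm

theorem main (σ : Perm (Fin 8)) (hσ : σ.IsThreeCycle) :
    (∀ c : Perm (Fin 8), ∃ g : Perm (Fin 8), IsConj c g ∧
      ((Subgroup.zpowers σ).subgroupOf (Subgroup.zpowers σ ⊔ MulAut.conj g • Subgroup.zpowers σ)).IsSubnormal) ∧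
    Cfsg.pCore 3 (Perm (Fin 8)) = ⊥ := by
  classical
  refine ⟨fun c => ?_, ?_⟩
  · obtain ⟨T, hT, hTc⟩ := exists_triple c
    obtain ⟨h, hh⟩ : ∃ h : Perm (Fin 8), T.map h.toEmbedding = σ.support := by
      have e : {x // x ∈ T} ≃ {x // x ∈ σ.support} := Finset.equivOfCardEq (by rw [hT, hσ.card_support])
      refine ⟨e.extendSubtype, Finset.eq_of_subset_of_card_le ?_ (by rw [Finset.card_map, hT, hσ.card_support])⟩
      intro w hw
      obtain ⟨u, hu, rfl⟩ := Finset.mem_map.1 hw
      exact e.extendSubtype_mem u hu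
    set g := h * c * h⁻¹
    refine ⟨g, isConj_iff.2 ⟨h, rfl⟩, ?_⟩
    set τ := g * σ * g⁻¹
    have hτ : τ.IsThreeCycle := by
      show (g * σ * g⁻¹).cycleType = _
      rw [cycleType_conj]
      exact hσ
    have hsupp : τ.support = (T.map c.toEmbedding).map h.toEmbedding := by
      rw [support_conj, ← hh]
      ext w
      simp [g, Perm.mul_def, Perm.inv_def]
      constructor
      · rintro ⟨a, ha, rfl⟩; simpa using ha
      · intro hw; exact ⟨h (c.symm (h.symm w)), by simpa using hw, by simp⟩
    have hcomm : Commute σ τ := by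
      rcases hTc with e | e
      · exact commute_of_support_eq hσ hτ (by rw [hsupp, e, hh])
      · refine Perm.Disjoint.commute (disjoint_iff_disjoint_support.2 ?_)
        rw [hsupp, ← hh, Finset.disjoint_map]
        exact e.symm
    set A := Subgroup.zpowers σ
    have hg : MulAut.conj g • A = Subgroup.zpowers τ := MonoidHom.map_zpowers (MulAut.conj g).toMonoidHom σ
    refine Subgroup.Normal.isSubnormal ?_
    rw [Subgroup.normal_subgroupOf_iff_le_normalizer le_sup_left, hg]
    refine sup_le Subgroup.le_normalizer (Subgroup.zpowers_le.2 ?_)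
    refine Subgroup.mem_normalizer_iff.2 fun w => ?_
    have key : ∀ v ∈ A, τ * v * τ⁻¹ = v := fun v hv => by
      obtain ⟨i, rfl⟩ := Subgroup.mem_zpowers_iff.1 hv
      rw [((hcomm.symm).zpow_right i).eq, mul_inv_cancel_right]
    constructor
    · intro hw; rw [key w hw]; exact hw
    · intro hw
      have h1 := key _ hw
      have h2 : τ * w * τ⁻¹ = w := mul_left_cancel (mul_right_cancel h1)
      rwa [h2] at hw
  · haveI : Fact (Nat.Prime 3) := ⟨Nat.prime_three⟩
    set N := Cfsg.pCore 3 (Perm (Fin 8))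
    have hN : IsPGroup 3 N := Cfsg.Lib.Components.isPGroup_pCore 3
    haveI : IsSimpleGroup (alternatingGroup (Fin 8)) := alternatingGroup.isSimpleGroup (by simp)
    rcases (inferInstance : (N.subgroupOf (alternatingGroup (Fin 8))).Normal).eq_bot_or_eq_top with h | h
    · by_contra hne
      haveI : Nontrivial N := (Subgroup.nontrivial_iff_ne_bot _).2 hne
      obtain ⟨k, hk, hkc⟩ := hN.nontrivial_iff_card.1 inferInstance
      obtain ⟨a, ha⟩ := exists_prime_orderOf_dvd_card' (G := N) 3 (hkc ▸ dvd_pow_self 3 (by omega))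
      rw [← Subgroup.orderOf_coe] at ha
      have hA : (a : Perm (Fin 8)) ∈ alternatingGroup (Fin 8) := by
        rw [mem_alternatingGroup]
        rcases Int.units_eq_one_or (Perm.sign (a : Perm (Fin 8))) with e | e
        · exact e
        · exfalso
          have h1 : Perm.sign (a : Perm (Fin 8)) ^ 3 = 1 := by rw [← map_pow, ← ha, pow_orderOf_eq_one, map_one]
          rw [e] at h1
          exact absurd h1 (by decide)
      have hm : (⟨_, hA⟩ : alternatingGroup (Fin 8)) ∈ N.subgroupOf (alternatingGroup (Fin 8)) := a.2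
      rw [h, Subgroup.mem_bot] at hm
      rw [congrArg Subtype.val hm, Subgroup.coe_one, orderOf_one] at ha
      exact absurd ha (by norm_num)
    · exfalso
      have hle : alternatingGroup (Fin 8) ≤ N := fun x hx => by
        have : (⟨x, hx⟩ : alternatingGroup (Fin 8)) ∈ N.subgroupOf (alternatingGroup (Fin 8)) := h ▸ Subgroup.mem_top _
        exact this
      obtain ⟨k, hk⟩ := IsPGroup.iff_card.1 hN
      have h1 := Subgroup.card_dvd_of_le hle
      rw [nat_card_alternatingGroup, Nat.card_fin, hk] at h1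
      have h2 : 2 ∣ 3 ^ k := dvd_trans (by decide) h1
      exact absurd (Nat.prime_two.dvd_of_dvd_pow h2) (by norm_num)

end Cfsg.Lib.SolvStruct.ThreeCycleEight
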