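/-
Minimal non-`p`-closed groups with a normal subgroup: a group of order `p` acting irreducibly on an
elementary abelian `q`-group.
-/
import Cfsg.Agent.Coprime.Sylow
import Cfsg.Agent.Coprime.Generation
import Mathlib
import Cfsg.Prelude.Def_LocalStructure
import Cfsg.Prelude.Def_Transfer

set_option linter.style.haveILetI false

namespace Cfsg.Lib.MinimalNonClosed

open Subgroup Polynomial

variable {G : Type*} [Group G] [Finite G] {p q : ℕ}

theorem card_le_of_forall_pow_eq {R : Type*} [CommRing R] [IsDomain R] [Finite R] (n : ℕ) (hn : 1 < n)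
    (h : ∀ k : R, k ^ n = k) : Nat.card R ≤ n := by
  classical
  haveI := Fintype.ofFinite R
  have hP : (X ^ n - X : R[X]) ≠ 0 := fun h0 => by
    have := congrArg (fun f : R[X] => f.coeff n) h0
    simp [Polynomial.coeff_X, hn.ne] at this
  calc Nat.card R = (Finset.univ : Finset R).card := by rw [Nat.card_eq_fintype_card, Finset.card_univ]
    _ ≤ (X ^ n - X : R[X]).roots.toFinset.card := Finset.card_le_card fun k _ => by
        rw [Multiset.mem_toFinset, mem_roots hP]
        simp [h k]
    _ ≤ Multiset.card (X ^ n - X : R[X]).roots := Multiset.toFinset_card_le _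
    _ ≤ (X ^ n - X : R[X]).natDegree := card_roots' _
    _ ≤ n := (natDegree_sub_le _ _).trans (max_le (natDegree_X_pow_le n) (natDegree_X_le.trans hn.le))

theorem mem_normalizer_of_forall {B : Subgroup G} {x : G} (h : ∀ b ∈ B, x * b * x⁻¹ ∈ B) :
    x ∈ normalizer (B : Set G) := by
  have hmap : B.map (MulAut.conj x).toMonoidHom = B :=
    eq_of_le_of_card_ge (by rintro _ ⟨b, hb, rfl⟩; exact h b hb)
      (Subgroup.card_map_of_injective (MulAut.conj x).injective).ge
  refine mem_normalizer_iff.2 fun b => ⟨h b, fun hb => ?_⟩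
  rw [← hmap] at hb
  obtain ⟨c, hc, he⟩ := hb
  rwa [← (MulAut.conj x).injective he]

set_option maxHeartbeats 1000000 in
/-- An irreducible faithful action of an element of order `p` on an elementary abelian `q`-group. -/
theorem card_eq_pow_orderOf [hp : Fact p.Prime] [hq : Fact q.Prime] (hpq : q ≠ p)
    (A : Subgroup G) (hA : Cfsg.IsElementaryAbelian q A) (x : G) (hx : x ^ p = 1)
    (hxA : x ∈ normalizer (A : Set G)) (hnc : x ∉ centralizer (A : Set G))
    (hirr : ∀ B : Subgroup G, B ≤ A → x ∈ normalizer (B : Set G) → B = ⊥ ∨ B = A) :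
    Nat.card ↥A = q ^ orderOf (q : ZMod p) := by
  classical
  haveI := hA.1
  letI : CommGroup ↥A := { mul_comm := mul_comm' }
  have hexp : ∀ a : Additive ↥A, q • a = 0 := fun a =>
    Additive.toMul.injective (Subtype.ext (by simpa using hA.2 _ (Additive.toMul a).2))
  letI : Module (ZMod q) (Additive ↥A) := AddCommGroup.zmodModule (n := q) hexp
  let t : ↥A →* ↥A :=
    { toFun := fun a => ⟨x * a * x⁻¹, (Subgroup.mem_normalizer_iff.1 hxA _).1 a.2⟩
      map_one' := Subtype.ext (by simp)
      map_mul' := fun a b => Subtype.ext (by simp) }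
  let T : Additive ↥A →ₗ[ZMod q] Additive ↥A :=
    AddMonoidHom.toZModLinearMap q (MonoidHom.toAdditive t)
  have hTval : ∀ a : Additive ↥A, ((T a).toMul : G) = x * (a.toMul : A) * x⁻¹ := fun a => rfl
  have hTpow : ∀ (n : ℕ) (a : Additive ↥A), (((T ^ n) a).toMul : G) = x ^ n * (a.toMul : A) * (x ^ n)⁻¹ := by
    intro n
    induction n with
    | zero => intro a; simp
    | succ n ih =>
      intro a
      rw [pow_succ', Module.End.mul_apply, hTval, ih, pow_succ']
      group
  have hT1 : T ^ p = 1 := by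
    refine LinearMap.ext fun a => Additive.toMul.injective (Subtype.ext ?_)
    rw [hTpow, hx]
    simp
  -- the invariant submodules are trivial
  have hinv : ∀ W : Submodule (ZMod q) (Additive ↥A), (∀ w ∈ W, T w ∈ W) → W = ⊥ ∨ W = ⊤ := by
    intro W hW
    let B : Subgroup G := (AddSubgroup.toSubgroup' W.toAddSubgroup).map A.subtype
    have hBA : B ≤ A := map_subtype_le _
    have hmem : ∀ a : ↥A, (a : G) ∈ B ↔ Additive.ofMul a ∈ W := fun a => by
      constructor
      · rintro ⟨b, hb, hba⟩
        rw [← Subtype.ext hba]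
        exact hb
      · exact fun h => ⟨a, h, rfl⟩
    have hxB : x ∈ normalizer (B : Set G) := by
      refine mem_normalizer_of_forall fun b hb => ?_
      exact (hmem ⟨x * b * x⁻¹, (Subgroup.mem_normalizer_iff.1 hxA _).1 (hBA hb)⟩).2
        (hW _ ((hmem ⟨b, hBA hb⟩).1 hb))
    rcases hirr B hBA hxB with h | h
    · left
      rw [Submodule.eq_bot_iff]
      intro w hw
      have := (hmem w.toMul).2 hw
      rw [h, Subgroup.mem_bot] at this
      exact Additive.toMul.injective (Subtype.ext this)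
    · right
      rw [Submodule.eq_top_iff']
      intro w
      exact (hmem w.toMul).1 (h.symm ▸ (w.toMul : A).2)
  obtain ⟨a₀, ha₀⟩ : ∃ a : ↥A, x * (a : G) * x⁻¹ ≠ a := by
    by_contra h
    push Not at h
    refine hnc (Subgroup.mem_centralizer_iff.2 fun a ha => ?_)
    have := h ⟨a, ha⟩
    calc a * x = x * a * x⁻¹ * x := by rw [this]
      _ = x * a := by group
  haveI : Nontrivial (Additive ↥A) := ⟨⟨Additive.ofMul a₀, 0, fun h => by
    have h1 : (a₀ : G) = 1 := congrArg Subtype.val (congrArg Additive.toMul h)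
    exact ha₀ (by simp [h1])⟩⟩
  have hTne : T ≠ 1 := fun h => ha₀ (by
    have := congrArg (fun f : Module.End (ZMod q) (Additive ↥A) => ((f (Additive.ofMul a₀)).toMul : G)) h
    simpa [hTval] using this)
  let K := Algebra.adjoin (ZMod q) ({T} : Set (Module.End (ZMod q) (Additive ↥A)))
  letI : CommRing K :=
    { (inferInstance : Ring K) with
      mul_comm := fun a b => Subtype.ext (Algebra.commute_of_mem_adjoin_singleton_of_commute b.2
        (Algebra.commute_of_mem_adjoin_self a.2).symm).eq }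
  have hcomm : ∀ k ∈ K, Commute T k := fun k hk => Algebra.commute_of_mem_adjoin_self hk
  have hker : ∀ k ∈ K, k ≠ 0 → LinearMap.ker k = ⊥ := by
    intro k hk hk0
    rcases hinv (LinearMap.ker k) (fun w hw => by
      rw [LinearMap.mem_ker] at hw ⊢
      rw [← Module.End.mul_apply, ← (hcomm k hk).eq, Module.End.mul_apply, hw, map_zero]) with h | h
    · exact h
    · exact absurd (LinearMap.ker_eq_top.1 h) hk0
  haveI : NoZeroDivisors K := ⟨fun {a b} hab => by
    by_contra h
    push Not at h
    refine h.2 (Subtype.ext (LinearMap.ext fun v => ?_))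
    have h1 : (a : Module.End (ZMod q) (Additive ↥A)) (((b : Module.End (ZMod q) (Additive ↥A))) v) = 0 := by
      rw [← Module.End.mul_apply, ← Subalgebra.coe_mul, hab]; rfl
    have := LinearMap.ker_eq_bot'.1 (hker _ a.2 fun e => h.1 (Subtype.ext e)) _ h1
    simpa using this⟩
  haveI : Nontrivial K := inferInstance
  haveI : IsDomain K := NoZeroDivisors.to_isDomain K
  set m := orderOf (q : ZMod p) with hm
  have hq0 : (q : ZMod p) ≠ 0 := fun h =>
    hpq ((Nat.prime_dvd_prime_iff_eq hp.out hq.out).1 ((ZMod.natCast_eq_zero_iff _ _).1 h)).symm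
  have hm0 : 0 < m := Nat.pos_of_ne_zero fun h => by
    have h1 : IsOfFinOrder (q : ZMod p) :=
      isOfFinOrder_iff_pow_eq_one.2 ⟨p - 1, by have := hp.out.two_le; omega, ZMod.pow_card_sub_one_eq_one hq0⟩
    exact absurd (orderOf_pos_iff.2 h1) (by omega)
  -- everything in `K` is fixed by the `m`-th power of the Frobenius map
  let Tk : K := ⟨T, Algebra.self_mem_adjoin_singleton _ _⟩
  have hqm : q ^ m % p = 1 := by
    have h1 : ((q ^ m : ℕ) : ZMod p) = ((1 : ℕ) : ZMod p) := by
      rw [Nat.cast_pow, hm, pow_orderOf_eq_one, Nat.cast_one]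
    have h2 := (ZMod.natCast_eq_natCast_iff' _ _ _).1 h1
    rwa [Nat.one_mod_eq_one.2 hp.out.ne_one] at h2
  have hTk : Tk ^ q ^ m = Tk := by
    apply Subtype.ext
    show T ^ q ^ m = T
    rw [← Nat.div_add_mod (q ^ m) p, hqm, pow_succ, pow_mul, hT1, one_pow, one_mul]
  haveI : CharP K q := charP_of_injective_algebraMap (algebraMap (ZMod q) K).injective q
  have hfix : ∀ k : K, k ^ q ^ m = k := by
    have key : ∀ f : (ZMod q)[X], (aeval Tk f) ^ q ^ m = aeval Tk f := by
      intro f
      induction f using Polynomial.induction_on' with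
      | add f g hf hg => rw [map_add, add_pow_char_pow, hf, hg]
      | monomial n c =>
        rw [aeval_monomial, mul_pow, ← pow_mul, mul_comm n, pow_mul, hTk, ← map_pow]
        congr 2
        exact ZMod.pow_card_pow c
    intro k
    have hk := k.2
    change (k : Module.End (ZMod q) (Additive ↥A)) ∈ Algebra.adjoin (ZMod q) ({T} : Set _) at hk
    rw [Algebra.adjoin_singleton_eq_range_aeval] at hk
    obtain ⟨f, hf⟩ := hk
    have : k = aeval Tk f := Subtype.ext (by
      rw [← Subalgebra.val_apply, ← Subalgebra.val_apply, ← Polynomial.aeval_algHom_apply]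
      exact hf.symm)
    rw [this, key]
  haveI : Finite (Additive ↥A) := inferInstanceAs (Finite ↥A)
  haveI : Finite (Module.End (ZMod q) (Additive ↥A)) :=
    Finite.of_injective (fun f => (f : Additive ↥A → Additive ↥A)) DFunLike.coe_injective
  haveI : Finite K := Finite.of_injective Subtype.val Subtype.val_injective
  have hKcard : Nat.card K ≤ q ^ m := card_le_of_forall_pow_eq (q ^ m) (Nat.one_lt_pow hm0.ne' hq.out.one_lt) hfix
  -- evaluation at a nonzero vector is onto
  have hle : Nat.card ↥A ≤ q ^ m := by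
    obtain ⟨v, hv⟩ := exists_ne (0 : Additive ↥A)
    let W : Submodule (ZMod q) (Additive ↥A) :=
      (Subalgebra.toSubmodule K).map (LinearMap.applyₗ (R := ZMod q) v)
    have hW : W = ⊤ := by
      rcases hinv W (fun w hw => by
        obtain ⟨k, hk, rfl⟩ := hw
        exact ⟨T * k, K.mul_mem (Algebra.self_mem_adjoin_singleton _ _) hk, rfl⟩) with h | h
      · exact absurd ((Submodule.eq_bot_iff _).1 h v ⟨1, K.one_mem, rfl⟩) hv
      · exact h
    refine le_trans ?_ hKcard
    refine Nat.card_le_card_of_surjective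
      (fun k : K => ((k : Module.End (ZMod q) (Additive ↥A)) v).toMul) fun a => ?_
    obtain ⟨k, hk, hka⟩ : Additive.ofMul a ∈ W := hW ▸ Submodule.mem_top
    exact ⟨⟨k, hk⟩, congrArg Additive.toMul hka⟩
  -- the orbits on the non-trivial elements have size `p`
  haveI hAq : IsPGroup q ↥A := fun a => ⟨1, by rw [pow_one]; exact Subtype.ext (by simpa using hA.2 _ a.2)⟩
  obtain ⟨e, he⟩ := IsPGroup.iff_card.1 hAq
  refine le_antisymm hle ?_
  rw [he]
  refine Nat.pow_le_pow_right hq.out.pos ?_
  have hpA : Nat.card ↥A ≡ 1 [MOD p] := by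
    have hact : IsPGroup p (zpowers x) := IsPGroup.of_card (n := if x = 1 then 0 else 1) (by
      rw [Nat.card_zpowers]
      split_ifs with h
      · simp [h]
      · rw [pow_one, orderOf_eq_prime hx h])
    let act : MulAction (zpowers x) ↥A :=
      MulAction.compHom _ ((A.normalizerMonoidHom.comp (Subgroup.inclusion (zpowers_le.2 hxA))))
    have h := hact.card_modEq_card_fixedPoints A
    suffices hfp : Nat.card (MulAction.fixedPoints (zpowers x) ↥A) = 1 by rwa [hfp] at h
    rw [Nat.card_eq_one_iff_unique]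
    refine ⟨⟨fun a b => ?_⟩, ⟨⟨1, fun g =>
      map_one (A.normalizerMonoidHom ⟨g, zpowers_le.2 hxA g.2⟩)⟩⟩⟩
    have hfix1 : ∀ a : MulAction.fixedPoints (zpowers x) ↥A, (a : A) = 1 := by
      rintro ⟨a, ha⟩
      have hxa : x * (a : G) * x⁻¹ = a := congrArg Subtype.val (ha ⟨x, mem_zpowers x⟩)
      let B := A ⊓ centralizer ({x} : Set G)
      have hxB : x ∈ normalizer (B : Set G) :=
        mem_normalizer_of_forall fun b hb => by
          have hb2 : x * b = b * x := Subgroup.mem_centralizer_singleton_iff.1 hb.2 |>.symm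
          have : x * b * x⁻¹ = b := by rw [hb2]; group
          rwa [this]
      rcases hirr B inf_le_left hxB with h | h
      · have : (a : G) ∈ B := ⟨a.2, Subgroup.mem_centralizer_singleton_iff.2 (by
          calc (a : G) * x = x * a * x⁻¹ * x := by rw [hxa]
            _ = x * a := by group)⟩
        rw [h, Subgroup.mem_bot] at this
        exact Subtype.ext this
      · refine absurd (Subgroup.mem_centralizer_iff.2 fun b hb => ?_) hnc
        exact Subgroup.mem_centralizer_singleton_iff.1 ((h.symm ▸ hb : b ∈ B)).2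
    exact Subtype.ext ((hfix1 a).trans (hfix1 b).symm)
  rw [he] at hpA
  refine Nat.le_of_dvd ?_ (orderOf_dvd_of_pow_eq_one ?_)
  · rcases Nat.eq_zero_or_pos e with rfl | h
    · rw [pow_zero] at he
      obtain ⟨hs, -⟩ := Nat.card_eq_one_iff_unique.1 he
      exact absurd (hs.elim a₀ 1) fun h => ha₀ (by simp [h])
    · exact h
  · have := (ZMod.natCast_eq_natCast_iff _ _ _).2 hpA
    simpa using this

theorem isPClosed_of_isPGroup {H : Type*} [Group H] (h : IsPGroup p H) : Cfsg.IsPClosed p H := fun P => by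
  have : (P : Subgroup H) = ⊤ := (P.3 (h.to_subgroup ⊤) le_top).symm
  rw [this]
  infer_instance

/-- a normal `p`-subgroup containing a Sylow `p`-subgroup makes the group `p`-closed -/
theorem isPClosed_of_normal_sylow [Fact p.Prime] (P : Sylow p G) (h : (P : Subgroup G).Normal) :
    Cfsg.IsPClosed p G := fun Q => by
  haveI := Sylow.unique_of_normal P h
  rw [Subsingleton.elim Q P]
  exact h

/-- the Sylow subgroup of a normal `p`-closed subgroup is normal in the whole group -/
theorem normal_map_sylow [Fact p.Prime] {N : Subgroup G} [N.Normal] (h : Cfsg.IsPClosed p ↥N) (S : Sylow p N) :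
    ((S : Subgroup N).map N.subtype).Normal := by
  haveI := Sylow.characteristic_of_normal S (h S)
  exact ConjAct.normal_of_characteristic_of_normal

/-- a `p`-closed subgroup normalizes each of its Sylow `p`-subgroups -/
theorem le_normalizer_of_isPClosed [Fact p.Prime] {H P : Subgroup G} (h : Cfsg.IsPClosed p ↥H) (hPH : P ≤ H)
    (hP : ∀ Q : Subgroup G, IsPGroup p Q → P ≤ Q → Q = P) (hPp : IsPGroup p P) :
    H ≤ normalizer (P : Set G) := by
  have hS : IsPGroup p (P.subgroupOf H) := hPp.comap_subtype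
  obtain ⟨S, hS'⟩ := hS.exists_le_sylow
  have hPS : (S : Subgroup H).map H.subtype = P :=
    hP _ (S.2.map _) fun x hx => ⟨⟨x, hPH hx⟩, hS' hx, rfl⟩
  intro g hg
  rw [← hPS]
  refine mem_normalizer_of_forall ?_
  rintro _ ⟨y, hy, rfl⟩
  exact ⟨⟨g, hg⟩ * y * ⟨g, hg⟩⁻¹, (h S).conj_mem y hy _, rfl⟩

/-- Minimal normal subgroup of index `p`, elementary abelian, not central. -/
theorem structure_of_index_prime [hp : Fact p.Prime] [hq : Fact q.Prime] (hpq : q ≠ p)
    (A : Subgroup G) [A.Normal] (hA : Cfsg.IsElementaryAbelian q A) (hidx : A.index = p)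
    (hnc : ¬ ∀ g : G, g ∈ centralizer (A : Set G))
    (hmin : ∀ B : Subgroup G, B.Normal → B ≤ A → B = ⊥ ∨ B = A) :
    Nat.card ↥A = q ^ orderOf (q : ZMod p) ∧ ¬ Cfsg.IsPClosed p G ∧
      (∀ H : Subgroup G, H ≠ ⊤ → Cfsg.IsPClosed p ↥H) ∧
      ∀ (N : Subgroup G) [N.Normal], N ≠ ⊥ → Cfsg.IsPClosed p (G ⧸ N) := by
  haveI := hA.1
  have hmax : ∀ K : Subgroup G, A ≤ K → ∀ y ∈ K, y ∉ A → K = ⊤ := by
    intro K hAK y hyK hyA
    have h1 := relIndex_mul_index hAK
    rw [hidx] at h1
    rcases hp.out.eq_one_or_self_of_dvd _ (Dvd.intro_left _ h1) with h | h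
    · exact index_eq_one.1 h
    · rw [h] at h1
      have h2 : A.relIndex K = 1 := Nat.eq_of_mul_eq_mul_right hp.out.pos (by rw [one_mul]; exact h1)
      exact absurd (relIndex_eq_one.1 h2 hyK) hyA
  have hAq : IsPGroup q ↥A := fun a =>
    ⟨1, by rw [pow_one]; exact Subtype.ext (by simpa using hA.2 _ a.2)⟩
  have hpA : ¬ p ∣ Nat.card ↥A := fun hd => by
    obtain ⟨e, he⟩ := IsPGroup.iff_card.1 hAq
    exact hpq ((Nat.prime_dvd_prime_iff_eq hp.out hq.out).1 (hp.out.dvd_of_dvd_pow (he ▸ hd))).symm
  have hnotA : ∀ y : G, orderOf y = p → y ∉ A := fun y hy hyA =>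
    hpA (hy ▸ Subgroup.orderOf_dvd_natCard A hyA)
  have hCA : ∀ y : G, y ∉ A → y ∉ centralizer (A : Set G) := fun y hy hyC => hnc fun g => by
    have := hmax (centralizer (A : Set G)) (Subgroup.le_centralizer A) y hyC hy
    rw [this]; exact mem_top g
  have hnormal : ∀ y : G, y ∉ A → ∀ B : Subgroup G, B ≤ A → y ∈ normalizer (B : Set G) → B = ⊥ ∨ B = A := by
    intro y hyA B hBA hyB
    refine hmin B (normalizer_eq_top_iff.1 (hmax _ ?_ y hyB hyA)) hBA
    intro a ha
    refine mem_normalizer_of_forall fun b hb => ?_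
    rw [Subgroup.mem_centralizer_iff.1 (Subgroup.le_centralizer A ha) b (hBA hb) |>.symm, mul_inv_cancel_right]
    exact hb
  obtain ⟨x, hx⟩ := exists_prime_orderOf_dvd_card' (G := G) p (hidx ▸ index_dvd_card A)
  have hxA := hnotA x hx
  refine ⟨card_eq_pow_orderOf hpq A hA x (hx ▸ pow_orderOf_eq_one x)
      (by rw [normalizer_eq_top A]; exact mem_top x) (hCA x hxA) (hnormal x hxA), ?_, ?_, ?_⟩
  · intro hc
    obtain ⟨P⟩ := (inferInstance : Nonempty (Sylow p G))
    have hn := hc P
    have hdisj : Disjoint (P : Subgroup G) A := by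
      rw [disjoint_iff]
      refine Cfsg.Lib.Coprime.inf_eq_bot_of_coprime ?_
      rw [P.card_eq_multiplicity]
      exact Nat.Coprime.pow_left _ (hp.out.coprime_iff_not_dvd.2 hpA)
    obtain ⟨k, hk⟩ := (IsPGroup.of_card (n := 1) (by rw [Nat.card_zpowers, hx, pow_one]) :
      IsPGroup p (zpowers x)).exists_le_sylow
    haveI := Sylow.unique_of_normal P hn
    have hxP : x ∈ (P : Subgroup G) := Subsingleton.elim k P ▸ hk (mem_zpowers x)
    exact hCA x hxA (Subgroup.mem_centralizer_iff.2 fun a ha =>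
      (Subgroup.commute_of_normal_of_disjoint _ _ hn inferInstance hdisj x a hxP ha).eq.symm)
  · intro H hH
    by_cases hd : p ∣ Nat.card H
    · refine isPClosed_of_isPGroup ?_
      obtain ⟨y, hy⟩ := exists_prime_orderOf_dvd_card' (G := H) p hd
      rw [← Subgroup.orderOf_coe] at hy
      have hyA := hnotA y hy
      rcases hnormal y hyA (H ⊓ A) inf_le_right (mem_normalizer_of_forall fun b hb =>
          ⟨H.mul_mem (H.mul_mem y.2 hb.1) (H.inv_mem y.2), ‹A.Normal›.conj_mem b hb.2 _⟩) with h | h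
      · have h1 : A.relIndex H ∣ p := hidx ▸ relIndex_dvd_index_of_normal A H
        have h2 : A.relIndex H = Nat.card H := by
          rw [← inf_relIndex_left, h, relIndex_bot_left]
        obtain ⟨i, -, hi⟩ := (Nat.dvd_prime_pow hp.out).1 (show Nat.card H ∣ p ^ 1 by
          rw [pow_one, ← h2]; exact h1)
        exact IsPGroup.of_card hi
      · exact absurd (hmax H (h.ge.trans inf_le_left) y y.2 hyA) hH
    · intro P
      have h0 : (P : Subgroup H) = ⊥ := card_eq_one.1 (by
        rw [P.card_eq_multiplicity, Nat.factorization_eq_zero_of_not_dvd hd, pow_zero])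
      rw [h0]
      infer_instance
  · intro N _ hN
    refine isPClosed_of_isPGroup ?_
    have hAN : A ≤ N := by
      rcases hmin (N ⊓ A) inferInstance inf_le_right with h | h
      · exfalso
        obtain ⟨y, hyN, hy1⟩ := (N.bot_or_exists_ne_one).resolve_left hN
        by_cases hyA : y ∈ A
        · have : y ∈ N ⊓ A := ⟨hyN, hyA⟩
          rw [h, Subgroup.mem_bot] at this
          exact hy1 this
        · exact hCA y hyA (Subgroup.mem_centralizer_iff.2 fun a ha =>
            (Subgroup.commute_of_normal_of_disjoint N A inferInstance inferInstance (disjoint_iff.2 h)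
              y a hyN ha).eq.symm)
      · exact h.ge.trans inf_le_left
    obtain ⟨i, -, hi⟩ := (Nat.dvd_prime_pow hp.out).1
      (show N.index ∣ p ^ 1 by rw [pow_one, ← hidx]; exact index_dvd_of_le hAN)
    exact IsPGroup.of_card (n := i) ((Subgroup.index_eq_card N).symm.trans hi)

/-- Structure of the non-simple minimal non-`p`-closed groups. -/
theorem structure_minimal [hp : Fact p.Prime]
    (hnc : ¬ Cfsg.IsPClosed p G) (hsub : ∀ H : Subgroup G, H ≠ ⊤ → Cfsg.IsPClosed p ↥H)
    (hquo : ∀ (N : Subgroup G) [N.Normal], N ≠ ⊥ → Cfsg.IsPClosed p (G ⧸ N)) (hns : ¬ IsSimpleGroup G) :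
    ∃ q : ℕ, q.Prime ∧ q ≠ p ∧ Nat.card G = p * q ^ orderOf (q : ZMod p) ∧
      ∃ A : Subgroup G, A.Normal ∧ Nat.card ↥A = q ^ orderOf (q : ZMod p) ∧ Cfsg.IsElementaryAbelian q A ∧
        ∀ B : Subgroup G, B.Normal → B ≤ A → B = ⊥ ∨ B = A := by
  classical
  haveI : Nontrivial G := by
    by_contra h
    rw [not_nontrivial_iff_subsingleton] at h
    exact hnc (isPClosed_of_isPGroup fun g => ⟨0, Subsingleton.elim _ _⟩)
  -- a minimal normal subgroup
  obtain ⟨N₀, hN₀n, hN₀b, hN₀t⟩ : ∃ N : Subgroup G, N.Normal ∧ N ≠ ⊥ ∧ N ≠ ⊤ := by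
    by_contra h
    push Not at h
    exact hns { eq_bot_or_eq_top_of_normal := fun N hN => by
                  by_cases hb : N = ⊥
                  · exact Or.inl hb
                  · exact Or.inr (h N hN hb) }
  obtain ⟨N, hNle, hN⟩ := exists_minimal_le_of_wellFoundedLT
    (fun N : Subgroup G => N.Normal ∧ N ≠ ⊥) N₀ ⟨hN₀n, hN₀b⟩
  haveI := hN.1.1
  have hNb := hN.1.2
  have hNt : N ≠ ⊤ := fun h => hN₀t (top_le_iff.1 (h ▸ hNle))
  have hmin : ∀ B : Subgroup G, B.Normal → B ≤ N → B = ⊥ ∨ B = N := fun B hB hBN =>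
    (em (B = ⊥)).imp_right fun hb => le_antisymm hBN (hN.2 ⟨hB, hb⟩ hBN)
  -- no non-trivial normal `p`-subgroup
  have hOp : ∀ R : Subgroup G, R.Normal → IsPGroup p R → R = ⊥ := by
    intro R hR hRp
    by_contra hRb
    haveI := hR
    have hq := hquo R hRb
    obtain ⟨P⟩ := (inferInstance : Nonempty (Sylow p G))
    have hRP : R ≤ P := by
      obtain ⟨Q, hQ⟩ := hRp.exists_le_sylow
      obtain ⟨g, rfl⟩ := MulAction.exists_smul_eq G Q P
      intro r hr
      exact ⟨g⁻¹ * r * g, hQ (by simpa using hR.conj_mem r hr g⁻¹), by simp [mul_assoc]⟩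
    refine hnc (isPClosed_of_normal_sylow P ?_)
    have hP' := hq (P.mapSurjective (QuotientGroup.mk'_surjective R))
    rw [Sylow.coe_mapSurjective] at hP'
    have := hP'.comap (QuotientGroup.mk' R)
    rwa [comap_map_eq, QuotientGroup.ker_mk', sup_eq_left.2 hRP] at this
  have hpN : ¬ p ∣ Nat.card N := by
    intro hd
    obtain ⟨S⟩ := (inferInstance : Nonempty (Sylow p N))
    have h := hOp _ (normal_map_sylow (hsub N hNt) S) (S.2.map _)
    rw [map_eq_bot_iff_of_injective _ N.subtype_injective] at h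
    have h2 := S.card_eq_multiplicity
    rw [h, Subgroup.card_bot] at h2
    exact (Nat.one_lt_pow (Nat.pos_iff_ne_zero.1 (hp.out.factorization_pos_of_dvd Nat.card_pos.ne' hd))
      hp.out.one_lt).ne h2
  obtain ⟨P⟩ := (inferInstance : Nonempty (Sylow p G))
  have hPN : (P : Subgroup G) ≤ normalizer (N : Set G) := by rw [normalizer_eq_top N]; exact le_top
  have hcop : (Nat.card (P : Subgroup G)).Coprime (Nat.card N) := by
    rw [P.card_eq_multiplicity]
    exact Nat.Coprime.pow_left _ (hp.out.coprime_iff_not_dvd.2 hpN)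
  have hPne : (P : Subgroup G) ≠ ⊥ := fun h => hnc (isPClosed_of_normal_sylow P (h ▸ inferInstance))
  have htop : N ⊔ (P : Subgroup G) = ⊤ := by
    by_contra hne
    haveI hn : (N ⊔ (P : Subgroup G)).Normal := by
      have hP' := hquo N hNb (P.mapSurjective (QuotientGroup.mk'_surjective N))
      rw [Sylow.coe_mapSurjective] at hP'
      have := hP'.comap (QuotientGroup.mk' N)
      rwa [comap_map_eq, QuotientGroup.ker_mk', sup_comm] at this
    have h1 := normal_map_sylow (hsub _ hne) (P.subtype le_sup_right)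
    rw [Sylow.coe_subtype, map_subgroupOf_eq_of_le le_sup_right] at h1
    exact hnc (isPClosed_of_normal_sylow P h1)
  -- some invariant Sylow subgroup of `N` generates the group together with `P`
  obtain ⟨q, hq, hqN, Q, hPQ, hQP⟩ : ∃ q : ℕ, q.Prime ∧ q ∣ Nat.card N ∧ ∃ Q : Sylow q N,
      (P : Subgroup G) ≤ normalizer (((Q : Subgroup N).map N.subtype : Subgroup G) : Set G) ∧
      (Q : Subgroup N).map N.subtype ⊔ (P : Subgroup G) = ⊤ := by
    by_contra hno
    push Not at hno
    refine hnc (isPClosed_of_normal_sylow P (normalizer_eq_top_iff.1 (top_le_iff.1 (htop.ge.trans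
      (sup_le ?_ le_normalizer)))))
    refine Cfsg.Lib.Coprime.le_of_forall_sylow fun q hq => ?_
    haveI := Fact.mk hq
    by_cases hqd : q ∣ Nat.card N
    · obtain ⟨Q, hQ⟩ := Cfsg.Lib.Coprime.exists_invariant_sylow hPN hcop
        (Or.inl (by haveI := P.2.isNilpotent; infer_instance)) q
      refine ⟨Q, le_sup_left.trans (le_normalizer_of_isPClosed (hsub _ (hno q hq hqd Q hQ)) le_sup_right
        (fun R hR hle => P.3 hR hle) P.2)⟩
    · obtain ⟨Q⟩ := (inferInstance : Nonempty (Sylow q N))
      refine ⟨Q, ?_⟩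
      have h0 : (Q : Subgroup N) = ⊥ := card_eq_one.1 (by
        rw [Q.card_eq_multiplicity, Nat.factorization_eq_zero_of_not_dvd hqd, pow_zero])
      rw [h0, Subgroup.map_bot]; exact bot_le
  haveI := Fact.mk hq
  have hqp : q ≠ p := fun h => hpN (h ▸ hqN)
  -- `N` is a `q`-group
  set Q' := (Q : Subgroup N).map N.subtype with hQ'
  have hQN : Q' ≤ N := map_subtype_le _
  have hNQ : N = Q' := le_antisymm (fun n hn => by
    obtain ⟨a, ha, b, hb, rfl⟩ := (Cfsg.Lib.Coprime.mem_sup_of_le_normalizer hPQ).1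
      (show n ∈ Q' ⊔ (P : Subgroup G) from hQP ▸ mem_top n)
    have hbN : b ∈ N := by simpa using mul_mem (inv_mem (hQN ha)) hn
    rw [Cfsg.Lib.Coprime.eq_one_of_coprime hcop hb hbN, mul_one]
    exact ha) hQN
  have hNq : IsPGroup q N := hNQ ▸ Q.2.map _
  haveI : Nontrivial N := nontrivial_iff_ne_bot _ |>.2 hNb
  have hNc : IsMulCommutative N := by
    rcases hmin ⁅N, N⁆ inferInstance (commutator_le_left N N) with h | h
    · rw [commutator_eq_bot_iff_le_centralizer] at h
      exact ⟨⟨fun a b => Subtype.ext (Subgroup.mem_centralizer_iff.1 (h b.2) a a.2)⟩⟩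
    · haveI := hNq.isNilpotent
      exact absurd h (Cfsg.Lib.Coprime.commutator_lt_of_isNilpotent le_rfl hNb le_normalizer).ne
  have hNe : Cfsg.IsElementaryAbelian q N := by
    refine ⟨hNc, ?_⟩
    haveI := hNc
    let E : Subgroup G :=
      { carrier := {a | a ∈ N ∧ a ^ q = 1}
        one_mem' := ⟨N.one_mem, one_pow _⟩
        mul_mem' := fun {a b} ha hb => ⟨N.mul_mem ha.1 hb.1, by
          have hc : Commute a b := Subgroup.mem_centralizer_iff.1 (Subgroup.le_centralizer N hb.1) a ha.1
          rw [hc.mul_pow, ha.2, hb.2, one_mul]⟩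
        inv_mem' := fun {a} ha => ⟨N.inv_mem ha.1, by rw [inv_pow, ha.2, inv_one]⟩ }
    have hE : E.Normal := ⟨fun a ha g => ⟨hN.1.1.conj_mem a ha.1 g, by rw [conj_pow, ha.2]; group⟩⟩
    rcases hmin E hE fun a ha => ha.1 with h | h
    · exfalso
      obtain ⟨z, hz⟩ := exists_prime_orderOf_dvd_card' (G := N) q hqN
      rw [← Subgroup.orderOf_coe] at hz
      have : (z : G) ∈ E := ⟨z.2, hz ▸ pow_orderOf_eq_one _⟩
      rw [h, Subgroup.mem_bot] at this
      rw [this, orderOf_one] at hz
      exact hq.one_lt.ne hz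
    · intro a ha
      exact (h.symm ▸ ha : a ∈ E).2
  -- `P` has order `p`
  have hPcard : Nat.card (P : Subgroup G) = p := by
    by_contra hne
    obtain ⟨k, hk⟩ := IsPGroup.iff_card.1 P.2
    have hk2 : 2 ≤ k := by
      rcases k with _ | _ | k
      · exact absurd (card_eq_one.1 (by rw [hk, pow_zero])) hPne
      · exact absurd (by rw [hk, pow_one]) hne
      · omega
    obtain ⟨M, hMP, hMc⟩ : ∃ M : Subgroup G, M ≤ (P : Subgroup G) ∧ Nat.card M = p ^ (k - 1) := by
      obtain ⟨M, hMc⟩ := Sylow.exists_subgroup_card_pow_prime (G := (P : Subgroup G)) p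
        (n := k - 1) (hk ▸ pow_dvd_pow p (Nat.sub_le k 1))
      exact ⟨M.map (P : Subgroup G).subtype, map_subtype_le _,
        (card_map_of_injective (P : Subgroup G).subtype_injective).trans hMc⟩
    have hMp : IsPGroup p M := P.2.to_le hMP
    have hMlt : N ⊔ M ≠ ⊤ := by
      intro h
      have h1 := Cfsg.Lib.Coprime.card_sup_coprime (hMP.trans hPN)
        ((hcop.coprime_dvd_left (card_dvd_of_le hMP)).symm)
      have h2 := Cfsg.Lib.Coprime.card_sup_coprime hPN hcop.symm
      rw [htop] at h2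
      rw [h, h2, hk, hMc] at h1
      exact (Nat.pow_lt_pow_right hp.out.one_lt (by omega : k - 1 < k)).ne'
        (Nat.eq_of_mul_eq_mul_left Nat.card_pos h1)
    have hMfac : ¬ p ∣ M.relIndex (N ⊔ M) := fun hd => hpN (by
      have h1 := relIndex_mul_relIndex ⊥ M (N ⊔ M) bot_le le_sup_right
      rw [relIndex_bot_left, relIndex_bot_left, Cfsg.Lib.Coprime.card_sup_coprime (hMP.trans hPN)
        ((hcop.coprime_dvd_left (card_dvd_of_le hMP)).symm), mul_comm (Nat.card N)] at h1
      rwa [Nat.eq_of_mul_eq_mul_left Nat.card_pos h1] at hd)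
    have hmax' : ∀ R : Subgroup G, IsPGroup p R → M ≤ R → R ≤ N ⊔ M → R = M := by
      intro R hR hMR hle
      obtain ⟨j, hj⟩ := hR.index (M.subgroupOf R)
      refine le_antisymm (relIndex_eq_one.1 ?_) hMR
      change (M.subgroupOf R).index = 1
      rw [hj]
      have hd : M.relIndex R ∣ M.relIndex (N ⊔ M) := Dvd.intro _ (relIndex_mul_relIndex _ _ _ hMR hle)
      rcases Nat.eq_zero_or_pos j with rfl | hj0
      · rfl
      · exfalso
        refine hMfac (Dvd.dvd.trans ?_ hd)
        show p ∣ (M.subgroupOf R).index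
        rw [hj]; exact dvd_pow_self p hj0.ne'
    have hNM : N ≤ normalizer (M : Set G) := by
      have hc := hsub _ hMlt
      obtain ⟨S, hS⟩ := (hMp.comap_subtype : IsPGroup p (M.subgroupOf (N ⊔ M))).exists_le_sylow
      have hSM : (S : Subgroup ↥(N ⊔ M)).map (N ⊔ M).subtype = M :=
        hmax' _ (S.2.map _) (fun m hm => ⟨⟨m, mem_sup_right hm⟩, hS hm, rfl⟩) (map_subtype_le _)
      intro n hn
      rw [← hSM]
      refine mem_normalizer_of_forall ?_
      rintro _ ⟨y, hy, rfl⟩
      exact ⟨_, (hc S).conj_mem y hy ⟨n, mem_sup_left hn⟩, rfl⟩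
    have hPM : (P : Subgroup G) ≤ normalizer (M : Set G) := by
      have hmin' : (M.subgroupOf (P : Subgroup G)).index = p := by
        have := relIndex_mul_relIndex ⊥ M (P : Subgroup G) bot_le hMP
        rw [relIndex_bot_left, relIndex_bot_left, hk, hMc] at this
        have he : p ^ k = p ^ (k - 1) * p := by rw [← pow_succ, Nat.sub_add_cancel (by omega : 1 ≤ k)]
        rw [he] at this
        exact Nat.eq_of_mul_eq_mul_left (pow_pos hp.out.pos _) this
      haveI : (M.subgroupOf (P : Subgroup G)).Normal := by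
        refine normal_of_index_eq_minFac_card ?_
        rw [hmin', hk, Nat.pow_minFac (by omega), hp.out.minFac_eq]
      exact (normal_subgroupOf_iff_le_normalizer hMP).1 inferInstance
    have hMn : M.Normal := normalizer_eq_top_iff.1 (top_le_iff.1 (htop.ge.trans (sup_le hNM hPM)))
    have := hOp M hMn hMp
    rw [this, Subgroup.card_bot] at hMc
    exact (Nat.one_lt_pow (by omega : k - 1 ≠ 0) hp.out.one_lt).ne hMc
  have hidx : N.index = p := by
    have h1 := Cfsg.Lib.Coprime.card_sup_coprime hPN hcop.symm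
    rw [htop, Subgroup.card_top, hPcard] at h1
    have h2 := N.card_mul_index
    rw [h1] at h2
    exact Nat.eq_of_mul_eq_mul_left Nat.card_pos h2
  have hnc' : ¬ ∀ g : G, g ∈ centralizer (N : Set G) := fun h => by
    refine hnc (isPClosed_of_normal_sylow P (normalizer_eq_top_iff.1 (top_le_iff.1 (htop.ge.trans
      (sup_le ?_ le_normalizer)))))
    intro n hn
    refine mem_normalizer_of_forall fun b hb => ?_
    rw [Subgroup.mem_centralizer_iff.1 (h b) n hn, mul_inv_cancel_right]
    exact hb
  obtain ⟨hcard, -⟩ := structure_of_index_prime hqp N hNe hidx hnc' hmin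
  exact ⟨q, hq, hqp, by rw [← N.card_mul_index, hidx, hcard, mul_comm], N, inferInstance, hcard, hNe, hmin⟩

end Cfsg.Lib.MinimalNonClosed
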