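import Mathlib

/-!
A fixed point free cyclic group of isometries of a nondegenerate form on a space of dimension `2 n` over `ZMod p`
has order dividing `p ^ n + 1` or `p ^ n - 1`.
-/

set_option linter.style.haveILetI false

namespace Cfsg.Lib.CyclicSymplectic

open Polynomial

universe u

section Multiset

variable {K : Type u} [Field K]

theorem roots_reverse_prod (R : Multiset K) (h0 : ∀ r ∈ R, r ≠ 0) :
    ((R.map fun r => X - C r).prod.reverse).roots = R.map fun r => r⁻¹ := by
  classical
  induction R using Multiset.induction_on with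
  | empty => rw [Multiset.map_zero, Multiset.prod_zero, ← C_1, reverse_C, roots_C, Multiset.map_zero]
  | cons a s ih =>
    have ha : a ≠ 0 := h0 a (Multiset.mem_cons_self a s)
    rw [Multiset.map_cons, Multiset.prod_cons, reverse_mul_of_domain]
    have hrev : (X - C a).reverse = C (-a) * (X - C a⁻¹) := by
      rw [mul_sub, ← C_mul, neg_mul, mul_inv_cancel₀ ha, reverse, natDegree_X_sub_C, reflect_sub, reflect_C,
        show (X : K[X]) = X ^ 1 from (pow_one X).symm, reflect_monomial, revAt_le le_rfl]
      simp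
      ring
    have hs : (s.map fun r => X - C r).prod.reverse ≠ 0 := by
      rw [Ne, reverse_eq_zero]
      exact (monic_multiset_prod_of_monic _ _ fun r _ => monic_X_sub_C r).ne_zero
    rw [hrev, mul_assoc, roots_C_mul _ (neg_ne_zero.2 ha), roots_mul (mul_ne_zero (X_sub_C_ne_zero _) hs),
      roots_X_sub_C, ih fun r hr => h0 r (Multiset.mem_cons_of_mem hr), Multiset.map_cons, Multiset.singleton_add]

theorem card_dvd_of_invariant {h : ℕ} [NeZero h] (A : Subgroup (ZMod h)ˣ) : ∀ (N : ℕ) (R : Multiset K),
    R.card ≤ N → (∀ r ∈ R, orderOf r = h) →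
    (∀ a ∈ A, R.map (fun r => r ^ ((a : ZMod h).val)) = R) → Nat.card A ∣ R.card := by
  classical
  intro N
  induction N with
  | zero => intro R hN _ _; rw [Nat.le_zero.1 hN]; exact dvd_zero _
  | succ N ih =>
    intro R hN hord hinv
    rcases R.empty_or_exists_mem with rfl | ⟨r, hr⟩
    · simp
    haveI := Fintype.ofFinite A
    have hmul : ∀ (x : K), orderOf x = h → ∀ a b : (ZMod h)ˣ,
        (x ^ ((a : ZMod h).val)) ^ ((b : ZMod h).val) = x ^ (((a * b : (ZMod h)ˣ) : ZMod h).val) := by
      intro x hx a b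
      rw [← pow_mul, Units.val_mul, ZMod.val_mul]
      conv_lhs => rw [← pow_mod_orderOf, hx]
    have hpinj : ∀ (a : (ZMod h)ˣ) (x y : K), orderOf x = h → orderOf y = h →
        x ^ ((a : ZMod h).val) = y ^ ((a : ZMod h).val) → x = y := by
      intro a x y hx hy e
      have h1 := congrArg (· ^ (((a⁻¹ : (ZMod h)ˣ) : ZMod h).val)) e
      simp only [hmul x hx, hmul y hy, mul_inv_cancel] at h1
      have h2 : ∀ z : K, orderOf z = h → z ^ ((((1 : (ZMod h)ˣ)) : ZMod h).val) = z := fun z hz => by
        conv_rhs => rw [← pow_one z]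
        rw [← pow_mod_orderOf z 1, hz, Units.val_one, ← Nat.cast_one, ZMod.val_natCast]
      rwa [h2 x hx, h2 y hy] at h1
    let O : Finset K := Finset.univ.image fun a : A => r ^ (((a : (ZMod h)ˣ) : ZMod h).val)
    have hOcard : O.card = Nat.card A := by
      rw [Finset.card_image_of_injective, Finset.card_univ, Nat.card_eq_fintype_card]
      intro a b e
      refine Subtype.ext (Units.ext (ZMod.val_injective h ?_))
      exact pow_injOn_Iio_orderOf (x := r) (by rw [hord r hr]; exact ZMod.val_lt _)
        (by rw [hord r hr]; exact ZMod.val_lt _) e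
    have hcount : ∀ a ∈ A, R.count (r ^ ((a : ZMod h).val)) = R.count r := by
      intro a ha
      conv_lhs => rw [← hinv a ha]
      exact Multiset.count_map_eq_count _ R (fun x hx y hy e => hpinj a x y (hord x hx) (hord y hy) e) r hr
    have hin : (R.filter fun x => x ∈ O).card = Nat.card A * R.count r := by
      have hsub : (R.filter fun x => x ∈ O).toFinset ⊆ O := fun x hx => by
        rw [Multiset.mem_toFinset, Multiset.mem_filter] at hx; exact hx.2
      rw [← Multiset.toFinset_sum_count_eq, Finset.sum_subset hsub fun x _ hx => by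
        rwa [Multiset.mem_toFinset, ← Multiset.count_eq_zero] at hx]
      rw [Finset.sum_const_nat fun x hx => ?_, hOcard]
      obtain ⟨a, -, rfl⟩ := Finset.mem_image.1 hx
      rw [Multiset.count_filter_of_pos hx]
      exact hcount a a.2
    have hsplit : R.card = (R.filter fun x => x ∈ O).card + (R.filter fun x => x ∉ O).card := by
      rw [← Multiset.card_add, Multiset.filter_add_not]
    rw [hsplit, hin]
    refine dvd_add (dvd_mul_right _ _) (ih _ ?_ (fun x hx => hord x (Multiset.mem_of_mem_filter hx)) fun a ha => ?_)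
    · have h1 : 0 < Nat.card A * R.count r := Nat.mul_pos Nat.card_pos (Multiset.count_pos.2 hr)
      omega
    · conv_rhs => rw [← hinv a ha, Multiset.filter_map]
      refine congrArg _ (Multiset.filter_congr fun x hx => ?_)
      simp only [Function.comp_apply, not_iff_not]
      refine ⟨fun hxO => ?_, fun hxO => ?_⟩
      · obtain ⟨b, -, rfl⟩ := Finset.mem_image.1 hxO
        exact Finset.mem_image.2 ⟨b * ⟨a, ha⟩, Finset.mem_univ _, by rw [hmul r (hord r hr)]; rfl⟩
      · obtain ⟨b, -, hb⟩ := Finset.mem_image.1 hxO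
        refine Finset.mem_image.2 ⟨b * ⟨a, ha⟩⁻¹, Finset.mem_univ _, hpinj a _ _ ?_ (hord x hx) ?_⟩
        · have hcop : (orderOf r).Coprime (((b * ⟨a, ha⟩⁻¹ : A) : (ZMod h)ˣ) : ZMod h).val := by
            rw [hord r hr]; exact (ZMod.val_coe_unit_coprime _).symm
          rw [Nat.Coprime.orderOf_pow hcop, hord r hr]
        · rw [hmul r (hord r hr), ← hb]
          simp

end Multiset

open Matrix

theorem dvd_of_fixed_point_free {p : ℕ} [Fact p.Prime] {ι : Type} [Fintype ι] [DecidableEq ι] (n : ℕ)
    (hcard : Fintype.card ι = 2 * n) {h : ℕ} (hh : 3 ≤ h) (hcop : h.Coprime p)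
    (M J : Matrix ι ι (ZMod p)) (hMh : M ^ h = 1) (hJ : IsUnit J) (hform : Mᵀ * J * M = J)
    (hfree : ∀ i, 0 < i → i < h → ∀ v : ι → ZMod p, (M ^ i) *ᵥ v = v → v = 0) :
    h ∣ p ^ n + 1 ∨ h ∣ p ^ n - 1 := by
  classical
  haveI : NeZero h := ⟨by omega⟩
  haveI : Fact (2 < h) := ⟨by omega⟩
  let K := AlgebraicClosure (ZMod p)
  let φ := algebraMap (ZMod p) K
  haveI : CharP K p := charP_of_injective_algebraMap φ.injective p
  haveI : ExpChar K p := ExpChar.prime Fact.out
  set R := (M.map φ).charpoly.roots with hR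
  have hsplit : (M.map φ).charpoly.Splits := IsAlgClosed.splits _
  have hRcard : R.card = 2 * n := by
    rw [hR, ← Polynomial.Splits.natDegree_eq_card_roots hsplit, Matrix.charpoly_natDegree_eq_dim, hcard]
  have hord : ∀ r ∈ R, orderOf r = h := by
    intro r hr
    have h1 : Matrix.det (Matrix.scalar ι r - M.map φ) = 0 := by
      rw [← Matrix.eval_charpoly]; exact (mem_roots'.1 hr).2
    obtain ⟨v, hv, hMv⟩ := Matrix.exists_mulVec_eq_zero_iff.2 h1
    rw [Matrix.sub_mulVec, sub_eq_zero] at hMv
    have hev : ∀ k : ℕ, ((M ^ k).map φ) *ᵥ v = r ^ k • v := by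
      intro k
      induction k with
      | zero => simp
      | succ k ih =>
        rw [pow_succ M, Matrix.map_mul, ← Matrix.mulVec_mulVec, ← hMv]
        have h2 : Matrix.scalar ι r *ᵥ v = r • v := by
          ext i; simp [Matrix.mulVec_diagonal]
        rw [h2, Matrix.mulVec_smul, ih, smul_smul, pow_succ']
    have hrh : r ^ h = 1 := by
      have h2 := hev h
      rw [hMh, Matrix.map_one φ (map_zero φ) (map_one φ), Matrix.one_mulVec] at h2
      exact smul_left_injective K hv (h2.symm.trans (one_smul K v).symm)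
    rw [orderOf_eq_iff (by omega)]
    refine ⟨hrh, fun i hi hi0 e => ?_⟩
    have h2 : Matrix.det (M ^ i - 1) = 0 := by
      apply φ.injective
      rw [RingHom.map_det, map_zero]
      refine Matrix.exists_mulVec_eq_zero_iff.1 ⟨v, hv, ?_⟩
      rw [RingHom.mapMatrix_apply, Matrix.map_sub φ (map_sub φ), Matrix.map_one φ (map_zero φ) (map_one φ),
        Matrix.sub_mulVec, hev, e, one_smul, Matrix.one_mulVec, sub_self]
    obtain ⟨w, hw, hw'⟩ := Matrix.exists_mulVec_eq_zero_iff.2 h2
    rw [Matrix.sub_mulVec, sub_eq_zero, Matrix.one_mulVec] at hw'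
    exact hw (hfree i hi0 hi w hw')
  have h0 : ∀ r ∈ R, r ≠ 0 := fun r hr e => by
    have := hord r hr
    rw [e, orderOf_zero] at this
    omega
  -- Frobenius
  have hfrob : R.map (fun r => r ^ p) = R := by
    have h1 : (M.map φ).charpoly.map (frobenius K p) = (M.map φ).charpoly := by
      rw [Matrix.charpoly_map, Polynomial.map_map, show (frobenius K p).comp φ = φ from ?_]
      exact RingHom.ext fun a => by
        rw [RingHom.comp_apply, frobenius_def, ← map_pow, ZMod.pow_card]
    have h2 := Polynomial.Splits.roots_map_of_injective hsplit (frobenius_inj K p)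
    rw [h1] at h2
    exact h2.symm
  -- inversion
  have hinvR : R.map (fun r => r⁻¹) = R := by
    have hMu : IsUnit M := IsUnit.of_pow_eq_one hMh (by omega)
    obtain ⟨Ju, rfl⟩ := hJ
    have h1 : Mᵀ = (Ju : Matrix ι ι (ZMod p)) * M⁻¹ * (↑Ju⁻¹ : Matrix ι ι (ZMod p)) := by
      have h2 : Mᵀ * (Ju : Matrix ι ι (ZMod p)) = (Ju : Matrix ι ι (ZMod p)) * M⁻¹ := by
        have h3 := congrArg (· * M⁻¹) hform
        simp only [mul_assoc] at h3
        rwa [Matrix.mul_nonsing_inv M ((Matrix.isUnit_iff_isUnit_det M).1 hMu), mul_one] at h3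
      rw [← h2, mul_assoc, Units.mul_inv, mul_one]
    have h4 : M⁻¹.charpoly = M.charpoly := by
      rw [← Matrix.charpoly_transpose M, h1, Matrix.coe_units_inv, Matrix.charpoly_units_conj]
    rw [Matrix.charpoly_inv M hMu, ← Matrix.reverse_charpoly] at h4
    have h5 := congrArg (fun P : (ZMod p)[X] => (P.map φ).roots) h4
    simp only [Polynomial.map_mul, Polynomial.map_pow, Polynomial.map_neg, Polynomial.map_one, map_C,
      ← Matrix.charpoly_map] at h5
    have h6 : (M.charpoly.reverse.map φ) = (M.map φ).charpoly.reverse := by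
      rw [Matrix.charpoly_map, reverse, reverse, Polynomial.natDegree_map, Polynomial.reflect_map]
    rw [h6] at h5
    have hc : ((-1 : K[X]) ^ Fintype.card ι * C (φ (Ring.inverse M.det))) = C ((-1 : K) ^ Fintype.card ι * φ (Ring.inverse M.det)) := by
      simp
    rw [hc, roots_C_mul _ ?_] at h5
    · have h7 : (M.map φ).charpoly = (R.map fun r => X - C r).prod :=
        Polynomial.Splits.eq_prod_roots_of_monic hsplit (Matrix.charpoly_monic _)
      conv_rhs => rw [hR, ← h5, h7, roots_reverse_prod R h0]
    · refine mul_ne_zero (pow_ne_zero _ (neg_ne_zero.2 one_ne_zero)) ?_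
      rw [_root_.map_ne_zero]
      exact (((Matrix.isUnit_iff_isUnit_det M).1 hMu).ringInverse).ne_zero
  -- the group of multipliers
  let pu : (ZMod h)ˣ := ZMod.unitOfCoprime p hcop.symm
  let A : Subgroup (ZMod h)ˣ := Subgroup.closure {pu, -1}
  have hA : ∀ a ∈ A, R.map (fun r => r ^ ((a : ZMod h).val)) = R := by
    have hmod : ∀ k : ℕ, ∀ r ∈ R, r ^ ((k : ZMod h).val) = r ^ k := fun k r hr => by
      rw [ZMod.val_natCast, ← hord r hr, pow_mod_orderOf]
    have hgen : ∀ a ∈ A, R.map (fun r => r ^ ((a : ZMod h).val)) = R := by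
      intro a ha
      induction ha using Subgroup.closure_induction with
      | mem a ha =>
        rcases ha with rfl | rfl
        · refine Eq.trans (Multiset.map_congr rfl fun r hr => ?_) hfrob
          rw [show ((pu : (ZMod h)ˣ) : ZMod h) = (p : ZMod h) from ZMod.coe_unitOfCoprime p hcop.symm, hmod p r hr]
        · refine Eq.trans (Multiset.map_congr rfl fun r hr => ?_) hinvR
          rw [Units.val_neg, Units.val_one]
          refine eq_inv_of_mul_eq_one_left ?_
          rw [← pow_succ]
          refine orderOf_dvd_iff_pow_eq_one.1 ?_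
          rw [hord r hr, ← ZMod.natCast_eq_zero_iff, Nat.cast_add, ZMod.natCast_zmod_val, Nat.cast_one, neg_add_cancel]
      | one =>
        refine Eq.trans (Multiset.map_congr rfl fun r hr => ?_) (Multiset.map_id R)
        rw [Units.val_one, ← Nat.cast_one, hmod 1 r hr, pow_one]; rfl
      | mul a b _ _ iha ihb =>
        conv_rhs => rw [← ihb, ← iha, Multiset.map_map]
        refine Multiset.map_congr rfl fun r hr => ?_
        rw [Function.comp_apply, ← pow_mul, Units.val_mul, ← hmod ((a : ZMod h).val * (b : ZMod h).val) r hr,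
          Nat.cast_mul, ZMod.natCast_zmod_val, ZMod.natCast_zmod_val]
      | inv a _ iha =>
        conv_lhs => rw [← iha, Multiset.map_map]
        refine Eq.trans (Multiset.map_congr rfl fun r hr => ?_) (Multiset.map_id R)
        rw [Function.comp_apply, ← pow_mul, ← hmod ((a : ZMod h).val * ((a⁻¹ : (ZMod h)ˣ) : ZMod h).val) r hr,
          Nat.cast_mul, ZMod.natCast_zmod_val, ZMod.natCast_zmod_val, Units.mul_inv, ← Nat.cast_one, hmod 1 r hr,
          pow_one]
        rfl
    exact hgen
  have hdiv : Nat.card A ∣ 2 * n := hRcard ▸ card_dvd_of_invariant A _ R le_rfl hord hA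
  set Z := Subgroup.zpowers pu
  have hZA : Z ≤ A := Subgroup.zpowers_le.2 (Subgroup.subset_closure (Or.inl rfl))
  have hne1 : (-1 : (ZMod h)ˣ) ≠ 1 := fun e => by
    have := congrArg Units.val e
    rw [Units.val_neg, Units.val_one] at this
    exact ZMod.neg_one_ne_one this
  have hval : ((pu ^ n : (ZMod h)ˣ) : ZMod h) = ((p ^ n : ℕ) : ZMod h) := by
    rw [Units.val_pow_eq_pow_val, ZMod.coe_unitOfCoprime, Nat.cast_pow]
  suffices hpm : pu ^ n = 1 ∨ pu ^ n = -1 by
    rcases hpm with e | e
    · right
      rw [← ZMod.natCast_eq_zero_iff, Nat.cast_sub (Nat.one_le_pow _ _ (Fact.out : p.Prime).pos), ← hval, e]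
      simp
    · left
      rw [← ZMod.natCast_eq_zero_iff, Nat.cast_add, ← hval, e]
      simp
  by_cases hm : (-1 : (ZMod h)ˣ) ∈ Z
  · have hsq : (pu ^ n) ^ 2 = 1 := by
      rw [← pow_mul, ← orderOf_dvd_iff_pow_eq_one, mul_comm, ← Nat.card_zpowers]
      exact (Subgroup.card_dvd_of_le hZA).trans hdiv
    by_contra hh
    push Not at hh
    haveI := Fintype.ofFinite Z
    have h1 := IsCyclic.card_pow_eq_one_le (α := Z) (n := 2) two_pos
    have h2 : ({1, ⟨-1, hm⟩, ⟨pu ^ n, pow_mem (Subgroup.mem_zpowers pu) n⟩} : Finset Z) ⊆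
        Finset.univ.filter fun a => a ^ 2 = 1 := by
      intro a ha
      simp only [Finset.mem_insert, Finset.mem_singleton] at ha
      simp only [Finset.mem_filter, Finset.mem_univ, true_and]
      rcases ha with rfl | rfl | rfl
      · simp
      · exact Subtype.ext (by simp)
      · exact Subtype.ext (by simpa using hsq)
    have h3 := (Finset.card_le_card h2).trans h1
    rw [Finset.card_insert_of_notMem, Finset.card_insert_of_notMem, Finset.card_singleton] at h3
    · omega
    · rw [Finset.mem_singleton]; exact fun e => hh.2 (congrArg Subtype.val e).symm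
    · simp only [Finset.mem_insert, Finset.mem_singleton, not_or]
      exact ⟨fun e => hne1 (congrArg Subtype.val e).symm, fun e => hh.1 (congrArg Subtype.val e).symm⟩
  · left
    have hdis : Disjoint Z (Subgroup.zpowers (-1 : (ZMod h)ˣ)) := by
      rw [Subgroup.disjoint_def]
      intro a ha hb
      obtain ⟨k, rfl⟩ := Subgroup.mem_zpowers_iff.1 hb
      rcases Int.even_or_odd k with hk | hk
      · exact Even.neg_one_zpow hk
      · rw [Odd.neg_one_zpow hk] at ha; exact absurd ha hm
    have hprod : Nat.card (Z × Subgroup.zpowers (-1 : (ZMod h)ˣ)) ∣ Nat.card A := by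
      have hinj := Subgroup.mul_injective_of_disjoint hdis
      let f : Z × Subgroup.zpowers (-1 : (ZMod h)ˣ) →* A :=
        { toFun := fun a => ⟨a.1 * a.2, mul_mem (hZA a.1.2)
            ((Subgroup.zpowers_le.2 (show (-1 : (ZMod h)ˣ) ∈ A from Subgroup.subset_closure (Or.inr rfl))) a.2.2)⟩
          map_one' := Subtype.ext (by simp)
          map_mul' := fun a b => Subtype.ext (mul_mul_mul_comm _ _ _ _) }
      exact Subgroup.card_dvd_of_injective f fun a b e => hinj (congrArg Subtype.val e)
    rw [Nat.card_prod, Nat.card_zpowers, Nat.card_zpowers] at hprod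
    rw [show orderOf (-1 : (ZMod h)ˣ) = 2 from orderOf_eq_prime (by simp) hne1] at hprod
    rw [← orderOf_dvd_iff_pow_eq_one]
    have h4 := hprod.trans hdiv
    rw [mul_comm] at h4
    exact Nat.dvd_of_mul_dvd_mul_left two_pos h4

end Cfsg.Lib.CyclicSymplectic
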