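import Mathlib
import Cfsg.Agent.Coprime.Hall
import Cfsg.Agent.Frobenius.Complement
import Cfsg.Agent.Frobenius.FpfGroups
import Cfsg.Agent.Frobenius.DivisionRing
import Cfsg.Agent.Components.Cores
import Cfsg.Agent.Thompson.FixedPointFree

/-!
Solvable groups with disconnected prime graph.
-/

set_option linter.style.haveILetI false
set_option linter.unusedSectionVars false

namespace Cfsg.Lib.DisconnectedGraph

open Subgroup

universe u

variable {G : Type u} [Group G] [Finite G]

/-- No element of order `a * b` for primes on different sides. -/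
def Sep (P : ℕ → Prop) (G : Type u) [Group G] : Prop :=
  ∀ a b : ℕ, a.Prime → b.Prime → P a → ¬ P b → ∀ g : G, orderOf g ≠ a * b

theorem sep_subgroup {P : ℕ → Prop} (h : Sep P G) (K : Subgroup G) : Sep P K := fun a b ha hb hPa hPb g =>
  fun e => h a b ha hb hPa hPb g (by rw [Subgroup.orderOf_coe, e])

theorem sep_quotient {P : ℕ → Prop} (h : Sep P G) (N : Subgroup G) [N.Normal] : Sep P (G ⧸ N) := by
  intro a b ha hb hPa hPb g
  induction g using QuotientGroup.induction_on with
  | _ g =>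
    intro e
    have hdvd : a * b ∣ orderOf g := e ▸ orderOf_map_dvd (QuotientGroup.mk' N) g
    exact h a b ha hb hPa hPb (g ^ (orderOf g / (a * b))) (orderOf_pow_orderOf_div (orderOf_pos g).ne' hdvd)

/-- Elements from the two sides never commute. -/
theorem not_commute {P : ℕ → Prop} (h : Sep P G) {x y : G} (hc : x * y = y * x) (hx1 : x ≠ 1) (hy1 : y ≠ 1)
    (hx : ∀ r, r.Prime → r ∣ orderOf x → P r) (hy : ∀ r, r.Prime → r ∣ orderOf y → ¬ P r) : False := by
  obtain ⟨a, ha, had⟩ := Nat.exists_prime_and_dvd (show orderOf x ≠ 1 from fun e => hx1 (orderOf_eq_one_iff.1 e))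
  obtain ⟨b, hb, hbd⟩ := Nat.exists_prime_and_dvd (show orderOf y ≠ 1 from fun e => hy1 (orderOf_eq_one_iff.1 e))
  have hxa : orderOf (x ^ (orderOf x / a)) = a := orderOf_pow_orderOf_div (orderOf_pos x).ne' had
  have hyb : orderOf (y ^ (orderOf y / b)) = b := orderOf_pow_orderOf_div (orderOf_pos y).ne' hbd
  have hab : a ≠ b := fun e => hy b hb hbd (e ▸ hx a ha had)
  refine h a b ha hb (hx a ha had) (hy b hb hbd) (x ^ (orderOf x / a) * y ^ (orderOf y / b)) ?_
  have hcomm : Commute (x ^ (orderOf x / a)) (y ^ (orderOf y / b)) :=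
    ((show Commute x y from hc).pow_left _).pow_right _
  rw [hcomm.orderOf_mul_eq_mul_orderOf_of_coprime (by rw [hxa, hyb]; exact (Nat.coprime_primes ha hb).2 hab), hxa, hyb]

theorem coprime_card_index {P : ℕ → Prop} {M : Subgroup G} (hM : ∀ r, r.Prime → r ∣ Nat.card M → P r)
    (hI : ∀ r, r.Prime → r ∣ M.index → ¬ P r) : (Nat.card M).Coprime M.index :=
  Nat.coprime_of_dvd fun r hr h1 h2 => hI r hr h2 (hM r hr h1)

/-- A separated normal Hall subgroup is a Frobenius kernel. -/
theorem exists_frobenius {P : ℕ → Prop} (h : Sep P G) (M : Subgroup G) [M.Normal] (hM0 : M ≠ ⊥) (hM1 : M ≠ ⊤)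
    (hM : ∀ r, r.Prime → r ∣ Nat.card M → P r) (hI : ∀ r, r.Prime → r ∣ M.index → ¬ P r) :
    ∃ C : Subgroup G, IsFrobeniusComplement C ∧ frobeniusKernel C = (M : Set G) ∧ Nat.card C = M.index ∧
      Cfsg.Lib.Frobenius.Fpf C M := by
  obtain ⟨C, hC⟩ := Subgroup.exists_right_complement'_of_coprime (coprime_card_index hM hI)
  have hC0 : C ≠ ⊥ := by
    rintro rfl
    exact hM1 (Subgroup.isComplement'_bot_right.1 hC)
  have hfpf : Cfsg.Lib.Frobenius.Fpf C M := by
    intro c hc hc1
    rw [eq_bot_iff]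
    rintro m ⟨hm, hmc⟩
    rw [mem_bot]
    by_contra hm1
    refine not_commute h (mem_centralizer_singleton_iff.1 hmc) hm1 hc1
      (fun r hr hd => hM r hr (hd.trans (Subgroup.orderOf_dvd_natCard M hm)))
      fun r hr hd => hI r hr (hd.trans ?_)
    rw [hC.symm.index_eq_card]
    exact Subgroup.orderOf_dvd_natCard C hc
  have hFC := (Cfsg.Lib.Frobenius.isFrobeniusComplement_iff_fpf hC hM0 hC0).2 hfpf
  exact ⟨C, hFC, (Cfsg.Lib.Frobenius.normal_eq_kernel hFC hC).symm, hC.symm.index_eq_card.symm, hfpf⟩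

/-- A maximal normal `P`-subgroup. -/
theorem exists_max (P : ℕ → Prop) : ∃ M : Subgroup G, M.Normal ∧ (∀ r, r.Prime → r ∣ Nat.card M → P r) ∧
    ∀ L : Subgroup G, L.Normal → (∀ r, r.Prime → r ∣ Nat.card L → P r) → L ≤ M := by
  obtain ⟨M, ⟨hMn, hM⟩, hmax⟩ := WellFounded.has_min (wellFounded_gt (α := Subgroup G))
    {M | M.Normal ∧ ∀ r, r.Prime → r ∣ Nat.card M → P r}
    ⟨⊥, inferInstance, fun r hr hd => absurd (Nat.eq_one_of_dvd_one (Subgroup.card_bot (G := G) ▸ hd)) hr.ne_one⟩
  refine ⟨M, hMn, hM, fun L hLn hL => ?_⟩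
  by_contra hle
  haveI := hMn; haveI := hLn
  refine hmax (M ⊔ L) ⟨inferInstance, fun r hr hd => ?_⟩ (lt_of_le_of_ne le_sup_left fun e => hle (e ▸ le_sup_right))
  rcases hr.dvd_mul.1 (hd.trans (Cfsg.Lib.Components.card_sup_dvd_mul M L)) with h | h
  exacts [hM r hr h, hL r hr h]

theorem mulAut_comm {B : Type u} [Group B] [IsCyclic B] (φ ψ : MulAut B) : φ * ψ = ψ * φ := by
  obtain ⟨g, hg⟩ := IsCyclic.exists_generator (α := B)
  obtain ⟨k, hk⟩ := mem_zpowers_iff.1 (hg (φ g))
  obtain ⟨l, hl⟩ := mem_zpowers_iff.1 (hg (ψ g))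
  refine MulEquiv.ext fun a => ?_
  obtain ⟨m, rfl⟩ := mem_zpowers_iff.1 (hg a)
  rw [MulAut.mul_apply, MulAut.mul_apply, map_zpow, map_zpow, map_zpow, map_zpow]
  congr 1
  rw [← hl, ← hk, map_zpow, map_zpow, ← hk, ← hl, ← zpow_mul, ← zpow_mul, mul_comm]

/-- The second Frobenius layer. -/
theorem index_side {P : ℕ → Prop} [Group.IsSolvable G] (h : Sep P G) (B : Subgroup G) [B.Normal] (hB0 : B ≠ ⊥)
    (hB1 : B ≠ ⊤) (hB : ∀ r, r.Prime → r ∣ Nat.card B → ¬ P r)
    (hmax : ∀ L : Subgroup G, L.Normal → (∀ r, r.Prime → r ∣ Nat.card L → ¬ P r) → L ≤ B)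
    {U : Type u} [Group U] [Finite U] (A V : Subgroup U) (hAV : A ≤ normalizer (V : Set U)) (hV : V ≠ ⊥)
    (hfpf : Cfsg.Lib.Frobenius.Fpf A V) (e : A ≃* B) :
    ∀ r, r.Prime → r ∣ B.index → P r := by
  classical
  haveI : Nontrivial (G ⧸ B) := (QuotientGroup.nontrivial_iff).2 hB1
  obtain ⟨T, -, hTn, hT0, hTmin⟩ := Cfsg.Lib.Coprime.exists_minimal_normal (G := G ⧸ B) (K := ⊤) inferInstance top_ne_bot
  haveI := hTn
  obtain ⟨-, q, hq, hTq, -⟩ := Cfsg.Lib.Coprime.minimal_normal_solvable inferInstance hT0 hTmin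
  have hPq : P q := by
    by_contra hPq
    have hle : T.comap (QuotientGroup.mk' B) ≤ B := by
      refine hmax _ (hTn.comap _) fun r hr hd => ?_
      have h1 := card_eq_card_quotient_mul_card_subgroup (B.subgroupOf (T.comap (QuotientGroup.mk' B)))
      rw [h1] at hd
      haveI := Fact.mk hq
      rcases hr.dvd_mul.1 hd with hd | hd
      · obtain ⟨j, hj⟩ := IsPGroup.iff_card.1 hTq
        have h2 : Nat.card (T.comap (QuotientGroup.mk' B) ⧸ B.subgroupOf (T.comap (QuotientGroup.mk' B))) = q ^ j := by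
          have h4 : B.subgroupOf (T.comap (QuotientGroup.mk' B)) =
              ((QuotientGroup.mk' B).comp (T.comap (QuotientGroup.mk' B)).subtype).ker := by
            rw [← MonoidHom.comap_ker, QuotientGroup.ker_mk']; rfl
          rw [h4, Nat.card_congr (QuotientGroup.quotientKerEquivRange _).toEquiv, MonoidHom.range_comp,
            range_subtype, Subgroup.map_comap_eq_self_of_surjective (QuotientGroup.mk'_surjective B)]
          exact hj
        rw [h2] at hd
        rwa [(Nat.prime_dvd_prime_iff_eq hr hq).1 (hr.dvd_of_dvd_pow hd)]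
      · rw [Nat.card_congr (subgroupOfEquivOfLe (show B ≤ _ from fun b hb => by
          rw [Subgroup.mem_comap, QuotientGroup.mk'_apply, (QuotientGroup.eq_one_iff b).2 hb]; exact one_mem T)).toEquiv] at hd
        exact hB r hr hd
    refine hT0 ?_
    rw [← Subgroup.map_comap_eq_self_of_surjective (QuotientGroup.mk'_surjective B) T, eq_bot_iff,
      ← QuotientGroup.map_mk'_self B]
    exact map_mono hle
  haveI := Fact.mk hq
  obtain ⟨j, hj⟩ := IsPGroup.iff_card.1 hTq
  have hqdvd : q ∣ Nat.card G := by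
    rcases Nat.eq_zero_or_pos j with rfl | hj0
    · exact absurd (eq_bot_of_card_eq T (by rw [hj, pow_zero])) hT0
    · exact ((dvd_pow_self q hj0.ne').trans (hj ▸ Subgroup.card_subgroup_dvd_card T)).trans
        (by rw [card_eq_card_quotient_mul_card_subgroup B]; exact dvd_mul_right _ _)
  obtain ⟨x, hx⟩ := exists_prime_orderOf_dvd_card' q hqdvd
  have hxside : ∀ r, r.Prime → r ∣ orderOf x → P r := fun r hr hd => by
    rw [hx, Nat.prime_dvd_prime_iff_eq hr hq] at hd
    rwa [hd]
  have hx1 : x ≠ 1 := fun e' => by rw [e', orderOf_one] at hx; exact hq.ne_one hx.symm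
  have hBside : ∀ b ∈ B, ∀ r, r.Prime → r ∣ orderOf b → ¬ P r := fun b hb r hr hd =>
    hB r hr (hd.trans (Subgroup.orderOf_dvd_natCard B hb))
  -- `B` is nilpotent
  let φ : B →* B := ((MulAut.conjNormal x : MulAut B)).toMonoidHom
  haveI hBnil : Group.IsNilpotent B := Cfsg.Lib.Thompson.isNilpotent_of_fpf φ (fun b hb => by
      by_contra hb1
      have h1 : x * (b : G) * x⁻¹ = b := congrArg Subtype.val hb
      exact not_commute h (mul_inv_eq_iff_eq_mul.1 h1) hx1 (fun e' => hb1 (Subtype.ext e')) hxside (hBside b b.2))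
    hq (funext fun b => by
      have hi : ∀ i : ℕ, (φ^[i]) b = (MulAut.conjNormal (x ^ i) : MulAut B) b := by
        intro i
        induction i with
        | zero => simp
        | succ i ih => rw [Function.iterate_succ_apply', ih, pow_succ', map_mul]; rfl
      show (φ^[q]) b = b
      rw [hi, ← hx, pow_orderOf_eq_one]; simp)
  -- `B` has odd order
  have hodd : ¬ 2 ∣ Nat.card B := by
    intro h2
    obtain ⟨z, hz⟩ := exists_prime_orderOf_dvd_card' (G := B) 2 h2
    obtain ⟨S⟩ : Nonempty (Sylow 2 B) := inferInstance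
    have htfae : Group.IsNilpotent B ↔ ∀ (p : ℕ) (_hp : Fact p.Prime) (P : Sylow p B), (P : Subgroup B).Normal :=
      (Group.isNilpotent_of_finite_tfae (G := B)).out 0 3
    haveI : (S : Subgroup B).Normal := htfae.mp hBnil 2 inferInstance S
    have hmem : ∀ w : B, orderOf w = 2 → w ∈ (S : Subgroup B) := fun w hw => by
      obtain ⟨S', hS'⟩ := (IsPGroup.of_card (p := 2) (n := 1) (by rw [Nat.card_zpowers, hw]; rfl) :
        IsPGroup 2 (zpowers w)).exists_le_sylow
      letI := Sylow.unique_of_normal S inferInstance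
      exact Subsingleton.elim S' S ▸ hS' (mem_zpowers w)
    have huniq : ∀ w : B, orderOf w = 2 → w = z := by
      intro w hw
      let A₂ : Subgroup U := ((S : Subgroup B).map e.symm.toMonoidHom).map A.subtype
      have hA₂ : A₂ ≤ A := map_subtype_le _
      have hp2 : IsPGroup 2 A₂ := (S.2.map _).map _
      have key := (hfpf.mono hA₂).unique (hA₂.trans hAV) hV hp2
      have hzA : ∀ v : B, v ∈ (S : Subgroup B) → ((e.symm v : A) : U) ∈ A₂ := fun v hv =>
        ⟨_, ⟨v, hv, rfl⟩, rfl⟩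
      have ho : ∀ (v : B) (hv : v ∈ (S : Subgroup B)), orderOf (⟨_, hzA v hv⟩ : A₂) = orderOf v := fun v hv => by
        rw [Subgroup.orderOf_mk, Subgroup.orderOf_coe, MulEquiv.orderOf_eq]
      obtain ⟨k, hk⟩ := mem_zpowers_iff.1 (key ⟨_, hzA z (hmem z hz)⟩ ⟨_, hzA w (hmem w hw)⟩
        ((ho z (hmem z hz)).trans hz) ((ho w (hmem w hw)).trans hw))
      have hk' : z ^ k = w := by
        apply e.symm.injective
        rw [map_zpow]
        exact Subtype.ext (by simpa using congrArg Subtype.val hk)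
      rcases Int.even_or_odd k with ⟨i, rfl⟩ | ⟨i, rfl⟩
      · rw [← two_mul, zpow_mul, zpow_ofNat, ← hz, pow_orderOf_eq_one, one_zpow] at hk'
        rw [← hk', orderOf_one] at hw
        omega
      · rw [zpow_add, zpow_one, zpow_mul, show z ^ (2 : ℤ) = 1 by
          rw [zpow_ofNat, ← hz, pow_orderOf_eq_one], one_zpow, one_mul] at hk'
        exact hk'.symm
    have hfix : (MulAut.conjNormal x : MulAut B) z = z := huniq _ (by rw [MulEquiv.orderOf_eq, hz])
    have h1 : x * (z : G) * x⁻¹ = z := congrArg Subtype.val hfix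
    exact not_commute h (mul_inv_eq_iff_eq_mul.1 h1) hx1
      (fun e' => by rw [show z = 1 from Subtype.ext e', orderOf_one] at hz; omega) hxside (hBside z z.2)
  -- `B` is cyclic
  haveI : IsZGroup B := ⟨fun p hp S => by
    haveI := Fact.mk hp
    let A₂ : Subgroup U := ((S : Subgroup B).map e.symm.toMonoidHom).map A.subtype
    have hA₂ : A₂ ≤ A := map_subtype_le _
    rcases (hfpf.mono hA₂).isCyclic_or_quaternion (hA₂.trans hAV) hV ((S.2.map _).map _) with hc | ⟨rfl, -⟩
    · haveI := hc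
      exact (((Subgroup.equivMapOfInjective _ e.symm.toMonoidHom e.symm.injective).trans
        (Subgroup.equivMapOfInjective _ A.subtype A.subtype_injective)).isCyclic).2 hc
    · have hS : (S : Subgroup B) = ⊥ := by
        obtain ⟨m, hm⟩ := IsPGroup.iff_card.1 S.2
        refine eq_bot_of_card_eq _ ?_
        rcases Nat.eq_zero_or_pos m with rfl | hm0
        · exact hm
        · exact absurd ((dvd_pow_self 2 hm0.ne').trans (hm ▸ Subgroup.card_subgroup_dvd_card _)) hodd
      rw [hS]; infer_instance⟩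
  haveI : IsCyclic B := inferInstance
  -- `C(B) = B`
  have hCB : centralizer (B : Set G) ≤ B := by
    refine hmax _ inferInstance fun r hr hd hPr => ?_
    haveI := Fact.mk hr
    obtain ⟨y, hy⟩ := exists_prime_orderOf_dvd_card' (G := centralizer (B : Set G)) r hd
    obtain ⟨⟨b, hb⟩, hb1⟩ := (Subgroup.ne_bot_iff_exists_ne_one).1 hB0
    refine not_commute h (mem_centralizer_iff.1 y.2 b hb).symm (fun e' => ?_)
      (fun e' => hb1 (Subtype.ext e')) (fun s hs hsd => ?_) (hBside b hb)
    · rw [show y = 1 from Subtype.ext e', orderOf_one] at hy; exact hr.ne_one hy.symm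
    · rw [Subgroup.orderOf_coe, hy, Nat.prime_dvd_prime_iff_eq hs hr] at hsd
      rwa [hsd]
  have hcomm : ∀ a b : G, a * b * a⁻¹ * b⁻¹ ∈ B := fun a b => hCB (mem_centralizer_iff.2 fun c hc => by
    have h1 := mulAut_comm (MulAut.conjNormal a : MulAut B) (MulAut.conjNormal b)
    have h2 : (MulAut.conjNormal (a * b * a⁻¹ * b⁻¹) : MulAut B) = 1 := by
      rw [map_mul, map_mul, map_mul, h1, map_inv, map_inv]; group
    have h3 : (a * b * a⁻¹ * b⁻¹) * c * (a * b * a⁻¹ * b⁻¹)⁻¹ = c :=
      congrArg (fun f : MulAut B => ((f ⟨c, hc⟩ : B) : G)) h2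
    exact (mul_inv_eq_iff_eq_mul.1 h3).symm)
  intro r hr hd
  by_contra hPr
  haveI := Fact.mk hr
  obtain ⟨y, hy⟩ := exists_prime_orderOf_dvd_card' (G := G ⧸ B) r hd
  have hYn : (zpowers y).Normal := ⟨fun z hz g => by
    induction g using QuotientGroup.induction_on with
    | _ g =>
      induction z using QuotientGroup.induction_on with
      | _ z =>
        have h1 : ((g * z * g⁻¹ * z⁻¹ : G) : G ⧸ B) = 1 := (QuotientGroup.eq_one_iff _).2 (hcomm g z)
        simp only [QuotientGroup.mk_mul, QuotientGroup.mk_inv, mul_inv_eq_one] at h1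
        rwa [h1]⟩
  set Y := (zpowers y).comap (QuotientGroup.mk' B)
  have hBY : B ≤ Y := fun b hb => by
    rw [Subgroup.mem_comap, QuotientGroup.mk'_apply, (QuotientGroup.eq_one_iff b).2 hb]; exact one_mem _
  have hYB : Y ≤ B := hmax Y (hYn.comap _) fun s hs hsd => by
    have h4 : B.subgroupOf Y = ((QuotientGroup.mk' B).comp Y.subtype).ker := by
      rw [← MonoidHom.comap_ker, QuotientGroup.ker_mk']; rfl
    rw [card_eq_card_quotient_mul_card_subgroup (B.subgroupOf Y), h4,
      Nat.card_congr (QuotientGroup.quotientKerEquivRange _).toEquiv, MonoidHom.range_comp, range_subtype,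
      Subgroup.map_comap_eq_self_of_surjective (QuotientGroup.mk'_surjective B), Nat.card_zpowers, hy, ← h4,
      Nat.card_congr (subgroupOfEquivOfLe hBY).toEquiv] at hsd
    rcases hs.dvd_mul.1 hsd with hh | hh
    · rwa [(Nat.prime_dvd_prime_iff_eq hs hr).1 hh]
    · exact hB s hs hh
  obtain ⟨g, rfl⟩ := QuotientGroup.mk'_surjective B y
  have h5 : g ∈ B := hYB (mem_zpowers _)
  rw [QuotientGroup.mk'_apply, (QuotientGroup.eq_one_iff g).2 h5, orderOf_one] at hy
  exact hr.ne_one hy.symm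

theorem main [Group.IsSolvable G] {P : ℕ → Prop} (h : Sep P G) {b : ℕ} (hb : b.Prime) (hPb : ¬ P b) (hbd : b ∣ Nat.card G)
    (hex : ∃ M : Subgroup G, M.Normal ∧ M ≠ ⊥ ∧ ∀ r, r.Prime → r ∣ Nat.card M → P r) :
    (∃ C : Subgroup G, IsFrobeniusComplement C) ∨
      (∃ (H K : Subgroup G) (_ : H.Normal), K.Normal ∧ H < K ∧
        (∃ C : Subgroup ↥K, IsFrobeniusComplement C ∧ frobeniusKernel C = (H.subgroupOf K : Set ↥K)) ∧
        (∃ C : Subgroup (G ⧸ H), IsFrobeniusComplement C ∧
          frobeniusKernel C = (K.map (QuotientGroup.mk' H) : Set (G ⧸ H)))) := by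
  classical
  obtain ⟨N, hNn, hN, hNmax⟩ := exists_max (G := G) P
  haveI := hNn
  have hN0 : N ≠ ⊥ := fun e => by
    obtain ⟨M, hMn, hM0, hM⟩ := hex
    exact hM0 (le_bot_iff.1 (e ▸ hNmax M hMn hM))
  have hN1 : N ≠ ⊤ := fun e => hPb (hN b hb (by rw [e, Subgroup.card_top]; exact hbd))
  have hq := sep_quotient h N
  obtain ⟨B, hBn, hB, hBmax⟩ := exists_max (G := G ⧸ N) fun r => ¬ P r
  haveI := hBn
  haveI : Nontrivial (G ⧸ N) := (QuotientGroup.nontrivial_iff).2 hN1
  set K := B.comap (QuotientGroup.mk' N) with hK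
  haveI : K.Normal := hBn.comap _
  have hNK : N ≤ K := fun n hn => by
    rw [hK, Subgroup.mem_comap, QuotientGroup.mk'_apply, (QuotientGroup.eq_one_iff n).2 hn]; exact one_mem B
  have hmapK : K.map (QuotientGroup.mk' N) = B :=
    Subgroup.map_comap_eq_self_of_surjective (QuotientGroup.mk'_surjective N) B
  let f : K →* B := ((QuotientGroup.mk' N).comp K.subtype).codRestrict B fun k => k.2
  have hfs : Function.Surjective f := fun ⟨y, hy⟩ => by
    obtain ⟨g, rfl⟩ := QuotientGroup.mk'_surjective N y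
    exact ⟨⟨g, hy⟩, rfl⟩
  have hfk : f.ker = N.subgroupOf K := by
    ext k
    rw [MonoidHom.mem_ker, Subgroup.mem_subgroupOf, ← QuotientGroup.eq_one_iff (N := N)]
    exact ⟨fun e => congrArg Subtype.val e, fun e => Subtype.ext e⟩
  -- `B` is nontrivial
  have hB0 : B ≠ ⊥ := by
    intro hBbot
    obtain ⟨T, -, hTn, hT0, hTmin⟩ :=
      Cfsg.Lib.Coprime.exists_minimal_normal (G := G ⧸ N) (K := ⊤) inferInstance top_ne_bot
    haveI := hTn
    obtain ⟨-, q, hq', hTq, -⟩ := Cfsg.Lib.Coprime.minimal_normal_solvable inferInstance hT0 hTmin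
    haveI := Fact.mk hq'
    obtain ⟨j, hj⟩ := IsPGroup.iff_card.1 hTq
    by_cases hPq : P q
    · set L := T.comap (QuotientGroup.mk' N)
      have hNL : N ≤ L := fun n hn => by
        rw [Subgroup.mem_comap, QuotientGroup.mk'_apply, (QuotientGroup.eq_one_iff n).2 hn]; exact one_mem T
      have hLN : L ≤ N := hNmax L (hTn.comap _) fun r hr hd => by
        have h4 : N.subgroupOf L = ((QuotientGroup.mk' N).comp L.subtype).ker := by
          rw [← MonoidHom.comap_ker, QuotientGroup.ker_mk']; rfl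
        rw [card_eq_card_quotient_mul_card_subgroup (N.subgroupOf L), h4,
          Nat.card_congr (QuotientGroup.quotientKerEquivRange _).toEquiv, MonoidHom.range_comp, range_subtype,
          Subgroup.map_comap_eq_self_of_surjective (QuotientGroup.mk'_surjective N), hj, ← h4,
          Nat.card_congr (subgroupOfEquivOfLe hNL).toEquiv] at hd
        rcases hr.dvd_mul.1 hd with hh | hh
        · rwa [(Nat.prime_dvd_prime_iff_eq hr hq').1 (hr.dvd_of_dvd_pow hh)]
        · exact hN r hr hh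
      refine hT0 ?_
      rw [← Subgroup.map_comap_eq_self_of_surjective (QuotientGroup.mk'_surjective N) T, eq_bot_iff,
        ← QuotientGroup.map_mk'_self N]
      exact map_mono hLN
    · refine hT0 (le_bot_iff.1 (hBbot ▸ hBmax T hTn fun r hr hd => ?_))
      rwa [(Nat.prime_dvd_prime_iff_eq hr hq').1 (hr.dvd_of_dvd_pow (hj ▸ hd))]
  have hNK' : N < K := lt_of_le_of_ne hNK fun e => hB0 (by rw [← hmapK, ← e, QuotientGroup.map_mk'_self])
  obtain ⟨C, hC, hCker, hCcard, hCfpf⟩ := exists_frobenius (sep_subgroup h K) (N.subgroupOf K)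
    (fun e => hN0 (by rw [← map_subgroupOf_eq_of_le hNK, e, Subgroup.map_bot]))
    (fun e => not_le_of_gt hNK' (Subgroup.subgroupOf_eq_top.1 e))
    (fun r hr hd => hN r hr (by rwa [Nat.card_congr (subgroupOfEquivOfLe hNK).toEquiv] at hd))
    (fun r hr hd => hB r hr (by
      rw [← hfk, Subgroup.index_ker, MonoidHom.range_eq_top.2 hfs, Subgroup.card_top] at hd; exact hd))
  by_cases hKtop : K = ⊤
  · left
    let e : K ≃* G := (MulEquiv.subgroupCongr hKtop).trans Subgroup.topEquiv
    exact ⟨_, Cfsg.Lib.Frobenius.DivRing.isFrobeniusComplement_map e hC⟩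
  right
  have hB1 : B ≠ ⊤ := fun e => hKtop (by rw [hK, e, Subgroup.comap_top])
  -- `C` is isomorphic to `B`
  have hCN : C ⊓ N.subgroupOf K = ⊥ := by
    rw [eq_bot_iff]
    rintro c ⟨hc, hcN⟩
    rw [mem_bot]
    by_contra hc1
    exact hc1 (hCfpf.eq_one hc hc1 hcN rfl)
  have hbij : Function.Bijective (f.comp C.subtype) := by
    rw [Nat.bijective_iff_injective_and_card]
    refine ⟨(injective_iff_map_eq_one _).2 fun c hc => ?_, ?_⟩
    · have : (c : K) ∈ C ⊓ N.subgroupOf K := ⟨c.2, by rw [← hfk]; exact hc⟩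
      rw [hCN, mem_bot] at this
      exact Subtype.ext this
    · rw [hCcard, ← hfk, Subgroup.index_ker, MonoidHom.range_eq_top.2 hfs, Subgroup.card_top]
  let e : C ≃* B := MulEquiv.ofBijective _ hbij
  have hside := index_side hq B hB0 hB1 hB hBmax C (N.subgroupOf K)
    (fun c _ => by rw [normalizer_eq_top_iff.2 inferInstance]; trivial)
    (fun e' => hN0 (by rw [← map_subgroupOf_eq_of_le hNK, e', Subgroup.map_bot])) hCfpf e
  obtain ⟨D, hD, hDker, -, -⟩ := exists_frobenius (P := fun r => ¬ P r)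
    (fun a b ha hb hPa hPb g e => hq b a hb ha (not_not.1 hPb) hPa g (e.trans (mul_comm a b))) B hB0 hB1 hB
    (fun r hr hd => not_not.2 (hside r hr hd))
  exact ⟨N, K, hNn, inferInstance, hNK', ⟨C, hC, hCker⟩, D, hD, by rw [hDker, hmapK]⟩

end Cfsg.Lib.DisconnectedGraph
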