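import Mathlib
import Cfsg.Agent.Blocks.PrimeSylow
import Cfsg.Agent.Blocks.PPowerPrincipal
import Cfsg.Agent.Blocks.Feit3

/-!
# The order of a simple group divisible by a large prime exactly once
-/

set_option autoImplicit false
set_option linter.unusedSectionVars false

namespace Cfsg.Lib.BrauerOrder

open Cfsg.Lib.Blocks Cfsg.Lib.Chars Subgroup

universe u

variable {G : Type u} [Group G] [Finite G] {p : ℕ} [hp : Fact p.Prime]

theorem two_le_frobIndex [IsSimpleGroup G] (hna : ¬ IsMulCommutative G) (P : Sylow p G)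
    (hP : Nat.card (P : Subgroup G) = p) : 2 ≤ frobIndex P := by
  have h0 := frobIndex_pos P
  by_contra hlt
  have h1 : frobIndex P = 1 := by omega
  have hle : normalizer ((P : Subgroup G) : Set G) ≤ centralizer ((P : Subgroup G) : Set G) :=
    relIndex_eq_one.1 h1
  have hc := MonoidHom.ker_transferSylow_isComplement' P hle
  rcases IsSimpleGroup.eq_bot_or_eq_top_of_normal (MonoidHom.transferSylow P hle).ker inferInstance
    with h | h
  · rw [h] at hc
    have htop : (P : Subgroup G) = ⊤ := isComplement'_bot_left.1 hc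
    haveI : IsCyclic (P : Subgroup G) := isCyclic_of_prime_card (p := p) hP
    refine hna ⟨⟨fun a b => ?_⟩⟩
    exact congrArg Subtype.val (mul_comm' (⟨a, htop ▸ mem_top a⟩ : (P : Subgroup G))
      ⟨b, htop ▸ mem_top b⟩)
  · rw [h] at hc
    rw [isComplement'_top_left.1 hc, Subgroup.card_bot] at hP
    exact hp.out.ne_one hP.symm

/-- The arithmetic of the degrees. -/
theorem degree_of_sign {p c e k f : ℕ} (hp : p.Prime) (hc : 0 < c) (he : 0 < e) (hk : 0 < k)
    (hn : 2 * (c * e * (1 + k * p)) + 1 < p ^ 2) (hf : f ∣ c * e * (1 + k * p)) (hf1 : f ≠ 1)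
    (hmod : (f : ℤ) ≡ 1 [ZMOD p] ∨ (f : ℤ) ≡ -1 [ZMOD p]) : f = 1 + k * p ∧ (f : ℤ) ≡ 1 [ZMOD p] := by
  obtain ⟨g, hg⟩ := hf
  have hp2 := hp.two_le
  have hn0 : 0 < c * e * (1 + k * p) := by positivity
  have hf0 : 0 < f := Nat.pos_of_ne_zero fun h => by rw [h, zero_mul] at hg; omega
  have hg0 : 0 < g := Nat.pos_of_ne_zero fun h => by rw [h, mul_zero] at hg; omega
  have hce : 2 * (c * e) + 1 < p := by
    by_contra h
    push Not at h
    have h2 : p * (1 + p) ≤ (2 * (c * e) + 1) * (1 + k * p) :=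
      Nat.mul_le_mul h (by nlinarith)
    have h3 : 1 + k * p ≤ 1 * (p + 1) ∨ 2 ≤ k := by
      rcases Nat.lt_or_ge k 2 with h' | h'
      · left; have : k = 1 := by omega
        subst this; omega
      · exact Or.inr h'
    rcases h3 with h3 | h3
    · nlinarith
    · nlinarith [Nat.mul_le_mul h (Nat.mul_le_mul_right p h3)]
  have hgz : ((f : ℤ) * g) = (c * e : ℕ) + (c * e * k : ℕ) * (p : ℤ) := by
    have := congrArg (fun x : ℕ => (x : ℤ)) hg.symm
    push_cast at this ⊢
    linear_combination this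
  have hgmod : ((f : ℤ) * g) ≡ (c * e : ℕ) [ZMOD p] :=
    Int.modEq_iff_dvd.2 ⟨-((c * e * k : ℕ) : ℤ), by rw [hgz]; ring⟩
  rcases hmod with hm | hm
  · -- `f ≥ p + 1`
    have hd : (p : ℤ) ∣ (f : ℤ) - 1 := Int.modEq_iff_dvd.1 hm.symm
    obtain ⟨a, ha⟩ := hd
    have ha1 : 1 ≤ a := by
      have : 0 < (p : ℤ) * a := by omega
      exact pos_of_mul_pos_right this (by positivity)
    have hfp : p + 1 ≤ f := by
      have : (p : ℤ) * 1 ≤ (p : ℤ) * a := mul_le_mul_of_nonneg_left ha1 (by positivity)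
      omega
    have hgp : 2 * g + 1 < p + 1 := by
      by_contra h
      push Not at h
      have h2 : p ≤ 2 * g := by omega
      have := Nat.mul_le_mul hfp h2
      nlinarith
    have hgce : g = c * e := by
      have h1 : (g : ℤ) ≡ (c * e : ℕ) [ZMOD p] := by
        refine Int.ModEq.trans ?_ hgmod
        simpa using (hm.symm.mul_right (g : ℤ))
      have h2 := (Int.natCast_modEq_iff.1 h1)
      rwa [Nat.ModEq, Nat.mod_eq_of_lt (by omega), Nat.mod_eq_of_lt (by omega)] at h2
    refine ⟨?_, hm⟩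
    rw [hgce, mul_comm f] at hg
    exact (Nat.eq_of_mul_eq_mul_left (by positivity) hg).symm
  · exfalso
    have hd : (p : ℤ) ∣ (f : ℤ) + 1 := by simpa using Int.modEq_iff_dvd.1 hm.symm
    obtain ⟨a, ha⟩ := hd
    have ha1 : 1 ≤ a := by
      have : 0 < (p : ℤ) * a := by omega
      exact pos_of_mul_pos_right this (by positivity)
    have hfp : p ≤ f + 1 := by
      have : (p : ℤ) * 1 ≤ (p : ℤ) * a := mul_le_mul_of_nonneg_left ha1 (by positivity)
      omega
    have hgp : 2 * g < p + 1 := by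
      by_contra h
      push Not at h
      have := Nat.mul_le_mul hfp h
      nlinarith
    have h1 : ((g + c * e : ℕ) : ℤ) ≡ 0 [ZMOD p] := by
      push_cast
      have h2 : (f : ℤ) * g ≡ -1 * g [ZMOD p] := hm.mul_right _
      have h3 := (h2.symm.trans hgmod).add_left (g : ℤ)
      push_cast at h3
      simpa using h3.symm
    have h2 := Int.natCast_dvd_natCast.1 (Int.modEq_zero_iff_dvd.1 h1)
    exact absurd (Nat.le_of_dvd (by omega) h2) (by omega)

/-- A simple group with a Sylow subgroup of odd prime order `p` has order at least that of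
`PSL(2, p)`. -/
theorem order_bound [IsSimpleGroup G] (hna : ¬ IsMulCommutative G) (hp2 : p ≠ 2) (P : Sylow p G)
    (hP : Nat.card (P : Subgroup G) = p) : p * (p ^ 2 - 1) / 2 ≤ Nat.card G := by
  classical
  haveI := Fintype.ofFinite G
  by_contra hlt
  push Not at hlt
  have hpp := hp.out
  have he2 := two_le_frobIndex hna P hP
  -- the order
  obtain ⟨c, hc⟩ : p ∣ Nat.card (centralizer ((P : Subgroup G) : Set G)) := by
    haveI : IsCyclic (P : Subgroup G) := isCyclic_of_prime_card (p := p) hP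
    have h := card_dvd_of_le (le_centralizer (P : Subgroup G))
    rwa [hP] at h
  have hc0 : 0 < c := Nat.pos_of_ne_zero fun h => by
    rw [h, mul_zero] at hc; exact Nat.card_pos.ne' hc
  have hnp := card_sylow_modEq_one p G
  rw [P.card_eq_index_normalizer] at hnp
  obtain ⟨k, hk⟩ : ∃ k, (normalizer ((P : Subgroup G) : Set G)).index = 1 + k * p := by
    refine ⟨(normalizer ((P : Subgroup G) : Set G)).index / p, ?_⟩
    have h := Nat.div_add_mod (normalizer ((P : Subgroup G) : Set G)).index p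
    have hm : (normalizer ((P : Subgroup G) : Set G)).index % p = 1 := by
      have := hnp
      rwa [Nat.ModEq, Nat.one_mod_eq_one.2 hpp.ne_one] at this
    rw [mul_comm]
    omega
  have hk0 : 0 < k := Nat.pos_of_ne_zero fun h => by
    rw [h, zero_mul, add_zero, index_eq_one, normalizer_eq_top_iff] at hk
    rcases IsSimpleGroup.eq_bot_or_eq_top_of_normal (P : Subgroup G) hk with h' | h'
    · rw [h', Subgroup.card_bot] at hP; exact hpp.ne_one hP.symm
    · haveI : IsCyclic (P : Subgroup G) := isCyclic_of_prime_card (p := p) hP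
      refine hna ⟨⟨fun a b => ?_⟩⟩
      exact congrArg Subtype.val (mul_comm' (⟨a, h' ▸ mem_top a⟩ : (P : Subgroup G))
        ⟨b, h' ▸ mem_top b⟩)
  set e := frobIndex P with hedef
  have hG : Nat.card G = p * (c * e * (1 + k * p)) := by
    rw [← (normalizer ((P : Subgroup G) : Set G)).card_mul_index, card_normalizer_eq, hc, hk]
    ring
  have hn : 2 * (c * e * (1 + k * p)) + 1 < p ^ 2 := by
    have h1 : 1 ≤ p ^ 2 := Nat.one_le_pow _ _ hpp.pos
    have h3 : 2 * Nat.card G < p * (p ^ 2 - 1) := by omega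
    rw [hG] at h3
    have h4 : 2 * (c * e * (1 + k * p)) < p ^ 2 - 1 := by
      by_contra h
      push Not at h
      have := Nat.mul_le_mul_left p h
      linarith
    omega
  have hce : 2 * (c * e) + 1 < p := by
    by_contra h
    push Not at h
    have hk1 : 1 * p ≤ k * p := Nat.mul_le_mul_right _ hk0
    have h2 : (2 * (c * e) + 1) * (1 + p) ≤ (2 * (c * e) + 1) * (1 + k * p) := by
      exact Nat.mul_le_mul_left _ (by omega)
    have h4 : (p - 1) * (1 + p) ≤ 2 * (c * e) * (1 + k * p) :=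
      Nat.mul_le_mul (by omega) (by omega)
    obtain ⟨r, rfl⟩ : ∃ r, p = r + 1 := ⟨p - 1, by have := hpp.pos; omega⟩
    simp only [Nat.add_sub_cancel] at h4
    nlinarith
  have hele : e ≤ c * e := Nat.le_mul_of_pos_left _ hc0
  have hcle : c ≤ c * e := Nat.le_mul_of_pos_right _ (by omega)
  obtain ⟨M, hM⟩ := exists_isPModular hpp
  obtain ⟨X, Y, εX, ε, hD⟩ := exists_primeData (P := P) hM hP
  have hpr : principal G ∈ principalBlock M G := mem_blockOf_self hM (principal G)
  have hdeg1 : charDegree ((principal G : IrrCharacter G) : G → ℂ) = 1 := by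
    have h : ((principal G : IrrCharacter G) : G → ℂ) 1 = 1 := rfl
    rw [irr_apply_one_eq_deg, Nat.cast_eq_one] at h
    exact h
  have hsmall : ∀ a b : ℤ, a ≡ b [ZMOD p] → |b - a| < p → a = b := by
    intro a b hab hb
    by_contra hne
    have := Int.le_of_dvd (abs_pos.2 (sub_ne_zero.2 (Ne.symm hne)))
      ((dvd_abs _ _).2 (Int.modEq_iff_dvd.1 hab))
    omega
  have hprX : principal G ∈ X := by
    rw [hD.union] at hpr
    refine hpr.resolve_right fun hY => ?_
    have h := hD.degY _ hY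
    rw [hdeg1, Nat.cast_one] at h
    rcases hD.sign with s | s <;> rw [s] at h
    · have := hsmall _ _ h (by rw [one_mul, abs_lt]; omega)
      omega
    · have := hsmall _ _ h (by rw [abs_lt]; omega)
      omega
  have hεpr : εX (principal G) = 1 := by
    have h := hD.degX _ hprX
    rw [hdeg1, Nat.cast_one] at h
    rcases hD.signX _ hprX with s | s
    · exact s
    · rw [s] at h
      have := hsmall _ _ h (by rw [abs_lt]; omega)
      omega
  have hZ : center G = ⊥ := (IsSimpleGroup.eq_bot_or_eq_top_of_normal _ inferInstance).resolve_right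
    fun h => hna ⟨⟨fun a b => (mem_center_iff.1 (h ▸ mem_top b) a)⟩⟩
  have hdvd : ∀ (χ : IrrCharacter G) (b : ℤ), (charDegree (χ : G → ℂ) : ℤ) ≡ b [ZMOD p] →
      ¬ (p : ℤ) ∣ b → charDegree (χ : G → ℂ) ∣ c * e * (1 + k * p) := by
    intro χ b hb hnb
    have h : charDegree (χ : G → ℂ) ∣ p * (c * e * (1 + k * p)) := hG ▸ IsIrrCharacter.deg_dvd χ.2
    refine (Nat.Coprime.dvd_of_dvd_mul_left ?_ h)
    refine Nat.Coprime.symm ((hpp.coprime_iff_not_dvd).2 fun hd => hnb ?_)
    exact (Int.ModEq.dvd_iff hb).1 (Int.natCast_dvd_natCast.2 hd)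
  have hnone : ¬ (p : ℤ) ∣ (1 : ℤ) := fun h => hpp.not_dvd_one (Int.natCast_dvd_natCast.1 (by exact_mod_cast h))
  have hX : ∀ χ ∈ X, χ ≠ principal G →
      εX χ = 1 ∧ charDegree (χ : G → ℂ) = 1 + k * p := by
    intro χ hχ hne
    have hd := hD.degX χ hχ
    have hf : charDegree (χ : G → ℂ) ∣ c * e * (1 + k * p) := by
      rcases hD.signX χ hχ with s | s <;> rw [s] at hd
      · exact hdvd χ _ hd hnone
      · exact hdvd χ _ hd (by simpa using hnone)
    have hf1 : charDegree (χ : G → ℂ) ≠ 1 := fun h1 => hne (eq_principal_of_pow_degree hM hZ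
      (hD.union ▸ Or.inl hχ) (k := 0) (by rw [pow_zero]; exact h1))
    obtain ⟨hval, hmod⟩ := degree_of_sign hpp hc0 (by omega) hk0 hn hf hf1 (by
      rcases hD.signX χ hχ with s | s <;> rw [s] at hd
      · exact Or.inl hd
      · exact Or.inr hd)
    refine ⟨?_, hval⟩
    rcases hD.signX χ hχ with s | s
    · exact s
    · rw [s] at hd
      have := hsmall _ _ (hmod.symm.trans hd) (by rw [abs_lt]; omega)
      omega
  obtain ⟨θ, hθ⟩ : Y.Nonempty := by
    refine (Set.ncard_pos (Set.toFinite Y)).1 ?_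
    rw [← Nat.card_coe_set_eq, hD.card_Y]
    exact Nat.div_pos (by omega) (by omega)
  have hrel := hD.rel θ hθ 1 (by rw [orderOf_one]; exact hpp.not_dvd_one)
  rw [finsum_mem_eq_finite_toFinset_sum _ (Set.toFinite _),
    ← Finset.add_sum_erase _ _ ((Set.Finite.mem_toFinset _).2 hprX),
    Finset.sum_congr rfl fun χ hχ => show (εX χ : ℂ) * (χ : G → ℂ) 1 = ((1 + k * p : ℕ) : ℂ) by
      rw [Finset.mem_erase, Set.Finite.mem_toFinset] at hχ
      obtain ⟨h1, h2⟩ := hX χ hχ.2 hχ.1
      rw [h1, irr_apply_one_eq_deg, ← charDegree_eq_deg, h2, Int.cast_one, one_mul],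
    Finset.sum_const, nsmul_eq_mul, hεpr, Int.cast_one, one_mul,
    show ((principal G : IrrCharacter G) : G → ℂ) 1 = 1 from rfl,
    Finset.card_erase_of_mem ((Set.Finite.mem_toFinset _).2 hprX),
    ← Set.ncard_eq_toFinset_card _ _, ← Nat.card_coe_set_eq, hD.card_X,
    irr_apply_one_eq_deg, ← charDegree_eq_deg] at hrel
  set fY := charDegree (θ : G → ℂ) with hfY
  obtain ⟨e', he'⟩ : ∃ e', e = e' + 1 := ⟨e - 1, by omega⟩
  have hrel' : ε * (fY : ℤ) = 1 + (e' : ℤ) * (1 + k * p) := by
    rw [← hedef, he', Nat.add_sub_cancel] at hrel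
    exact_mod_cast hrel
  have hε : ε = 1 := hD.sign.resolve_right fun s => by
    rw [s] at hrel'
    nlinarith [Int.natCast_nonneg fY]
  rw [hε, one_mul] at hrel'
  have hfYv : fY = e + e' * (k * p) := by
    have : (fY : ℤ) = ((e + e' * (k * p) : ℕ) : ℤ) := by rw [hrel', he']; push_cast; ring
    exact_mod_cast this
  have hd := hD.degY θ hθ
  rw [hε, one_mul] at hd
  have hdv : fY ∣ c * e * (1 + k * p) := hdvd θ _ hd fun h => by
    have := Nat.le_of_dvd (by omega) (Int.natCast_dvd_natCast.1 h)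
    omega
  have h2 : fY ∣ p * (c * k) := by
    have h3 : c * e * (1 + k * p) = c * fY + p * (c * k) := by rw [hfYv, he']; ring
    rw [h3] at hdv
    exact (Nat.dvd_add_right (dvd_mul_left _ _)).1 hdv
  have hcop : Nat.Coprime fY p := by
    refine Nat.Coprime.symm ((hpp.coprime_iff_not_dvd).2 fun hd' => ?_)
    have h := (Int.ModEq.dvd_iff hd).1 (Int.natCast_dvd_natCast.2 hd')
    have := Nat.le_of_dvd (by omega) (Int.natCast_dvd_natCast.1 h)
    omega
  have h3 := Nat.le_of_dvd (by positivity) (hcop.dvd_of_dvd_mul_left h2)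
  have h4 : 1 * (k * p) ≤ e' * (k * p) := Nat.mul_le_mul_right _ (by omega)
  have h5 : c * k ≤ p * k := Nat.mul_le_mul_right _ (by omega)
  rw [hfYv] at h3
  linarith [mul_comm p k]

end Cfsg.Lib.BrauerOrder
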