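import Mathlib

/-!
# A minimal covering by nilpotent subgroups has no two members in a common proper subgroup
-/

set_option autoImplicit false

namespace Cfsg.Lib.NilpotentCover

open Subgroup

variable {G : Type*} [Group G]

/-- A nilpotent subgroup through an element whose centraliser chain stays in `U` lies in `U`. -/
theorem nilpotent_le (U A : Subgroup G) (hA : Group.IsNilpotent A)
    (hc : ∀ x ∈ U, x ≠ 1 → centralizer ({x} : Set G) ≤ U) {u : G} (hu : u ∈ U) (hu1 : u ≠ 1)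
    (huA : u ∈ A) : A ≤ U := by
  classical
  haveI := hA
  haveI : Nontrivial A := ⟨⟨⟨u, huA⟩, 1, fun h => hu1 (congrArg Subtype.val h)⟩⟩
  haveI : Nontrivial (center A) := (nontrivial_iff_ne_bot _).2 (Group.IsNilpotent.center_ne_bot A)
  obtain ⟨⟨⟨z, hzA⟩, hzc⟩, hz1⟩ := exists_ne (1 : center A)
  have hzU : z ∈ U := hc u hu hu1 (mem_centralizer_singleton_iff.2
    (congrArg Subtype.val (mem_center_iff.1 hzc ⟨u, huA⟩)).symm)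
  intro a ha
  exact hc z hzU (fun h => hz1 (Subtype.ext (Subtype.ext h))) (mem_centralizer_singleton_iff.2
    (congrArg Subtype.val (mem_center_iff.1 hzc ⟨a, ha⟩)))

/-- Two members of a covering inside a proper subgroup can be replaced by that subgroup. -/
theorem not_minimal (𝓐 : Finset (Subgroup G)) (hne : ∀ A ∈ 𝓐, A ≠ ⊤)
    (hcov : ∀ g : G, ∃ A ∈ 𝓐, g ∈ A)
    (hmin : ∀ 𝓑 : Finset (Subgroup G), (∀ A ∈ 𝓑, A ≠ ⊤) ∧ (∀ g : G, ∃ A ∈ 𝓑, g ∈ A) →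
      𝓐.card ≤ 𝓑.card)
    {B A₁ A₂ : Subgroup G} (hB : B ≠ ⊤) (h1 : A₁ ∈ 𝓐) (h2 : A₂ ∈ 𝓐) (hne' : A₁ ≠ A₂)
    (h1B : A₁ ≤ B) (h2B : A₂ ≤ B) : False := by
  classical
  have h := hmin (insert B (𝓐.filter fun A => ¬ A ≤ B)) ⟨fun A hA => ?_, fun g => ?_⟩
  · have h3 : (𝓐.filter fun A => ¬ A ≤ B) ⊆ (𝓐.erase A₁).erase A₂ := fun A hA => by
      rw [Finset.mem_filter] at hA
      rw [Finset.mem_erase, Finset.mem_erase]
      exact ⟨fun e => hA.2 (e ▸ h2B), fun e => hA.2 (e ▸ h1B), hA.1⟩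
    have h4 := Finset.card_le_card h3
    rw [Finset.card_erase_of_mem (Finset.mem_erase.2 ⟨hne'.symm, h2⟩),
      Finset.card_erase_of_mem h1] at h4
    have h5 := Finset.card_insert_le B (𝓐.filter fun A => ¬ A ≤ B)
    have h6 : 2 ≤ 𝓐.card := Finset.one_lt_card.2 ⟨A₁, h1, A₂, h2, hne'⟩
    omega
  · rw [Finset.mem_insert] at hA
    rcases hA with rfl | hA
    · exact hB
    · exact hne A (Finset.mem_filter.1 hA).1
  · obtain ⟨A, hA, hgA⟩ := hcov g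
    by_cases hAB : A ≤ B
    · exact ⟨B, Finset.mem_insert_self _ _, hAB hgA⟩
    · exact ⟨A, Finset.mem_insert_of_mem (Finset.mem_filter.2 ⟨hA, hAB⟩), hgA⟩

/-- The configuration of two centraliser-closed subgroups in a proper subgroup. -/
theorem no_cover {U H B : Subgroup G} (hB : B ≠ ⊤) (hUB : U ≤ B) (hHB : H ≤ B) (hUH : U ⊓ H = ⊥)
    (hU : ∀ x ∈ U, x ≠ 1 → centralizer ({x} : Set G) ≤ U)
    (hH : ∀ x ∈ H, x ≠ 1 → centralizer ({x} : Set G) ≤ H) {u v : G} (hu : u ∈ U) (hu1 : u ≠ 1)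
    (hv : v ∈ H) (hv1 : v ≠ 1) :
    ¬ ∃ 𝓐 : Finset (Subgroup G), ((∀ A ∈ 𝓐, A ≠ ⊤) ∧ (∀ g : G, ∃ A ∈ 𝓐, g ∈ A)) ∧
      (∀ 𝓑 : Finset (Subgroup G), (∀ A ∈ 𝓑, A ≠ ⊤) ∧ (∀ g : G, ∃ A ∈ 𝓑, g ∈ A) →
        𝓐.card ≤ 𝓑.card) ∧ (∀ A ∈ 𝓐, Group.IsNilpotent A) := by
  rintro ⟨𝓐, ⟨hne, hcov⟩, hmin, hnil⟩
  obtain ⟨A₁, h1, hu'⟩ := hcov u
  obtain ⟨A₂, h2, hv'⟩ := hcov v
  have hA1 : A₁ ≤ U := nilpotent_le U A₁ (hnil A₁ h1) hU hu hu1 hu'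
  have hA2 : A₂ ≤ H := nilpotent_le H A₂ (hnil A₂ h2) hH hv hv1 hv'
  refine not_minimal 𝓐 hne hcov hmin hB h1 h2 (fun e => hv1 ?_) (hA1.trans hUB) (hA2.trans hHB)
  rw [← mem_bot, ← hUH]
  exact ⟨hA1 (e ▸ hv'), hv⟩

end Cfsg.Lib.NilpotentCover
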