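import Mathlib
import Cfsg.Prelude.Def_Transfer
import Cfsg.Prelude.Def_OddOrderLocal
import Cfsg.Agent.Transfer.Basic
import Cfsg.Agent.Coprime.SchurZassenhaus

/-!
Counting conjugacy classes of `π`-elements: the bound `k_π(G) ≤ |G|_π` and the consequences of a large number of
classes of `p`-elements for odd `p`.
-/

set_option autoImplicit false
set_option linter.unusedSectionVars false
set_option linter.style.haveILetI false

namespace Cfsg.Lib.ClassCount

open Subgroup
open scoped commutatorElement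

universe u

/-- Every prime divisor of the order lies in `π`. -/
def IsPi {G : Type u} [Group G] (π : Finset ℕ) (x : G) : Prop :=
  ∀ r : ℕ, r.Prime → r ∣ orderOf x → r ∈ π

/-- The classes of `π`-elements. -/
abbrev Cl {G : Type u} [Group G] (π : Finset ℕ) : Type u :=
  {c : ConjClasses G // ∀ x ∈ c.carrier, IsPi π x}

/-- The number of classes of `π`-elements. -/
noncomputable def kpi (π : Finset ℕ) (G : Type u) [Group G] : ℕ := Nat.card (Cl (G := G) π)

/-- The `π`-part of the order. -/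
noncomputable def piPart (π : Finset ℕ) (G : Type u) : ℕ :=
  π.prod fun r => r ^ (Nat.card G).factorization r

variable {G : Type u} [Group G] [Finite G]

theorem IsPi.of_isConj {π : Finset ℕ} {a b : G} (h : IsConj a b) (ha : IsPi π a) : IsPi π b := by
  obtain ⟨g, rfl⟩ := isConj_iff.1 h
  intro r hr hd
  exact ha r hr (by rwa [← MulAut.conj_apply, (MulAut.conj g).orderOf_eq] at hd)

theorem isPi_singleton {p : ℕ} [hp : Fact p.Prime] (x : G) : IsPi {p} x ↔ ∃ k : ℕ, orderOf x = p ^ k := by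
  constructor
  · intro h
    exact ⟨_, Nat.eq_prime_pow_of_unique_prime_dvd (orderOf_pos x).ne' fun hr hd => Finset.mem_singleton.1 (h _ hr hd)⟩
  · rintro ⟨k, hk⟩ r hr hd
    rw [hk] at hd
    exact Finset.mem_singleton.2 ((Nat.prime_dvd_prime_iff_eq hr hp.out).1 (hr.dvd_of_dvd_pow hd))

theorem kpi_singleton {p : ℕ} [hp : Fact p.Prime] :
    kpi {p} G = Nat.card {c : ConjClasses G // ∀ x ∈ c.carrier, ∃ k : ℕ, orderOf x = p ^ k} :=
  Nat.card_congr (Equiv.subtypeEquivRight fun _ => forall₂_congr fun x _ => isPi_singleton x)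

theorem exists_pi_rep {π : Finset ℕ} (c : Cl (G := G) π) : ∃ a : G, IsPi π a ∧ ConjClasses.mk a = c.1 := by
  obtain ⟨a, ha⟩ := ConjClasses.mk_surjective c.1
  exact ⟨a, c.2 a (ha ▸ ConjClasses.mem_carrier_mk), ha⟩

theorem exists_rep {p : ℕ} [hp : Fact p.Prime] (P : Sylow p G) (c : Cl (G := G) {p}) :
    ∃ a ∈ (P : Subgroup G), ConjClasses.mk a = c.1 := by
  obtain ⟨x, hx, hxc⟩ := exists_pi_rep c
  obtain ⟨k, hk⟩ := (isPi_singleton x).1 hx
  obtain ⟨R, hR⟩ := (IsPGroup.of_card (p := p) (n := k)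
    (show Nat.card (zpowers x) = p ^ k by rw [Nat.card_zpowers, hk])).exists_le_sylow
  obtain ⟨g, hg⟩ := MulAction.exists_smul_eq G R P
  refine ⟨g * x * g⁻¹, ?_, ?_⟩
  · rw [← hg, Sylow.coe_subgroup_smul]
    exact ⟨x, hR (mem_zpowers x), rfl⟩
  · rw [← hxc]
    exact ConjClasses.mk_eq_mk_iff_isConj.2 (isConj_iff.2 ⟨g, rfl⟩).symm

theorem kpi_singleton_le_classes {p : ℕ} [hp : Fact p.Prime] (P : Sylow p G) :
    kpi {p} G ≤ Nat.card (ConjClasses ↥(P : Subgroup G)) := by
  choose f hf hfc using exists_rep P (G := G)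
  refine Nat.card_le_card_of_injective (fun c => ConjClasses.mk (⟨f c, hf c⟩ : ↥(P : Subgroup G))) fun c d h => ?_
  refine Subtype.ext ?_
  rw [← hfc c, ← hfc d, ConjClasses.mk_eq_mk_iff_isConj]
  exact MonoidHom.map_isConj (P : Subgroup G).subtype (ConjClasses.mk_eq_mk_iff_isConj.1 h)

theorem kpi_singleton_le {p : ℕ} [hp : Fact p.Prime] : kpi {p} G ≤ p ^ (Nat.card G).factorization p := by
  obtain ⟨P⟩ : Nonempty (Sylow p G) := inferInstance
  refine (kpi_singleton_le_classes P).trans ?_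
  rw [← P.card_eq_multiplicity]
  exact Nat.card_le_card_of_surjective ConjClasses.mk ConjClasses.mk_surjective

theorem piPart_pos (π : Finset ℕ) (hπ : ∀ r ∈ π, r.Prime) : 0 < piPart π G :=
  Finset.prod_pos fun r hr => pow_pos (hπ r hr).pos _

theorem piPart_subgroup_le (π : Finset ℕ) (hπ : ∀ r ∈ π, r.Prime) (H : Subgroup G) :
    piPart π ↥H ≤ piPart π G := by
  refine Finset.prod_le_prod (fun _ _ => Nat.zero_le _) fun r hr => ?_
  exact Nat.pow_le_pow_right (hπ r hr).pos
    ((Nat.factorization_le_iff_dvd Nat.card_pos.ne' Nat.card_pos.ne').2 H.card_subgroup_dvd_card r)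

/-- Splitting off one prime. -/
theorem kpi_le_mul (π : Finset ℕ) (q : ℕ) [hq : Fact q.Prime] (σ : Finset ℕ) (hπ : π ⊆ insert q σ) (B : ℕ)
    (hB : ∀ H : Subgroup G, kpi σ ↥H ≤ B) : kpi π G ≤ kpi {q} G * B := by
  classical
  choose a ha hac using exists_pi_rep (G := G) (π := {q})
  choose b hb hbc using exists_pi_rep (G := G) (π := π)
  have hkey : ∀ c : Cl (G := G) π, ∃ (d : Cl (G := G) {q}) (y : ↥(centralizer ({a d} : Set G))),
      IsPi σ y ∧ ConjClasses.mk (a d * (y : G)) = c.1 := by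
    intro c
    obtain ⟨u, v, hu, hv, huv, hk, hcop⟩ := Cfsg.Lib.Transfer.exists_pPart q (b c)
    have hcomm : Commute u v := by
      obtain ⟨i, rfl⟩ := hu; obtain ⟨j, rfl⟩ := hv
      exact (Commute.refl (b c)).zpow_zpow i j
    refine ⟨⟨ConjClasses.mk u, fun x hx => ?_⟩, ?_⟩
    · exact IsPi.of_isConj (ConjClasses.mk_eq_mk_iff_isConj.1 (ConjClasses.mem_carrier_iff_mk_eq.1 hx).symm)
        ((isPi_singleton u).2 hk)
    set d : Cl (G := G) {q} := ⟨ConjClasses.mk u, _⟩
    obtain ⟨g, hg⟩ := isConj_iff.1 (ConjClasses.mk_eq_mk_iff_isConj.1 (hac d).symm : IsConj u (a d))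
    have hy : g * v * g⁻¹ ∈ centralizer ({a d} : Set G) := by
      rw [mem_centralizer_singleton_iff, ← hg]
      calc g * v * g⁻¹ * (g * u * g⁻¹) = g * (v * u) * g⁻¹ := by group
        _ = g * (u * v) * g⁻¹ := by rw [hcomm.eq]
        _ = _ := by group
    refine ⟨⟨_, hy⟩, fun r hr hd => ?_, ?_⟩
    · rw [← Subgroup.orderOf_coe, show orderOf (g * v * g⁻¹) = orderOf v from (MulAut.conj g).orderOf_eq v] at hd
      have hrq : r ≠ q := fun e => (Nat.Prime.coprime_iff_not_dvd hq.out).1 hcop.symm (e ▸ hd)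
      have hmem : r ∈ π := hb c r hr (hd.trans (by
        obtain ⟨j, hj⟩ := hv; rw [← hj]
        exact orderOf_dvd_of_pow_eq_one (by rw [← zpow_natCast, ← zpow_mul, mul_comm, zpow_mul, zpow_natCast, pow_orderOf_eq_one, one_zpow])))
      exact Finset.mem_of_mem_insert_of_ne (hπ hmem) hrq
    · rw [← hbc c, ← huv, ConjClasses.mk_eq_mk_iff_isConj]
      refine (isConj_iff.2 ⟨g, ?_⟩).symm
      show g * (u * v) * g⁻¹ = a _ * (g * v * g⁻¹)
      rw [← hg]; group
  choose d y hy hyc using hkey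
  let F : Cl (G := G) π → Σ d : Cl (G := G) {q}, Cl (G := ↥(centralizer ({a d} : Set G))) σ := fun c =>
    ⟨d c, ⟨ConjClasses.mk (y c), fun x hx =>
      IsPi.of_isConj (ConjClasses.mk_eq_mk_iff_isConj.1 (ConjClasses.mem_carrier_iff_mk_eq.1 hx).symm) (hy c)⟩⟩
  have hFinj : Function.Injective F := by
    intro c e hce
    have hrec : ∀ s t : (Σ d : Cl (G := G) {q}, Cl (G := ↥(centralizer ({a d} : Set G))) σ), s = t →
        ∀ (u : ↥(centralizer ({a s.1} : Set G))) (w : ↥(centralizer ({a t.1} : Set G))),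
          ConjClasses.mk u = s.2.1 → ConjClasses.mk w = t.2.1 →
          ConjClasses.mk (a s.1 * (u : G)) = ConjClasses.mk (a t.1 * (w : G)) := by
      rintro s _ rfl u w hu hw
      obtain ⟨g, hg⟩ := isConj_iff.1 (ConjClasses.mk_eq_mk_iff_isConj.1 (hu.trans hw.symm))
      rw [ConjClasses.mk_eq_mk_iff_isConj, isConj_iff]
      refine ⟨g, ?_⟩
      have h1 : (g : G) * a s.1 = a s.1 * g := mem_centralizer_singleton_iff.1 g.2
      have h2 : (g : G) * u * (g : G)⁻¹ = w := congrArg Subtype.val hg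
      calc (g : G) * (a s.1 * (u : G)) * (g : G)⁻¹ = ((g : G) * a s.1) * (g : G)⁻¹ * ((g : G) * u * (g : G)⁻¹) := by group
        _ = a s.1 * (w : G) := by rw [h1, h2, mul_inv_cancel_right]
    refine Subtype.ext ?_
    rw [← hyc c, ← hyc e]
    exact hrec (F c) (F e) hce (y c) (y e) rfl rfl
  letI : Fintype (Cl (G := G) {q}) := Fintype.ofFinite _
  refine (Nat.card_le_card_of_injective F hFinj).trans ?_
  rw [Nat.card_sigma]
  refine (Finset.sum_le_card_nsmul _ _ B fun d _ => hB _).trans ?_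
  simp [kpi, Nat.card_eq_fintype_card]

theorem kpi_le : ∀ (π : Finset ℕ), (∀ r ∈ π, r.Prime) → ∀ (G : Type u) [Group G] [Finite G],
    kpi π G ≤ piPart π G := by
  intro π
  induction π using Finset.induction_on with
  | empty =>
    intro _ G _ _
    rw [piPart, Finset.prod_empty]
    haveI : Subsingleton (Cl (G := G) (∅ : Finset ℕ)) := ⟨fun c d => by
      have h1 : ∀ c : Cl (G := G) (∅ : Finset ℕ), c.1 = ConjClasses.mk 1 := fun c => by
        obtain ⟨a, ha, hac⟩ := exists_pi_rep c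
        rw [← hac, orderOf_eq_one_iff.1 (Nat.eq_one_iff_not_exists_prime_dvd.2 fun r hr hd =>
          absurd (ha r hr hd) (Finset.notMem_empty r))]
      exact Subtype.ext ((h1 c).trans (h1 d).symm)⟩
    exact Finite.card_le_one_iff_subsingleton.2 inferInstance
  | insert q σ hq ih =>
    intro hπ G _ _
    haveI : Fact q.Prime := ⟨hπ q (Finset.mem_insert_self q σ)⟩
    have hσ : ∀ r ∈ σ, r.Prime := fun r hr => hπ r (Finset.mem_insert_of_mem hr)
    refine (kpi_le_mul _ q σ subset_rfl (piPart σ G) fun H => (ih hσ ↥H).trans (piPart_subgroup_le σ hσ H)).trans ?_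
    rw [piPart, piPart, Finset.prod_insert hq]
    exact Nat.mul_le_mul_right _ kpi_singleton_le

/-- The bound through one prime of `π`. -/
theorem kpi_le_kp {π : Finset ℕ} (hπ : ∀ r ∈ π, r.Prime) {q : ℕ} [Fact q.Prime] (hq : q ∈ π) :
    kpi π G ≤ kpi {q} G * piPart (π.erase q) G :=
  kpi_le_mul π q (π.erase q) (by rw [Finset.insert_erase hq]) _ fun H =>
    (kpi_le _ (fun r hr => hπ r (Finset.mem_of_mem_erase hr)) ↥H).trans
      (piPart_subgroup_le _ (fun r hr => hπ r (Finset.mem_of_mem_erase hr)) H)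

/-- Counting with a set of possible singleton classes. -/
theorem count_classes {p : ℕ} [Fact p.Prime] (P : Sylow p G) (F : Finset G) (r : ℕ)
    (hr : ∀ x ∈ (P : Subgroup G), x ∉ F → ∃ t : Finset G, r ≤ t.card ∧
      ∀ y ∈ t, y ∈ (P : Subgroup G) ∧ y ∉ F ∧ IsConj x y) (hF : ∀ x ∈ F, x ∈ (P : Subgroup G)) :
    r * kpi {p} G + F.card ≤ r * F.card + Nat.card ↥(P : Subgroup G) := by
  classical
  haveI : Fintype G := Fintype.ofFinite G
  let S : Finset G := Finset.univ.filter fun x => x ∈ (P : Subgroup G) ∧ x ∉ F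
  have hS : S.card + F.card = Nat.card ↥(P : Subgroup G) := by
    rw [Nat.card_eq_fintype_card, Fintype.card_subtype, ← Finset.card_union_of_disjoint]
    · congr 1
      ext x
      simp only [S, Finset.mem_union, Finset.mem_filter, Finset.mem_univ, true_and]
      constructor
      · rintro (h | h)
        · exact h.1
        · exact hF x h
      · intro h; by_cases hx : x ∈ F <;> simp [hx, h]
    · rw [Finset.disjoint_left]
      exact fun x hx => (Finset.mem_filter.1 hx).2.2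
  let T : Finset (ConjClasses G) := S.image ConjClasses.mk
  have hcov : kpi {p} G ≤ T.card + F.card := by
    refine le_trans (Nat.card_le_card_of_injective
      (fun c : Cl (G := G) {p} => (⟨c.1, ?_⟩ : ↥(T ∪ F.image ConjClasses.mk)))
      fun c d h => Subtype.ext (congrArg Subtype.val h :)) ?_
    · obtain ⟨a, ha, hac⟩ := exists_rep P c
      rw [← hac, Finset.mem_union]
      by_cases h1 : a ∈ F
      · exact Or.inr (Finset.mem_image_of_mem _ h1)
      · exact Or.inl (Finset.mem_image_of_mem _ (Finset.mem_filter.2 ⟨Finset.mem_univ _, ha, h1⟩))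
    · rw [Nat.card_eq_fintype_card, Fintype.card_coe]
      exact (Finset.card_union_le _ _).trans (Nat.add_le_add_left Finset.card_image_le _)
  have h2 : r * T.card ≤ S.card := Finset.mul_card_image_le_card (f := ConjClasses.mk) S r fun c hc => by
    obtain ⟨x, hx, rfl⟩ := Finset.mem_image.1 hc
    obtain ⟨-, hxP, hxF⟩ := Finset.mem_filter.1 hx
    obtain ⟨t, ht, htm⟩ := hr x hxP hxF
    refine ht.trans (Finset.card_le_card fun y hy => ?_)
    obtain ⟨hyP, hyF, hc'⟩ := htm y hy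
    exact Finset.mem_filter.2 ⟨Finset.mem_filter.2 ⟨Finset.mem_univ _, hyP, hyF⟩, ConjClasses.mk_eq_mk_iff_isConj.2 hc'.symm⟩
  nlinarith

theorem two_mul_le_of_not_comm {p : ℕ} [hp : Fact p.Prime] (h2 : p ≠ 2) (P : Sylow p G)
    (h : ¬ IsMulCommutative ↥(P : Subgroup G)) : 2 * kpi {p} G ≤ Nat.card ↥(P : Subgroup G) := by
  classical
  haveI : Fintype G := Fintype.ofFinite G
  set Z := (center ↥(P : Subgroup G)).map (P : Subgroup G).subtype
  let F : Finset G := Finset.univ.filter fun x => x ∈ Z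
  have hFc : F.card = Nat.card ↥(center ↥(P : Subgroup G)) := by
    rw [← Subgroup.card_subtype (P : Subgroup G) (center ↥(P : Subgroup G)),
      Nat.card_eq_fintype_card, Fintype.card_subtype]
  have hcount := count_classes P F p (fun x hx hxF => ?_) (fun x hx => map_subtype_le _ (Finset.mem_filter.1 hx).2)
  swap
  · set x' : ↥(P : Subgroup G) := ⟨x, hx⟩
    have hne : (centralizer ({x'} : Set ↥(P : Subgroup G))).index ≠ 1 := fun e => hxF (Finset.mem_filter.2
      ⟨Finset.mem_univ _, x', Subgroup.mem_center_iff.2 fun g => mem_centralizer_singleton_iff.1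
        (by rw [index_eq_one.1 e]; exact mem_top g), rfl⟩)
    obtain ⟨k, hk⟩ := P.2.index (centralizer ({x'} : Set ↥(P : Subgroup G)))
    have hk0 : k ≠ 0 := fun e => hne (by rw [hk, e, pow_zero])
    haveI : Fintype ↥(P : Subgroup G) := Fintype.ofFinite _
    refine ⟨(Finset.univ : Finset ↥(P : Subgroup G)).image fun g : ↥(P : Subgroup G) => (g : G) * x * (g : G)⁻¹, ?_, ?_⟩
    · refine le_trans (hk ▸ Nat.le_self_pow hk0 p) ?_
      rw [index_eq_card, ← Fintype.card_coe, ← Nat.card_eq_fintype_card]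
      refine Nat.card_le_card_of_injective (fun q => (⟨((q.out : ↥(P : Subgroup G)) : G) * x * ((q.out : ↥(P : Subgroup G)) : G)⁻¹,
        Finset.mem_image_of_mem _ (Finset.mem_univ _)⟩ : ↥((Finset.univ : Finset ↥(P : Subgroup G)).image fun g : ↥(P : Subgroup G) => (g : G) * x * (g : G)⁻¹))) ?_
      intro q₁ q₂ h
      rw [← QuotientGroup.out_eq' q₁, ← QuotientGroup.out_eq' q₂, QuotientGroup.eq, mem_centralizer_singleton_iff]
      have h'' := congrArg Subtype.val h
      simp only at h''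
      have h' : (q₁.out : ↥(P : Subgroup G)) * x' * (q₁.out)⁻¹ = q₂.out * x' * (q₂.out)⁻¹ := Subtype.ext h''
      calc q₁.out⁻¹ * q₂.out * x' = q₁.out⁻¹ * (q₂.out * x' * q₂.out⁻¹) * q₂.out := by group
        _ = x' * (q₁.out⁻¹ * q₂.out) := by rw [← h']; group
    · intro y hy
      obtain ⟨g, -, rfl⟩ := Finset.mem_image.1 hy
      refine ⟨mul_mem (mul_mem g.2 hx) (inv_mem g.2), fun hyF => hxF ?_, isConj_iff.2 ⟨g, rfl⟩⟩
      obtain ⟨z, hz, hzy⟩ := (Finset.mem_filter.1 hyF).2
      have hz' : z = g * x' * g⁻¹ := Subtype.ext hzy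
      refine Finset.mem_filter.2 ⟨Finset.mem_univ _, x', ?_, rfl⟩
      have := (center ↥(P : Subgroup G)).normal_of_characteristic.conj_mem z hz g⁻¹
      rwa [hz', show g⁻¹ * (g * x' * g⁻¹) * g⁻¹⁻¹ = x' by group] at this
  -- the centre has index at least `p ^ 2`
  obtain ⟨k, hk⟩ := P.2.index (center ↥(P : Subgroup G))
  have hk2 : 2 ≤ k := by
    by_contra hlt
    haveI : IsCyclic (↥(P : Subgroup G) ⧸ center ↥(P : Subgroup G)) := by
      rw [index_eq_card] at hk
      interval_cases k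
      · haveI : Subsingleton (↥(P : Subgroup G) ⧸ center ↥(P : Subgroup G)) :=
          (Nat.card_eq_one_iff_unique.1 (by simpa using hk)).1
        infer_instance
      · exact isCyclic_of_prime_card (p := p) (by simpa using hk)
    exact h ⟨⟨commutative_of_cyclic_center_quotient (QuotientGroup.mk' (center ↥(P : Subgroup G))) (by simp)⟩⟩
  have h1 := (center ↥(P : Subgroup G)).card_mul_index
  rw [hk, ← hFc] at h1
  have h3 : F.card * p ^ 2 ≤ Nat.card ↥(P : Subgroup G) := by
    rw [← h1]; exact Nat.mul_le_mul_left _ (Nat.pow_le_pow_right hp.out.pos hk2)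
  have hp3 : 3 ≤ p := by have := hp.out.two_le; omega
  obtain ⟨m, rfl⟩ : ∃ m, p = m + 3 := ⟨p - 3, by omega⟩
  by_contra hcon
  nlinarith [Nat.zero_le (m * m), Nat.zero_le (m * F.card), Nat.zero_le (m * m * F.card), Nat.zero_le (m * kpi {m + 3} G)]

theorem bound_of_normalizer {p : ℕ} [hp : Fact p.Prime] (P : Sylow p G) (hcomm : IsMulCommutative ↥(P : Subgroup G))
    {g : G} (hg : g ∈ normalizer ((P : Subgroup G) : Set G)) (hgc : g ∉ centralizer ((P : Subgroup G) : Set G)) :
    ∃ r F : ℕ, r.Prime ∧ r ≠ p ∧ r ∣ orderOf g ∧ p * F ≤ Nat.card ↥(P : Subgroup G) ∧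
      r * kpi {p} G + F ≤ r * F + Nat.card ↥(P : Subgroup G) := by
  classical
  haveI : Fintype G := Fintype.ofFinite G
  -- a power of prime order modulo the centralizer
  obtain ⟨h, r, hr, hrd, hhn, hhc, hhr⟩ : ∃ (h : G) (r : ℕ), r.Prime ∧ r ∣ orderOf g ∧ h ∈ normalizer ((P : Subgroup G) : Set G) ∧
      h ∉ centralizer ((P : Subgroup G) : Set G) ∧ h ^ r ∈ centralizer ((P : Subgroup G) : Set G) := by
    have hex : ∃ n, 0 < n ∧ g ^ n ∈ centralizer ((P : Subgroup G) : Set G) ∧ n ∣ orderOf g :=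
      ⟨orderOf g, orderOf_pos g, by rw [pow_orderOf_eq_one]; exact one_mem _, dvd_rfl⟩
    set n := Nat.find hex
    obtain ⟨hn0, hnc, hnd⟩ := Nat.find_spec hex
    have hn1 : n ≠ 1 := fun e => hgc (by
      have h := hnc
      have e' : Nat.find hex = 1 := e
      rw [e', pow_one] at h; exact h)
    obtain ⟨r, hr, hrn⟩ := Nat.exists_prime_and_dvd hn1
    refine ⟨g ^ (n / r), r, hr, hrn.trans hnd, pow_mem hg _, fun hc => ?_, by rw [← pow_mul, Nat.div_mul_cancel hrn]; exact hnc⟩
    refine absurd (Nat.find_min' hex ⟨Nat.div_pos (Nat.le_of_dvd hn0 hrn) hr.pos, hc, (Nat.div_dvd_of_dvd hrn).trans hnd⟩) ?_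
    exact not_le.2 (Nat.div_lt_self hn0 hr.one_lt)
  have hrp : r ≠ p := by
    rintro rfl
    refine hhc ?_
    obtain ⟨a, b, -, hb, hab, ⟨k, hk⟩, hcop⟩ := Cfsg.Lib.Transfer.exists_pPart r h
    obtain ⟨i, hi⟩ := hb
    have han : a ∈ normalizer ((P : Subgroup G) : Set G) := by
      have : a = h * b⁻¹ := by rw [← hab, mul_inv_cancel_right]
      rw [this, ← hi]; exact mul_mem hhn (inv_mem (zpow_mem hhn i))
    have haP : a ∈ (P : Subgroup G) := by
      have hpa : IsPGroup r (zpowers a) := IsPGroup.of_card (n := k) (by rw [Nat.card_zpowers, hk])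
      have hsup : IsPGroup r ((zpowers a) ⊔ (P : Subgroup G) : Subgroup G) :=
        IsPGroup.to_sup_of_normal_right' hpa P.2 (zpowers_le.2 han)
      exact (P.is_maximal' hsup le_sup_right).le (mem_sup_left (mem_zpowers a))
    have hbr : b ^ r ∈ centralizer ((P : Subgroup G) : Set G) := by
      rw [← hi]; show (h ^ i) ^ r ∈ _
      rw [← zpow_natCast, ← zpow_mul, mul_comm, zpow_mul, zpow_natCast]
      exact zpow_mem hhr i
    have hbc : b ∈ centralizer ((P : Subgroup G) : Set G) := by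
      have hbz : (orderOf b : ℤ) * Nat.gcdA (orderOf b) r + (r : ℤ) * Nat.gcdB (orderOf b) r = 1 := by
        rw [← Nat.gcd_eq_gcd_ab, Nat.Coprime.gcd_eq_one hcop, Nat.cast_one]
      have : b = (b ^ r) ^ (Nat.gcdB (orderOf b) r) := by
        conv_lhs => rw [← zpow_one b, ← hbz, zpow_add, zpow_mul, zpow_mul, zpow_natCast, zpow_natCast, pow_orderOf_eq_one, one_zpow, one_mul]
      rw [this]; exact zpow_mem hbr _
    rw [← hab]
    exact mul_mem (fun s hs => congrArg Subtype.val (mul_comm' (⟨s, hs⟩ : ↥(P : Subgroup G)) ⟨a, haP⟩)) hbc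
  let F : Finset G := Finset.univ.filter fun x => x ∈ (P : Subgroup G) ⊓ centralizer ({h} : Set G)
  refine ⟨r, F.card, hr, hrp, hrd, ?_, count_classes P F r (fun x hx hxF => ?_) fun x hx => (Finset.mem_filter.1 hx).2.1⟩
  · have hFc : F.card = Nat.card ↥((P : Subgroup G) ⊓ centralizer ({h} : Set G)) := by
      rw [Nat.card_eq_fintype_card, Fintype.card_subtype]
    have hlt : (P : Subgroup G) ⊓ centralizer ({h} : Set G) < (P : Subgroup G) := inf_le_left.lt_of_ne fun e => hhc fun s hs =>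
      mem_centralizer_singleton_iff.1 ((e.ge hs).2)
    obtain ⟨k, hk⟩ := P.2.index (((P : Subgroup G) ⊓ centralizer ({h} : Set G)).subgroupOf (P : Subgroup G))
    have hk0 : k ≠ 0 := fun e => hlt.not_ge (relIndex_eq_one.1 (by rw [relIndex, hk, e, pow_zero]))
    rw [hFc, mul_comm, ← relIndex_bot_left (P : Subgroup G), ← relIndex_mul_relIndex ⊥ _ _ bot_le hlt.le, relIndex_bot_left]
    exact Nat.mul_le_mul_left _ (le_trans (Nat.le_self_pow hk0 p) (le_of_eq (by rw [relIndex, hk])))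
  · -- the orbit of `x`
    refine ⟨(Finset.range r).image fun i => h ^ i * x * (h ^ i)⁻¹, ?_, ?_⟩
    · rw [Finset.card_image_of_injOn, Finset.card_range]
      have key : ∀ i j, i < r → j < r → i < j → h ^ i * x * (h ^ i)⁻¹ ≠ h ^ j * x * (h ^ j)⁻¹ := by
        intro i j _ hj hij e
        refine hxF (Finset.mem_filter.2 ⟨Finset.mem_univ _, hx, mem_centralizer_singleton_iff.2 ?_⟩)
        have hfix : Commute (h ^ (j - i)) x := by
          refine (mul_inv_eq_iff_eq_mul.1 ?_)
          calc h ^ (j - i) * x * (h ^ (j - i))⁻¹ = (h ^ i)⁻¹ * (h ^ j * x * (h ^ j)⁻¹) * h ^ i := by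
                rw [show h ^ j = h ^ i * h ^ (j - i) by rw [← pow_add, Nat.add_sub_cancel' hij.le]]; group
            _ = x := by rw [← e]; group
        have hrfix : Commute (h ^ r) x := (hhr x hx).symm
        obtain ⟨u, v, huv⟩ : ∃ u v : ℤ, ((j - i : ℕ) : ℤ) * u + (r : ℤ) * v = 1 := by
          refine ⟨Nat.gcdA (j - i) r, Nat.gcdB (j - i) r, ?_⟩
          rw [← Nat.gcd_eq_gcd_ab, (Nat.Coprime.symm (hr.coprime_iff_not_dvd.2 fun hd => by
            have := Nat.le_of_dvd (by omega) hd; omega)).gcd_eq_one, Nat.cast_one]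
        have hh : Commute h x := by
          rw [← zpow_one h, ← huv, zpow_add, zpow_mul, zpow_mul, zpow_natCast, zpow_natCast]
          exact (hfix.zpow_left u).mul_left (hrfix.zpow_left v)
        exact hh.symm.eq
      intro i hi j hj e
      rw [Finset.mem_coe, Finset.mem_range] at hi hj
      rcases lt_trichotomy i j with hl | hl | hl
      · exact absurd e (key i j hi hj hl)
      · exact hl
      · exact absurd e.symm (key j i hj hi hl)
    · intro y hy
      obtain ⟨i, -, rfl⟩ := Finset.mem_image.1 hy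
      refine ⟨(mem_normalizer_iff.1 (pow_mem hhn i) x).1 hx, fun hyF => hxF ?_, isConj_iff.2 ⟨h ^ i, rfl⟩⟩
      have h1 := mem_centralizer_singleton_iff.1 (Finset.mem_filter.1 hyF).2.2
      refine Finset.mem_filter.2 ⟨Finset.mem_univ _, hx, mem_centralizer_singleton_iff.2 ?_⟩
      calc x * h = (h ^ i)⁻¹ * ((h ^ i * x * (h ^ i)⁻¹) * h) * h ^ i := by group
        _ = (h ^ i)⁻¹ * (h * (h ^ i * x * (h ^ i)⁻¹)) * h ^ i := by rw [h1]
        _ = h * x := by group

/-- An odd prime with more than half the possible classes of `p`-elements. -/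
theorem half_criterion {p : ℕ} [hp : Fact p.Prime] (h2 : p ≠ 2) (P : Sylow p G)
    (hk : Nat.card ↥(P : Subgroup G) < 2 * kpi {p} G) :
    IsMulCommutative ↥(P : Subgroup G) ∧ ∀ g ∈ normalizer ((P : Subgroup G) : Set G), Odd (orderOf g) →
      g ∈ centralizer ((P : Subgroup G) : Set G) := by
  have hc : IsMulCommutative ↥(P : Subgroup G) := by
    by_contra h; have := two_mul_le_of_not_comm h2 P h; omega
  refine ⟨hc, fun g hg hodd => ?_⟩
  by_contra hgc
  obtain ⟨r, F, hr, hrp, hrd, hF, hcount⟩ := bound_of_normalizer P hc hg hgc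
  have hr2 : r ≠ 2 := fun e => Nat.not_even_iff_odd.2 hodd (even_iff_two_dvd.2 (e ▸ hrd))
  have hr3 : 3 ≤ r := by have := hr.two_le; omega
  have hp3 : 3 ≤ p := by have := hp.out.two_le; omega
  obtain ⟨m, rfl⟩ : ∃ m, p = m + 3 := ⟨p - 3, by omega⟩
  obtain ⟨l, rfl⟩ : ∃ l, r = l + 3 := ⟨r - 3, by omega⟩
  have hml : 1 ≤ m + l := by omega
  set c := Nat.card ↥(P : Subgroup G)
  have e1 : (m + 3) * ((l + 3) * (c + 1)) ≤ (m + 3) * (2 * ((l + 3) * kpi {m + 3} G)) := by
    have := Nat.mul_le_mul_left (l + 3) (show c + 1 ≤ 2 * kpi {m + 3} G by omega)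
    exact Nat.mul_le_mul_left _ (by linarith)
  have e2 : (m + 3) * (2 * ((l + 3) * kpi {m + 3} G + F)) ≤ (m + 3) * (2 * ((l + 3) * F + c)) :=
    Nat.mul_le_mul_left _ (Nat.mul_le_mul_left _ hcount)
  have e3 : 2 * (l + 2) * ((m + 3) * F) ≤ 2 * (l + 2) * c := Nat.mul_le_mul_left _ hF
  nlinarith [Nat.zero_le (m * l * c), Nat.zero_le ((m + l) * c)]

/-- An odd prime with more than `(p+1)/2p` of the possible classes of `p`-elements. -/
theorem strong_criterion {p : ℕ} [hp : Fact p.Prime] (h2 : p ≠ 2) (P : Sylow p G)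
    (hk : (p + 1) * Nat.card ↥(P : Subgroup G) < 2 * p * kpi {p} G) :
    IsMulCommutative ↥(P : Subgroup G) ∧ Cfsg.HasNormalPComplement p G := by
  have hc : IsMulCommutative ↥(P : Subgroup G) := by
    by_contra h; have := two_mul_le_of_not_comm h2 P h; nlinarith
  refine ⟨hc, ?_⟩
  have hle : normalizer ((P : Subgroup G) : Set G) ≤ centralizer ((P : Subgroup G) : Set G) := by
    intro g hg
    by_contra hgc
    obtain ⟨r, F, hr, hrp, hrd, hF, hcount⟩ := bound_of_normalizer P hc hg hgc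
    obtain ⟨l, rfl⟩ : ∃ l, r = l + 2 := ⟨r - 2, by have := hr.two_le; omega⟩
    obtain ⟨m, rfl⟩ : ∃ m, p = m + 1 := ⟨p - 1, by have := hp.out.pos; omega⟩
    nlinarith [Nat.zero_le (m * l * Nat.card ↥(P : Subgroup G))]
  exact Cfsg.Lib.Transfer.hasNormalPComplement_of_isComplement' (MonoidHom.ker_transferSylow_isComplement' P hle)

/-- The classes of `p`-elements of a group with a normal `p`-complement. -/
theorem kpi_of_complement {p : ℕ} [hp : Fact p.Prime] (P : Sylow p G) (h : Cfsg.HasNormalPComplement p G) :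
    Nat.card (ConjClasses ↥(P : Subgroup G)) ≤ kpi {p} G := by
  obtain ⟨N, hNn, hN⟩ := Cfsg.Lib.Transfer.exists_complement_of_hasNormalPComplement h P
  haveI := hNn
  let ψ : ConjClasses ↥(P : Subgroup G) → Cl (G := G) {p} :=
    Quotient.lift (fun a : ↥(P : Subgroup G) => (⟨ConjClasses.mk (a : G), fun x hx => by
      refine IsPi.of_isConj (ConjClasses.mk_eq_mk_iff_isConj.1 (ConjClasses.mem_carrier_iff_mk_eq.1 hx).symm) ?_
      obtain ⟨k, hk⟩ := IsPGroup.iff_orderOf.1 P.2 a
      exact (isPi_singleton _).2 ⟨k, by rwa [Subgroup.orderOf_coe]⟩⟩ : Cl (G := G) {p}))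
      fun a b hab => Subtype.ext (ConjClasses.mk_eq_mk_iff_isConj.2 (MonoidHom.map_isConj (P : Subgroup G).subtype hab))
  refine Nat.card_le_card_of_injective ψ fun c d hcd => ?_
  obtain ⟨a, rfl⟩ := ConjClasses.mk_surjective c
  obtain ⟨b, rfl⟩ := ConjClasses.mk_surjective d
  obtain ⟨g, hg⟩ := isConj_iff.1 (ConjClasses.mk_eq_mk_iff_isConj.1 (congrArg Subtype.val hcd :
    ConjClasses.mk (a : G) = ConjClasses.mk (b : G)))
  rw [ConjClasses.mk_eq_mk_iff_isConj, isConj_iff]
  obtain ⟨⟨⟨n, hn⟩, ⟨u, hu⟩⟩, hnu⟩ := hN.2 g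
  have hnu' : n * u = g := hnu
  refine ⟨⟨u, hu⟩, Subtype.ext ?_⟩
  show u * (a : G) * u⁻¹ = b
  -- the difference lies in `N ∩ P`
  have h1 : (b : G) * (u * a * u⁻¹)⁻¹ ∈ N := by
    rw [← hg, ← hnu', show n * u * (a : G) * (n * u)⁻¹ * (u * a * u⁻¹)⁻¹ =
      n * ((u * a * u⁻¹) * n⁻¹ * (u * a * u⁻¹)⁻¹) by group]
    exact mul_mem hn (hNn.conj_mem _ (inv_mem hn) _)
  have h2 : (b : G) * (u * a * u⁻¹)⁻¹ ∈ (P : Subgroup G) := mul_mem b.2 (inv_mem (mul_mem (mul_mem hu a.2) (inv_mem hu)))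
  have h3 : (b : G) * (u * a * u⁻¹)⁻¹ ∈ N ⊓ (P : Subgroup G) := ⟨h1, h2⟩
  rw [disjoint_iff.1 hN.disjoint, mem_bot, mul_inv_eq_one] at h3
  exact h3.symm

theorem piPart_eq {π : Finset ℕ} {q : ℕ} (hq : q ∈ π) :
    piPart π G = q ^ (Nat.card G).factorization q * piPart (π.erase q) G :=
  (Finset.mul_prod_erase π (fun r => r ^ (Nat.card G).factorization r) hq).symm

theorem exists_pi_complement (π : Finset ℕ) (hπ : ∀ r ∈ π, r.Prime)
    (h : ∀ r (_ : r ∈ π), Cfsg.HasNormalPComplement r G) :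
    ∃ N : Subgroup G, N.Normal ∧ (∀ r : ℕ, r.Prime → r ∣ Nat.card ↥N → r ∉ π) ∧
      (∀ r : ℕ, r.Prime → r ∣ N.index → r ∈ π) ∧ ∀ r ∈ π, N ≤ Cfsg.pResidual r G := by
  induction π using Finset.induction_on with
  | empty => exact ⟨⊤, inferInstance, fun r _ _ => Finset.notMem_empty r,
      fun r hr hd => absurd (by simpa using hd) hr.ne_one, fun r hr => absurd hr (Finset.notMem_empty r)⟩
  | insert q σ hq ih =>
    haveI : Fact q.Prime := ⟨hπ q (Finset.mem_insert_self q σ)⟩
    obtain ⟨N, hN, h1, h2, h3⟩ := ih (fun r hr => hπ r (Finset.mem_insert_of_mem hr))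
      (fun r hr => h r (Finset.mem_insert_of_mem hr))
    have hR := Cfsg.Lib.Transfer.hasNormalPComplement_iff_pResidual.1 (h q (Finset.mem_insert_self q σ))
    obtain ⟨k, hk⟩ := Cfsg.Lib.Transfer.exists_index_pResidual (G := G) (p := q)
    haveI := hN
    refine ⟨N ⊓ Cfsg.pResidual q G, inferInstance, fun r hr hd hmem => ?_, fun r hr hd => ?_, fun r hr => ?_⟩
    · rcases Finset.mem_insert.1 hmem with rfl | hm
      · exact hr.coprime_iff_not_dvd.1 hR.symm (hd.trans (card_dvd_of_le inf_le_right))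
      · exact h1 r hr (hd.trans (card_dvd_of_le inf_le_left)) hm
    · have hdv : (N ⊓ Cfsg.pResidual q G).index ∣ N.index * (Cfsg.pResidual q G).index := by
        rw [← relIndex_mul_index (inf_le_left : N ⊓ Cfsg.pResidual q G ≤ N), inf_relIndex_left, mul_comm N.index]
        exact mul_dvd_mul_right (relIndex_dvd_index_of_normal _ _) _
      rcases hr.dvd_mul.1 (hd.trans hdv) with h' | h'
      · exact Finset.mem_insert_of_mem (h2 r hr h')
      · rw [hk] at h'
        rw [(Nat.prime_dvd_prime_iff_eq hr Fact.out).1 (hr.dvd_of_dvd_pow h')]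
        exact Finset.mem_insert_self q σ
    · rcases Finset.mem_insert.1 hr with rfl | hm
      · exact inf_le_right
      · exact inf_le_left.trans (h3 r hm)

theorem exists_abelian_hall (π σ : Finset ℕ) (hπ : ∀ r ∈ π, r.Prime) (hσ : σ ⊆ π)
    (h : ∀ r (_ : r ∈ π), Cfsg.HasNormalPComplement r G)
    (hab : ∀ r ∈ σ, ∀ P : Sylow r G, IsMulCommutative ↥(P : Subgroup G)) :
    ∃ H : Subgroup G, Cfsg.IsPiHall (↑σ : Set ℕ) H ∧ IsMulCommutative ↥H := by
  obtain ⟨N, hN, hN1, hN2, hN3⟩ := exists_pi_complement π hπ h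
  obtain ⟨M, hM, hM1, hM2, hM3⟩ := exists_pi_complement (π \ σ) (fun r hr => hπ r (Finset.mem_sdiff.1 hr).1)
    (fun r hr => h r (Finset.mem_sdiff.1 hr).1)
  haveI := hN
  haveI := hM
  -- replace `M` by `M ⊔ N`
  set L := M ⊔ N with hL
  have hcop : (Nat.card ↥N).Coprime (N.relIndex L) := by
    refine Nat.coprime_of_dvd fun r hr hd1 hd2 => hN1 r hr hd1 (hN2 r hr (hd2.trans ?_))
    exact Dvd.intro _ (relIndex_mul_index (le_sup_right : N ≤ L))
  obtain ⟨H, hHL, hHsup, hHc⟩ := Cfsg.Lib.Coprime.exists_complement_in (le_sup_right : N ≤ L)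
    (by rw [normalizer_eq_top_iff.2 inferInstance]; exact le_top) hcop
  have hrelσ : ∀ r : ℕ, r.Prime → r ∣ N.relIndex L → r ∈ σ := by
    intro r hr hd
    have hrπ : r ∈ π := hN2 r hr (hd.trans (Dvd.intro _ (relIndex_mul_index (le_sup_right : N ≤ L))))
    by_contra hrσ
    have hd' : r ∣ Nat.card ↥M := hd.trans (by rw [relIndex_sup_right]; exact relIndex_dvd_card _ _)
    exact hM1 r hr hd' (Finset.mem_sdiff.2 ⟨hrπ, hrσ⟩)
  refine ⟨H, ⟨fun r hr hd => hrelσ r hr (hHc ▸ hd), fun r hr hrσ hd => ?_⟩, ?_⟩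
  · have h1 : H.index = Nat.card ↥N * L.index := by
      have h2 := H.card_mul_index
      have h3 := relIndex_mul_index (le_sup_right : N ≤ L)
      have h4 := N.card_mul_index
      rw [hHc] at h2
      refine Nat.eq_of_mul_eq_mul_left (show 0 < N.relIndex L by rw [← hHc]; exact Nat.card_pos) ?_
      rw [h2, ← h4, ← h3]; ring
    rw [h1] at hd
    rcases hr.dvd_mul.1 hd with h' | h'
    · exact hN1 r hr h' (hσ hrσ)
    · exact (Finset.mem_sdiff.1 (hM2 r hr (h'.trans (index_dvd_of_le le_sup_left)))).2 hrσ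
  · refine ⟨⟨fun a b => Subtype.ext ?_⟩⟩
    show (a : G) * b = b * a
    rw [← commutatorElement_eq_one_iff_mul_comm]
    have hmemH : ⁅(a : G), (b : G)⁆ ∈ H := by
      rw [commutatorElement_def]; exact mul_mem (mul_mem (mul_mem a.2 b.2) (inv_mem a.2)) (inv_mem b.2)
    obtain ⟨n, hn⟩ : ∃ n, orderOf ⁅(a : G), (b : G)⁆ = n := ⟨_, rfl⟩
    refine orderOf_eq_one_iff.1 (Nat.eq_one_iff_not_exists_prime_dvd.2 fun r hr hd => ?_)
    have hdH : r ∣ Nat.card ↥H := hd.trans (by rw [← Subgroup.orderOf_mk _ hmemH]; exact orderOf_dvd_natCard _)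
    have hrσ := hrelσ r hr (hHc ▸ hdH)
    haveI : Fact r.Prime := ⟨hr⟩
    obtain ⟨P⟩ : Nonempty (Sylow r G) := inferInstance
    haveI := hab r hrσ P
    have hR := Cfsg.Lib.Transfer.hasNormalPComplement_iff_pResidual.1 (h r (hσ hrσ))
    have hin : ⁅(a : G), (b : G)⁆ ∈ Cfsg.pResidual r G := by
      have hs := Cfsg.Lib.Transfer.pResidual_sup_sylow (G := G) P
      have hk : ∀ x : G, ∃ s ∈ (P : Subgroup G), (QuotientGroup.mk' (Cfsg.pResidual r G)) x = QuotientGroup.mk' _ s := fun x => by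
        obtain ⟨m, hm, s, hs', rfl⟩ := mem_sup_of_normal_left.1 (show x ∈ Cfsg.pResidual r G ⊔ (P : Subgroup G) by rw [hs]; exact mem_top x)
        exact ⟨s, hs', by rw [map_mul, show QuotientGroup.mk' (Cfsg.pResidual r G) m = 1 from (QuotientGroup.eq_one_iff m).2 hm, one_mul]⟩
      obtain ⟨s, hs1, e1⟩ := hk a
      obtain ⟨t, ht1, e2⟩ := hk b
      rw [← QuotientGroup.eq_one_iff]
      show QuotientGroup.mk' _ ⁅(a : G), (b : G)⁆ = 1
      rw [map_commutatorElement, e1, e2, ← map_commutatorElement,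
        commutatorElement_eq_one_iff_mul_comm.2 (congrArg Subtype.val (mul_comm' (⟨s, hs1⟩ : ↥(P : Subgroup G)) ⟨t, ht1⟩)), map_one]
    exact hr.coprime_iff_not_dvd.1 hR.symm (hd.trans (by rw [← Subgroup.orderOf_mk _ hin]; exact orderOf_dvd_natCard _))

end Cfsg.Lib.ClassCount
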