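/-
Groups in which centralisers of non-central elements are maximal are solvable.
-/
import Cfsg.Agent.SolvStruct.Herstein
import Cfsg.Agent.Thompson.PComplement
import Cfsg.Agent.Transfer.Basic

set_option linter.style.haveILetI false
set_option linter.unusedSectionVars false

namespace Cfsg.Lib.SolvStruct

open Subgroup
open scoped Pointwise commutatorElement

universe u

theorem mem_zpowers_mul_of_coprime {G : Type*} [Group G] [Finite G] {g x : G} (h : Commute g x)
    (hc : (orderOf g).Coprime (orderOf x)) : g ∈ zpowers (g * x) := by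
  obtain ⟨n, hn1, hn2⟩ := Nat.chineseRemainder hc 1 0
  refine ⟨n, ?_⟩
  show (g * x) ^ (n : ℤ) = g
  rw [zpow_natCast, h.mul_pow, pow_eq_pow_iff_modEq.2 hn1, pow_eq_pow_iff_modEq.2 hn2, pow_one, pow_zero,
    mul_one]

theorem mem_zpowers_mul_of_coprime' {G : Type*} [Group G] [Finite G] {g x : G} (h : Commute g x)
    (hc : (orderOf g).Coprime (orderOf x)) : x ∈ zpowers (g * x) := by
  rw [h.eq]
  exact mem_zpowers_mul_of_coprime h.symm hc.symm

/-- The situation after factoring out the centre. -/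
theorem isSolvable_of_primePow_orders {Q : Type u} [Group Q] [Finite Q]
    (hpp : ∀ x : Q, ∀ p : ℕ, p.Prime → p ∣ orderOf x → ∃ k, orderOf x = p ^ k)
    (hmax : ∀ p : ℕ, p.Prime → p ∣ Nat.card Q → ∀ P : Sylow p Q, IsCoatom (P : Subgroup Q)) :
    Group.IsSolvable Q := by
  classical
  by_contra hns
  have hnp : ∀ p : ℕ, p.Prime → ¬ IsPGroup p Q := fun p hp h => by
    haveI := Fact.mk hp
    haveI := h.isNilpotent
    exact hns inferInstance
  have hcop : ∀ {x y : Q}, Commute x y → ∀ {p q : ℕ}, p.Prime → q.Prime → p ≠ q →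
      p ∣ orderOf x → q ∣ orderOf y → False := by
    intro x y hxy p q hp hq hpq hpx hqy
    obtain ⟨a, ha⟩ := hpp x p hp hpx
    obtain ⟨b, hb⟩ := hpp y q hq hqy
    have hc : (orderOf x).Coprime (orderOf y) := by
      rw [ha, hb]; exact ((Nat.coprime_primes hp hq).2 hpq).pow _ _
    obtain ⟨k, hk⟩ := hpp (x * y) p hp (by
      rw [hxy.orderOf_mul_eq_mul_orderOf_of_coprime hc]; exact hpx.trans (dvd_mul_right _ _))
    have h1 : q ∣ p ^ k := by
      rw [← hk, hxy.orderOf_mul_eq_mul_orderOf_of_coprime hc]; exact hqy.trans (dvd_mul_left _ _)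
    exact hpq ((Nat.prime_dvd_prime_iff_eq hq hp).1 (hq.dvd_of_dvd_pow h1)).symm
  -- odd primes give normal `p`-subgroups
  have hK : ∀ p : ℕ, p.Prime → p ≠ 2 → p ∣ Nat.card Q →
      ∃ K : Subgroup Q, K.Normal ∧ K ≠ ⊥ ∧ IsPGroup p K := by
    intro p hp hp2 hpd
    haveI := Fact.mk hp
    obtain ⟨P⟩ : Nonempty (Sylow p Q) := inferInstance
    have hcoat := hmax p hp hpd P
    have hPne : (P : Subgroup Q) ≠ ⊥ := fun h => by
      have := Sylow.dvd_card_of_dvd_card P hpd
      rw [h, Subgroup.card_bot, Nat.dvd_one] at this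
      exact hp.ne_one this
    set J := Cfsg.thompsonSubgroupOf p (P : Subgroup Q) with hJ
    by_cases hJn : normalizer (J : Set Q) = ⊤
    · exact ⟨J, normalizer_eq_top_iff.1 hJn, Cfsg.Lib.Thompson.thompsonSubgroupOf_ne_bot P.2 hPne,
        P.2.to_le (Cfsg.Lib.Thompson.thompsonSubgroupOf_le _)⟩
    exfalso
    have hN : normalizer (J : Set Q) = (P : Subgroup Q) := by
      have hle : (P : Subgroup Q) ≤ normalizer (J : Set Q) :=
        (le_normalizer).trans (Cfsg.Lib.Thompson.normalizer_le_normalizer_thompson _)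
      exact ((eq_or_lt_of_le hle).resolve_right fun h => hJn (hcoat.2 _ h)).symm
    set Zp := (P : Subgroup Q) ⊓ centralizer ((P : Subgroup Q) : Set Q) with hZp
    have hC : centralizer (Zp : Set Q) = (P : Subgroup Q) := by
      have hle : (P : Subgroup Q) ≤ centralizer (Zp : Set Q) := fun u hu z hz =>
        ((Subgroup.mem_inf.1 hz).2 u hu).symm
      refine ((eq_or_lt_of_le hle).resolve_right fun h => ?_).symm
      have htop := hcoat.2 _ h
      obtain ⟨z, hz, hz1⟩ := (Subgroup.bot_or_exists_ne_one Zp).resolve_left (Cfsg.Lib.Thompson.center_ne_bot P.2 hPne)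
      obtain ⟨k, hk⟩ := IsPGroup.iff_orderOf.1 P.2 ⟨z, (Subgroup.mem_inf.1 hz).1⟩
      rw [Subgroup.orderOf_mk] at hk
      have hpz : p ∣ orderOf z := by
        rw [hk]
        exact dvd_pow_self p fun h0 => hz1 (orderOf_eq_one_iff.1 (by rw [hk, h0, pow_zero]))
      obtain ⟨q, hq, hqp, hqd⟩ : ∃ q : ℕ, q.Prime ∧ q ≠ p ∧ q ∣ Nat.card Q := by
        by_contra hno
        push Not at hno
        refine hnp p hp (IsPGroup.of_card (n := (Nat.card Q).primeFactorsList.length) ?_)
        exact Nat.eq_prime_pow_of_unique_prime_dvd Nat.card_pos.ne' fun {d} hd hdd => by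
          by_contra h'; exact hno d hd h' hdd
      haveI := Fact.mk hq
      obtain ⟨y, hy⟩ := exists_prime_orderOf_dvd_card' q hqd
      have hzy : Commute z y := htop.ge (Subgroup.mem_top y) z hz
      exact hcop hzy hp hq hqp.symm hpz hy.symm.dvd
    have hcomp : Cfsg.HasNormalPComplement p Q := by
      refine Cfsg.Lib.Thompson.hasNormalPComplement_of_thompson hp2 _ Q rfl P ⟨?_, ?_⟩
      · exact Cfsg.Lib.Transfer.hasNormalPComplement_of_isPGroup (P.2.to_le hN.le)
      · exact Cfsg.Lib.Transfer.hasNormalPComplement_of_isPGroup (P.2.to_le hC.le)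
    obtain ⟨N, hNn, hNc, k, hNi⟩ := Cfsg.Lib.Transfer.hasNormalPComplement_iff.1 hcomp
    haveI := hNn
    obtain ⟨g, hg⟩ := exists_prime_orderOf_dvd_card' p hpd
    have hnil : Group.IsNilpotent N := by
      refine Cfsg.Lib.Thompson.isNilpotent_of_fpf (G := N) (MulAut.conjNormal (H := N) g).toMonoidHom
        (fun x hx => ?_) hp (funext fun x => ?_)
      · by_contra hx1
        have hc : g * (x : Q) * g⁻¹ = x := congrArg Subtype.val hx
        obtain ⟨q, hq, hqd⟩ := Nat.exists_prime_and_dvd (fun h1 : orderOf x = 1 => hx1 (orderOf_eq_one_iff.1 h1))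
        have hqp : q ≠ p := fun e => hp.coprime_iff_not_dvd.1 hNc.symm
          (e ▸ hqd.trans (_root_.orderOf_dvd_natCard x))
        exact hcop (mul_inv_eq_iff_eq_mul.1 hc : Commute g (x : Q)) hp hq hqp.symm hg.symm.dvd
          (by rwa [Subgroup.orderOf_coe])
      · have key : ∀ n : ℕ, ((((MulAut.conjNormal (H := N) g).toMonoidHom : N → N)^[n] x : N) : Q) =
            g ^ n * x * (g ^ n)⁻¹ := by
          intro n
          induction n with
          | zero => simp
          | succ n ih =>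
            rw [Function.iterate_succ_apply', MulEquiv.coe_toMonoidHom, MulAut.conjNormal_apply]
            rw [MulEquiv.coe_toMonoidHom] at ih
            rw [ih, pow_succ']
            group
        refine Subtype.ext ?_
        rw [key, ← hg, pow_orderOf_eq_one]
        simp
    haveI : Group.IsSolvable N := inferInstance
    haveI := (Cfsg.Lib.Transfer.isPGroup_quotient_of_index N hNi).isNilpotent
    exact hns ((Group.isSolvable_iff_subgroup_quotient N).2 ⟨inferInstance, inferInstance⟩)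
  haveI h2f : Fact (Nat.Prime 2) := ⟨Nat.prime_two⟩
  obtain ⟨p, hp, hp2, hpd⟩ : ∃ p : ℕ, p.Prime ∧ p ≠ 2 ∧ p ∣ Nat.card Q := by
    by_contra hno
    push Not at hno
    refine hnp 2 Nat.prime_two (IsPGroup.of_card (n := (Nat.card Q).primeFactorsList.length) ?_)
    exact Nat.eq_prime_pow_of_unique_prime_dvd Nat.card_pos.ne' fun {d} hd hdd => by
      by_contra h'; exact hno d hd h' hdd
  haveI := Fact.mk hp
  obtain ⟨K, hKn, hKne, hKp⟩ := hK p hp hp2 hpd
  haveI := hKn
  have helt : ∀ {q : ℕ}, q.Prime → ∀ {L : Subgroup Q}, IsPGroup q L → ∀ {z : Q}, z ∈ L → z ≠ 1 → q ∣ orderOf z := by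
    intro q hq L hL z hz hz1
    haveI := Fact.mk hq
    obtain ⟨k, hk⟩ := IsPGroup.iff_orderOf.1 hL ⟨z, hz⟩
    rw [Subgroup.orderOf_mk] at hk
    rw [hk]
    exact dvd_pow_self q fun h0 => hz1 (orderOf_eq_one_iff.1 (by rw [hk, h0, pow_zero]))
  have honly : ∀ q : ℕ, q.Prime → q ∣ Nat.card Q → q = 2 ∨ q = p := by
    intro q hq hqd
    by_contra hne
    push Not at hne
    obtain ⟨L, hLn, hLne, hLp⟩ := hK q hq hne.1 hqd
    obtain ⟨a, ha, ha1⟩ := (Subgroup.bot_or_exists_ne_one K).resolve_left hKne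
    obtain ⟨b, hb, hb1⟩ := (Subgroup.bot_or_exists_ne_one L).resolve_left hLne
    haveI := Fact.mk hq
    have hdis : Disjoint K L := IsPGroup.disjoint_of_ne p q (Ne.symm hne.2) K L hKp hLp
    exact hcop (Subgroup.commute_of_normal_of_disjoint K L hKn hLn hdis a b ha hb) hp hq (Ne.symm hne.2)
      (helt hp hKp ha ha1) (helt hq hLp hb hb1)
  have h2d : 2 ∣ Nat.card Q := by
    by_contra h2
    refine hnp p hp (IsPGroup.of_card (n := (Nat.card Q).primeFactorsList.length) ?_)
    exact Nat.eq_prime_pow_of_unique_prime_dvd Nat.card_pos.ne' fun {d} hd hdd =>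
      (honly d hd hdd).resolve_left fun e => h2 (e ▸ hdd)
  obtain ⟨t, ht⟩ := exists_prime_orderOf_dvd_card' 2 h2d
  have ht2 : t * t = 1 := by rw [← sq, ← ht, pow_orderOf_eq_one]
  -- involutions invert `K`
  have hinvert : ∀ s : Q, orderOf s = 2 → ∀ x ∈ K, s * x * s⁻¹ = x⁻¹ := by
    intro s hs x hx
    have hfix : MonoidHom.FixedPointFree (MulAut.conjNormal (H := K) s).toMonoidHom := fun z hz => by
      by_contra hz1
      have hc : s * (z : Q) * s⁻¹ = z := congrArg Subtype.val hz
      exact hcop (mul_inv_eq_iff_eq_mul.1 hc : Commute s (z : Q)) Nat.prime_two hp (Ne.symm hp2) hs.symm.dvd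
        (helt hp hKp z.2 fun e => hz1 (Subtype.ext e))
    have hinv : Function.Involutive (MulAut.conjNormal (H := K) s).toMonoidHom := fun z => Subtype.ext (by
      have hss : s * s = 1 := by rw [← sq, ← hs, pow_orderOf_eq_one]
      rw [MulEquiv.coe_toMonoidHom, MulAut.conjNormal_apply, MulAut.conjNormal_apply]
      rw [inv_eq_of_mul_eq_one_right hss, ← mul_assoc, ← mul_assoc, hss, one_mul, mul_assoc, hss, mul_one])
    have := congrFun (MonoidHom.FixedPointFree.coe_eq_inv_of_involutive hfix hinv) ⟨x, hx⟩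
    exact congrArg Subtype.val this
  set C := centralizer (K : Set Q) with hC
  haveI : C.Normal := Subgroup.normal_centralizer
  have hCp : IsPGroup p C := by
    refine IsPGroup.of_card (n := (Nat.card C).primeFactorsList.length) ?_
    refine Nat.eq_prime_pow_of_unique_prime_dvd Nat.card_pos.ne' fun {d} hd hdd => ?_
    by_contra hdp
    haveI := Fact.mk hd
    obtain ⟨c, hc⟩ := exists_prime_orderOf_dvd_card' d hdd
    obtain ⟨a, ha, ha1⟩ := (Subgroup.bot_or_exists_ne_one K).resolve_left hKne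
    exact hcop (c.2 a ha : Commute a (c : Q)) hp hd (Ne.symm hdp) (helt hp hKp ha ha1)
      (by rw [Subgroup.orderOf_coe, hc])
  have hcentral : ∀ r : Q, Commute (QuotientGroup.mk' C r) (QuotientGroup.mk' C t) := by
    intro r
    rw [← commutatorElement_eq_one_iff_commute, ← map_commutatorElement, QuotientGroup.mk'_apply,
      QuotientGroup.eq_one_iff]
    intro x hx
    have h1 : orderOf (r * t * r⁻¹) = 2 := by rw [← MulAut.conj_apply, MulEquiv.orderOf_eq, ht]
    have e2 : t⁻¹ * x * t = x⁻¹ := by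
      have := hinvert t ht x hx
      rwa [inv_eq_of_mul_eq_one_right ht2] at this ⊢
    have e3 := hinvert _ h1 x⁻¹ (inv_mem hx)
    rw [inv_inv] at e3
    show x * ⁅r, t⁆ = ⁅r, t⁆ * x
    rw [commutatorElement_def]
    symm
    calc r * t * r⁻¹ * t⁻¹ * x = r * t * r⁻¹ * (t⁻¹ * x * t) * t⁻¹ := by group
      _ = r * t * r⁻¹ * x⁻¹ * t⁻¹ := by rw [e2]
      _ = (r * t * r⁻¹ * x⁻¹ * (r * t * r⁻¹)⁻¹) * (r * t * r⁻¹ * t⁻¹) := by group
      _ = x * (r * t * r⁻¹ * t⁻¹) := by rw [e3]
  have hquot : IsPGroup 2 (Q ⧸ C) := by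
    refine IsPGroup.of_card (n := (Nat.card (Q ⧸ C)).primeFactorsList.length) ?_
    refine Nat.eq_prime_pow_of_unique_prime_dvd Nat.card_pos.ne' fun {d} hd hdd => ?_
    by_contra hd2
    haveI := Fact.mk hd
    obtain ⟨rq, hrq⟩ := exists_prime_orderOf_dvd_card' d hdd
    obtain ⟨r, rfl⟩ := QuotientGroup.mk'_surjective C rq
    have htq : orderOf (QuotientGroup.mk' C t) = 2 := by
      refine orderOf_eq_prime (by rw [← map_pow, sq, ht2, map_one]) fun h => ?_
      obtain ⟨k, hk⟩ := IsPGroup.iff_orderOf.1 hCp ⟨t, (QuotientGroup.eq_one_iff t).1 h⟩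
      rw [Subgroup.orderOf_mk, ht] at hk
      exact hp2 ((Nat.prime_dvd_prime_iff_eq Nat.prime_two hp).1 (Nat.prime_two.dvd_of_dvd_pow ⟨1, by rw [← hk]⟩)).symm
    have hcd : (orderOf (QuotientGroup.mk' C r)).Coprime (orderOf (QuotientGroup.mk' C t)) := by
      rw [hrq, htq]; exact (Nat.coprime_primes hd Nat.prime_two).2 hd2
    have hprod : orderOf (QuotientGroup.mk' C (r * t)) = d * 2 := by
      rw [map_mul, (hcentral r).orderOf_mul_eq_mul_orderOf_of_coprime hcd, hrq, htq]
    have hdiv := orderOf_map_dvd (QuotientGroup.mk' C) (r * t)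
    rw [hprod] at hdiv
    obtain ⟨k, hk⟩ := hpp (r * t) 2 Nat.prime_two ((dvd_mul_left 2 d).trans hdiv)
    rw [hk] at hdiv
    exact hd2 ((Nat.prime_dvd_prime_iff_eq hd Nat.prime_two).1 (hd.dvd_of_dvd_pow ((dvd_mul_right d 2).trans hdiv)))
  haveI := hCp.isNilpotent
  haveI := hquot.isNilpotent
  exact hns ((Group.isSolvable_iff_subgroup_quotient C).2 ⟨inferInstance, inferInstance⟩)

theorem isSolvable_of_centralizers_maximal {G : Type u} [Group G] [Finite G]
    (h : ∀ g : G, g ∉ Subgroup.center G → IsCoatom (centralizer ({g} : Set G))) : Group.IsSolvable G := by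
  classical
  by_contra hns
  set Z := Subgroup.center G with hZ
  have hle : ∀ {g y : G}, g ∈ zpowers y → centralizer ({y} : Set G) ≤ centralizer ({g} : Set G) := by
    intro g y hg u hu
    rw [mem_centralizer_singleton_iff] at hu ⊢
    obtain ⟨i, rfl⟩ := hg
    exact ((Commute.zpow_right hu i)).eq
  have heq : ∀ g x : G, g ∉ Z → x ∉ Z → Commute g x → (orderOf g).Coprime (orderOf x) →
      centralizer ({g} : Set G) = centralizer ({x} : Set G) := by
    intro g x hg hx hgx hc
    have hy : g * x ∉ Z := fun hy => hg ((zpowers_le.2 hy) (mem_zpowers_mul_of_coprime hgx hc))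
    have e : ∀ a : G, a ∉ Z → a ∈ zpowers (g * x) → centralizer ({g * x} : Set G) = centralizer ({a} : Set G) :=
      fun a ha ham => (eq_or_lt_of_le (hle ham)).resolve_right fun hl => (h a ha).1 ((h _ hy).2 _ hl)
    rw [← e g hg (mem_zpowers_mul_of_coprime hgx hc), e x hx (mem_zpowers_mul_of_coprime' hgx hc)]
  -- coprime commuting non-central elements do not exist
  have hL : ∀ g x : G, g ∉ Z → Commute g x → ∀ p : ℕ, p.Prime → (∃ k, orderOf g = p ^ k) →
      (orderOf x).Coprime p → x ∈ Z := by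
    intro g x hg hgx p hp hgp hxp
    haveI := Fact.mk hp
    obtain ⟨k, hk⟩ := hgp
    by_contra hx
    have hM := heq g x hg hx hgx (by rw [hk]; exact (hxp.pow_right k).symm)
    have hcen : ∀ m ∈ centralizer ({g} : Set G), centralizer ({g} : Set G) ≤ centralizer ({m} : Set G) := by
      intro m hm
      obtain ⟨a, b, ha, hb, hab, ⟨j, hj⟩, hbc⟩ := Cfsg.Lib.Transfer.exists_pPart p m
      have haM : a ∈ centralizer ({g} : Set G) := (zpowers_le.2 hm) ha
      have hbM : b ∈ centralizer ({g} : Set G) := (zpowers_le.2 hm) hb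
      have hxM : a ∈ centralizer ({x} : Set G) := hM ▸ haM
      have h1 : centralizer ({g} : Set G) ≤ centralizer ({a} : Set G) := by
        by_cases haZ : a ∈ Z
        · exact fun u _ => mem_centralizer_singleton_iff.2 ((Subgroup.mem_center_iff.1 haZ u))
        · rw [hM, ← heq a x haZ hx (mem_centralizer_singleton_iff.1 hxM) (by rw [hj]; exact (hxp.pow_right j).symm)]
      have h2 : centralizer ({g} : Set G) ≤ centralizer ({b} : Set G) := by
        by_cases hbZ : b ∈ Z
        · exact fun u _ => mem_centralizer_singleton_iff.2 ((Subgroup.mem_center_iff.1 hbZ u))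
        · rw [heq g b hg hbZ (mem_centralizer_singleton_iff.1 hbM).symm (by rw [hk]; exact (hbc.pow_right k).symm)]
      intro u hu
      rw [mem_centralizer_singleton_iff, ← hab]
      exact (Commute.mul_right (mem_centralizer_singleton_iff.1 (h1 hu)) (mem_centralizer_singleton_iff.1 (h2 hu))).eq
    exact hns (isSolvable_of_abelian_maximal _ (h g hg) fun a ha b hb => mem_centralizer_singleton_iff.1 (hcen b hb ha))
  let π := QuotientGroup.mk' Z
  have hπ : Function.Surjective π := QuotientGroup.mk'_surjective Z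
  have hsolvQ : ¬ Group.IsSolvable (G ⧸ Z) := fun hq =>
    hns ((Group.isSolvable_iff_subgroup_quotient Z).2
      ⟨Group.isSolvable_of_comm fun a b => Subtype.ext (Subgroup.mem_center_iff.1 b.2 a), hq⟩)
  have hπ1 : ∀ a ∈ Z, π a = 1 := fun a ha => (QuotientGroup.eq_one_iff a).2 ha
  -- the decomposition in the quotient
  have hdec : ∀ (m : G) (p : ℕ), p.Prime → p ∣ orderOf (π m) →
      ∃ a : G, a ∉ Z ∧ Commute a m ∧ (∃ k, orderOf a = p ^ k) ∧ π m = π a := by
    intro m p hp hpm
    haveI := Fact.mk hp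
    obtain ⟨a, b, ha, hb, hab, hk, hbc⟩ := Cfsg.Lib.Transfer.exists_pPart p m
    obtain ⟨i, hi⟩ := ha
    obtain ⟨j, hj⟩ := hb
    have hcm : Commute a m := hi ▸ (Commute.refl m).zpow_left i
    have hcab : Commute a b := hi ▸ hj ▸ (Commute.refl m).zpow_zpow i j
    have haZ : a ∉ Z := fun haZ => by
      have e : π m = π b := by
        rw [← hab, map_mul, hπ1 a haZ, one_mul]
      rw [e] at hpm
      exact hp.coprime_iff_not_dvd.1 hbc.symm (hpm.trans (orderOf_map_dvd π b))
    have hbZ := hL a b haZ hcab p hp hk hbc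
    exact ⟨a, haZ, hcm, hk, by rw [← hab, map_mul, hπ1 b hbZ, mul_one]⟩
  refine hsolvQ (isSolvable_of_primePow_orders (fun x p hp hpx => ?_) fun p hp hpd P => ?_)
  · obtain ⟨m, rfl⟩ := hπ x
    obtain ⟨a, -, -, ⟨k, hk⟩, e⟩ := hdec m p hp hpx
    obtain ⟨j, -, hj⟩ := (Nat.dvd_prime_pow hp).1 (hk ▸ orderOf_map_dvd π a)
    exact ⟨j, e ▸ hj⟩
  · haveI := Fact.mk hp
    obtain ⟨xq, hxq⟩ := exists_prime_orderOf_dvd_card' p hpd
    obtain ⟨m, rfl⟩ := hπ xq
    obtain ⟨g, hgZ, -, ⟨k, hk⟩, -⟩ := hdec m p hp hxq.symm.dvd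
    set M := centralizer ({g} : Set G) with hMdef
    have hZM : Z ≤ M := Subgroup.center_le_centralizer _
    have hcomap : (M.map π).comap π = M := by
      rw [Subgroup.comap_map_eq, QuotientGroup.ker_mk', sup_eq_left.2 hZM]
    have hMc : IsCoatom (M.map π) := by
      refine ⟨fun e => (h g hgZ).1 (by rw [← hMdef, ← hcomap, e, Subgroup.comap_top]), fun L hlt => ?_⟩
      have := (h g hgZ).2 (L.comap π) (lt_of_eq_of_lt hcomap.symm ((Subgroup.comap_lt_comap_of_surjective hπ).2 hlt))
      exact Subgroup.comap_injective hπ (this.trans (Subgroup.comap_top π).symm)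
    have hMp : IsPGroup p (M.map π) := by
      rintro ⟨_, u, hu, rfl⟩
      obtain ⟨a, b, ha, hb, hab, ⟨j, hj⟩, hbc⟩ := Cfsg.Lib.Transfer.exists_pPart p u
      have hbM : b ∈ M := (zpowers_le.2 hu) hb
      have hbZ := hL g b hgZ (mem_centralizer_singleton_iff.1 hbM).symm p hp ⟨k, hk⟩ hbc
      refine ⟨j, Subtype.ext ?_⟩
      show (π u) ^ p ^ j = 1
      rw [← hab, map_mul, hπ1 b hbZ, mul_one, ← hj, ← map_pow, pow_orderOf_eq_one, map_one]
    obtain ⟨S, hS⟩ := hMp.exists_le_sylow
    have hSM : M.map π = (S : Subgroup (G ⧸ Z)) := by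
      refine (eq_or_lt_of_le hS).resolve_right fun hlt => hsolvQ ?_
      have htop := hMc.2 _ hlt
      have hp' : IsPGroup p (G ⧸ Z) := (htop ▸ S.2).of_equiv Subgroup.topEquiv
      haveI := hp'.isNilpotent
      infer_instance
    obtain ⟨c, hc⟩ := MulAction.exists_smul_eq (G ⧸ Z) S P
    rw [← hc, Cfsg.Lib.Transfer.sylow_smul_coe, ← hSM]
    exact (OrderIso.isCoatom_iff (MulEquiv.mapSubgroup (MulAut.conj c)) (M.map π)).2 hMc

end Cfsg.Lib.SolvStruct
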