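/-
No finite group has exactly fifteen Sylow 7-subgroups.
-/
import Cfsg.Agent.PermGen.AltPair
import Cfsg.Agent.Coprime.Sylow
import Cfsg.Agent.Coprime.Hall
import Cfsg.Agent.Transfer.Basic
import Cfsg.Agent.Transfer.IndexPrimeTo

set_option linter.style.haveILetI false
set_option linter.unusedSectionVars false

namespace Cfsg.Lib.SolvStruct

open Equiv Equiv.Perm MulAction Subgroup
open Cfsg.Lib.PermGen
open scoped Pointwise

universe u

theorem sylow_le_of_le_normalizer {G : Type*} [Group G] [Finite G] {p : ℕ} [Fact p.Prime] {U : Subgroup G}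
    (hU : IsPGroup p U) (Q : Sylow p G) (h : U ≤ normalizer (Q : Set G)) : U ≤ (Q : Subgroup G) := by
  have h' := hU.inf_normalizer_sylow Q
  rw [inf_eq_left.2 h] at h'
  exact h'.le.trans inf_le_right

theorem mem_normalizer_iff_smul {G : Type*} [Group G] {p : ℕ} (g : G) (Q : Sylow p G) :
    g • Q = Q ↔ g ∈ normalizer (Q : Set G) :=
  Sylow.smul_eq_iff_mem_normalizer

theorem not_simple_two_mul_odd {G : Type*} [Group G] [Finite G] [IsSimpleGroup G] {k : ℕ} (hk : Odd k)
    (hk1 : 1 < k) : Nat.card G ≠ 2 * k := by
  intro hG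
  set T : Set G := {g | Odd (orderOf g)}
  have hn : (closure T).Normal := normalizer_eq_top_iff.1 (eq_top_iff.2 fun g _ => by
    refine normalizer_le_normalizer_closure _ ?_
    rw [Subgroup.mem_set_normalizer_iff]
    intro h
    show Odd (orderOf h) ↔ Odd (orderOf (g * h * g⁻¹))
    rw [← MulAut.conj_apply, MulEquiv.orderOf_eq])
  rcases IsSimpleGroup.eq_bot_or_eq_top_of_normal (closure T) hn with h | h
  · obtain ⟨q, hq, hqd⟩ := Nat.exists_prime_and_dvd (Nat.ne_of_gt hk1)
    haveI := Fact.mk hq
    obtain ⟨g, hg⟩ := exists_prime_orderOf_dvd_card' q (hG ▸ hqd.trans (dvd_mul_left k 2) : q ∣ Nat.card G)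
    have : g ∈ closure T := subset_closure (show Odd (orderOf g) by
      rw [hg]; exact hk.of_dvd_nat hqd)
    rw [h, Subgroup.mem_bot] at this
    rw [this, orderOf_one] at hg
    exact hq.ne_one hg.symm
  · exact not_two_mul_odd_of_odd_generators hk hG T (fun t ht => ht) h

theorem not_simple_315 {G : Type*} [Group G] [Finite G] [IsSimpleGroup G] : Nat.card G ≠ 315 := by
  intro hG
  haveI : Fact (Nat.Prime 5) := ⟨by norm_num⟩
  obtain ⟨P⟩ : Nonempty (Sylow 5 G) := inferInstance
  have hPc : Nat.card (P : Subgroup G) = 5 := by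
    rw [P.card_eq_multiplicity, hG]
    have h1 : 1 ≤ (315 : ℕ).factorization 5 := Nat.Prime.factorization_pos_of_dvd (by norm_num) (by norm_num) (by norm_num)
    have h2 : (315 : ℕ).factorization 5 ≤ 1 := by
      by_contra hlt
      have := (Nat.pow_dvd_pow 5 (not_le.1 hlt)).trans (Nat.ordProj_dvd 315 5)
      norm_num at this
    rw [show (315 : ℕ).factorization 5 = 1 by omega, pow_one]
  have hN : normalizer (P : Set G) ≤ centralizer (P : Set G) := by
    intro u hu
    haveI : IsCyclic (P : Subgroup G) := isCyclic_of_prime_card hPc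
    have h4 : Nat.card (MulAut (P : Subgroup G)) = 4 := by
      rw [IsCyclic.card_mulAut, hPc, Nat.totient_prime (by norm_num)]
    have hker : (P : Subgroup G).normalizerMonoidHom ⟨u, hu⟩ = 1 := by
      rw [← orderOf_eq_one_iff]
      refine Nat.eq_one_of_dvd_coprimes (show Nat.Coprime 315 4 by norm_num)
        (((orderOf_map_dvd _ _).trans (dvd_of_eq (Subgroup.orderOf_mk _ _))).trans (hG ▸ orderOf_dvd_natCard u))
        (h4 ▸ orderOf_dvd_natCard _)
    have : (⟨u, hu⟩ : normalizer ((P : Subgroup G) : Set G)) ∈ (P : Subgroup G).normalizerMonoidHom.ker := hker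
    rw [Subgroup.normalizerMonoidHom_ker, Subgroup.mem_subgroupOf] at this
    exact this
  obtain ⟨L, hL, hmul, -⟩ := burnside_complement P hN
  rw [hPc, hG] at hmul
  rcases IsSimpleGroup.eq_bot_or_eq_top_of_normal L hL with h | h
  · rw [h, Subgroup.card_bot] at hmul; omega
  · rw [h, Subgroup.card_top, hG] at hmul; omega

/-- A normal subgroup fixing every Sylow subgroup does not change their number. -/
theorem card_sylow_quotient {G : Type*} [Group G] [Finite G] {p : ℕ} [Fact p.Prime] (K : Subgroup G) [K.Normal]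
    (hK : ∀ Q : Sylow p G, K ≤ normalizer (Q : Set G)) :
    Nat.card (Sylow p (G ⧸ K)) = Nat.card (Sylow p G) := by
  refine (Nat.card_congr (Equiv.ofBijective _ ⟨?_, Sylow.mapSurjective_surjective (QuotientGroup.mk'_surjective K) p⟩)).symm
  intro P Q h
  have h' : (P : Subgroup G).map (QuotientGroup.mk' K) = (Q : Subgroup G).map (QuotientGroup.mk' K) := by
    rw [← Sylow.coe_mapSurjective (QuotientGroup.mk'_surjective K), ← Sylow.coe_mapSurjective (QuotientGroup.mk'_surjective K), h]
  have hle : (Q : Subgroup G) ≤ normalizer (P : Set G) := by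
    have h2 := congrArg (Subgroup.comap (QuotientGroup.mk' K)) h'
    rw [Subgroup.comap_map_eq, Subgroup.comap_map_eq, QuotientGroup.ker_mk'] at h2
    exact (le_sup_left.trans h2.ge).trans (sup_le le_normalizer (hK P))
  exact Sylow.ext (Q.is_maximal' P.2 (sylow_le_of_le_normalizer Q.2 P hle))

variable {α : Type*} [Fintype α] [DecidableEq α]

/-- The even permutations of fifteen points do not have fifteen Sylow 7-subgroups fixing one point each. -/
theorem not_alt_le {G : Type*} [Group G] [Finite G] (φ : G →* Perm α) (hφ : Function.Injective φ) (hα : Fintype.card α = 15)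
    (halt : alternatingGroup α ≤ φ.range) {g : G} (hgo : orderOf g = 7) (hgs : (φ g).support.card = 7)
    (R : α → Subgroup G) (hRp : ∀ a, IsPGroup 7 (R a)) (hR : ∀ (a : α) (u : G), φ u a = a → ∀ w ∈ R a, u * w * u⁻¹ ∈ R a)
    (hgR : ∀ a, φ g a = a → g ∈ R a) : False := by
  haveI : Fact (Nat.Prime 7) := ⟨by norm_num⟩
  obtain ⟨a, ha⟩ := Finset.card_pos.1 (by omega : 0 < (φ g).support.card)
  have hfix : 1 < (φ g).supportᶜ.card := by rw [Finset.card_compl, hα, hgs]; norm_num
  obtain ⟨P₀, hP₀, e, he, hne⟩ := Finset.one_lt_card.1 hfix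
  rw [Finset.mem_compl, notMem_support] at hP₀ he
  set b := φ g a with hb
  have hba : b ≠ a := mem_support.1 ha
  have hea : e ≠ a := fun h => hba (by rw [hb, ← h, he])
  have heb : e ≠ b := fun h => by
    have : φ g e = φ g a := by rw [he, ← hb, h]
    exact hea ((φ g).injective this)
  have hPa : P₀ ≠ a := fun h => hba (by rw [hb, ← h, hP₀])
  have hPb : P₀ ≠ b := fun h => by
    have : φ g P₀ = φ g a := by rw [hP₀, ← hb, h]
    exact hPa ((φ g).injective this)
  set c := swap a b * swap b e with hc
  have hcsign : c ∈ alternatingGroup α := by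
    rw [mem_alternatingGroup, hc, map_mul, sign_swap hba.symm, sign_swap heb.symm]; rfl
  obtain ⟨u, hu⟩ := halt hcsign
  have huP : φ u P₀ = P₀ := by
    rw [hu, hc, Perm.mul_apply, swap_apply_of_ne_of_ne hPb hne, swap_apply_of_ne_of_ne hPa hPb]
  have hcomm : u * g * u⁻¹ * g⁻¹ ∈ R P₀ := mul_mem (hR P₀ u huP g (hgR _ hP₀)) (inv_mem (hgR _ hP₀))
  set w := φ (u * g * u⁻¹ * g⁻¹) with hw
  have hws : w.support.card ≤ 6 := by
    have h1 : w = c * (φ g * c⁻¹ * (φ g)⁻¹) := by rw [hw, map_mul, map_mul, map_mul, map_inv, map_inv, hu]; group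
    have hc3 : c.support.card ≤ 3 := by
      refine (Finset.card_le_card (fun z hz => ?_)).trans (Finset.card_le_three (a := a) (b := b) (c := e))
      simp only [Finset.mem_insert, Finset.mem_singleton]
      by_contra hno
      push Not at hno
      exact mem_support.1 hz (by rw [hc, Perm.mul_apply, swap_apply_of_ne_of_ne hno.2.1 hno.2.2, swap_apply_of_ne_of_ne hno.1 hno.2.1])
    rw [h1]
    refine (Finset.card_le_card (support_mul_le _ _)).trans ?_
    refine (Finset.card_union_le _ _).trans ?_
    have h2 : (φ g * c⁻¹ * (φ g)⁻¹).support.card = c.support.card := by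
      rw [card_support_conj, support_inv]
    omega
  have hw1 : u * g * u⁻¹ * g⁻¹ = 1 := by
    by_contra hne1
    obtain ⟨k, hk⟩ := IsPGroup.iff_orderOf.1 (hRp P₀) ⟨_, hcomm⟩
    rw [Subgroup.orderOf_mk] at hk
    have h7 : 7 ∣ orderOf (u * g * u⁻¹ * g⁻¹) := by
      rw [hk]; exact dvd_pow_self 7 fun h0 => hne1 (orderOf_eq_one_iff.1 (by rw [hk, h0, pow_zero]))
    rw [← orderOf_injective φ hφ, ← hw] at h7
    have hpow : orderOf (w ^ (orderOf w / 7)) = 7 := orderOf_pow_orderOf_div (orderOf_pos w).ne' h7
    obtain ⟨n, hn⟩ := support_card_of_prime (by norm_num) hpow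
    have := Finset.card_le_card (support_pow_le w (orderOf w / 7))
    omega
  have hcg : c * φ g = φ g * c := by
    rw [← hu, ← map_mul, ← map_mul]
    exact congrArg φ (mul_inv_eq_iff_eq_mul.1 (mul_inv_eq_one.1 hw1))
  have h1 : c e = a := by rw [hc, Perm.mul_apply, swap_apply_right, swap_apply_right]
  have h2 : c (φ g e) = φ g (c e) := DFunLike.congr_fun hcg e
  rw [he, h1, ← hb] at h2
  exact hba h2.symm

theorem card_sylow_seven_ne_fifteen_aux (n : ℕ) :
    ∀ (G : Type u) [Group G] [Finite G], Nat.card G = n → Nat.card (Sylow 7 G) ≠ 15 := by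
  classical
  haveI h7 : Fact (Nat.Prime 7) := ⟨by norm_num⟩
  induction n using Nat.strong_induction_on with
  | _ n ih =>
  intro G _ _ hn h15
  have hsub : ∀ L : Subgroup G, L ≠ ⊤ → Nat.card (Sylow 7 L) ≠ 15 := fun L hL =>
    ih _ (hn ▸ lt_of_le_of_ne (Subgroup.card_le_card_group L) fun h => hL (Subgroup.eq_top_of_card_eq L h)) L rfl
  have hquo : ∀ (N : Subgroup G) [N.Normal], N ≠ ⊥ → Nat.card (Sylow 7 (G ⧸ N)) ≠ 15 := fun N _ hN =>
    ih _ (hn ▸ Cfsg.Lib.Coprime.card_quotient_lt hN) _ rfl
  have hdiv : ∀ m : ℕ, m ∣ 15 → m ≡ 1 [MOD 7] → m = 1 ∨ m = 15 := by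
    intro m hm hmod
    have := Nat.le_of_dvd (by norm_num) hm
    unfold Nat.ModEq at hmod
    interval_cases m <;> revert hm hmod <;> decide
  set φ := MulAction.toPermHom G (Sylow 7 G) with hφdef
  have hker : φ.ker = ⊥ := by
    by_contra hK
    refine hquo φ.ker hK ((card_sylow_quotient φ.ker fun Q u hu => ?_).trans h15)
    exact Sylow.smul_eq_iff_mem_normalizer.1 (Equiv.congr_fun hu Q)
  have hφ : Function.Injective φ := (MonoidHom.ker_eq_bot_iff φ).1 hker
  have hno7 : ∀ U : Subgroup G, U.Normal → IsPGroup 7 U → U = ⊥ := by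
    intro U hU hUp
    rw [← le_bot_iff, ← hker]
    intro u hu
    refine Equiv.ext fun Q => ?_
    have hle : U ≤ (Q : Subgroup G) := by
      obtain ⟨R, hR⟩ := hUp.exists_le_sylow
      obtain ⟨g, hg⟩ := MulAction.exists_smul_eq G R Q
      intro v hv
      rw [← hg, Cfsg.Lib.Transfer.sylow_smul_coe]
      exact ⟨g⁻¹ * v * g, hR (by simpa using hU.conj_mem v hv g⁻¹), by simp [mul_assoc]⟩
    exact Sylow.smul_eq_iff_mem_normalizer.2 (le_normalizer (hle hu))
  obtain ⟨P⟩ : Nonempty (Sylow 7 G) := inferInstance
  have hNidx : (normalizer (P : Set G)).index = 15 := by rw [← P.card_eq_index_normalizer, h15]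
  haveI : Nontrivial G := by
    by_contra h
    rw [not_nontrivial_iff_subsingleton] at h
    have : (normalizer (P : Set G)) = ⊤ := Subsingleton.elim _ _
    rw [this, Subgroup.index_top] at hNidx
    omega
  have hsimple : IsSimpleGroup G := by
    refine ⟨fun M hM => ?_⟩
    by_contra hMne
    push Not at hMne
    obtain ⟨hMb, hMt⟩ := hMne
    haveI := hM
    by_cases h7M : 7 ∣ Nat.card M
    · -- Sylow subgroups of `M`
      obtain ⟨U⟩ : Nonempty (Sylow 7 M) := inferInstance
      set U' := (U : Subgroup M).map M.subtype with hU'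
      set NU := normalizer (U' : Set G)
      have hfr : NU ⊔ M = ⊤ := Sylow.normalizer_sup_eq_top U
      have hidx : NU.index = Nat.card (Sylow 7 M) := by
        have h1 := Cfsg.Lib.Coprime.card_sup_mul_card_inf (N := M) (H := NU) le_normalizer_of_normal
        rw [sup_comm, hfr, Subgroup.card_top] at h1
        have h2 : Nat.card (M ⊓ NU : Subgroup G) = Nat.card (normalizer (U : Set M)) := by
          have hA : ∀ v : M, v ∈ normalizer (U : Set M) → (v : G) ∈ M ⊓ NU := by
            intro v hv
            refine Subgroup.mem_inf.2 ⟨v.2, ?_⟩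
            rw [Subgroup.mem_normalizer_iff]
            intro z
            constructor
            · rintro ⟨w, hw, rfl⟩
              exact ⟨v * w * v⁻¹, (Subgroup.mem_normalizer_iff.1 hv w).1 hw, rfl⟩
            · rintro ⟨w, hw, e⟩
              refine ⟨v⁻¹ * w * v, (Subgroup.mem_normalizer_iff''.1 hv w).1 hw, ?_⟩
              simp only [map_mul, map_inv]
              rw [e]
              show (v : G)⁻¹ * ((v : G) * z * (v : G)⁻¹) * (v : G) = z
              group
          have hB : ∀ v : M, (v : G) ∈ NU → v ∈ normalizer (U : Set M) := by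
            intro v hv
            rw [Subgroup.mem_set_normalizer_iff]
            intro z
            have h3 := Subgroup.mem_normalizer_iff.1 hv (z : G)
            constructor
            · intro hz
              obtain ⟨w, hw, e⟩ := h3.1 ⟨z, hz, rfl⟩
              exact (Subtype.ext e : w = v * z * v⁻¹) ▸ hw
            · intro hz
              obtain ⟨w, hw, e⟩ := h3.2 ⟨_, hz, rfl⟩
              exact (Subtype.ext e : w = z) ▸ hw
          exact Nat.card_congr ⟨fun v => ⟨⟨v, (Subgroup.mem_inf.1 v.2).1⟩, hB _ (Subgroup.mem_inf.1 v.2).2⟩,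
            fun v => ⟨((v : M) : G), hA _ v.2⟩, fun v => rfl, fun v => rfl⟩
        rw [h2] at h1
        rw [U.card_eq_index_normalizer]
        have h4 := (normalizer (U : Set M)).card_mul_index
        have h5 := NU.card_mul_index
        refine Nat.eq_of_mul_eq_mul_left (Nat.mul_pos (Nat.card_pos (α := NU)) (Nat.card_pos (α := normalizer (U : Set M)))) ?_
        calc Nat.card NU * Nat.card (normalizer (U : Set M)) * NU.index
            = (Nat.card NU * NU.index) * Nat.card (normalizer (U : Set M)) := by ring
          _ = Nat.card M * Nat.card NU := by rw [h5, h1]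
          _ = _ := by rw [← h4]; ring
      have hP : normalizer (P : Set G) ≤ normalizer (((P : Subgroup G) ⊓ M : Subgroup G) : Set G) :=
        Cfsg.Lib.Coprime.le_normalizer_inf le_rfl le_normalizer_of_normal
      obtain ⟨U₁, hU₁⟩ : ∃ U₁ : Sylow 7 M, (U₁ : Subgroup M).map M.subtype = (P : Subgroup G) ⊓ M := by
        obtain ⟨V, hV⟩ := Cfsg.Lib.Transfer.exists_sylow_subgroupOf P M
        exact ⟨V, by rw [hV, Subgroup.subgroupOf_map_subtype]⟩
      have hidx' : (normalizer (((P : Subgroup G) ⊓ M : Subgroup G) : Set G)).index = Nat.card (Sylow 7 M) := by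
        rw [← hidx]
        obtain ⟨m, hm⟩ := MulAction.exists_smul_eq M U U₁
        rw [← hU₁, ← hm, Cfsg.Lib.Coprime.map_subtype_smul, Cfsg.Lib.Coprime.normalizer_conjMap]
        exact Subgroup.index_map_equiv _ (MulAut.conj (m : G))
      have hdvd : Nat.card (Sylow 7 M) ∣ 15 := by
        rw [← hidx', ← hNidx]; exact Subgroup.index_dvd_of_le hP
      rcases hdiv _ hdvd (card_sylow_modEq_one 7 M) with h1 | h1
      · rw [← hidx, Subgroup.index_eq_one] at h1
        have := hno7 U' (normalizer_eq_top_iff.1 h1) (U.2.map _)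
        rw [hU', Subgroup.map_eq_bot_iff_of_injective _ M.subtype_injective] at this
        have h2 := Sylow.dvd_card_of_dvd_card U h7M
        rw [this, Subgroup.card_bot] at h2
        norm_num at h2
      · exact hsub M hMt h1
    · -- `M` has order prime to seven
      have hcopM : (Nat.card M).Coprime 7 := ((Nat.Prime.coprime_iff_not_dvd (by norm_num)).2 h7M).symm
      set L := M ⊔ (P : Subgroup G)
      by_cases hLn : L.Normal
      · by_cases hLt : L = ⊤
        · set C := M ⊓ normalizer (P : Set G) with hC
          have hcard := Cfsg.Lib.Coprime.card_sup_mul_card_inf (N := M) (H := normalizer (P : Set G)) le_normalizer_of_normal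
          have htop : M ⊔ normalizer (P : Set G) = ⊤ := eq_top_iff.2 (hLt.ge.trans (sup_le_sup_left le_normalizer M))
          rw [htop, Subgroup.card_top, ← hC] at hcard
          have hMC : Nat.card M = 15 * Nat.card C := by
            have h1 := (normalizer (P : Set G)).card_mul_index
            rw [hNidx] at h1
            refine Nat.eq_of_mul_eq_mul_left (Nat.card_pos (α := normalizer (P : Set G))) ?_
            rw [mul_comm _ (Nat.card M), ← hcard, ← h1]; ring
          haveI : Fact (Nat.Prime 3) := ⟨by norm_num⟩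
          have hPM : (P : Subgroup G) ≤ normalizer (M : Set G) := le_normalizer_of_normal
          haveI := P.2.isNilpotent
          have hcop : (Nat.card (P : Subgroup G)).Coprime (Nat.card M) := by
            obtain ⟨j, hj⟩ := P.2.exists_card_eq
            rw [hj]; exact (hcopM.pow_right j).symm
          obtain ⟨S, hS⟩ := Cfsg.Lib.Coprime.exists_invariant_sylow hPM hcop (Or.inl inferInstance) 3
          set S' := (S : Subgroup M).map M.subtype with hS'
          letI : MulAction (P : Subgroup G) S' :=
            { smul := fun a s => ⟨(a : G) * s * (a : G)⁻¹, (Subgroup.mem_normalizer_iff.1 (hS a.2) _).1 s.2⟩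
              one_smul := fun s => Subtype.ext (by show (1 : G) * s * 1⁻¹ = s; simp)
              mul_smul := fun a b s => Subtype.ext (by
                show ((a : G) * b) * s * ((a : G) * b)⁻¹ = (a : G) * ((b : G) * s * (b : G)⁻¹) * (a : G)⁻¹
                group) }
          have hmod := P.2.card_modEq_card_fixedPoints S'
          have hfix : Nat.card (fixedPoints (P : Subgroup G) S') = Nat.card (S' ⊓ C : Subgroup G) := by
            refine Nat.card_congr ⟨fun s => ⟨(s.1 : G), Subgroup.mem_inf.2 ⟨s.1.2, Subgroup.mem_inf.2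
              ⟨Subgroup.map_subtype_le _ s.1.2, Subgroup.centralizer_le_normalizer _ ?_⟩⟩⟩,
              fun s => ⟨⟨s, (Subgroup.mem_inf.1 s.2).1⟩, ?_⟩, fun s => rfl, fun s => rfl⟩
            · intro a ha
              exact (mul_inv_eq_iff_eq_mul.1 (congrArg Subtype.val (s.2 ⟨a, ha⟩)))
            · intro a
              refine Subtype.ext ?_
              show (a : G) * s * (a : G)⁻¹ = s
              obtain ⟨hsM, hsN⟩ := Subgroup.mem_inf.1 (Subgroup.mem_inf.1 s.2).2
              have h1 : (s : G) * a * (s : G)⁻¹ * (a : G)⁻¹ ∈ M ⊓ (P : Subgroup G) := Subgroup.mem_inf.2 ⟨by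
                  rw [show (s : G) * a * (s : G)⁻¹ * (a : G)⁻¹ = (s : G) * ((a : G) * (s : G)⁻¹ * (a : G)⁻¹) by group]
                  exact mul_mem hsM (hM.conj_mem _ (inv_mem hsM) a),
                mul_mem ((Subgroup.mem_normalizer_iff.1 hsN _).1 a.2) (inv_mem a.2)⟩
              rw [Cfsg.Lib.Coprime.inf_eq_bot_of_coprime hcop.symm, Subgroup.mem_bot, mul_inv_eq_one,
                mul_inv_eq_iff_eq_mul] at h1
              rw [← h1, mul_inv_cancel_right]
          rw [hfix] at hmod
          obtain ⟨a₁, ha₁⟩ := (S.2.map M.subtype).exists_card_eq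
          obtain ⟨b₁, hb₁⟩ := ((S.2.map M.subtype).to_le (inf_le_left : S' ⊓ C ≤ S')).exists_card_eq
          rw [← hS'] at ha₁
          rw [ha₁, hb₁] at hmod
          have hb_le : b₁ ≤ a₁ := (Nat.pow_dvd_pow_iff_le_right (x := 3) (by norm_num)).1
            (by rw [← ha₁, ← hb₁]; exact Subgroup.card_dvd_of_le inf_le_left)
          have hS3 : 3 ^ a₁ = 3 ^ (Nat.card M).factorization 3 := by
            rw [← ha₁, hS', Subgroup.card_map_of_injective M.subtype_injective, S.card_eq_multiplicity]
          have ha3 : a₁ = (Nat.card M).factorization 3 := Nat.pow_right_injective (by norm_num : 2 ≤ 3) hS3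
          have hC3 : (Nat.card C).factorization 3 + 1 = a₁ := by
            rw [ha3, hMC, Nat.factorization_mul (by norm_num) Nat.card_pos.ne', Finsupp.add_apply,
              show (15 : ℕ) = 3 * 5 from rfl, Nat.factorization_mul (by norm_num) (by norm_num), Finsupp.add_apply,
              Nat.Prime.factorization_self (by norm_num), Nat.factorization_eq_zero_of_not_dvd (by norm_num : ¬ 3 ∣ 5)]
            omega
          have hb_lt : b₁ < a₁ := by
            have : 3 ^ b₁ ∣ Nat.card C := hb₁ ▸ Subgroup.card_dvd_of_le inf_le_right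
            have := (Nat.Prime.pow_dvd_iff_le_factorization (by norm_num) Nat.card_pos.ne').1 this
            omega
          have hle15 : 3 ^ a₁ * Nat.card C ≤ Nat.card M * 3 ^ b₁ := by
            have hcm : ∀ {A B : Subgroup G}, A ≤ B → Nat.card A * A.relIndex B = Nat.card B := fun {A B} h => by
              rw [← relIndex_bot_left, relIndex_mul_relIndex _ _ _ bot_le h, relIndex_bot_left]
            have h1 := Subgroup.relIndex_le_of_le_right (H := C) (Subgroup.map_subtype_le (S : Subgroup M))
              (show C.relIndex M ≠ 0 from Subgroup.index_ne_zero_of_finite)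
            rw [← Subgroup.inf_relIndex_right] at h1
            have e1 := hcm (inf_le_right : C ⊓ S' ≤ S')
            have e2 := hcm (inf_le_left : C ≤ M)
            rw [inf_comm] at hb₁
            rw [hb₁, ha₁] at e1
            calc 3 ^ a₁ * Nat.card C = 3 ^ b₁ * (C ⊓ S').relIndex S' * Nat.card C := by rw [e1]
              _ ≤ 3 ^ b₁ * C.relIndex M * Nat.card C := Nat.mul_le_mul_right _ (Nat.mul_le_mul_left _ h1)
              _ = _ := by rw [← e2]; ring
          rw [hMC] at hle15
          obtain ⟨d, rfl⟩ := Nat.exists_eq_add_of_lt hb_lt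
          have h15' : 3 ^ (d + 1) ≤ 15 := by
            refine Nat.le_of_mul_le_mul_right ?_ (Nat.mul_pos (pow_pos (by norm_num : 0 < 3) b₁) (Nat.card_pos (α := C)))
            calc 3 ^ (d + 1) * (3 ^ b₁ * Nat.card C) = 3 ^ (b₁ + d + 1) * Nat.card C := by ring
              _ ≤ 15 * Nat.card C * 3 ^ b₁ := hle15
              _ = _ := by ring
          have hd : d ≤ 1 := by
            by_contra hd
            have : 3 ^ 3 ≤ 3 ^ (d + 1) := Nat.pow_le_pow_right (by norm_num) (by omega)
            omega
          have hcop3 : Nat.Coprime 7 (3 ^ b₁) := (Nat.Coprime.pow_right _ (by norm_num))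
          have h1 : 3 ^ (d + 1) ≡ 1 [MOD 7] := by
            refine Nat.ModEq.cancel_left_of_coprime hcop3 ?_
            rw [← pow_add, mul_one]
            exact hmod
          interval_cases d <;> revert h1 <;> decide
        · refine hsub L hLt ?_
          have hall : ∀ Q : Sylow 7 G, (Q : Subgroup G) ≤ L := fun Q => by
            obtain ⟨g, hg⟩ := MulAction.exists_smul_eq G P Q
            rw [← hg, Cfsg.Lib.Transfer.sylow_smul_coe]
            rintro _ ⟨v, hv, rfl⟩
            exact hLn.conj_mem v ((le_sup_right : (P : Subgroup G) ≤ L) hv) g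
          rw [← h15]
          refine (Nat.card_congr (Equiv.ofBijective (fun Q : Sylow 7 G => Q.subtype (hall Q)) ⟨fun Q R h => ?_, fun R => ?_⟩)).symm
          · exact Sylow.subtype_injective h
          · obtain ⟨Q, hQ⟩ := R.exists_comap_subtype_eq
            exact ⟨Q, Sylow.ext hQ⟩
      · refine hquo M hMb ?_
        set Pb := P.mapSurjective (QuotientGroup.mk'_surjective M)
        have hdvd : Nat.card (Sylow 7 (G ⧸ M)) ∣ 15 := by
          rw [Pb.card_eq_index_normalizer, ← hNidx,
            ← Subgroup.index_comap_of_surjective _ (QuotientGroup.mk'_surjective M)]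
          refine Subgroup.index_dvd_of_le fun v hv => ?_
          have := Subgroup.le_normalizer_map (QuotientGroup.mk' M) ⟨v, hv, rfl⟩
          exact this
        rcases hdiv _ hdvd (card_sylow_modEq_one 7 _) with h1 | h1
        · exfalso
          apply hLn
          rw [Pb.card_eq_index_normalizer, Subgroup.index_eq_one] at h1
          have hn' : ((P : Subgroup G).map (QuotientGroup.mk' M)).Normal := normalizer_eq_top_iff.1 h1
          have := hn'.comap (QuotientGroup.mk' M)
          rwa [Subgroup.comap_map_eq, QuotientGroup.ker_mk', sup_comm] at this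
        · exact h1
  haveI := hsimple
  haveI : Fintype (Sylow 7 G) := Fintype.ofFinite _
  have hα : Fintype.card (Sylow 7 G) = 15 := by rw [← Nat.card_eq_fintype_card, h15]
  have hevn : ∀ g, sign (φ g) = 1 := by
    rcases IsSimpleGroup.eq_bot_or_eq_top_of_normal _ (MonoidHom.normal_ker (sign.comp φ)) with h | h
    · exfalso
      have h1 := Subgroup.card_dvd_of_injective _ ((MonoidHom.ker_eq_bot_iff _).1 h)
      rw [Nat.card_eq_fintype_card (α := ℤˣ), Fintype.card_units_int] at h1
      have h2 := (normalizer (P : Set G)).index_dvd_card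
      rw [hNidx] at h2
      have := Nat.le_of_dvd (by norm_num) (h2.trans h1)
      omega
    · exact fun g => h.ge (Subgroup.mem_top g)
  have hfixR : ∀ (Q : Sylow 7 G) (g : G), φ g Q = Q → (∃ k, orderOf g = 7 ^ k) → g ∈ (Q : Subgroup G) := by
    intro Q g hg hk
    obtain ⟨k, hk⟩ := hk
    exact sylow_le_of_le_normalizer (IsPGroup.of_card ((Nat.card_zpowers g).trans hk)) Q
      (zpowers_le.2 (Sylow.smul_eq_iff_mem_normalizer.1 hg)) (mem_zpowers g)
  -- no element of order seven has support seven
  have hno : ∀ g : G, orderOf g = 7 → (φ g).support.card ≠ 7 := by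
    intro g hgo hgs
    haveI : IsPretransitive φ.range (Sylow 7 G) := ⟨fun Q R => by
      obtain ⟨u, hu⟩ := MulAction.exists_smul_eq G Q R
      exact ⟨⟨φ u, u, rfl⟩, hu⟩⟩
    obtain ⟨hc, -⟩ := isCycle_facts (show Nat.Prime 7 by norm_num)
      ((orderOf_injective φ hφ g).trans hgo) (by omega)
    set Y : φ.range := ⟨φ g, g, rfl⟩
    have hprim : IsPreprimitive φ.range (Sylow 7 G) := by
      constructor
      intro B₀ hB₀
      by_contra htriv
      simp only [IsTrivialBlock, not_or, Set.not_subsingleton_iff] at htriv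
      obtain ⟨⟨b₁, hb₁, b₂, hb₂, hb⟩, huniv⟩ := htriv
      obtain ⟨a₀, ha₀⟩ := Finset.card_pos.1 (hgs.trans_gt (by norm_num))
      obtain ⟨v, hv⟩ := exists_smul_eq φ.range b₁ a₀
      set B := v • B₀ with hBdef
      have hB : IsBlock φ.range B := hB₀.translate v
      have ha₀B : a₀ ∈ B := ⟨b₁, hb₁, hv⟩
      have hdvd : B.ncard ∣ 15 := by
        have := hB.ncard_dvd_card ⟨a₀, ha₀B⟩
        rwa [Nat.card_eq_fintype_card, hα] at this
      have hB2 : 2 ≤ B.ncard := by
        rw [hBdef, Set.ncard_smul_set]
        exact (Set.one_lt_ncard (Set.toFinite _)).2 ⟨b₁, hb₁, b₂, hb₂, hb⟩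
      have hBne : B.ncard ≠ 15 := fun e => huniv (by
        rw [hBdef, Set.ncard_smul_set] at e
        exact Set.eq_of_subset_of_ncard_le (Set.subset_univ _) (by rw [Set.ncard_univ, e, h15]) (Set.toFinite _))
      have hB35 : B.ncard = 3 ∨ B.ncard = 5 := by
        have := Nat.le_of_dvd (by norm_num) hdvd
        interval_cases hBn : B.ncard <;> revert hdvd <;> simp_all
      by_cases hfix : Y • B = B
      · have hsub : ↑(φ g).support ⊆ B := fun b hb' => by
          obtain ⟨i, hi⟩ := hc.sameCycle (mem_support.1 ha₀) (mem_support.1 (Finset.mem_coe.1 hb'))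
          have hYi : Y ^ i • B = B := (stabilizer φ.range B).zpow_mem (mem_stabilizer_iff.2 hfix) i
          rw [← hi, ← hYi]
          exact ⟨a₀, ha₀B, rfl⟩
        have h3 := Set.ncard_le_ncard hsub (Set.toFinite _)
        rw [Set.ncard_coe_finset, hgs] at h3
        omega
      · have hYo : orderOf Y = 7 := by
          exact (Subgroup.orderOf_coe Y).symm.trans ((orderOf_injective φ hφ g).trans hgo)
        have key : ∀ i j : ℕ, i < j → j < 7 → Disjoint (Y ^ i • B) (Y ^ j • B) := by
          intro i j hij hj
          rcases isBlock_iff_smul_eq_smul_or_disjoint.1 hB (Y ^ i) (Y ^ j) with e | e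
          · exfalso
            apply hfix
            have hst : Y ^ (j - i) ∈ stabilizer φ.range B := by
              rw [mem_stabilizer_iff, pow_sub _ hij.le, (Commute.pow_pow_self Y j i).inv_right.eq, mul_smul, ← e,
                inv_smul_smul]
            have hcop : (j - i).Coprime 7 :=
              ((Nat.Prime.coprime_iff_not_dvd (by norm_num)).2 (Nat.not_dvd_of_pos_of_lt (by omega) (by omega))).symm
            obtain ⟨m, -, hm⟩ := Nat.exists_mul_mod_eq_one_of_coprime hcop (by norm_num)
            have : Y = (Y ^ (j - i)) ^ m := by rw [← pow_mul, ← pow_mod_orderOf, hYo, hm, pow_one]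
            rw [this]
            exact mem_stabilizer_iff.1 (pow_mem hst m)
          · exact e
        let f : Fin 7 × B → Sylow 7 G := fun t => Y ^ (t.1 : ℕ) • (t.2 : Sylow 7 G)
        have hf : Function.Injective f := by
          rintro ⟨i, u⟩ ⟨j, w⟩ e
          have hmem : ∀ (i : Fin 7) (u : B), f (i, u) ∈ Y ^ (i : ℕ) • B := fun i u => Set.smul_mem_smul_set u.2
          rcases lt_trichotomy (i : ℕ) (j : ℕ) with hlt | heq | hlt
          · exact absurd (e ▸ hmem j w) (Set.disjoint_left.1 (key i j hlt j.2) (hmem i u))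
          · have := Fin.ext heq
            subst this
            have e' : u = w := Subtype.ext (smul_left_cancel _ e)
            rw [e']
          · exact absurd (e ▸ hmem j w) (Set.disjoint_right.1 (key j i hlt i.2) (hmem i u))
        have h1 := Nat.card_le_card_of_injective f hf
        rw [Nat.card_prod, Nat.card_eq_fintype_card (α := Fin 7), Fintype.card_fin, Nat.card_coe_set_eq, h15] at h1
        omega
    have halt := alternatingGroup_le_of_prime_cycle hprim hc ⟨g, rfl⟩ (by rw [hgs]; norm_num) (Or.inr (by omega))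
    exact not_alt_le φ hφ hα halt hgo hgs (fun Q => (Q : Subgroup G)) (fun Q => Q.2)
      (fun Q u hu w hw => (Subgroup.mem_normalizer_iff.1 (Sylow.smul_eq_iff_mem_normalizer.1 hu) w).1 hw)
      fun Q hQ => hfixR Q g hQ ⟨1, by rw [hgo, pow_one]⟩
  have h14 : ∀ g : G, orderOf g = 7 → (φ g).support.card = 14 := fun g hgo => by
    obtain ⟨m, hm⟩ := support_card_of_prime (show Nat.Prime 7 by norm_num) ((orderOf_injective φ hφ g).trans hgo)
    have := Finset.card_le_univ (φ g).support
    rw [hα] at this
    have := hno g hgo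
    omega
  have hPfix : ∀ g : (P : Subgroup G), φ g P = P := fun g =>
    Sylow.smul_eq_iff_mem_normalizer.2 (le_normalizer g.2)
  obtain ⟨j, hj⟩ := P.2.exists_card_eq
  have hP7 : Nat.card (P : Subgroup G) = 7 := by
    rcases Nat.lt_or_ge j 2 with hj2 | hj2
    · rcases Nat.lt_or_ge j 1 with hj0 | hj0
      · exfalso
        have hb : (P : Subgroup G) = ⊥ := Subgroup.card_eq_one.1 (by rw [hj, show j = 0 by omega, pow_zero])
        have htop : normalizer (P : Set G) = ⊤ := by
          refine eq_top_iff.2 fun g _ => Subgroup.mem_normalizer_iff.2 fun z => ?_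
          show z ∈ (P : Subgroup G) ↔ g * z * g⁻¹ ∈ (P : Subgroup G)
          rw [hb, Subgroup.mem_bot, Subgroup.mem_bot, conj_eq_one_iff]
        rw [htop, Subgroup.index_top] at hNidx
        omega
      · rw [hj, show j = 1 by omega, pow_one]
    · exfalso
      haveI : Nontrivial (P : Subgroup G) := (Finite.one_lt_card_iff_nontrivial).1
        (hj ▸ Nat.one_lt_pow (by omega) (by norm_num))
      haveI : Nontrivial (Sylow 7 G) := Finite.one_lt_card_iff_nontrivial.1 (by rw [h15]; norm_num)
      obtain ⟨Q, hQ⟩ := exists_ne P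
      have hidx : (stabilizer (P : Subgroup G) Q).index ≤ 14 := by
        rw [MulAction.index_stabilizer]
        have hsub : orbit (P : Subgroup G) Q ⊆ {P}ᶜ := by
          rintro _ ⟨u, rfl⟩ he
          exact hQ ((φ (u : G)).injective ((he : φ (u : G) Q = P).trans (hPfix u).symm))
        refine (Set.ncard_le_ncard hsub (Set.toFinite _)).trans ?_
        have := Set.ncard_add_ncard_compl ({P} : Set (Sylow 7 G))
        rw [Set.ncard_singleton, h15] at this
        omega
      have h1 := (stabilizer (P : Subgroup G) Q).card_mul_index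
      have h49 : 49 ≤ Nat.card (P : Subgroup G) :=
        hj ▸ (by norm_num : 49 = 7 ^ 2).le.trans (Nat.pow_le_pow_right (by norm_num) hj2)
      haveI : Nontrivial (stabilizer (P : Subgroup G) Q) := Finite.one_lt_card_iff_nontrivial.1 (by nlinarith)
      obtain ⟨k, hk0, hk⟩ := (P.2.to_subgroup (stabilizer (P : Subgroup G) Q)).nontrivial_iff_card.1 inferInstance
      obtain ⟨w, hw⟩ := exists_prime_orderOf_dvd_card' (G := stabilizer (P : Subgroup G) Q) 7
        (by rw [hk]; exact dvd_pow_self 7 (by omega))
      have hwo : orderOf ((w : (P : Subgroup G)) : G) = 7 := by rw [Subgroup.orderOf_coe, Subgroup.orderOf_coe, hw]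
      have h2 : (φ ((w : (P : Subgroup G)) : G)).support ⊆ {P, Q}ᶜ := by
        intro R hR
        rw [Finset.mem_compl, Finset.mem_insert, Finset.mem_singleton]
        rintro (rfl | rfl)
        · exact mem_support.1 hR (hPfix _)
        · exact mem_support.1 hR (mem_stabilizer_iff.1 w.2)
      have := Finset.card_le_card h2
      rw [Finset.card_compl, Finset.card_pair hQ.symm, hα, h14 _ hwo] at this
      omega
  haveI : Fact (Nat.card (P : Subgroup G)).Prime := ⟨by rw [hP7]; norm_num⟩
  haveI : IsCyclic (P : Subgroup G) := isCyclic_of_prime_card hP7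
  obtain ⟨x, hx⟩ := exists_prime_orderOf_dvd_card' (G := (P : Subgroup G)) 7 (dvd_of_eq hP7.symm)
  have hxo : orderOf (φ (x : G)) = 7 := by rw [orderOf_injective φ hφ, Subgroup.orderOf_coe, hx]
  have hxs := h14 (x : G) (by rw [Subgroup.orderOf_coe, hx])
  have hxfix : (φ (x : G)).supportᶜ = {P} := by
    refine (Finset.eq_singleton_or_nontrivial (Finset.mem_compl.2 (notMem_support.2 (hPfix x)))).resolve_right ?_
    intro hnt
    have := Finset.one_lt_card_iff_nontrivial.2 hnt
    rw [Finset.card_compl, hα, hxs] at this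
    omega
  -- the centraliser of `P` is `P`
  have hcent : ∀ u : G, Commute u (x : G) → u ∈ (P : Subgroup G) := by
    intro u hu
    have hcp : Commute (φ u) (φ (x : G)) := hu.map φ
    have huP : φ u P = P := by
      have h1 : φ (x : G) (φ u P) = φ u P := by rw [← Perm.mul_apply, ← hcp.eq, Perm.mul_apply, hPfix]
      have h2 : φ u P ∈ (φ (x : G)).supportᶜ := Finset.mem_compl.2 (notMem_support.2 h1)
      rwa [hxfix, Finset.mem_singleton] at h2
    have hu14 : u ^ 14 = 1 := by
      refine hφ (Equiv.ext fun R => ?_)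
      rw [map_pow, map_one, Perm.one_apply]
      by_cases hR : R ∈ (φ (x : G)).support
      · exact pow_apply_eq_of_commute_two_orbits hxo hxs hcp R hR
      · have : R = P := Finset.mem_singleton.1 (hxfix.le (Finset.mem_compl.2 hR))
        subst this
        exact Perm.pow_apply_eq_self_of_apply_eq_self huP 14
    have hu7 : u ^ 7 = 1 := by
      by_contra hne
      set v := φ (u ^ 7) with hv
      have hv2 : orderOf v = 2 := orderOf_eq_prime (by rw [hv, ← map_pow, ← pow_mul, hu14, map_one])
        (fun e => hne (hφ (e.trans (map_one φ).symm)))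
      have hcv : Commute v (φ (x : G)) := by rw [hv, map_pow]; exact hcp.pow_left 7
      have hinv : ∀ R, φ (x : G) R ∈ v.support ↔ R ∈ v.support := fun R => by
        rw [mem_support, mem_support, ← Perm.mul_apply, hcv.eq, Perm.mul_apply]
        exact (φ (x : G)).injective.ne_iff
      have hsub : v.support ⊆ (φ (x : G)).support := fun R hR => by
        by_contra h
        have : R = P := Finset.mem_singleton.1 (hxfix.le (Finset.mem_compl.2 h))
        subst this
        exact mem_support.1 hR (by rw [hv, map_pow]; exact Perm.pow_apply_eq_self_of_apply_eq_self huP 7)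
      let x' : Perm {R // R ∈ v.support} := (φ (x : G)).subtypePerm hinv
      have hsupp : x'.support = Finset.univ := Finset.eq_univ_iff_forall.2 fun R =>
        mem_support.2 fun e => mem_support.1 (hsub R.2) (congrArg Subtype.val e)
      obtain ⟨m, hm⟩ := cycleType_prime_order (hv2.symm ▸ Nat.prime_two : (orderOf v).Prime)
      rw [hv2] at hm
      have hvs : v.support.card = 2 * (m + 1) := by
        rw [← v.sum_cycleType, hm, Multiset.sum_replicate, smul_eq_mul, mul_comm]
      have hx'7 : x' ^ 7 = 1 := by
        refine Equiv.ext fun R => Subtype.ext ?_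
        have h77 : φ (x : G) ^ 7 = 1 := orderOf_dvd_iff_pow_eq_one.1 hxo.dvd
        rw [Perm.subtypePerm_pow]
        show (φ (x : G) ^ 7) R.1 = R.1
        rw [h77]; rfl
      have hx'o : orderOf x' = 7 := orderOf_eq_prime hx'7 fun e => by
        have : x'.support = ∅ := by rw [e, support_one]
        rw [hsupp, Finset.univ_eq_empty_iff] at this
        have h0 : v.support.card = 0 := by
          rw [Finset.card_eq_zero, Finset.eq_empty_iff_forall_notMem]
          exact fun R hR => this.false ⟨R, hR⟩
        omega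
      obtain ⟨l, hl⟩ := support_card_of_prime (show Nat.Prime 7 by norm_num) hx'o
      rw [hsupp, Finset.card_univ, Fintype.card_coe] at hl
      have := Finset.card_le_card hsub
      rw [hxs] at this
      have hm7 : m + 1 = 7 := by omega
      have hsgn := hevn (u ^ 7)
      rw [← hv, sign_of_cycleType, hm, hm7] at hsgn
      revert hsgn
      simp only [Multiset.sum_replicate, Multiset.card_replicate]
      decide
    refine hfixR P u huP ?_
    obtain ⟨k, -, hk⟩ := (Nat.dvd_prime_pow (show Nat.Prime 7 by norm_num)).1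
      (show orderOf u ∣ 7 ^ 1 by rw [pow_one]; exact orderOf_dvd_of_pow_eq_one hu7)
    exact ⟨k, hk⟩
  set N := normalizer (P : Set G)
  set ψ := (P : Subgroup G).normalizerMonoidHom
  have hψker : ψ.ker = (P : Subgroup G).subgroupOf N := by
    rw [Subgroup.normalizerMonoidHom_ker]
    refine le_antisymm (fun u hu => ?_) fun u hu => ?_
    · exact hcent u.1 (Subgroup.mem_centralizer_iff.1 (Subgroup.mem_subgroupOf.1 hu) x x.2).symm
    · rw [Subgroup.mem_subgroupOf, Subgroup.mem_centralizer_iff]
      intro z hz
      exact congrArg Subtype.val (IsMulCommutative.is_comm.comm (⟨z, hz⟩ : (P : Subgroup G)) ⟨u, hu⟩)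
  have hk6 : Nat.card N ∣ 7 * 6 := by
    have h1 := ψ.ker.card_mul_index
    have hc : Nat.card ((P : Subgroup G).subgroupOf N) = 7 :=
      (Nat.card_congr (Subgroup.subgroupOfEquivOfLe (le_normalizer : (P : Subgroup G) ≤ N)).toEquiv).trans hP7
    have hc' : Nat.card ψ.ker = 7 := (Nat.card_congr (MulEquiv.subgroupCongr hψker).toEquiv).trans hc
    rw [hc'] at h1
    have h2 : 7 * ψ.ker.index = Nat.card N := h1
    rw [← h2]
    refine Nat.mul_dvd_mul_left 7 ?_
    rw [Subgroup.index_ker]
    have := Subgroup.card_subgroup_dvd_card ψ.range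
    rwa [IsCyclic.card_mulAut, hP7, Nat.totient_prime (show Nat.Prime 7 by norm_num)] at this
  have h7N : 7 ∣ Nat.card N := hP7 ▸ Subgroup.card_dvd_of_le le_normalizer
  obtain ⟨k, hk⟩ := h7N
  rw [hk] at hk6
  have hk6' : k ∣ 6 := (Nat.mul_dvd_mul_iff_left (by norm_num)).1 hk6
  have hG : Nat.card G = 105 * k := by
    have := N.card_mul_index
    rw [hNidx, hk] at this
    omega
  have hk1 : k ≠ 1 := fun h1 => by
    have hNC : N ≤ centralizer (P : Set G) := by
      have hNP : N = (P : Subgroup G) := (Subgroup.eq_of_le_of_card_ge le_normalizer (by show Nat.card N ≤ _; rw [hk, h1, hP7])).symm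
      rw [hNP]
      intro u hu z hz
      exact congrArg Subtype.val (IsMulCommutative.is_comm.comm (⟨z, hz⟩ : (P : Subgroup G)) ⟨u, hu⟩)
    obtain ⟨L, hL, hmul, -⟩ := burnside_complement P hNC
    rw [hP7, hG, h1] at hmul
    rcases IsSimpleGroup.eq_bot_or_eq_top_of_normal L hL with h | h
    · rw [h, Subgroup.card_bot] at hmul; omega
    · rw [h, Subgroup.card_top, hG, h1] at hmul; omega
  have hkle := Nat.le_of_dvd (by norm_num) hk6'
  interval_cases k
  · omega
  · omega
  · exact not_simple_two_mul_odd (k := 105) (by decide) (by norm_num) (by rw [hG])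
  · exact not_simple_315 (by rw [hG])
  · norm_num at hk6'
  · norm_num at hk6'
  · exact not_simple_two_mul_odd (k := 315) (by decide) (by norm_num) (by rw [hG])

theorem card_sylow_seven_ne_fifteen {G : Type u} [Group G] [Finite G] : Nat.card (Sylow 7 G) ≠ 15 :=
  card_sylow_seven_ne_fifteen_aux _ G rfl

end Cfsg.Lib.SolvStruct
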