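/-
Left Engel elements of a finite group lie in the Fitting subgroup.
-/
import Cfsg.Agent.SolvStruct.Criterion
import Cfsg.Agent.Components.GenFitting
import Cfsg.Agent.S0064

set_option linter.style.haveILetI false
set_option linter.unusedSectionVars false

namespace Cfsg.Lib.SolvStruct

open Subgroup
open scoped Pointwise commutatorElement

universe u

/-- `g` is a left Engel element -/
def IsLeftEngel {G : Type u} [Group G] (g : G) : Prop :=
  ∀ x : G, ∃ n : ℕ, (fun a => ⁅a, g⁆)^[n] x = 1

theorem isLeftEngel_conj {G : Type u} [Group G] {g : G} (h : IsLeftEngel g) (c : G) :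
    IsLeftEngel (c * g * c⁻¹) := by
  intro x
  obtain ⟨n, hn⟩ := h (c⁻¹ * x * c)
  refine ⟨n, ?_⟩
  have key : ∀ m, (fun a => ⁅a, c * g * c⁻¹⁆)^[m] x = c * (fun a => ⁅a, g⁆)^[m] (c⁻¹ * x * c) * c⁻¹ := by
    intro m
    induction m with
    | zero => simp [mul_assoc]
    | succ m ih =>
      rw [Function.iterate_succ_apply', Function.iterate_succ_apply', ih]
      simp only [commutatorElement_def]
      group
  rw [key n, hn]
  group

theorem isLeftEngel_subgroup {G : Type u} [Group G] {g : G} (h : IsLeftEngel g) (H : Subgroup G)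
    (hg : g ∈ H) : IsLeftEngel (⟨g, hg⟩ : H) := by
  intro x
  obtain ⟨n, hn⟩ := h x
  refine ⟨n, Subtype.ext ?_⟩
  have key : ∀ m, (((fun a => ⁅a, (⟨g, hg⟩ : H)⁆)^[m] x : H) : G) = (fun a => ⁅a, g⁆)^[m] (x : G) := by
    intro m
    induction m with
    | zero => rfl
    | succ m ih =>
      rw [Function.iterate_succ_apply', Function.iterate_succ_apply', ← ih]
      rfl
  rw [key n, hn]
  rfl

theorem mem_fitting_of_engel : ∀ (n : ℕ) (G : Type u) [Group G] [Finite G], Nat.card G = n →
    ∀ g : G, IsLeftEngel g → g ∈ Cfsg.fittingSubgroup G := by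
  intro n
  induction n using Nat.strong_induction_on with
  | _ n ih =>
    intro G _ _ hn g hg
    have hfit : ∀ V : Subgroup G, V ≠ ⊤ → ∀ (x : G) (hx : x ∈ V), IsLeftEngel x →
        (⟨x, hx⟩ : V) ∈ Cfsg.fittingSubgroup V := by
      intro V hV x hx he
      refine ih (Nat.card V) ?_ V rfl _ (isLeftEngel_subgroup he V hx)
      rw [← hn]
      exact lt_of_le_of_ne (card_le_card_group V) fun e => hV (eq_top_of_card_eq V e)
    have hnilz : ∀ x : G, Group.IsNilpotent (zpowers x) := fun x => by
      letI : CommGroup (zpowers x) := { (inferInstance : Group (zpowers x)) with mul_comm := fun a b => mul_comm' a b }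
      exact CommGroup.isNilpotent
    by_contra hgF
    set A := zpowers g
    have hA : ¬ A.IsSubnormal := fun h =>
      hgF (Cfsg.Lib.Components.le_fitting_of_subnormal h (hnilz g) (mem_zpowers g))
    have hsn : ∀ V : Subgroup G, A ≤ V → V ≠ ⊤ → (A.subgroupOf V).IsSubnormal := by
      intro V hAV hV
      have h1 : A.subgroupOf V ≤ Cfsg.fittingSubgroup V := by
        rintro ⟨x, hxV⟩ ⟨i, hi⟩
        have h2 := zpow_mem (hfit V hV g (hAV (mem_zpowers g)) hg) i
        have he : (⟨g, hAV (mem_zpowers g)⟩ : V) ^ i = ⟨x, hxV⟩ := Subtype.ext (by simpa using hi)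
        rwa [he] at h2
      haveI := Cfsg.Lib.Components.isNilpotent_fitting (G := V)
      refine IsSubnormal.trans h1 ?_ (Subgroup.Normal.isSubnormal inferInstance)
      exact Cfsg.Agent.S0064.result.1 inferInstance _
    obtain ⟨M, hAM, hMt, hM⟩ := exists_greatest_overgroup A hA hsn
    have hnotnormal : ¬ M.Normal := by
      intro hMn
      have hall : ∀ x : G, (⟨x * g * x⁻¹, hMn.conj_mem _ (hAM (mem_zpowers g)) x⟩ : M) ∈ Cfsg.fittingSubgroup M :=
        fun x => hfit M hMt _ _ (isLeftEngel_conj hg x)
      set N := (Cfsg.fittingSubgroup M).map M.subtype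
      haveI : N.Normal := inferInstance
      have hN : Group.IsNilpotent N := by
        haveI := Cfsg.Lib.Components.isNilpotent_fitting (G := M)
        exact Group.nilpotent_of_mulEquiv ((Cfsg.fittingSubgroup M).equivMapOfInjective M.subtype M.subtype_injective)
      refine hgF (Cfsg.Lib.Components.le_fitting hN ⟨_, hall 1, ?_⟩)
      simp
    -- some element outside `M` becomes trivial, hence steps into `M`
    obtain ⟨x, hx⟩ : ∃ x : G, x ∉ M := by
      by_contra hno
      push Not at hno
      exact hMt (eq_top_iff.2 fun y _ => hno y)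
    obtain ⟨k, hk⟩ := hg x
    obtain ⟨y, hy, hyM⟩ : ∃ y : G, y ∉ M ∧ ⁅y, g⁆ ∈ M := by
      by_contra hno
      push Not at hno
      have : ∀ m, (fun a => ⁅a, g⁆)^[m] x ∉ M := fun m => by
        induction m with
        | zero => exact hx
        | succ m ihm => rw [Function.iterate_succ_apply']; exact hno _ ihm
      exact this k (hk ▸ one_mem M)
    have hgM : g ∈ M := hAM (mem_zpowers g)
    have hg' : y * g * y⁻¹ ∈ M := by
      have := mul_mem hyM hgM
      rwa [show ⁅y, g⁆ * g = y * g * y⁻¹ by simp only [commutatorElement_def]; group] at this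
    -- `M` is also the greatest proper overgroup of the conjugate
    have hAy : A ≤ MulAut.conj y⁻¹ • M := by
      rw [zpowers_le]
      exact ⟨y * g * y⁻¹, hg', by simp [mul_assoc]⟩
    have hle : MulAut.conj y⁻¹ • M ≤ M := hM _ hAy fun e => hMt (by
      have e' := congrArg (fun X => MulAut.conj y • X) e
      simp only [smul_smul, ← map_mul, mul_inv_cancel, map_one, one_smul] at e'
      rw [e']
      exact Subgroup.map_top_of_surjective _ (MulEquiv.surjective _))
    have hyn := inv_mem (mem_normalizer_of_conj_smul_le hle)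
    rw [inv_inv] at hyn
    by_cases hN : normalizer (M : Set G) = ⊤
    · exact hnotnormal (normalizer_eq_top_iff.1 hN)
    · exact hy (hM _ (hAM.trans le_normalizer) hN hyn)

end Cfsg.Lib.SolvStruct
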