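/-
`π`-closed groups: extensions under `π'`-homogeneity.
-/
import Cfsg.Agent.SolvStruct.ConjPi
import Cfsg.Agent.Coprime.Sylow
import Cfsg.Agent.Coprime.Generation
import Cfsg.Agent.Coprime.SchurZassenhaus

set_option linter.unusedSectionVars false

namespace Cfsg.Lib.PiClosed

open Subgroup
open Cfsg.Lib.SolvStruct (IsPi)

/-- the `S`-elements form a subgroup -/
def Closed (S : ℕ → Prop) (G : Type*) [Group G] : Prop :=
  ∃ L : Subgroup G, ∀ x : G, x ∈ L ↔ IsPi S x

/-- `S'`-homogeneity, elementwise -/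
def Hom (S : ℕ → Prop) (G : Type*) [Group G] : Prop :=
  ∀ U : Subgroup G, IsPi (G := G) S 1 → (∀ q : ℕ, q.Prime → q ∣ Nat.card U → ¬ S q) →
    ∀ x ∈ normalizer (U : Set G), IsPi S x → x ∈ centralizer (U : Set G)

variable {G : Type*} [Group G] [Finite G] {S : ℕ → Prop}

/-- an `S`-element of an image has an `S`-element preimage among the powers of any preimage -/
theorem exists_isPi_lift {G' : Type*} [Group G'] [Finite G'] (f : G →* G') (g : G) (h : IsPi S (f g)) :
    ∃ a ∈ zpowers g, IsPi S a ∧ f a = f g := by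
  obtain ⟨a, b, ha, hb, hab, hSa, hSb⟩ := Cfsg.Lib.SolvStruct.exists_piPart S g
  refine ⟨a, ha, hSa, ?_⟩
  have hfb : f b ∈ zpowers (f g) := by
    obtain ⟨i, rfl⟩ := hb
    exact ⟨i, (map_zpow f g i).symm⟩
  have h1 : f b = 1 := Cfsg.Lib.SolvStruct.eq_one_of_isPi_both (h.of_zpowers hfb) (hSb.map f)
  rw [← hab, map_mul, h1, mul_one]

theorem card_pi_of_forall {H : Subgroup G} (h : ∀ x ∈ H, IsPi S x) (q : ℕ) (hq : q.Prime) (hd : q ∣ Nat.card H) :
    S q := by
  haveI := Fact.mk hq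
  obtain ⟨x, hx⟩ := exists_prime_orderOf_dvd_card' (G := H) q hd
  rw [← Subgroup.orderOf_coe] at hx
  exact h x x.2 q hq (by rw [hx])

theorem isPi_of_mem {H : Subgroup G} (h : ∀ q : ℕ, q.Prime → q ∣ Nat.card H → S q) {x : G} (hx : x ∈ H) :
    IsPi S x := fun q hq hd => h q hq (hd.trans (Subgroup.orderOf_dvd_natCard H hx))

/-- The extension theorem. -/
theorem closed_extension (hhom : Hom S G) (K : Subgroup G) [hKn : K.Normal] (hK : Closed S K) (hQ : Closed S (G ⧸ K)) :
    Closed S G := by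
  classical
  obtain ⟨L₀, hL₀⟩ := hK
  obtain ⟨W, hW⟩ := hQ
  set L := L₀.map K.subtype with hL
  have hLK : L ≤ K := map_subtype_le _
  have hmemL : ∀ x : G, x ∈ L ↔ x ∈ K ∧ IsPi S x := by
    intro x
    constructor
    · rintro ⟨y, hy, rfl⟩
      exact ⟨y.2, Cfsg.Lib.SolvStruct.isPi_coe_iff.2 ((hL₀ y).1 hy)⟩
    · rintro ⟨hx, hS⟩
      exact ⟨⟨x, hx⟩, (hL₀ _).2 (Cfsg.Lib.SolvStruct.isPi_coe_iff.1 (show IsPi S ((⟨x, hx⟩ : K) : G) from hS)), rfl⟩
  haveI hLn : L.Normal := ⟨fun a ha g => (hmemL _).2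
    ⟨hKn.conj_mem a ((hmemL a).1 ha).1 g, (Cfsg.Lib.SolvStruct.isPi_conj_iff g).2 ((hmemL a).1 ha).2⟩⟩
  set π := QuotientGroup.mk' L with hπ
  set K' := K.map π with hK'
  have hsurj : Function.Surjective π := QuotientGroup.mk'_surjective L
  have hcomap : K'.comap π = K := by
    rw [hK', comap_map_eq, QuotientGroup.ker_mk', sup_eq_left.2 hLK]
  haveI hK'n : K'.Normal := hKn.map π hsurj
  -- `K'` has order prime to `S`
  have hK'S : ∀ q : ℕ, q.Prime → q ∣ Nat.card K' → ¬ S q := by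
    intro q hq hd hSq
    haveI := Fact.mk hq
    obtain ⟨⟨y, hy⟩, hyo⟩ := exists_prime_orderOf_dvd_card' (G := K') q hd
    rw [Subgroup.orderOf_mk] at hyo
    obtain ⟨k, hk, rfl⟩ := hy
    obtain ⟨a, ha, hSa, hak⟩ := exists_isPi_lift (S := S) π k (fun r hr hrd => by
      rw [hyo] at hrd
      rwa [(Nat.prime_dvd_prime_iff_eq hr hq).1 hrd])
    have : π k = 1 := hak ▸ (QuotientGroup.eq_one_iff a).2 ((hmemL a).2 ⟨zpowers_le.2 hk ha, hSa⟩)
    rw [this, orderOf_one] at hyo
    exact hq.one_lt.ne hyo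
  -- `S`-elements centralize `K'`
  have hcent : ∀ x : G, IsPi S x → π x ∈ centralizer (K' : Set (G ⧸ L)) := by
    intro x hx
    let D := K ⊓ (centralizer ({π x} : Set (G ⧸ L))).comap π
    have hKD : K ≤ D := by
      refine Cfsg.Lib.Coprime.le_of_forall_sylow fun q hq => ?_
      haveI := Fact.mk hq
      by_cases hSq : S q
      · obtain ⟨P⟩ := (inferInstance : Nonempty (Sylow q K))
        refine ⟨P, ?_⟩
        rintro _ ⟨y, hy, rfl⟩
        refine ⟨y.2, ?_⟩
        obtain ⟨j, hj⟩ := IsPGroup.iff_orderOf.1 P.2 ⟨y, hy⟩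
        rw [Subgroup.orderOf_mk] at hj
        have hyL : (y : G) ∈ L := (hmemL _).2 ⟨y.2, fun r hr hd => by
          rw [Subgroup.orderOf_coe, hj] at hd
          rwa [(Nat.prime_dvd_prime_iff_eq hr hq).1 (hr.dvd_of_dvd_pow hd)]⟩
        show π (y : G) ∈ centralizer ({π x} : Set (G ⧸ L))
        rw [Subgroup.mem_centralizer_singleton_iff, show π (y : G) = 1 from
          (QuotientGroup.eq_one_iff _).2 hyL, one_mul, mul_one]
      · obtain ⟨Q, hQ⟩ := Cfsg.Lib.Coprime.exists_invariant_sylow (A := zpowers (π x)) (K := K')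
          (by rw [normalizer_eq_top K']; exact le_top)
          (by
            rw [Nat.card_zpowers]
            exact Nat.coprime_of_dvd fun r hr h1 h2 => hK'S r hr h2 (hx.map π r hr h1))
          (Or.inl inferInstance) q
        obtain ⟨P₀⟩ := (inferInstance : Nonempty (Sylow q K))
        set ψ : K →* K' := π.subgroupMap K with hψ
        obtain ⟨k, hk⟩ := MulAction.exists_smul_eq K'
          (P₀.mapSurjective (f := ψ) (π.subgroupMap_surjective K)) Q
        obtain ⟨k₀, rfl⟩ := π.subgroupMap_surjective K k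
        refine ⟨k₀ • P₀, ?_⟩
        set P := ((k₀ • P₀ : Sylow q K) : Subgroup K).map K.subtype with hP
        have hPK : P ≤ K := map_subtype_le _
        have hPQ : P.map π = (Q : Subgroup K').map K'.subtype := by
          rw [← hk, hP, Sylow.coe_subgroup_smul, Sylow.coe_subgroup_smul, Sylow.coe_mapSurjective,
            Cfsg.Lib.Coprime.conj_smul_eq, Cfsg.Lib.Coprime.conj_smul_eq]
          simp only [Cfsg.Lib.Coprime.map_conjMap, Subgroup.map_map]
          rfl
        have hPcop : ∀ r : ℕ, r.Prime → r ∣ Nat.card P → ¬ S r := by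
          intro r hr hd
          rw [hP, card_map_of_injective K.subtype_injective] at hd
          obtain ⟨j, hj⟩ := IsPGroup.iff_card.1 (k₀ • P₀ : Sylow q K).2
          rw [hj] at hd
          rwa [(Nat.prime_dvd_prime_iff_eq hr hq).1 (hr.dvd_of_dvd_pow hd)]
        -- move `x` into the normalizer of `P`
        have hxN : x ∈ normalizer ((L ⊔ P : Subgroup G) : Set G) := by
          have h1 : π x ∈ normalizer ((P.map π : Subgroup (G ⧸ L)) : Set (G ⧸ L)) := hPQ ▸ hQ (mem_zpowers _)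
          have h2 : x ∈ normalizer (((P.map π).comap π : Subgroup G) : Set G) := by
            rw [mem_normalizer_iff]
            intro y
            rw [Subgroup.mem_comap, Subgroup.mem_comap, map_mul, map_mul, map_inv]
            exact mem_normalizer_iff.1 h1 (π y)
          rwa [comap_map_eq, QuotientGroup.ker_mk', sup_comm] at h2
        have hPsyl : ∀ R : Subgroup G, IsPGroup q R → R ≤ L ⊔ P → Nat.card R ≤ Nat.card P := by
          intro R hR hle
          have hRK : R ≤ K := hle.trans (sup_le hLK hPK)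
          obtain ⟨T, hT⟩ := (hR.comap_subtype : IsPGroup q (R.subgroupOf K)).exists_le_sylow
          have h1 : Nat.card R ≤ Nat.card (T : Subgroup K) :=
            (Nat.card_congr (subgroupOfEquivOfLe hRK).toEquiv).ge.trans (Nat.le_of_dvd Nat.card_pos (card_dvd_of_le hT))
          rw [hP, card_map_of_injective K.subtype_injective, Sylow.card_eq_multiplicity]
          rw [Sylow.card_eq_multiplicity] at h1
          exact h1
        have hP' : IsPGroup q (P.subgroupOf (L ⊔ P)) := ((k₀ • P₀ : Sylow q K).2.map _).comap_subtype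
        obtain ⟨T, hT⟩ := hP'.exists_le_sylow
        have hTP : (T : Subgroup ↥(L ⊔ P)).map (L ⊔ P).subtype = P := by
          refine (eq_of_le_of_card_ge ?_ (hPsyl _ (T.2.map _) (map_subtype_le _))).symm
          intro z hz
          exact ⟨⟨z, mem_sup_right hz⟩, hT hz, rfl⟩
        have hxT : Cfsg.Lib.Coprime.conjMap x P ≤ L ⊔ P :=
          (Cfsg.Lib.Coprime.conjMap_mono le_sup_right).trans (Cfsg.Lib.Coprime.conjMap_eq_self hxN).le
        have hconjp : IsPGroup q (Cfsg.Lib.Coprime.conjMap x P) := ((k₀ • P₀ : Sylow q K).2.map _).map _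
        obtain ⟨T', hT'⟩ := (hconjp.comap_subtype :
          IsPGroup q ((Cfsg.Lib.Coprime.conjMap x P).subgroupOf (L ⊔ P))).exists_le_sylow
        have hT'P : (T' : Subgroup ↥(L ⊔ P)).map (L ⊔ P).subtype = Cfsg.Lib.Coprime.conjMap x P := by
          refine (eq_of_le_of_card_ge ?_ ?_).symm
          · intro z hz
            exact ⟨⟨z, hxT hz⟩, hT' hz, rfl⟩
          · rw [Cfsg.Lib.Coprime.card_conjMap]
            exact hPsyl _ (T'.2.map _) (map_subtype_le _)
        obtain ⟨t, ht⟩ := MulAction.exists_smul_eq ↥(L ⊔ P) T T'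
        have h3 : Cfsg.Lib.Coprime.conjMap (t : G) P = Cfsg.Lib.Coprime.conjMap x P := by
          rw [← hT'P, ← ht, Cfsg.Lib.Coprime.map_subtype_smul, hTP]
        obtain ⟨l, hl, u, hu, hlu⟩ := (Cfsg.Lib.Coprime.mem_sup_of_le_normalizer
          (by rw [normalizer_eq_top L]; exact le_top)).1 t.2
        rw [← hlu, ← Cfsg.Lib.Coprime.conjMap_mul, Cfsg.Lib.Coprime.conjMap_eq_self (le_normalizer hu)] at h3
        have hy0 : l⁻¹ * x ∈ normalizer (P : Set G) := by
          rw [← Cfsg.Lib.Coprime.conjMap_eq_self_iff, ← Cfsg.Lib.Coprime.conjMap_mul, ← h3,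
            Cfsg.Lib.Coprime.conjMap_inv_conjMap]
        have hy0x : π (l⁻¹ * x) = π x := by
          rw [map_mul, map_inv, show π l = 1 from (QuotientGroup.eq_one_iff l).2 hl, inv_one, one_mul]
        obtain ⟨a, ha, hSa, hax⟩ := exists_isPi_lift π (l⁻¹ * x) (hy0x.symm ▸ hx.map π)
        have haP : a ∈ centralizer (P : Set G) :=
          hhom P (Cfsg.Lib.SolvStruct.isPi_one S) hPcop a ((zpowers_le.2 hy0) ha) hSa
        intro z hz
        refine ⟨hPK hz, ?_⟩
        show π z ∈ centralizer ({π x} : Set (G ⧸ L))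
        rw [Subgroup.mem_centralizer_singleton_iff, ← hy0x, ← hax, ← map_mul, ← map_mul]
        exact congrArg π (Subgroup.mem_centralizer_iff.1 haP z hz)
    rw [mem_centralizer_iff]
    rintro _ ⟨k, hk, rfl⟩
    exact Subgroup.mem_centralizer_singleton_iff.1 (hKD hk).2
  -- the centralizer of `K'` above `K'`
  set C := ((W.comap (QuotientGroup.mk' K)).map π) ⊓ centralizer (K' : Set (G ⧸ L)) with hC
  have hmemC : ∀ x : G, IsPi S x → π x ∈ C := fun x hx =>
    ⟨⟨x, (hW _).2 (hx.map (QuotientGroup.mk' K)), rfl⟩, hcent x hx⟩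
  set Z := C ⊓ K' with hZ
  have hrel : ∀ q : ℕ, q.Prime → q ∣ Z.relIndex C → S q := by
    intro q hq hd
    have h1 : Z.relIndex C = K'.relIndex C := by rw [hZ, inf_relIndex_left]
    have h2 : (K.relIndex (C.comap π)) = K'.relIndex C := by
      rw [← hcomap, relIndex_comap, map_comap_eq_self_of_surjective hsurj]
    have h3 : Nat.card ↥((C.comap π).map (QuotientGroup.mk' K)) = K.relIndex (C.comap π) := by
      rw [← relIndex_bot_left, ← relIndex_comap, MonoidHom.comap_bot, QuotientGroup.ker_mk']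
    have h4 : (C.comap π).map (QuotientGroup.mk' K) ≤ W := by
      rintro _ ⟨g, hg, rfl⟩
      obtain ⟨t, ht, htg⟩ := (show π g ∈ C from hg).1
      have : t⁻¹ * g ∈ K := hLK (QuotientGroup.eq.1 htg)
      have h5 : QuotientGroup.mk' K g = QuotientGroup.mk' K t := (QuotientGroup.eq.2 this).symm
      rw [h5]
      exact ht
    refine card_pi_of_forall (H := W) (fun y hy => (hW y).1 hy) q hq ?_
    rw [h1, ← h2, ← h3] at hd
    exact hd.trans (card_dvd_of_le h4)
  have hZS : ∀ q : ℕ, q.Prime → q ∣ Nat.card Z → ¬ S q := fun q hq hd =>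
    hK'S q hq (hd.trans (card_dvd_of_le inf_le_right))
  have hZn : C ≤ normalizer (Z : Set (G ⧸ L)) :=
    Cfsg.Lib.Coprime.le_normalizer_inf le_normalizer (by rw [normalizer_eq_top K']; exact le_top)
  have hcopZ : (Nat.card Z).Coprime (Z.relIndex C) :=
    Nat.coprime_of_dvd fun r hr h1 h2 => hZS r hr h1 (hrel r hr h2)
  obtain ⟨B, hBC, hBi, hBc⟩ := Cfsg.Lib.Coprime.exists_complement_in inf_le_left hZn hcopZ
  have hBS : ∀ q : ℕ, q.Prime → q ∣ Nat.card B → S q := fun q hq hd => hrel q hq (hBc ▸ hd)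
  have hBmem : ∀ c ∈ C, IsPi S c → c ∈ B := by
    intro c hc hSc
    have hsup : Z ⊔ B = C := by
      refine eq_of_le_of_card_ge (sup_le inf_le_left hBC) (le_of_eq ?_)
      rw [Cfsg.Lib.Coprime.card_sup_coprime (hBC.trans hZn) (hBc.symm ▸ hcopZ), hBc, ← relIndex_bot_left,
        ← relIndex_bot_left Z, relIndex_mul_relIndex _ _ _ bot_le inf_le_left]
    obtain ⟨z, hz, b, hb, rfl⟩ := (Cfsg.Lib.Coprime.mem_sup_of_le_normalizer (hBC.trans hZn)).1 (hsup.symm ▸ hc)
    have hcomm : Commute z b := Subgroup.mem_centralizer_iff.1 (hBC hb).2 z hz.2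
    have h1 : z = 1 := by
      refine Cfsg.Lib.SolvStruct.eq_one_of_isPi_both ?_ (isPi_of_mem (S := fun q => ¬ S q) hZS hz)
      have h2 := hSc.mul ((isPi_of_mem hBS hb).inv) (Commute.inv_right (hcomm.mul_left (Commute.refl b)))
      rwa [mul_inv_cancel_right] at h2
    rw [h1, one_mul]
    exact hb
  refine ⟨B.comap π, fun x => ⟨fun hx => ?_, fun hx => hBmem _ (hmemC x hx) (hx.map π)⟩⟩
  -- preimages of `B` are `S`-elements
  obtain ⟨a, ha, hSa, hax⟩ := exists_isPi_lift π x (isPi_of_mem hBS hx)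
  obtain ⟨a', b', ha', hb', hab, hSa', hSb'⟩ := Cfsg.Lib.SolvStruct.exists_piPart S x
  have hb1 : π b' = 1 := by
    refine Cfsg.Lib.SolvStruct.eq_one_of_isPi_both ?_ (hSb'.map π)
    exact isPi_of_mem hBS ((zpowers_le.2 (show x ∈ B.comap π from hx)) hb')
  have hbK : b' ∈ L := (QuotientGroup.eq_one_iff b').1 hb1
  have : b' = 1 := Cfsg.Lib.SolvStruct.eq_one_of_isPi_both ((hmemL b').1 hbK).2 hSb'
  rw [← hab, this, mul_one]
  exact hSa'

/-- homogeneity passes to subgroups -/
theorem Hom.subgroup (h : Hom S G) (H : Subgroup G) : Hom S H := by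
  intro U _ hU x hx hSx
  have hU' : ∀ q : ℕ, q.Prime → q ∣ Nat.card (U.map H.subtype) → ¬ S q := fun q hq hd =>
    hU q hq (by rwa [card_map_of_injective H.subtype_injective] at hd)
  have hxN : (x : G) ∈ normalizer ((U.map H.subtype : Subgroup G) : Set G) := by
    rw [mem_normalizer_iff]
    intro y
    constructor
    · rintro ⟨z, hz, rfl⟩
      exact ⟨x * z * x⁻¹, (mem_normalizer_iff.1 hx z).1 hz, rfl⟩
    · rintro ⟨z, hz, hzy⟩
      refine ⟨x⁻¹ * z * x, (mem_normalizer_iff.1 hx _).2 (by simpa [mul_assoc] using hz), ?_⟩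
      show (x : G)⁻¹ * (z : G) * x = y
      rw [show (z : G) = (x : G) * y * (x : G)⁻¹ from hzy]
      group
  have h1 := h _ (Cfsg.Lib.SolvStruct.isPi_one S) hU' x hxN (Cfsg.Lib.SolvStruct.isPi_coe_iff.2 hSx)
  rw [mem_centralizer_iff] at h1 ⊢
  intro u hu
  exact Subtype.ext (h1 u ⟨u, hu, rfl⟩)

/-- the statement form of homogeneity gives the elementwise one -/
theorem hom_of_relIndex
    (h : ∀ H : Subgroup G, H ≠ ⊥ → (∀ p : ℕ, p.Prime → p ∣ Nat.card ↥H → ¬ S p) →
      ∀ p : ℕ, p.Prime → p ∣ (centralizer (H : Set G)).relIndex (normalizer (H : Set G)) → ¬ S p) : Hom S G := by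
  intro U _ hU x hx hSx
  by_cases hb : U = ⊥
  · subst hb
    exact mem_centralizer_iff.2 fun y hy => by rw [Subgroup.coe_bot, Set.mem_singleton_iff] at hy; simp [hy]
  set N := normalizer (U : Set G) with hN
  haveI : ((centralizer (U : Set G)).subgroupOf N).Normal := ⟨fun c hc n => by
    rw [mem_subgroupOf, mem_centralizer_iff] at hc ⊢
    intro u hu
    have h1 : (n : G)⁻¹ * u * n ∈ U := by
      have := (mem_normalizer_iff.1 (inv_mem n.2) u).1 hu
      rwa [inv_inv] at this
    have h2 := hc _ h1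
    show u * ((n : G) * c * (n : G)⁻¹) = (n : G) * c * (n : G)⁻¹ * u
    calc u * ((n : G) * c * (n : G)⁻¹) = (n : G) * (((n : G)⁻¹ * u * n) * c) * (n : G)⁻¹ := by group
      _ = (n : G) * ((c : G) * ((n : G)⁻¹ * u * n)) * (n : G)⁻¹ := by rw [h2]
      _ = _ := by group⟩
  have h1 := Subgroup.pow_index_mem ((centralizer (U : Set G)).subgroupOf N) ⟨x, hx⟩
  have hcop : Nat.Coprime ((centralizer (U : Set G)).relIndex N) (orderOf x) :=
    Nat.coprime_of_dvd fun r hr h1 h2 => h U hb hU r hr h1 (hSx r hr h2)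
  have h2 : x ^ (centralizer (U : Set G)).relIndex N ∈ centralizer (U : Set G) := h1
  have hg : Nat.gcd ((centralizer (U : Set G)).relIndex N) (orderOf x) = 1 := hcop
  have h3 : x ^ (Nat.gcd ((centralizer (U : Set G)).relIndex N) (orderOf x)) ∈ centralizer (U : Set G) := by
    rw [← zpow_natCast, Nat.gcd_eq_gcd_ab, zpow_add, zpow_mul, zpow_mul, zpow_natCast, zpow_natCast,
      pow_orderOf_eq_one, one_zpow, mul_one]
    exact zpow_mem h2 _
  rwa [hg, pow_one] at h3

/-- the elementwise homogeneity gives the statement form -/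
theorem relIndex_of_hom (h : Hom S G) (U : Subgroup G) (hU : ∀ p : ℕ, p.Prime → p ∣ Nat.card ↥U → ¬ S p)
    (p : ℕ) (hp : p.Prime) (hd : p ∣ (centralizer (U : Set G)).relIndex (normalizer (U : Set G))) : ¬ S p := by
  intro hSp
  haveI := Fact.mk hp
  set N := normalizer (U : Set G) with hN
  obtain ⟨P⟩ := (inferInstance : Nonempty (Sylow p N))
  have hPC : (P : Subgroup N) ≤ (centralizer (U : Set G)).subgroupOf N := by
    intro y hy
    obtain ⟨j, hj⟩ := IsPGroup.iff_orderOf.1 P.2 ⟨y, hy⟩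
    rw [Subgroup.orderOf_mk] at hj
    refine h U (Cfsg.Lib.SolvStruct.isPi_one S) hU y y.2 fun r hr hrd => ?_
    rw [Subgroup.orderOf_coe, hj] at hrd
    rwa [(Nat.prime_dvd_prime_iff_eq hr hp).1 (hr.dvd_of_dvd_pow hrd)]
  exact P.not_dvd_index (hd.trans (index_dvd_of_le hPC))

end Cfsg.Lib.PiClosed

namespace Cfsg.Lib.PiClosed

open Subgroup
open Cfsg.Lib.SolvStruct (IsPi)

theorem Closed.of_equiv {A B : Type*} [Group A] [Group B] {S : ℕ → Prop} (e : A ≃* B) (h : Closed S A) :
    Closed S B := by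
  obtain ⟨L, hL⟩ := h
  refine ⟨L.map e.toMonoidHom, fun x => ?_⟩
  rw [Subgroup.mem_map_equiv, hL]
  simp only [IsPi, MulEquiv.orderOf_eq]

theorem closed_of_uniform {A : Type*} [Group A] [Finite A] {S : ℕ → Prop}
    (h : (∀ q : ℕ, q.Prime → q ∣ Nat.card A → S q) ∨ (∀ q : ℕ, q.Prime → q ∣ Nat.card A → ¬ S q)) :
    Closed S A := by
  rcases h with h | h
  · exact ⟨⊤, fun x => iff_of_true (mem_top x) fun q hq hd => h q hq (hd.trans (orderOf_dvd_natCard x))⟩
  · refine ⟨⊥, fun x => ⟨fun hx => ?_, fun hx => ?_⟩⟩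
    · rw [mem_bot] at hx
      exact hx ▸ Cfsg.Lib.SolvStruct.isPi_one S
    · exact mem_bot.2 (Cfsg.Lib.SolvStruct.eq_one_of_isPi_both hx
        fun q hq hd => h q hq (hd.trans (orderOf_dvd_natCard x)))

variable {G : Type*} [Group G] [Finite G] {S : ℕ → Prop}

/-- a homogeneous group with a series of uniform factors is closed -/
theorem closed_of_series (hhom : Hom S G) {n : ℕ} (H : Fin (n + 1) → Subgroup G) (h0 : H 0 = ⊥)
    (hn : H (Fin.last n) = ⊤) (hmono : Monotone H) (hnormal : ∀ i, (H i).Normal)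
    (hfac : ∀ i : Fin n, (∀ q : ℕ, q.Prime → q ∣ (H i.castSucc).relIndex (H i.succ) → S q) ∨
      (∀ q : ℕ, q.Prime → q ∣ (H i.castSucc).relIndex (H i.succ) → ¬ S q)) : Closed S G := by
  have key : ∀ j, Closed S (H j) := by
    intro j
    induction j using Fin.induction with
    | zero =>
      refine closed_of_uniform (Or.inl fun q hq hd => ?_)
      rw [h0, card_bot] at hd
      exact absurd hd hq.not_dvd_one
    | succ i ih =>
      have hle : H i.castSucc ≤ H i.succ := hmono i.castSucc_le_succ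
      haveI := hnormal i.castSucc
      refine closed_extension (hhom.subgroup _) ((H i.castSucc).subgroupOf (H i.succ))
        (ih.of_equiv (subgroupOfEquivOfLe hle).symm) (closed_of_uniform ?_)
      rw [← Subgroup.index_eq_card]
      exact hfac i
  exact (key (Fin.last n)).of_equiv ((MulEquiv.subgroupCongr hn).trans Subgroup.topEquiv)

/-- closed groups are homogeneous -/
theorem hom_of_closed (h : Closed S G) : Hom S G := by
  obtain ⟨L, hL⟩ := h
  intro U _ hU x hx hSx
  have hLn : L.Normal := ⟨fun a ha g => (hL _).2 ((Cfsg.Lib.SolvStruct.isPi_conj_iff g).2 ((hL a).1 ha))⟩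
  rw [mem_centralizer_iff]
  intro u hu
  have hcU : x * u * x⁻¹ * u⁻¹ ∈ U :=
    U.mul_mem ((mem_normalizer_iff.1 hx u).1 hu) (U.inv_mem hu)
  have hcL : x * u * x⁻¹ * u⁻¹ ∈ L := by
    have := L.mul_mem ((hL x).2 hSx) (hLn.conj_mem _ (L.inv_mem ((hL x).2 hSx)) u)
    simpa [mul_assoc] using this
  have h1 := Cfsg.Lib.SolvStruct.eq_one_of_isPi_both ((hL _).1 hcL) (isPi_of_mem (S := fun q => ¬ S q) hU hcU)
  rw [mul_inv_eq_one, mul_inv_eq_iff_eq_mul] at h1
  exact h1.symm

end Cfsg.Lib.PiClosed
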