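/-
Sylow subgroups over a `p`-subgroup, layer by layer along a normal series.
-/
import Cfsg.Agent.SolvStruct.Subnormalizer
import Cfsg.Agent.Coprime.Sylow

set_option linter.unusedSectionVars false

namespace Cfsg.Lib.Subnormalizer

open Subgroup
open Cfsg.Lib.Coprime (conjMap)

variable {G : Type*} [Group G] [Finite G] {p : ℕ} [hp : Fact p.Prime]

/-- the products of `M` with a Sylow subgroup that contain `H` -/
def Over (p : ℕ) (H M : Subgroup G) (T : Subgroup G) : Prop :=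
  H ≤ T ∧ ∃ Q : Sylow p G, T = M ⊔ (Q : Subgroup G)

theorem card_eq_mul_of_fibers {α β : Type*} [Finite α] [Finite β] (f : α → β) (k : ℕ)
    (hf : ∀ b, Nat.card {a // f a = b} = k) : Nat.card α = Nat.card β * k := by
  haveI := Fintype.ofFinite β
  rw [← Nat.card_congr (Equiv.sigmaFiberEquiv f), Nat.card_sigma, Finset.sum_congr rfl fun b _ => hf b,
    Finset.sum_const, Finset.card_univ, smul_eq_mul, Nat.card_eq_fintype_card]

theorem normalizer_le_sup (M : Subgroup G) [M.Normal] (T : Subgroup G) :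
    normalizer (T : Set G) ≤ normalizer ((M ⊔ T : Subgroup G) : Set G) :=
  Cfsg.Lib.Coprime.le_normalizer_sup (by rw [normalizer_eq_top M]; exact le_top) le_rfl

theorem exists_mem_conj_eq (M : Subgroup G) [M.Normal] (Q Q' : Sylow p G)
    (h : (Q' : Subgroup G) ≤ M ⊔ (Q : Subgroup G)) : ∃ u ∈ M, conjMap u (Q : Subgroup G) = Q' := by
  obtain ⟨t, ht⟩ := MulAction.exists_smul_eq ↥(M ⊔ (Q : Subgroup G))
    (Q.subtype le_sup_right) (Q'.subtype h)
  have h1 := congrArg (fun S : Sylow p ↥(M ⊔ (Q : Subgroup G)) => (S : Subgroup ↥(M ⊔ (Q : Subgroup G))).map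
    (M ⊔ (Q : Subgroup G)).subtype) ht
  rw [Cfsg.Lib.Coprime.map_subtype_smul, Sylow.coe_subtype, Sylow.coe_subtype,
    map_subgroupOf_eq_of_le le_sup_right, map_subgroupOf_eq_of_le h] at h1
  obtain ⟨u, hu, q, hq, huq⟩ := (Cfsg.Lib.Coprime.mem_sup_of_le_normalizer
    (by rw [normalizer_eq_top M]; exact le_top)).1 t.2
  refine ⟨u, hu, ?_⟩
  rw [← huq, ← Cfsg.Lib.Coprime.conjMap_mul, Cfsg.Lib.Coprime.conjMap_eq_self (le_normalizer hq)] at h1
  exact h1

theorem card_normalizer_sup (M : Subgroup G) [M.Normal] (Q Q' : Sylow p G) :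
    Nat.card (normalizer ((M ⊔ (Q : Subgroup G) : Subgroup G) : Set G)) =
      Nat.card (normalizer ((M ⊔ (Q' : Subgroup G) : Subgroup G) : Set G)) := by
  obtain ⟨c, rfl⟩ := MulAction.exists_smul_eq G Q Q'
  have : M ⊔ ((c • Q : Sylow p G) : Subgroup G) = conjMap c (M ⊔ (Q : Subgroup G)) := by
    rw [Sylow.coe_subgroup_smul, Cfsg.Lib.Coprime.conj_smul_eq, Cfsg.Lib.Coprime.conjMap_sup,
      Cfsg.Lib.Coprime.conjMap_eq_self (H := M) (by rw [normalizer_eq_top M]; exact mem_top c)]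
  rw [this, Cfsg.Lib.Coprime.normalizer_conjMap, Cfsg.Lib.Coprime.card_conjMap]

/-- `N(M'Q) = M' N(MQ)` -/
theorem normalizer_sup_eq (M M' : Subgroup G) [M.Normal] [M'.Normal] (hle : M ≤ M') (Q : Sylow p G) :
    M' ⊔ normalizer ((M ⊔ (Q : Subgroup G) : Subgroup G) : Set G) =
      normalizer ((M' ⊔ (Q : Subgroup G) : Subgroup G) : Set G) := by
  refine le_antisymm (sup_le (le_sup_left.trans le_normalizer) ?_) fun g hg => ?_
  · have h := normalizer_le_sup M' (M ⊔ (Q : Subgroup G))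
    rwa [← sup_assoc, sup_eq_left.2 hle] at h
  · have h1 : ((g • Q : Sylow p G) : Subgroup G) ≤ M' ⊔ (Q : Subgroup G) := by
      rw [Sylow.coe_subgroup_smul, Cfsg.Lib.Coprime.conj_smul_eq]
      have h2 := Cfsg.Lib.Coprime.conjMap_mono (g := g)
        (le_sup_right : (Q : Subgroup G) ≤ M' ⊔ (Q : Subgroup G))
      rwa [Cfsg.Lib.Coprime.conjMap_eq_self hg] at h2
    obtain ⟨u, hu, huQ⟩ := exists_mem_conj_eq M' Q (g • Q) h1
    rw [Sylow.coe_subgroup_smul, Cfsg.Lib.Coprime.conj_smul_eq] at huQ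
    have h3 : u⁻¹ * g ∈ normalizer ((Q : Subgroup G) : Set G) := by
      rw [← Cfsg.Lib.Coprime.conjMap_eq_self_iff, ← Cfsg.Lib.Coprime.conjMap_mul, ← huQ,
        Cfsg.Lib.Coprime.conjMap_inv_conjMap]
    have : g = u * (u⁻¹ * g) := by group
    rw [this]
    exact mul_mem_sup hu (normalizer_le_sup M (Q : Subgroup G) h3)

theorem over_eq_of_pFactor (M M' : Subgroup G) [M.Normal] [M'.Normal] (hle : M ≤ M')
    (hfac : ∃ m, M.relIndex M' = p ^ m) (Q : Sylow p G) : M ⊔ (Q : Subgroup G) = M' ⊔ Q := by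
  obtain ⟨m, hm⟩ := hfac
  have h1 : M ⊔ (Q : Subgroup G) ≤ M' ⊔ Q := sup_le_sup_right hle _
  refine le_antisymm h1 (relIndex_eq_one.1 ?_)
  set r := (M ⊔ (Q : Subgroup G)).relIndex (M' ⊔ Q) with hr
  have hp' : ¬ p ∣ r := fun hd => Q.not_dvd_index (hd.trans ((Dvd.intro_left _
    (relIndex_mul_relIndex (Q : Subgroup G) _ _ le_sup_right h1)).trans
    (Dvd.intro _ (relIndex_mul_index (le_sup_right : (Q : Subgroup G) ≤ M' ⊔ (Q : Subgroup G))))))
  have hc : ∀ N : Subgroup G, N.Normal → Nat.card ↥(N ⊔ (Q : Subgroup G)) * Nat.card ↥(N ⊓ (Q : Subgroup G)) =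
      Nat.card N * Nat.card (Q : Subgroup G) := fun N hN =>
    Cfsg.Lib.Coprime.card_sup_mul_card_inf (by rw [normalizer_eq_top N]; exact le_top)
  have h2 : r * Nat.card ↥(M ⊔ (Q : Subgroup G)) = Nat.card ↥(M' ⊔ (Q : Subgroup G)) := by
    rw [mul_comm, ← relIndex_bot_left, relIndex_mul_relIndex _ _ _ bot_le h1, relIndex_bot_left]
  have h3 : Nat.card M * M.relIndex M' = Nat.card M' := by
    rw [← relIndex_bot_left, relIndex_mul_relIndex _ _ _ bot_le hle, relIndex_bot_left]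
  have h4 : r * Nat.card ↥(M' ⊓ (Q : Subgroup G)) = p ^ m * Nat.card ↥(M ⊓ (Q : Subgroup G)) := by
    apply Nat.eq_of_mul_eq_mul_left (Nat.card_pos (α := ↥(M ⊔ (Q : Subgroup G))))
    calc _ = (r * Nat.card ↥(M ⊔ (Q : Subgroup G))) * Nat.card ↥(M' ⊓ (Q : Subgroup G)) := by ring
      _ = Nat.card M * M.relIndex M' * Nat.card (Q : Subgroup G) := by rw [h2, hc M' inferInstance, h3]
      _ = (Nat.card M * Nat.card (Q : Subgroup G)) * p ^ m := by rw [hm]; ring
      _ = _ := by rw [← hc M inferInstance]; ring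
  obtain ⟨j, hj⟩ := IsPGroup.iff_card.1 (Q.2.to_le (inf_le_right : M ⊓ (Q : Subgroup G) ≤ _))
  obtain ⟨i, -, hi⟩ := (Nat.dvd_prime_pow hp.out).1 (show r ∣ p ^ (m + j) by
    rw [pow_add, ← hj]; exact Dvd.intro _ h4)
  rcases Nat.eq_zero_or_pos i with rfl | h0
  · rwa [pow_zero] at hi
  · exact absurd (hi ▸ dvd_pow_self p h0.ne') hp'

/-- The step through a factor of order prime to `p`. -/
theorem step_coprime (H : Subgroup G) (hH : IsPGroup p H) (P : Sylow p G) (M M' : Subgroup G) [M.Normal]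
    [M'.Normal] (hle : M ≤ M') (hfac : (M.relIndex M').Coprime p) :
    Nat.card {T : Subgroup G // Over p H M T} * Nat.card (normalizer ((M ⊔ (P : Subgroup G) : Subgroup G) : Set G)) *
        Nat.card M' =
      Nat.card {T : Subgroup G // Over p H M' T} * Nat.card (normalizer ((M' ⊔ (P : Subgroup G) : Subgroup G) : Set G)) *
        Nat.card {u : G // u ∈ M' ∧ ∀ h ∈ H, h * u * h⁻¹ * u⁻¹ ∈ M} := by
  classical
  set X := Nat.card {u : G // u ∈ M' ∧ ∀ h ∈ H, h * u * h⁻¹ * u⁻¹ ∈ M} with hX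
  -- a member meets `M'` in `M`
  have hinf : ∀ Q : Sylow p G, (M ⊔ (Q : Subgroup G)) ⊓ M' ≤ M := by
    intro Q x hx
    obtain ⟨m, hm, q, hq, rfl⟩ := (Cfsg.Lib.Coprime.mem_sup_of_le_normalizer
      (by rw [normalizer_eq_top M]; exact le_top)).1 hx.1
    have hqM' : q ∈ M' := by simpa using mul_mem (inv_mem (hle hm)) hx.2
    refine mul_mem hm ?_
    obtain ⟨k, hk⟩ := Q.2 ⟨q, hq⟩
    have hk' : q ^ p ^ k = 1 := congrArg Subtype.val hk
    have h1 : q ^ M.relIndex M' ∈ M := by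
      exact M.pow_relIndex_mem hqM'
    have hg : Nat.gcd (M.relIndex M') (p ^ k) = 1 := hfac.pow_right k
    have h2 : q ^ (Nat.gcd (M.relIndex M') (p ^ k)) ∈ M := by
      rw [← zpow_natCast, Nat.gcd_eq_gcd_ab, zpow_add, zpow_mul, zpow_mul, zpow_natCast, zpow_natCast, hk',
        one_zpow, mul_one]
      exact zpow_mem h1 _
    rwa [hg, pow_one] at h2
  have hup : ∀ T, Over p H M T → Over p H M' (M' ⊔ T) := by
    rintro T ⟨hHT, Q, rfl⟩
    exact ⟨hHT.trans le_sup_right, Q, by rw [← sup_assoc, sup_eq_left.2 hle]⟩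
  -- each fibre, times the normalizer
  set a := Nat.card (normalizer ((M ⊔ (P : Subgroup G) : Subgroup G) : Set G))
  set b := Nat.card (normalizer ((M' ⊔ (P : Subgroup G) : Subgroup G) : Set G))
  have hfib : ∀ T' : {T : Subgroup G // Over p H M' T},
      Nat.card {T : {T : Subgroup G // Over p H M T} //
        (⟨_, hup T.1 T.2⟩ : {T : Subgroup G // Over p H M' T}) = T'} * a * Nat.card M' = b * X := by
    rintro ⟨T', hHT', Q₀, rfl⟩
    -- a member of the fibre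
    obtain ⟨Q₁, hQ₁, hQ₁T⟩ : ∃ Q₁ : Sylow p G, H ≤ (Q₁ : Subgroup G) ∧ (Q₁ : Subgroup G) ≤ M' ⊔ (Q₀ : Subgroup G) := by
      obtain ⟨S, hS⟩ := (hH.comap_subtype : IsPGroup p (H.subgroupOf (M' ⊔ (Q₀ : Subgroup G)))).exists_le_sylow
      obtain ⟨t, ht⟩ := MulAction.exists_smul_eq ↥(M' ⊔ (Q₀ : Subgroup G)) (Q₀.subtype le_sup_right) S
      refine ⟨(t : G) • Q₀, fun h hh => ?_, ?_⟩
      · have h1 : (⟨h, hHT' hh⟩ : ↥(M' ⊔ (Q₀ : Subgroup G))) ∈ (S : Subgroup ↥(M' ⊔ (Q₀ : Subgroup G))) := hS hh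
        rw [← ht, Sylow.coe_subgroup_smul, Sylow.coe_subtype, Cfsg.Lib.Coprime.conj_smul_eq,
          Cfsg.Lib.Coprime.mem_conjMap, mem_subgroupOf] at h1
        rw [Sylow.coe_subgroup_smul, Cfsg.Lib.Coprime.conj_smul_eq, Cfsg.Lib.Coprime.mem_conjMap]
        exact h1
      · rw [Sylow.coe_subgroup_smul, Cfsg.Lib.Coprime.conj_smul_eq]
        exact (Cfsg.Lib.Coprime.conjMap_mono le_sup_right).trans
          (Cfsg.Lib.Coprime.conjMap_eq_self (le_normalizer t.2)).le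
    obtain ⟨v, hv, hvQ⟩ := exists_mem_conj_eq M' Q₀ Q₁ hQ₁T
    have hT' : M' ⊔ (Q₁ : Subgroup G) = M' ⊔ (Q₀ : Subgroup G) := by
      rw [← hvQ]
      conv_lhs => rw [← Cfsg.Lib.Coprime.conjMap_eq_self (H := M') (le_normalizer hv),
        ← Cfsg.Lib.Coprime.conjMap_sup]
      exact Cfsg.Lib.Coprime.conjMap_eq_self (le_normalizer (mem_sup_left hv))
    set T := M ⊔ (Q₁ : Subgroup G) with hT
    have hHT : H ≤ T := hQ₁.trans le_sup_right
    have hMT : M' ⊔ T = M' ⊔ (Q₀ : Subgroup G) := by rw [hT, ← sup_assoc, sup_eq_left.2 hle, hT']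
    -- conjugating the member by the centralizer
    have hmove : ∀ u, u ∈ M' → (∀ h ∈ H, h * u * h⁻¹ * u⁻¹ ∈ M) →
        Over p H M (conjMap u T) ∧ M' ⊔ conjMap u T = M' ⊔ (Q₀ : Subgroup G) := by
      intro u hu hcu
      refine ⟨⟨fun h hh => ?_, u • Q₁, ?_⟩, ?_⟩
      · rw [Cfsg.Lib.Coprime.mem_conjMap]
        have h1 : u⁻¹ * h * u = (u⁻¹ * (h * u * h⁻¹ * u⁻¹) * u) * h := by group
        rw [h1]
        refine mul_mem (mem_sup_left ?_) (hHT hh)
        simpa using ‹M.Normal›.conj_mem _ (hcu h hh) u⁻¹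
      · rw [hT, Cfsg.Lib.Coprime.conjMap_sup, Sylow.coe_subgroup_smul, Cfsg.Lib.Coprime.conj_smul_eq,
          Cfsg.Lib.Coprime.conjMap_eq_self (H := M) (by rw [normalizer_eq_top M]; exact mem_top u)]
      · conv_lhs => rw [← Cfsg.Lib.Coprime.conjMap_eq_self (H := M') (le_normalizer hu),
          ← Cfsg.Lib.Coprime.conjMap_sup]
        rw [hMT]
        exact Cfsg.Lib.Coprime.conjMap_eq_self (le_normalizer (mem_sup_left hu))
    let f : {u : G // u ∈ M' ∧ ∀ h ∈ H, h * u * h⁻¹ * u⁻¹ ∈ M} →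
        {T₂ : {T : Subgroup G // Over p H M T} //
          (⟨_, hup T₂.1 T₂.2⟩ : {T : Subgroup G // Over p H M' T}) = ⟨M' ⊔ (Q₀ : Subgroup G), hHT', Q₀, rfl⟩} :=
      fun u => ⟨⟨conjMap u.1 T, (hmove u.1 u.2.1 u.2.2).1⟩, Subtype.ext (hmove u.1 u.2.1 u.2.2).2⟩
    have hXc := card_eq_mul_of_fibers f (Nat.card ↥(M' ⊓ normalizer (T : Set G))) fun T₂ => by
      obtain ⟨⟨T₂, hH₂, Q₂, rfl⟩, hf⟩ := T₂
      have hf' : M' ⊔ (M ⊔ (Q₂ : Subgroup G)) = M' ⊔ (Q₀ : Subgroup G) := congrArg Subtype.val hf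
      rw [← sup_assoc, sup_eq_left.2 hle, ← hT'] at hf'
      obtain ⟨u, hu, huQ⟩ := exists_mem_conj_eq M' Q₁ Q₂ (hf' ▸ le_sup_right)
      have huT : conjMap u T = M ⊔ (Q₂ : Subgroup G) := by
        rw [hT, Cfsg.Lib.Coprime.conjMap_sup, huQ,
          Cfsg.Lib.Coprime.conjMap_eq_self (H := M) (by rw [normalizer_eq_top M]; exact mem_top u)]
      have hcent : ∀ w, w ∈ M' → conjMap w T = M ⊔ (Q₂ : Subgroup G) → ∀ h ∈ H, h * w * h⁻¹ * w⁻¹ ∈ M := by
        intro w hw hwT h hh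
        refine hinf Q₂ ⟨?_, M'.mul_mem (‹M'.Normal›.conj_mem w hw h) (M'.inv_mem hw)⟩
        have h1 : w * h⁻¹ * w⁻¹ ∈ M ⊔ (Q₂ : Subgroup G) := by
          rw [← hwT, Cfsg.Lib.Coprime.mem_conjMap]
          have : w⁻¹ * (w * h⁻¹ * w⁻¹) * w = h⁻¹ := by group
          rw [this]
          exact inv_mem (hHT hh)
        have h2 := mul_mem (hH₂ hh) h1
        simpa [mul_assoc] using h2
      refine Nat.card_congr
        { toFun := fun x => ⟨u⁻¹ * x.1.1, M'.mul_mem (M'.inv_mem hu) x.1.2.1, ?_⟩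
          invFun := fun s => ⟨⟨u * s.1, mul_mem hu s.2.1, hcent _ (mul_mem hu s.2.1) (by
            rw [← Cfsg.Lib.Coprime.conjMap_mul, Cfsg.Lib.Coprime.conjMap_eq_self s.2.2, huT])⟩, ?_⟩
          left_inv := fun x => Subtype.ext (Subtype.ext (mul_inv_cancel_left _ _))
          right_inv := fun s => Subtype.ext (inv_mul_cancel_left _ _) }
      · have h1 : conjMap x.1.1 T = M ⊔ (Q₂ : Subgroup G) :=
          congrArg (fun z : {T₂ : {T : Subgroup G // Over p H M T} //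
            (⟨_, hup T₂.1 T₂.2⟩ : {T : Subgroup G // Over p H M' T}) = ⟨M' ⊔ (Q₀ : Subgroup G), hHT', Q₀, rfl⟩} =>
            z.1.1) x.2
        show u⁻¹ * x.1.1 ∈ normalizer (T : Set G)
        rw [← Cfsg.Lib.Coprime.conjMap_eq_self_iff, ← Cfsg.Lib.Coprime.conjMap_mul, h1, ← huT,
          Cfsg.Lib.Coprime.conjMap_inv_conjMap]
      · refine Subtype.ext (Subtype.ext ?_)
        show conjMap (u * s.1) T = _
        rw [← Cfsg.Lib.Coprime.conjMap_mul, Cfsg.Lib.Coprime.conjMap_eq_self s.2.2, huT]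
    have hprod := Cfsg.Lib.Coprime.card_sup_mul_card_inf (N := M') (H := normalizer (T : Set G))
      (by rw [normalizer_eq_top M']; exact le_top)
    rw [hT, normalizer_sup_eq M M' hle Q₁, card_normalizer_sup M' Q₁ P, card_normalizer_sup M Q₁ P] at hprod
    rw [← hX, hT] at hXc
    rw [hXc]
    calc _ = Nat.card {T₂ : {T : Subgroup G // Over p H M T} //
          (⟨_, hup T₂.1 T₂.2⟩ : {T : Subgroup G // Over p H M' T}) = ⟨M' ⊔ (Q₀ : Subgroup G), hHT', Q₀, rfl⟩} *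
            (Nat.card M' * a) := by ring
      _ = _ := by rw [← hprod]; ring
  have hcount : ∀ T' : {T : Subgroup G // Over p H M' T},
      Nat.card {T : {T : Subgroup G // Over p H M T} //
        (⟨_, hup T.1 T.2⟩ : {T : Subgroup G // Over p H M' T}) = T'} * (a * Nat.card M') = b * X := fun T' => by
    rw [← mul_assoc]; exact hfib T'
  haveI := Fintype.ofFinite {T : Subgroup G // Over p H M' T}
  calc Nat.card {T : Subgroup G // Over p H M T} * a * Nat.card M'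
      = (∑ T' : {T : Subgroup G // Over p H M' T}, Nat.card {T : {T : Subgroup G // Over p H M T} //
          (⟨_, hup T.1 T.2⟩ : {T : Subgroup G // Over p H M' T}) = T'}) * (a * Nat.card M') := by
        rw [← Nat.card_sigma, Nat.card_congr (Equiv.sigmaFiberEquiv _), mul_assoc]
    _ = _ := by
        rw [Finset.sum_mul, Finset.sum_congr rfl fun T' _ => hcount T', Finset.sum_const, Finset.card_univ,
          smul_eq_mul, ← Nat.card_eq_fintype_card, mul_assoc]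

end Cfsg.Lib.Subnormalizer
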