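/-
Normal subgroups all of whose outside cosets have constant element order.
-/
import Cfsg.Agent.SolvStruct.NilpotentHall
import Cfsg.Agent.Components.Cores
import Cfsg.Agent.Frobenius.Complement
import Cfsg.Agent.Frobenius.FpfGroups

set_option linter.style.haveILetI false
set_option linter.unusedSectionVars false

namespace Cfsg.Lib.SolvStruct.CosetOrder

open Subgroup
open scoped commutatorElement

universe u

variable {G : Type u} [Group G] [Finite G] {N : Subgroup G}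

/-- A commuting element of `N` of order prime to an outside element is trivial. -/
theorem eq_one_of_commute (heq : ∀ x : G, x ∉ N → ∀ n ∈ N, orderOf (x * n) = orderOf x) {x n : G}
    (hx : x ∉ N) (hn : n ∈ N) (hc : Commute x n) (hcop : (orderOf x).Coprime (orderOf n)) : n = 1 := by
  have h := heq x hx n hn
  rw [hc.orderOf_mul_eq_mul_orderOf_of_coprime hcop] at h
  exact orderOf_eq_one_iff.1 ((Nat.mul_eq_left (orderOf_pos x).ne').1 h)

theorem exists_primary_not_mem [N.Normal] {x : G} (hx : x ∉ N) :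
    ∃ p : ℕ, p.Prime ∧ ∃ k : ℕ, x ^ k ∉ N ∧ ∃ a, orderOf (x ^ k) = p ^ a := by
  set d := orderOf (x : G ⧸ N)
  have hd : d ≠ 1 := fun h => hx ((QuotientGroup.eq_one_iff x).1 (orderOf_eq_one_iff.1 h))
  obtain ⟨p, hp, hpd⟩ := Nat.exists_prime_and_dvd hd
  set o := orderOf x
  refine ⟨p, hp, o / p ^ o.factorization p, fun h => ?_, o.factorization p, ?_⟩
  · rw [← QuotientGroup.eq_one_iff, QuotientGroup.mk_pow, ← orderOf_dvd_iff_pow_eq_one] at h
    exact Nat.not_dvd_ordCompl hp (orderOf_pos x).ne' (hpd.trans h)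
  · rw [orderOf_pow_of_dvd (Nat.div_pos (Nat.le_of_dvd (orderOf_pos x) (Nat.ordProj_dvd _ _)) (pow_pos hp.pos _)).ne'
      (Nat.ordCompl_dvd _ _), Nat.div_div_self (Nat.ordProj_dvd _ _) (orderOf_pos x).ne']

theorem isPGroup_of_mem_fitting [N.Normal] (heq : ∀ x : G, x ∉ N → ∀ n ∈ N, orderOf (x * n) = orderOf x)
    {p : ℕ} (hp : p.Prime) {y : G} (hyF : y ∈ fittingSubgroup G) (hyN : y ∉ N) {a : ℕ}
    (hy : orderOf y = p ^ a) : IsPGroup p N := by
  classical
  haveI := Fact.mk hp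
  set F := fittingSubgroup G
  haveI hFn : F.Normal := inferInstance
  haveI : Group.IsNilpotent F := Cfsg.Lib.Components.isNilpotent_fitting
  refine fun n => ?_
  by_contra hcon
  push Not at hcon
  obtain ⟨q, hq, hqd, hqp⟩ : ∃ q, q.Prime ∧ q ∣ orderOf (n : G) ∧ q ≠ p := by
    by_contra h
    push Not at h
    have h' := Nat.eq_prime_pow_of_unique_prime_dvd (orderOf_pos (n : G)).ne' (fun {d} hd hdd => h d hd hdd)
    refine hcon (orderOf (n : G)).primeFactorsList.length (Subtype.ext ?_)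
    rw [SubgroupClass.coe_pow, ← h', pow_orderOf_eq_one]; rfl
  haveI := Fact.mk hq
  have hmo : orderOf ((n : G) ^ (orderOf (n : G) / q)) = q :=
    orderOf_pow_orderOf_div (orderOf_pos _).ne' hqd
  set m := (n : G) ^ (orderOf (n : G) / q) with hm
  have hmN : m ∈ N := pow_mem n.2 _
  have hmF : m ∈ F := by
    rw [← QuotientGroup.eq_one_iff, ← orderOf_eq_one_iff]
    have h1 : orderOf ((y * m : G) : G ⧸ F) ∣ p ^ a := by
      rw [← hy, ← heq y hyN m hmN]; exact orderOf_map_dvd (QuotientGroup.mk' F) (y * m)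
    rw [QuotientGroup.mk_mul, (QuotientGroup.eq_one_iff y).2 hyF, one_mul] at h1
    refine Nat.eq_one_of_dvd_coprimes ((Nat.coprime_primes hp hq).2 hqp.symm |>.pow_left a) h1 ?_
    rw [← hmo]; exact orderOf_map_dvd (QuotientGroup.mk' F) m
  have hc : Commute y m := congrArg Subtype.val (commute_of_coprime_of_nilpotent (K := F) hqp.symm
    (x := ⟨y, hyF⟩) (y := ⟨m, hmF⟩) ⟨a, (Subgroup.orderOf_mk _ _).trans hy⟩
    ⟨1, by rw [Subgroup.orderOf_mk, hmo, pow_one]⟩).eq
  have h1 := eq_one_of_commute heq hyN hmN hc (by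
    rw [hy, hmo]; exact Nat.Coprime.pow_left a ((Nat.coprime_primes hp hq).2 hqp.symm))
  rw [h1, orderOf_one] at hmo
  exact hq.ne_one hmo.symm

theorem fitting_dichotomy [N.Normal] (hN1 : N ≠ ⊥) (heq : ∀ x : G, x ∉ N → ∀ n ∈ N, orderOf (x * n) = orderOf x) :
    (N ≤ fittingSubgroup G ∨ fittingSubgroup G ≤ N) ∧
      (N < fittingSubgroup G → IsPrimePow (Nat.card (fittingSubgroup G))) := by
  have main : ¬ fittingSubgroup G ≤ N → ∃ p : ℕ, p.Prime ∧ IsPGroup p N ∧
      ∀ x ∈ fittingSubgroup G, ∃ b, orderOf x = p ^ b := by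
    intro h
    obtain ⟨x, hxF, hxN⟩ := SetLike.not_le_iff_exists.1 h
    obtain ⟨p, hp, k, hk, a, ha⟩ := exists_primary_not_mem hxN
    have hNp := isPGroup_of_mem_fitting heq hp (pow_mem hxF k) hk ha
    haveI := Fact.mk hp
    refine ⟨p, hp, hNp, fun z hz => ?_⟩
    refine ⟨(orderOf z).primeFactorsList.length,
      Nat.eq_prime_pow_of_unique_prime_dvd (orderOf_pos z).ne' fun {q} hq hqd => by_contra fun hqp => ?_⟩
    haveI := Fact.mk hq
    set w := z ^ (orderOf z / q)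
    have hwo : orderOf w = q := orderOf_pow_orderOf_div (orderOf_pos _).ne' hqd
    by_cases hwN : w ∈ N
    · obtain ⟨b, hb⟩ := IsPGroup.iff_orderOf.1 hNp ⟨w, hwN⟩
      rw [Subgroup.orderOf_mk, hwo] at hb
      rcases Nat.eq_zero_or_pos b with rfl | hb0
      · exact hq.ne_one (by simpa using hb)
      · exact hqp ((Nat.prime_dvd_prime_iff_eq hp hq).1 (hb ▸ dvd_pow_self p hb0.ne')).symm
    · have hNq := isPGroup_of_mem_fitting heq hq (pow_mem hz _) hwN (a := 1) (by rw [hwo, pow_one])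
      exact hN1 (disjoint_self.1 (IsPGroup.disjoint_of_ne q p hqp N N hNq hNp))
  constructor
  · by_cases h : fittingSubgroup G ≤ N
    · exact Or.inr h
    · obtain ⟨p, hp, hNp, -⟩ := main h
      haveI := Fact.mk hp
      exact Or.inl (Cfsg.Lib.Components.le_fitting hNp.isNilpotent)
  · intro hlt
    obtain ⟨p, hp, -, hF⟩ := main hlt.not_ge
    haveI := Fact.mk hp
    obtain ⟨b, hb⟩ := IsPGroup.iff_card.1 (IsPGroup.iff_orderOf.2 (fun x : fittingSubgroup G => by
      obtain ⟨b, hb⟩ := hF x x.2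
      exact ⟨b, by rwa [Subgroup.orderOf_coe] at hb⟩))
    refine ⟨p, b, hp.prime, Nat.pos_of_ne_zero fun h0 => ?_, hb.symm⟩
    rw [h0, pow_zero, card_eq_one] at hb
    rw [hb] at hlt
    exact not_lt_bot hlt

theorem fpf_of_coset_order [N.Normal] (heq : ∀ x : G, x ∉ N → ∀ n ∈ N, orderOf (x * n) = orderOf x)
    {p : ℕ} [Fact p.Prime] (hNp : IsPGroup p N) (H : Subgroup G) (hH1 : H ≠ ⊥) (hN1 : N ≠ ⊥)
    (hH : (Nat.card H).Coprime p) :
    Cfsg.IsFrobeniusComplement (H.subgroupOf (N ⊔ H)) ∧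
      Cfsg.frobeniusKernel (H.subgroupOf (N ⊔ H)) = (N.subgroupOf (N ⊔ H) : Set ↥(N ⊔ H)) := by
  obtain ⟨k, hk⟩ := IsPGroup.iff_card.1 hNp
  have hNH : N ⊓ H = ⊥ := Subgroup.inf_eq_bot_of_coprime (by rw [hk]; exact (hH.pow_right k).symm)
  set X := N ⊔ H
  haveI : (N.subgroupOf X).Normal := inferInstance
  have hc : (N.subgroupOf X).IsComplement' (H.subgroupOf X) := by
    refine Subgroup.isComplement'_of_disjoint_and_mul_eq_univ ?_ ?_
    · rw [disjoint_iff, eq_bot_iff_forall]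
      intro x hx
      obtain ⟨h1, h2⟩ := Subgroup.mem_inf.1 hx
      exact Subtype.ext ((eq_bot_iff_forall _).1 hNH x (Subgroup.mem_inf.mpr ⟨h1, h2⟩))
    · rw [Set.eq_univ_iff_forall]
      intro x
      obtain ⟨n, hn, h, hh, e⟩ := mem_sup_of_normal_left.1 x.2
      exact ⟨⟨n, mem_sup_left hn⟩, hn, ⟨h, mem_sup_right hh⟩, hh, Subtype.ext e⟩
  have hK : N.subgroupOf X ≠ ⊥ := fun h => hN1 (le_bot_iff.1 fun x hx => by
    have := (eq_bot_iff_forall _).1 h ⟨x, mem_sup_left hx⟩ hx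
    exact congrArg Subtype.val this)
  have hHne : H.subgroupOf X ≠ ⊥ := fun h => hH1 (le_bot_iff.1 fun x hx => by
    have := (eq_bot_iff_forall _).1 h ⟨x, mem_sup_right hx⟩ hx
    exact congrArg Subtype.val this)
  have hF : Cfsg.IsFrobeniusComplement (H.subgroupOf X) :=
    (Cfsg.Lib.Frobenius.isFrobeniusComplement_iff_fpf hc hK hHne).2 fun h hh h1 => by
      rw [eq_bot_iff_forall]
      intro v hv
      obtain ⟨hvN, hvC⟩ := Subgroup.mem_inf.1 hv
      refine Subtype.ext (eq_one_of_commute heq (x := (h : G)) (fun hhN => h1 (Subtype.ext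
        ((eq_bot_iff_forall _).1 hNH h (Subgroup.mem_inf.mpr ⟨hhN, hh⟩)))) hvN ?_ ?_)
      · exact (congrArg Subtype.val (mem_centralizer_singleton_iff.1 hvC)).symm
      · refine Nat.Coprime.coprime_dvd_left (Subgroup.orderOf_dvd_natCard H hh) ?_
        exact Nat.Coprime.coprime_dvd_right (Subgroup.orderOf_dvd_natCard N hvN) (hk ▸ hH.pow_right k)
  exact ⟨hF, (Cfsg.Lib.Frobenius.normal_eq_kernel hF hc).symm⟩

theorem eq_fitting_and_sylow [N.Normal] (hN1 : N ≠ ⊥)
    (heq : ∀ x : G, x ∉ N → ∀ n ∈ N, orderOf (x * n) = orderOf x) (hnil : Group.IsNilpotent N)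
    (hnpp : ¬ IsPrimePow (Nat.card N)) :
    N = fittingSubgroup G ∧ ∀ (q : ℕ) [Fact q.Prime] (Q : Sylow q (G ⧸ N)),
      IsCyclic (Q : Subgroup (G ⧸ N)) ∨ ∃ n : ℕ, Nonempty ((Q : Subgroup (G ⧸ N)) ≃* QuaternionGroup (2 ^ n)) := by
  haveI := hnil
  refine ⟨?_, ?_⟩
  · refine (Cfsg.Lib.Components.le_fitting hnil).eq_of_not_lt fun hlt => hnpp ?_
    have hF := (fitting_dichotomy hN1 heq).2 hlt
    obtain ⟨p, b, hp, hb, e⟩ := hF
    obtain ⟨j, -, hj⟩ := (Nat.dvd_prime_pow hp.nat_prime).1 (e ▸ card_dvd_of_le hlt.le)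
    exact ⟨p, j, hp, Nat.pos_of_ne_zero fun h0 => hN1 (card_eq_one.1 (by rw [hj, h0, pow_zero])), hj.symm⟩
  intro q _ Q
  have hq : q.Prime := Fact.out
  -- a prime of `N` other than `q`
  obtain ⟨r, hr, hrd, hrq⟩ : ∃ r, r.Prime ∧ r ∣ Nat.card N ∧ r ≠ q := by
    by_contra h
    push Not at h
    have h' := Nat.eq_prime_pow_of_unique_prime_dvd (Nat.card_pos (α := N)).ne' (fun {d} hd hdd => h d hd hdd)
    exact hnpp ⟨q, _, hq.prime, Nat.pos_of_ne_zero fun h0 => hN1 (card_eq_one.1 (by rw [h', h0, pow_zero])), h'.symm⟩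
  haveI := Fact.mk hr
  obtain ⟨R⟩ : Nonempty (Sylow r N) := inferInstance
  obtain ⟨Sq⟩ : Nonempty (Sylow q N) := inferInstance
  have hall := (Group.isNilpotent_of_finite_tfae (G := N)).out 0 3
  have hRn : (R : Subgroup N).Normal := hall.1 inferInstance r ‹_› R
  have hSn : (Sq : Subgroup N).Normal := hall.1 inferInstance q ‹_› Sq
  haveI : (R : Subgroup N).Characteristic := Sylow.characteristic_of_normal R hRn
  haveI : (Sq : Subgroup N).Characteristic := Sylow.characteristic_of_normal Sq hSn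
  set V := (R : Subgroup N).map N.subtype
  set B := (Sq : Subgroup N).map N.subtype
  haveI : B.Normal := inferInstance
  set π := QuotientGroup.mk' B
  obtain ⟨P, hP⟩ := Sylow.mapSurjective_surjective (QuotientGroup.mk'_surjective N) q Q
  set A := (P : Subgroup G).map π
  have hPN : (P : Subgroup G) ⊓ N = (P : Subgroup G) ⊓ B := by
    refine le_antisymm (le_inf inf_le_left fun x hx => ?_) (inf_le_inf le_rfl (map_subtype_le _))
    obtain ⟨hxP, hxN⟩ := Subgroup.mem_inf.1 hx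
    obtain ⟨i, hi⟩ := IsPGroup.iff_orderOf.1 P.2 ⟨x, hxP⟩
    rw [Subgroup.orderOf_mk] at hi
    obtain ⟨S', hS'⟩ := (IsPGroup.of_card (p := q) (n := i) (G := zpowers (⟨x, hxN⟩ : N))
      (by rw [Nat.card_zpowers, Subgroup.orderOf_mk, hi])).exists_le_sylow
    haveI := Sylow.unique_of_normal Sq hSn
    rw [Subsingleton.elim S' Sq] at hS'
    exact ⟨⟨x, hxN⟩, hS' (mem_zpowers _), rfl⟩
  have hQA : Nonempty ((Q : Subgroup (G ⧸ N)) ≃* A) := by
    let f := (QuotientGroup.mk' N).subgroupMap (P : Subgroup G)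
    let g := π.subgroupMap (P : Subgroup G)
    have hf : Function.Surjective f := (QuotientGroup.mk' N).subgroupMap_surjective _
    have hg : Function.Surjective g := π.subgroupMap_surjective _
    have hker : f.ker = g.ker := by
      ext x
      rw [MonoidHom.mem_ker, MonoidHom.mem_ker, Subtype.ext_iff, Subtype.ext_iff]
      show (QuotientGroup.mk' N) x = 1 ↔ π x = 1
      rw [QuotientGroup.mk'_apply, QuotientGroup.mk'_apply, QuotientGroup.eq_one_iff, QuotientGroup.eq_one_iff]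
      constructor
      · intro h
        exact (Subgroup.mem_inf.1 (hPN.le (Subgroup.mem_inf.mpr ⟨x.2, h⟩))).2
      · exact fun h => map_subtype_le _ h
    have hQ' : (Q : Subgroup (G ⧸ N)) = (P : Subgroup G).map (QuotientGroup.mk' N) := by
      rw [← hP, Sylow.coe_mapSurjective]
    exact ⟨(MulEquiv.subgroupCongr hQ').trans
      ((QuotientGroup.quotientKerEquivOfSurjective f hf).symm.trans
        ((QuotientGroup.quotientMulEquivOfEq hker).trans (QuotientGroup.quotientKerEquivOfSurjective g hg)))⟩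
  obtain ⟨e⟩ := hQA
  have hVn : V.Normal := inferInstance
  haveI : (V.map π).Normal := hVn.map π (QuotientGroup.mk'_surjective B)
  have hVB : V ⊓ B = ⊥ :=
    disjoint_iff.1 (IsPGroup.disjoint_of_ne r q hrq V B (R.2.map _) (Sq.2.map _))
  have hfpf : Cfsg.Lib.Frobenius.Fpf A (V.map π) := by
    rintro _ ⟨x, hx, rfl⟩ hx1
    rw [eq_bot_iff_forall]
    intro z hz
    obtain ⟨⟨v, hv, rfl⟩, hzc⟩ := Subgroup.mem_inf.1 hz
    have hxN : x ∉ N := fun h => hx1 ((QuotientGroup.eq_one_iff x).2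
      (Subgroup.mem_inf.1 (hPN.le (Subgroup.mem_inf.mpr ⟨hx, h⟩))).2)
    have hcm : x * v * x⁻¹ * v⁻¹ ∈ V ⊓ B := by
      refine Subgroup.mem_inf.mpr ⟨mul_mem (hVn.conj_mem v hv x) (inv_mem hv), ?_⟩
      rw [← QuotientGroup.eq_one_iff]
      show π (x * v * x⁻¹ * v⁻¹) = 1
      rw [map_mul, map_mul, map_mul, map_inv, map_inv, ← mem_centralizer_singleton_iff.1 hzc,
        mul_inv_cancel_right, mul_inv_cancel]
    rw [hVB, mem_bot, mul_inv_eq_one, mul_inv_eq_iff_eq_mul] at hcm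
    obtain ⟨i, hi⟩ := IsPGroup.iff_orderOf.1 P.2 ⟨x, hx⟩
    rw [Subgroup.orderOf_mk] at hi
    obtain ⟨j, hj⟩ := IsPGroup.iff_orderOf.1 (R.2.map N.subtype) ⟨v, hv⟩
    rw [Subgroup.orderOf_mk] at hj
    have := eq_one_of_commute heq hxN (map_subtype_le _ hv) hcm (by
      rw [hi, hj]; exact Nat.Coprime.pow _ _ ((Nat.coprime_primes hq hr).2 hrq.symm))
    rw [this, map_one]
  have hVne : V.map π ≠ ⊥ := by
    intro h
    rw [Subgroup.map_eq_bot_iff, QuotientGroup.ker_mk'] at h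
    have : V = ⊥ := by rw [← hVB]; exact (inf_eq_left.2 h).symm
    rw [Subgroup.map_eq_bot_iff, Subgroup.ker_subtype, le_bot_iff] at this
    exact R.ne_bot_of_dvd_card hrd this
  rcases Cfsg.Lib.Frobenius.Fpf.isCyclic_or_quaternion (by rw [normalizer_eq_top]; exact le_top) hfpf hVne
      (P.2.map π) with hc | ⟨-, n, ⟨e'⟩⟩
  · exact Or.inl (isCyclic_of_surjective e.symm.toMonoidHom e.symm.surjective)
  · exact Or.inr ⟨n, ⟨e.trans e'⟩⟩

end Cfsg.Lib.SolvStruct.CosetOrder
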