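/-
A TI Hall subgroup with a normal complement in its normalizer has a normal complement in the group,
and is a Frobenius complement unless it is normal.
-/
import Cfsg.Agent.Frobenius.Kernel
import Cfsg.Agent.SolvStruct.TIHallComplement

set_option autoImplicit false
set_option linter.style.haveILetI false
set_option linter.unusedSectionVars false

namespace Cfsg.Lib.SolvStruct.TIHallTransfer

open Subgroup Cfsg.Lib.Coprime Cfsg.Lib.Chars
open scoped Pointwise

universe u

variable {G : Type u} [Group G] [Finite G] {H : Subgroup G}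

section Transfer

variable (hTI : Cfsg.IsTISubset (H : Set G))
  (hrel : (Nat.card H).Coprime (H.relIndex (normalizer (H : Set G))))
  {K : Subgroup (normalizer (H : Set G))} [hKn : K.Normal]
  (hK : K.IsComplement' (H.subgroupOf (normalizer (H : Set G))))

include hTI hrel hKn hK in
theorem exists_irr_extension (φ : Cfsg.IrrCharacter H) :
    ∃ χ : G → ℂ, Cfsg.IsIrrCharacter G χ ∧ (∀ h : H, χ h = (φ : H → ℂ) h) ∧
      ∀ x : G, (orderOf x).Coprime (Nat.card H) → χ x = χ 1 := by
  classical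
  haveI := Fintype.ofFinite G
  haveI := Fintype.ofFinite H
  by_cases hφ : (φ : H → ℂ) = fun _ => 1
  · exact ⟨fun _ => 1, isIrrCharacter_one, fun h => by rw [hφ], fun _ _ => rfl⟩
  haveI := Fintype.ofFinite (normalizer (H : Set G))
  haveI hHn : (H.subgroupOf (normalizer (H : Set G))).Normal := Subgroup.normal_in_normalizer
  -- the projection onto `H`
  let f : H →* (normalizer (H : Set G)) ⧸ K := (QuotientGroup.mk' K).comp (Subgroup.inclusion le_normalizer)
  have hf : Function.Bijective f := by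
    refine ⟨?_, fun y => ?_⟩
    · rw [← MonoidHom.ker_eq_bot_iff, eq_bot_iff_forall]
      intro h hh
      have h1 : Subgroup.inclusion le_normalizer h ∈ K :=
        (QuotientGroup.eq_one_iff _).1 (MonoidHom.mem_ker.1 hh)
      have h2 := disjoint_def.1 hK.disjoint h1 (mem_subgroupOf.2 h.2)
      exact Subtype.ext (congrArg Subtype.val h2 :)
    · obtain ⟨n, rfl⟩ := QuotientGroup.mk'_surjective K y
      obtain ⟨⟨k, h⟩, hkh⟩ := hK.2 n
      refine ⟨⟨((h : (normalizer (H : Set G))) : G), h.2⟩, ?_⟩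
      show (QuotientGroup.mk' K) (Subgroup.inclusion le_normalizer ⟨((h : (normalizer (H : Set G))) : G), h.2⟩) = _
      rw [← hkh]
      show (QuotientGroup.mk' K) (h : (normalizer (H : Set G))) = (QuotientGroup.mk' K) ((k : (normalizer (H : Set G))) * h)
      rw [map_mul, show (QuotientGroup.mk' K) (k : (normalizer (H : Set G))) = 1 from (QuotientGroup.eq_one_iff _).2 k.2, one_mul]
  let e := MulEquiv.ofBijective f hf
  let π : (normalizer (H : Set G)) →* H := e.symm.toMonoidHom.comp (QuotientGroup.mk' K)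
  have hπH : ∀ h : H, π (Subgroup.inclusion le_normalizer h) = h := fun h => e.symm_apply_apply h
  have hπK : ∀ n : (normalizer (H : Set G)), π n = 1 ↔ n ∈ K := fun n => by
    show e.symm (QuotientGroup.mk' K n) = 1 ↔ _
    rw [MulEquiv.map_eq_one_iff]
    exact QuotientGroup.eq_one_iff n
  have hπs : Function.Surjective π := fun h => ⟨_, hπH h⟩
  have hco : ∀ n : (normalizer (H : Set G)), (orderOf (n : G)).Coprime (Nat.card H) → π n = 1 := fun n hn => by
    rw [Subgroup.orderOf_coe] at hn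
    exact orderOf_eq_one_iff.1 (Nat.eq_one_of_dvd_coprimes hn (orderOf_map_dvd π n) (orderOf_dvd_natCard _))
  -- the support
  let T : Set G := {x | ∃ hx : x ∈ (normalizer (H : Set G)), π ⟨x, hx⟩ ≠ 1}
  have hTIT : ∀ g : G, g ∉ (normalizer (H : Set G)) → ∀ t ∈ T, g * t * g⁻¹ ∈ T → t = 1 := by
    intro g hg t ht hgt
    obtain ⟨htN, ht⟩ := ht
    obtain ⟨hgN, -⟩ := hgt
    exfalso
    set m := H.relIndex (normalizer (H : Set G)) with hm
    have h1 : ∀ x : (normalizer (H : Set G)), (x : G) ^ m ∈ H := fun x => by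
      have := Subgroup.pow_index_mem (H.subgroupOf (normalizer (H : Set G))) x
      rwa [mem_subgroupOf, SubgroupClass.coe_pow] at this
    have h2 : t ^ m ≠ 1 := fun e1 => ht (by
      have e2 : (⟨t, htN⟩ : (normalizer (H : Set G))) ^ m = 1 := Subtype.ext (by simpa using e1)
      have e3 : π ⟨t, htN⟩ ^ m = 1 := by rw [← map_pow, e2, map_one]
      exact orderOf_eq_one_iff.1 (Nat.eq_one_of_dvd_coprimes hrel (orderOf_dvd_natCard _)
        (orderOf_dvd_of_pow_eq_one e3)))
    refine h2 (hTI g hg _ (h1 ⟨t, htN⟩) ?_)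
    rw [← conj_pow]
    exact h1 ⟨_, hgN⟩
  set d : ℕ := deg (φ : H → ℂ) with hd
  have hd1 : (φ : H → ℂ) 1 = d := irr_apply_one_eq_deg φ
  let ψ : Cfsg.IrrCharacter (normalizer (H : Set G)) :=
    ⟨fun n => (φ : H → ℂ) (π n), IsIrrCharacter.comp_surjective φ.2 π hπs⟩
  have hψ1 : (ψ : (normalizer (H : Set G)) → ℂ) 1 = d := by
    show (φ : H → ℂ) (π 1) = d
    rw [map_one, hd1]
  have hψne : (ψ : (normalizer (H : Set G)) → ℂ) ≠ fun _ => 1 := fun h => hφ (funext fun x => by
    have := congrFun h (Subgroup.inclusion le_normalizer x)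
    change (φ : H → ℂ) (π (Subgroup.inclusion le_normalizer x)) = 1 at this
    rwa [hπH] at this)
  let θ : (normalizer (H : Set G)) → ℂ := (d : ℂ) • (fun _ => (1 : ℂ)) - (ψ : (normalizer (H : Set G)) → ℂ)
  have hθ0 : ∀ n : (normalizer (H : Set G)), π n = 1 → θ n = 0 := fun n hn => by
    show (d : ℂ) * 1 - (φ : H → ℂ) (π n) = 0
    rw [hn, hd1, mul_one, sub_self]
  have hθc : Cfsg.IsClassFunction (normalizer (H : Set G)) θ := fun g h => by simp [θ, isClassFunction_irr ψ g h]
  have hθT : ∀ x : (normalizer (H : Set G)), (x : G) ∉ T → θ x = 0 := fun x hx =>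
    hθ0 x (by_contra fun h => hx ⟨x.2, h⟩)
  let I : G → ℂ := Cfsg.indFun (normalizer (H : Set G)) θ
  let χ : G → ℂ := (d : ℂ) • (fun _ => (1 : ℂ)) - I
  have hI0 : ∀ x : G, (orderOf x).Coprime (Nat.card H) → I x = 0 := by
    intro x hx
    show Cfsg.indFun (normalizer (H : Set G)) θ x = 0
    rw [indFun_apply, Finset.sum_eq_zero, mul_zero]
    intro y _
    by_cases hy : y⁻¹ * x * y ∈ (normalizer (H : Set G))
    · rw [extendByZero_mem θ hy]
      refine hθ0 _ (hco _ ?_)
      show (orderOf (y⁻¹ * x * y)).Coprime _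
      have e1 : orderOf (y⁻¹ * x * y) = orderOf x := by
        have := orderOf_injective (MulAut.conj y⁻¹).toMonoidHom (MulAut.conj y⁻¹).injective x
        simpa using this
      rwa [e1]
    · exact extendByZero_not_mem θ hy
  have hI : ∀ t : (normalizer (H : Set G)), I t = θ t := by
    intro t
    by_cases ht : π t = 1
    · by_cases hx : ∀ y : G, y⁻¹ * t * y ∉ T
      · rw [hθ0 t ht]
        show Cfsg.indFun (normalizer (H : Set G)) θ t = 0
        rw [indFun_apply, Finset.sum_eq_zero, mul_zero]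
        intro y _
        by_cases hy : y⁻¹ * (t : G) * y ∈ (normalizer (H : Set G))
        · rw [extendByZero_mem θ hy]
          exact hθT _ (hx y)
        · exact extendByZero_not_mem θ hy
      · push Not at hx
        obtain ⟨y, hy, hy'⟩ := hx
        exfalso
        refine hy' (hco _ ?_)
        have e1 : orderOf (y⁻¹ * (t : G) * y) = orderOf (t : G) := by
          have := orderOf_injective (MulAut.conj y⁻¹).toMonoidHom (MulAut.conj y⁻¹).injective (t : G)
          simpa using this
        show (orderOf (y⁻¹ * (t : G) * y)).Coprime _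
        rw [e1, Subgroup.orderOf_coe]
        have e2 : t ∈ K := (hπK t).1 ht
        have e3 : Nat.card K = H.relIndex (normalizer (H : Set G)) := hK.index_eq_card.symm
        exact (Nat.Coprime.coprime_dvd_left (e3 ▸ Subgroup.orderOf_dvd_natCard K e2) hrel.symm)
    · exact indFun_TI_apply' (normalizer (H : Set G)) T hTIT hθc hθT t ⟨t.2, ht⟩ fun e1 => ht (by rw [e1, map_one])
  have hres : ∀ h : H, χ h = (φ : H → ℂ) h := fun h => by
    show (d : ℂ) * 1 - I (h : G) = _
    rw [show (h : G) = ((Subgroup.inclusion le_normalizer h : (normalizer (H : Set G))) : G) from rfl, hI]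
    show (d : ℂ) * 1 - ((d : ℂ) * 1 - (φ : H → ℂ) (π (Subgroup.inclusion le_normalizer h))) = _
    rw [hπH, sub_sub_cancel]
  have hχ1 : χ 1 = d := by
    have h := hres 1
    rwa [OneMemClass.coe_one, hd1] at h
  have honec : Cfsg.IsClassFunction G (fun _ => (1 : ℂ)) := fun _ _ => rfl
  have hrr : Cfsg.classInner (ψ : (normalizer (H : Set G)) → ℂ) ψ = 1 := classInner_irr_self ψ
  have h11 : Cfsg.classInner (fun _ : (normalizer (H : Set G)) => (1 : ℂ)) (fun _ => 1) = 1 :=
    classInner_irr_self (principal (normalizer (H : Set G)))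
  have h1φ : Cfsg.classInner (fun _ : (normalizer (H : Set G)) => (1 : ℂ)) (ψ : (normalizer (H : Set G)) → ℂ) = 0 :=
    classInner_irr_ne (χ := principal (normalizer (H : Set G))) (ψ := ψ) fun h => hψne (congrArg Subtype.val h).symm
  have hφ1 : Cfsg.classInner (ψ : (normalizer (H : Set G)) → ℂ) (fun _ : (normalizer (H : Set G)) => (1 : ℂ)) = 0 :=
    classInner_irr_ne (χ := ψ) (ψ := principal (normalizer (H : Set G))) fun h => hψne (congrArg Subtype.val h)
  have hG11 : Cfsg.classInner (fun _ : G => (1 : ℂ)) (fun _ => 1) = 1 :=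
    classInner_irr_self (principal G)
  have hθ1' : Cfsg.classInner θ (fun _ : (normalizer (H : Set G)) => (1 : ℂ)) = (d : ℂ) := by
    simp [θ, classInner_sub_left, classInner_smul_left, h11, hφ1]
  have hI1 : Cfsg.classInner I (fun _ => 1) = (d : ℂ) := by
    show Cfsg.classInner (Cfsg.indFun (normalizer (H : Set G)) θ) (fun _ => 1) = _
    rw [frobenius_reciprocity (normalizer (H : Set G)) θ honec]
    exact hθ1'
  have h1I : Cfsg.classInner (fun _ => 1) I = (d : ℂ) := by
    rw [← classInner_conj_symm, hI1]; simp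
  have hII : Cfsg.classInner I I = (d : ℂ) * d + 1 := by
    show Cfsg.classInner (Cfsg.indFun (normalizer (H : Set G)) θ) I = _
    rw [frobenius_reciprocity (normalizer (H : Set G)) θ (isClassFunction_indFun (normalizer (H : Set G)) θ)]
    rw [show (fun h : (normalizer (H : Set G)) => I h) = θ from funext hI]
    simp [θ, classInner_sub_left, classInner_sub_right, classInner_smul_left,
      classInner_smul_right, h11, hφ1, h1φ, hrr]
  have hnorm : Cfsg.classInner χ χ = 1 := by
    simp [χ, classInner_sub_left, classInner_sub_right, classInner_smul_left,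
      classInner_smul_right, hG11, hI1, h1I, hII]
  have hgen : Cfsg.IsGeneralizedCharacter G χ := by
    refine IsGeneralizedCharacter.sub ?_ (IsGeneralizedCharacter.indFun ?_)
    · rw [Nat.cast_smul_eq_nsmul]
      exact IsCharacter.isGeneralized (IsCharacter.nsmul isCharacter_one d)
    · refine IsGeneralizedCharacter.sub ?_ (IsCharacter.isGeneralized (isCharacter_of_irr ψ.2))
      rw [Nat.cast_smul_eq_nsmul]
      exact IsCharacter.isGeneralized (IsCharacter.nsmul isCharacter_one d)
  refine ⟨χ, (isIrr_or_neg_of_norm_one hgen hnorm).resolve_right fun hneg => ?_, hres,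
    fun x hx => ?_⟩
  · have h := IsCharacter.apply_one_eq_deg (isCharacter_of_irr hneg)
    rw [Pi.neg_apply, hχ1] at h
    have hpos := deg_irr_pos φ
    have h' : ((d + deg (-χ) : ℕ) : ℂ) = ((0 : ℕ) : ℂ) := by
      rw [Nat.cast_add, ← h]; simp
    have := Nat.cast_injective h'
    omega
  · rw [hχ1]
    show (d : ℂ) * 1 - I x = _
    rw [hI0 x hx, mul_one, sub_zero]

include hTI hrel hKn hK in
theorem exists_normal_complement : ∃ M : Subgroup G, M.Normal ∧ M.IsComplement' H := by
  classical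
  haveI := Fintype.ofFinite G
  have hHall := coprime_index_of_ti hTI hrel
  let M : Subgroup G := ⨅ (χ : Cfsg.IrrCharacter G)
    (_ : ∀ x : G, (orderOf x).Coprime (Nat.card H) → (χ : G → ℂ) x = (χ : G → ℂ) 1),
      kerSubgroup (χ : G → ℂ) (isCharacter_of_irr χ.2)
  have hMn : M.Normal := Subgroup.normal_iInf_normal fun χ => Subgroup.normal_iInf_normal fun _ =>
    kerSubgroup_normal _
  haveI := hMn
  have hsub : ∀ x : G, (orderOf x).Coprime (Nat.card H) → x ∈ M := fun x hx => by
    simp only [M, Subgroup.mem_iInf]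
    exact fun χ hχ => hχ x hx
  have hinf : M ⊓ H = ⊥ := by
    rw [eq_bot_iff_forall]
    rintro x ⟨hxM, hxH⟩
    have hconj : IsConj (⟨x, hxH⟩ : H) 1 := by
      rw [isConj_iff_forall_irr]
      intro φ
      obtain ⟨χ, hχ, hres, hker⟩ := exists_irr_extension hTI hrel hK φ
      have hx' : x ∈ kerSubgroup χ (isCharacter_of_irr hχ) := by
        have h' : x ∈ M := hxM
        simp only [M, Subgroup.mem_iInf] at h'
        exact h' ⟨χ, hχ⟩ hker
      rw [mem_kerSubgroup] at hx'
      rw [← hres, ← hres]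
      exact hx'
    obtain ⟨c, hc⟩ := isConj_iff.mp hconj
    rw [mul_inv_eq_one, mul_eq_left] at hc
    exact congrArg Subtype.val hc
  have hcop : M.index.Coprime H.index := by
    refine Nat.coprime_of_dvd fun q hq hqM hqH => ?_
    haveI := Fact.mk hq
    have hqn : ¬ q ∣ Nat.card H := fun h => hq.ne_one (Nat.eq_one_of_dvd_coprimes hHall h hqH)
    obtain ⟨Q⟩ := (inferInstance : Nonempty (Sylow q G))
    refine Q.not_dvd_index (hqM.trans (index_dvd_of_le fun x hx => hsub x ?_))
    obtain ⟨j, hj⟩ := IsPGroup.iff_orderOf.1 Q.2 ⟨x, hx⟩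
    rw [← Subgroup.orderOf_coe] at hj
    rw [show orderOf x = q ^ j from hj]
    exact Nat.Coprime.pow_left _ (hq.coprime_iff_not_dvd.2 hqn)
  have hdvd : H.index ∣ Nat.card M := by
    refine hcop.symm.dvd_of_dvd_mul_right ?_
    rw [M.card_mul_index, ← H.card_mul_index]
    exact dvd_mul_left _ _
  have h2 : Nat.card ↥(M ⊔ H) * 1 = Nat.card M * Nat.card H := by
    have := card_sup_mul_card_inf (N := M) (H := H) le_normalizer_of_normal
    rwa [hinf, card_bot] at this
  have hMc : Nat.card M = H.index := by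
    refine le_antisymm (Nat.le_of_mul_le_mul_right ?_ (Nat.card_pos (α := H)))
      (Nat.le_of_dvd Nat.card_pos hdvd)
    rw [← h2, mul_one, mul_comm H.index, H.card_mul_index]
    exact card_le_card_group _
  refine ⟨M, hMn, isComplement'_of_card_mul_and_disjoint ?_ (disjoint_iff.mpr hinf)⟩
  rw [hMc, mul_comm, H.card_mul_index]

end Transfer

/-- the intersection with the normalizer -/
theorem exists_complement_normalizer {M : Subgroup G} [M.Normal] (hM : M.IsComplement' H) :
    ∃ K : Subgroup (normalizer (H : Set G)), K.Normal ∧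
      K.IsComplement' (H.subgroupOf (normalizer (H : Set G))) := by
  refine ⟨M.subgroupOf _, inferInstance, isComplement'_of_disjoint_and_mul_eq_univ ?_ ?_⟩
  · rw [disjoint_def]
    intro x hx hx'
    exact Subtype.ext (disjoint_def.1 hM.disjoint (mem_subgroupOf.1 hx) (mem_subgroupOf.1 hx'))
  · rw [Set.eq_univ_iff_forall]
    intro x
    obtain ⟨⟨m, h⟩, hmh⟩ := hM.2 (x : G)
    have hhN : (h : G) ∈ normalizer (H : Set G) := le_normalizer h.2
    have hmN : (m : G) ∈ normalizer (H : Set G) := by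
      have e : (m : G) = x * (h : G)⁻¹ := eq_mul_inv_of_mul_eq hmh
      rw [e]
      exact mul_mem x.2 (inv_mem hhN)
    exact ⟨⟨m, hmN⟩, mem_subgroupOf.2 m.2, ⟨h, hhN⟩, mem_subgroupOf.2 h.2, Subtype.ext hmh⟩

section Occurs

variable (hTI : Cfsg.IsTISubset (H : Set G)) {M : Subgroup G} [hMn : M.Normal] (hM : M.IsComplement' H)
  (hcop : (Nat.card M).Coprime (Nat.card H))

include hM hcop in
/-- elements of the normalizer of order prime to the complement lie in the subgroup -/
theorem mem_of_mem_normalizer {x : G} (hx : x ∈ normalizer (H : Set G))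
    (hxo : (orderOf x).Coprime (Nat.card M)) : x ∈ H := by
  obtain ⟨⟨m, h⟩, hmh⟩ := hM.2 x
  have hmN : (m : G) ∈ normalizer (H : Set G) := by
    rw [eq_mul_inv_of_mul_eq hmh]
    exact mul_mem hx (inv_mem (le_normalizer h.2))
  have hc : Commute (m : G) h := by
    have h1 : (m : G) * h * (m : G)⁻¹ * (h : G)⁻¹ ∈ M := by
      rw [show (m : G) * h * (m : G)⁻¹ * (h : G)⁻¹ = m * (h * (m : G)⁻¹ * (h : G)⁻¹) by group]
      exact mul_mem m.2 (hMn.conj_mem _ (inv_mem m.2) _)
    have h2 : (m : G) * h * (m : G)⁻¹ * (h : G)⁻¹ ∈ H :=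
      mul_mem ((mem_normalizer_iff.1 hmN _).1 h.2) (inv_mem h.2)
    have h3 := disjoint_def.1 hM.disjoint h1 h2
    exact mul_inv_eq_iff_eq_mul.1 (mul_inv_eq_one.1 h3)
  have h1 : (m : G) ^ orderOf x * (h : G) ^ orderOf x = 1 := by
    rw [← hc.mul_pow]
    exact (congrArg (· ^ orderOf x) hmh).trans (pow_orderOf_eq_one x)
  have h2 : (m : G) ^ orderOf x = 1 := disjoint_def.1 hM.disjoint (pow_mem m.2 _) (by
    rw [mul_eq_one_iff_eq_inv.1 h1]; exact inv_mem (pow_mem h.2 _))
  have h3 : (m : G) = 1 := orderOf_eq_one_iff.1 (Nat.eq_one_of_dvd_coprimes hxo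
    (orderOf_dvd_of_pow_eq_one h2) (Subgroup.orderOf_dvd_natCard M m.2))
  rw [← hmh]
  show (m : G) * h ∈ H
  rw [h3, one_mul]
  exact h.2

include hM in
theorem sup_eq_top : M ⊔ H = ⊤ := hM.sup_eq_top

include hTI hM hcop in
/-- the complements of `M` are conjugate -/
theorem exists_conj_complement (hH1 : H ≠ ⊥) {B : Subgroup G} (hB : Nat.card B = Nat.card H) :
    ∃ g : G, B = conjMap g H := by
  -- a conjugate meeting `H`
  have hB1 : B ≠ ⊥ := fun h => hH1 (card_eq_one.1 (hB ▸ card_eq_one.2 h))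
  obtain ⟨b, hb, hb1⟩ := (Subgroup.ne_bot_iff_exists_ne_one.1 hB1 |> fun ⟨x, hx⟩ =>
    (⟨(x : G), x.2, fun h => hx (Subtype.ext h)⟩ : ∃ b : G, b ∈ B ∧ b ≠ 1))
  have hsol1 : Group.IsSolvable (zpowers b) := inferInstance
  obtain ⟨x, -, hxb⟩ := exists_conj_le_of_coprime (N := M) (H := H) (L := zpowers b)
    le_normalizer_of_normal hcop (Or.inr hsol1) (by rw [sup_eq_top hM]; exact le_top)
    (Nat.Coprime.coprime_dvd_right (Subgroup.card_dvd_of_le (zpowers_le.2 hb)) (hB ▸ hcop))
  set B' := conjMap x⁻¹ B with hB'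
  have hcB' : Nat.card B' = Nat.card H := by rw [hB', card_conjMap, hB]
  suffices h : ∃ g : G, B' = conjMap g H by
    obtain ⟨g, hg⟩ := h
    exact ⟨x * g, by rw [← conjMap_mul, ← hg, hB', conjMap_conjMap_inv]⟩
  have hb' : x⁻¹ * b * x ∈ B' ⊓ H := by
    refine ⟨?_, mem_conjMap.1 (hxb (mem_zpowers b))⟩
    show x⁻¹ * b * x ∈ conjMap x⁻¹ B
    rw [mem_conjMap]
    simpa [mul_assoc] using hb
  have hb'1 : x⁻¹ * b * x ≠ 1 := fun h => hb1 (by
    have e : b = x * (x⁻¹ * b * x) * x⁻¹ := by group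
    rw [e, h]; simp)
  by_cases hle : B' ≤ H
  · exact ⟨1, by rw [conjMap_one]; exact Subgroup.eq_of_le_of_card_ge hle hcB'.ge⟩
  have hcoB : ∀ y ∈ B', (orderOf y).Coprime (Nat.card M) := fun y hy =>
    Nat.Coprime.coprime_dvd_left ((Subgroup.orderOf_dvd_natCard B' hy).trans hcB'.dvd) hcop.symm
  set D := (B' ⊓ H).subgroupOf B' with hD
  have hF : Cfsg.IsFrobeniusComplement D := by
    refine ⟨?_, ?_, fun g hg => ?_⟩
    · intro h
      refine hb'1 ?_
      have := (eq_bot_iff_forall _).1 h ⟨_, hb'.1⟩ (mem_subgroupOf.2 hb')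
      exact congrArg Subtype.val this
    · intro h
      refine hle fun y hy => ?_
      exact (mem_subgroupOf.1 (h.ge (mem_top (⟨y, hy⟩ : B')))).2
    · rw [eq_bot_iff_forall]
      intro y hy
      obtain ⟨h1, h2⟩ := Subgroup.mem_inf.1 hy
      rw [conj_smul_eq, mem_conjMap] at h2
      by_contra hne
      refine hg (mem_subgroupOf.2 ⟨g.2, mem_of_mem_normalizer hM hcop ?_ (hcoB _ g.2)⟩)
      by_contra hgN
      refine hne (Subtype.ext ?_)
      exact hTI (g : G)⁻¹ (fun h => hgN (by simpa using inv_mem h)) _ (mem_subgroupOf.1 h1).2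
        (by simpa using (mem_subgroupOf.1 h2).2)
  obtain ⟨N1, hN1, hN1n, hN1c⟩ := Cfsg.Lib.Frobenius.exists_kernel hF
  haveI := hN1n
  haveI : Group.IsNilpotent N1 := Cfsg.Lib.Frobenius.isNilpotent_kernel hF hN1
  have hN1ne : N1 ≠ ⊥ := fun h => by
    refine hF.2.1 (eq_top_of_card_eq _ ?_)
    have := hN1c.card_mul
    rwa [h, card_bot, one_mul] at this
  set K1 := N1.map B'.subtype with hK1
  have hK1B : K1 ≤ B' := map_subtype_le _
  have hsolK : Group.IsSolvable K1 := by
    haveI : Group.IsSolvable N1 := inferInstance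
    exact Group.isSolvable_of_surjective
      (f := (N1.equivMapOfInjective B'.subtype B'.subtype_injective).toMonoidHom)
      (MulEquiv.surjective _)
  have hBn : B' ≤ normalizer (K1 : Set G) := by
    refine (normal_subgroupOf_iff_le_normalizer hK1B).1 ?_
    rwa [hK1, subgroupOf, comap_map_eq_self_of_injective B'.subtype_injective]
  obtain ⟨y, -, hy⟩ := exists_conj_le_of_coprime (N := M) (H := H) (L := K1) le_normalizer_of_normal
    hcop (Or.inr hsolK) (by rw [sup_eq_top hM]; exact le_top)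
    (Nat.Coprime.coprime_dvd_right ((Subgroup.card_dvd_of_le hK1B).trans hcB'.dvd) hcop)
  set U := conjMap y⁻¹ K1 with hU
  have hUH : U ≤ H := by
    have := conjMap_mono (g := y⁻¹) hy
    rwa [conjMap_inv_conjMap] at this
  have hUne : U ≠ ⊥ := by
    intro h
    refine hN1ne ((map_eq_bot_iff_of_injective _ B'.subtype_injective).1 ?_)
    rw [← hK1, ← card_eq_one, ← card_conjMap y⁻¹ K1, ← hU, h, card_bot]
  refine ⟨y, ?_⟩
  have h1 : conjMap y⁻¹ B' ≤ H := by
    intro z hz
    refine mem_of_mem_normalizer hM hcop (normalizer_le_of_ti hTI hUH hUne ?_) ?_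
    · rw [hU, normalizer_conjMap]
      exact conjMap_mono hBn hz
    · exact Nat.Coprime.coprime_dvd_left ((Subgroup.orderOf_dvd_natCard _ hz).trans
        (by rw [card_conjMap, hcB'])) hcop.symm
  have h2 : conjMap y⁻¹ B' = H := Subgroup.eq_of_le_of_card_ge h1 (by rw [card_conjMap, hcB'])
  rw [← h2, conjMap_conjMap_inv]

include hTI hM hcop in
theorem exists_frobenius (hHn : ¬ H.Normal) :
    ∃ (F : Type u) (_ : Group F) (_ : Finite F) (C : Subgroup F),
      Cfsg.IsFrobeniusComplement C ∧ Nonempty (H ≃* C) := by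
  classical
  have hH1 : H ≠ ⊥ := fun h => hHn (h ▸ inferInstance)
  set N := normalizer (H : Set G) with hN
  -- a prime with a Sylow subgroup of `M` outside `N`
  have hne : (M ⊓ N).relIndex M ≠ 1 := by
    intro h
    refine hHn (normalizer_eq_top_iff.1 (top_le_iff.1 ?_))
    rw [← sup_eq_top hM]
    exact sup_le ((relIndex_eq_one.1 h).trans inf_le_right) le_normalizer
  obtain ⟨q, hq, hqd⟩ := Nat.exists_prime_and_dvd hne
  haveI := Fact.mk hq
  obtain ⟨Q₀⟩ := (inferInstance : Nonempty (Sylow q M))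
  set Q₁ := (Q₀ : Subgroup M).map M.subtype with hQ₁
  set L := normalizer (Q₁ : Set G) with hL
  have hLM : L ⊔ M = ⊤ := Sylow.normalizer_sup_eq_top Q₀
  have hMH : Nat.card M * Nat.card H = Nat.card G := hM.card_mul
  have hcardLM : Nat.card G * Nat.card ↥(M ⊓ L) = Nat.card M * Nat.card L := by
    have := card_sup_mul_card_inf (N := M) (H := L) le_normalizer_of_normal
    rwa [sup_comm, hLM, card_top] at this
  have hrelL : (M ⊓ L).relIndex L = Nat.card H := by
    have e : Nat.card ↥(M ⊓ L) * (M ⊓ L).relIndex L = Nat.card L := by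
      rw [← relIndex_bot_left, relIndex_mul_relIndex _ _ _ bot_le inf_le_right, relIndex_bot_left]
    refine Nat.eq_of_mul_eq_mul_left (Nat.mul_pos (Nat.card_pos (α := M)) (Nat.card_pos (α := ↥(M ⊓ L)))) ?_
    rw [mul_assoc, e, ← hcardLM, ← hMH]
    ring
  obtain ⟨B, hBL, -, hBc⟩ := exists_complement_in (N := M ⊓ L) (L := L) inf_le_right
    (le_normalizer_inf le_normalizer_of_normal le_normalizer)
    (hrelL ▸ Nat.Coprime.coprime_dvd_left (Subgroup.card_dvd_of_le inf_le_left) hcop)
  rw [hrelL] at hBc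
  obtain ⟨y, rfl⟩ := exists_conj_complement hTI hM hcop hH1 hBc
  set Q := conjMap y⁻¹ Q₁ with hQ
  have hQM : Q ≤ M := by
    intro z hz
    rw [hQ, mem_conjMap, inv_inv] at hz
    have := hMn.conj_mem _ (map_subtype_le _ hz) y⁻¹
    simpa [mul_assoc] using this
  have hHQ : H ≤ normalizer (Q : Set G) := by
    rw [hQ, normalizer_conjMap]
    have := conjMap_mono (g := y⁻¹) hBL
    rwa [conjMap_inv_conjMap] at this
  have hQp : IsPGroup q Q := (Q₀.2.map _).map _
  set D := Q ⊓ N with hDdef
  have hDQ : D < Q := by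
    refine lt_of_le_of_ne inf_le_left fun h => ?_
    have hle : Q ≤ M ⊓ N := le_inf hQM (h ▸ inf_le_right)
    have h1 : (M ⊓ N).relIndex M ∣ Q.relIndex M :=
      ⟨Q.relIndex (M ⊓ N), by rw [mul_comm, relIndex_mul_relIndex _ _ _ hle inf_le_left]⟩
    have h2 : Q.relIndex M = (Q₀ : Subgroup M).index := by
      have e : Nat.card Q * Q.relIndex M = Nat.card M := by
        rw [← relIndex_bot_left, relIndex_mul_relIndex _ _ _ bot_le hQM, relIndex_bot_left]
      have ec : Nat.card Q = Nat.card (Q₀ : Subgroup M) := by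
        rw [hQ, card_conjMap, hQ₁, Subgroup.card_map_of_injective M.subtype_injective]
      rw [ec, ← (Q₀ : Subgroup M).card_mul_index] at e
      exact Nat.eq_of_mul_eq_mul_left Nat.card_pos e
    exact Q₀.not_dvd_index (hqd.trans (h2 ▸ h1))
  set R := Q ⊓ normalizer (D : Set G) with hRdef
  have hDR : D < R := by
    refine lt_of_le_of_ne (le_inf inf_le_left le_normalizer) fun h => ?_
    haveI : Group.IsNilpotent Q := hQp.isNilpotent
    have h1 : D.subgroupOf Q < ⊤ := lt_top_iff_ne_top.2 fun e => hDQ.not_ge (subgroupOf_eq_top.1 e)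
    obtain ⟨z, hz, hzn⟩ := SetLike.exists_of_lt (Group.normalizerCondition_of_isNilpotent _ h1)
    refine hzn (mem_subgroupOf.2 ?_)
    rw [h]
    refine ⟨z.2, ?_⟩
    show (z : G) ∈ normalizer (D : Set G)
    rw [mem_normalizer_iff] at hz ⊢
    intro w
    constructor
    · intro hw
      exact mem_subgroupOf.1 ((hz ⟨w, hDQ.le hw⟩).1 (mem_subgroupOf.2 hw))
    · intro hw
      have hwQ : w ∈ Q := by
        have := mul_mem (mul_mem (inv_mem z.2) (hDQ.le hw)) z.2
        simpa [mul_assoc] using this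
      exact mem_subgroupOf.1 ((hz ⟨w, hwQ⟩).2 (mem_subgroupOf.2 hw))
  have hHD : H ≤ normalizer (D : Set G) := le_normalizer_inf hHQ (le_normalizer.trans le_normalizer)
  have hHR : H ≤ normalizer (R : Set G) := le_normalizer_inf hHQ (hHD.trans le_normalizer)
  set X := R ⊔ H with hXdef
  have hXD : X ≤ normalizer (D : Set G) := sup_le inf_le_right hHD
  have hXR : X ≤ normalizer (R : Set G) := sup_le le_normalizer hHR
  haveI : (D.subgroupOf X).Normal :=
    (normal_subgroupOf_iff_le_normalizer (hDR.le.trans le_sup_left)).2 hXD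
  haveI hRn : (R.subgroupOf X).Normal := (normal_subgroupOf_iff_le_normalizer le_sup_left).2 hXR
  set mk := QuotientGroup.mk' (D.subgroupOf X) with hmk
  have hmk1 : ∀ z : X, mk z = 1 ↔ (z : G) ∈ D := fun z =>
    (QuotientGroup.eq_one_iff z).trans mem_subgroupOf
  have hRM : R ≤ M := inf_le_left.trans hQM
  set KF := (R.subgroupOf X).map mk with hKF
  haveI : KF.Normal := Subgroup.Normal.map hRn _ (QuotientGroup.mk'_surjective _)
  let f : H →* X ⧸ D.subgroupOf X := mk.comp (Subgroup.inclusion le_sup_right)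
  have hf : Function.Injective f := by
    rw [← MonoidHom.ker_eq_bot_iff, eq_bot_iff_forall]
    intro h hh
    have h1 : (h : G) ∈ D := (hmk1 (Subgroup.inclusion le_sup_right h)).1 (MonoidHom.mem_ker.1 hh)
    exact Subtype.ext (disjoint_def.1 hM.disjoint (hRM (hDR.le h1)) h.2)
  set C := f.range with hC
  have hsup : KF ⊔ C = ⊤ := by
    rw [eq_top_iff]
    intro w _
    obtain ⟨z, rfl⟩ := QuotientGroup.mk'_surjective _ w
    have hX : X ≤ ((KF ⊔ C).comap mk).map X.subtype := by
      refine sup_le (fun r hr => ⟨⟨r, mem_sup_left hr⟩, ?_, rfl⟩) (fun h hh => ⟨⟨h, mem_sup_right hh⟩, ?_, rfl⟩)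
      · exact mem_sup_left (mem_map_of_mem mk (mem_subgroupOf.2 hr))
      · exact mem_sup_right ⟨⟨h, hh⟩, rfl⟩
    obtain ⟨z', hz', hzz⟩ := hX z.2
    have := Subtype.ext hzz
    rw [← this]
    exact hz'
  have hdisj : Disjoint KF C := by
    rw [disjoint_def]
    rintro _ ⟨r, hr, rfl⟩ ⟨h, hh⟩
    have h1 : ((r : G))⁻¹ * (h : G) ∈ D := by
      have := (hmk1 (r⁻¹ * Subgroup.inclusion le_sup_right h)).1 (by
        rw [map_mul, map_inv, ← hh]; exact inv_mul_cancel _)
      exact this
    have h2 : (h : G) ∈ R := by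
      have := mul_mem (mem_subgroupOf.1 hr) (hDR.le h1)
      simpa using this
    have h3 : h = 1 := Subtype.ext (disjoint_def.1 hM.disjoint (hRM h2) h.2)
    rw [← hh, h3, map_one]
  have hc : KF.IsComplement' C := by
    refine isComplement'_of_disjoint_and_mul_eq_univ hdisj ?_
    rw [← normal_mul, hsup, coe_top]
  have hKne : KF ≠ ⊥ := by
    intro h
    refine hDR.not_ge fun r hr => ?_
    exact (hmk1 ⟨r, mem_sup_left hr⟩).1
      ((eq_bot_iff_forall _).1 h _ (mem_map_of_mem mk (mem_subgroupOf.2 hr)))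
  have hCne : C ≠ ⊥ := fun h => hH1 ((eq_bot_iff_forall _).2 fun z hz => by
    have h1 : f ⟨z, hz⟩ = 1 := (eq_bot_iff_forall _).1 h _ ⟨_, rfl⟩
    exact congrArg Subtype.val (hf (h1.trans (map_one f).symm)))
  refine ⟨X ⧸ D.subgroupOf X, inferInstance, inferInstance, C, ?_, ⟨MonoidHom.ofInjective hf⟩⟩
  refine (Cfsg.Lib.Frobenius.isFrobeniusComplement_iff_fpf hc hKne hCne).2 ?_
  rintro _ ⟨⟨h, hh⟩, rfl⟩ hne1
  have h1 : h ≠ 1 := fun e => hne1 (by
    rw [show (⟨h, hh⟩ : H) = 1 from Subtype.ext e, map_one])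
  rw [eq_bot_iff_forall]
  rintro _ ⟨⟨r, hr, rfl⟩, hcen⟩
  have hrR : (r : G) ∈ R := mem_subgroupOf.1 hr
  have hcomm : Commute (mk r) (mk ⟨h, mem_sup_right hh⟩) := mem_centralizer_singleton_iff.1 hcen
  obtain ⟨d, hd, hfix⟩ := exists_fixed_in_coset (A := zpowers h) (D := D)
    (zpowers_le.2 (hHD hh))
    (Nat.Coprime.coprime_dvd_right (Subgroup.card_dvd_of_le (hDR.le.trans hRM))
      (Nat.Coprime.coprime_dvd_left (Subgroup.card_dvd_of_le (zpowers_le.2 hh)) hcop.symm))
    (Or.inl inferInstance) (k := (r : G)) (by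
      intro a ha
      obtain ⟨i, rfl⟩ := mem_zpowers_iff.1 ha
      have := (hmk1 (r⁻¹ * (⟨h, mem_sup_right hh⟩ : X) ^ i * r * ((⟨h, mem_sup_right hh⟩ : X) ^ i)⁻¹)).1 (by
        rw [map_mul, map_mul, map_mul, map_inv, map_inv, map_zpow, mul_assoc _ (_ ^ i) (mk r),
          ((hcomm.zpow_right i).eq).symm, ← mul_assoc, inv_mul_cancel, one_mul, mul_inv_cancel])
      simpa using this)
  have hrd : (r : G) * d ∈ N := by
    by_contra hn
    have e : h * ((r : G) * d) = (r : G) * d * h := mem_centralizer_iff.1 hfix h (mem_zpowers h)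
    exact h1 (hTI _ hn h hh (by rw [← e, mul_inv_cancel_right]; exact hh))
  refine (hmk1 r).2 ⟨hrR.1, ?_⟩
  have := mul_mem hrd (inv_mem (hd.2 : d ∈ N))
  simpa [mul_assoc] using this

end Occurs

end Cfsg.Lib.SolvStruct.TIHallTransfer
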