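/-
Coprime actions on groups with cyclic Sylow subgroups.
-/
import Cfsg.Agent.Coprime.Fitting
import Cfsg.Agent.SolvStruct.CyclicProduct
import Mathlib

set_option linter.style.haveILetI false
set_option linter.unusedSectionVars false

namespace Cfsg.Lib.SolvStruct.ZGroupAction

open Subgroup

variable {G A : Type*} [Group G] [Finite G] [Group A] [Finite A] [MulDistribMulAction A G]

/-- The subgroup `[G, A]`. -/
def actComm (G A : Type*) [Group G] [Group A] [MulDistribMulAction A G] : Subgroup G :=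
  closure {y : G | ∃ (a : A) (g : G), y = g⁻¹ * a • g}

theorem mem_actComm (a : A) (g : G) : g⁻¹ * a • g ∈ actComm G A := subset_closure ⟨a, g, rfl⟩

theorem actComm_normal : (actComm G A).Normal := by
  refine ⟨fun y hy h => ?_⟩
  have hle : actComm G A ≤ (actComm G A).comap (MulAut.conj h).toMonoidHom := by
    refine (closure_le _).2 ?_
    rintro _ ⟨a, g, rfl⟩
    show h * (g⁻¹ * a • g) * h⁻¹ ∈ actComm G A
    have e : h * (g⁻¹ * a • g) * h⁻¹ = ((g * h⁻¹)⁻¹ * a • (g * h⁻¹)) * ((h⁻¹)⁻¹ * a • h⁻¹)⁻¹ := by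
      rw [smul_mul', smul_inv']
      group
    rw [e]
    exact mul_mem (mem_actComm a _) (inv_mem (mem_actComm a _))
  exact hle hy

theorem smul_mem_actComm (a : A) {y : G} (hy : y ∈ actComm G A) : a • y ∈ actComm G A := by
  have hle : actComm G A ≤ (actComm G A).comap (MulDistribMulAction.toMonoidHom G a) := by
    refine (closure_le _).2 ?_
    rintro _ ⟨b, g, rfl⟩
    show a • (g⁻¹ * b • g) ∈ actComm G A
    have e : a • (g⁻¹ * b • g) = (g⁻¹ * a • g)⁻¹ * (g⁻¹ * (a * b) • g) := by
      rw [smul_mul', smul_inv', mul_smul]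
      group
    rw [e]
    exact mul_mem (inv_mem (mem_actComm a g)) (mem_actComm (a * b) g)
  exact hle hy

theorem smul_mem_fitting (a : A) {y : G} (hy : y ∈ Cfsg.fittingSubgroup G) : a • y ∈ Cfsg.fittingSubgroup G := by
  let φ : G ≃* G := MulDistribMulAction.toMulEquiv G a
  haveI : ((Cfsg.fittingSubgroup G).map φ.toMonoidHom).Normal :=
    Subgroup.Normal.map inferInstance _ φ.surjective
  exact Cfsg.Lib.Components.le_fitting
    (Cfsg.Lib.Components.isNilpotent_map Cfsg.Lib.Components.isNilpotent_fitting φ.toMonoidHom) ⟨y, hy, rfl⟩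

theorem isCyclic_actComm [IsZGroup G] : IsCyclic (actComm G A) := by
  set F := Cfsg.fittingSubgroup G
  haveI hFn : Group.IsNilpotent F := Cfsg.Lib.Components.isNilpotent_fitting
  haveI : IsZGroup F := IsZGroup.of_injective (f := F.subtype) F.subtype_injective
  haveI hFc : IsCyclic F := inferInstance
  haveI : IsMulCommutative F := inferInstance
  have hKF : actComm G A ≤ F := by
    refine le_trans ?_ (Cfsg.Lib.Coprime.centralizer_fitting_le (G := G))
    refine (closure_le _).2 ?_
    rintro _ ⟨a, g, rfl⟩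
    refine mem_centralizer_iff.2 fun x hx => ?_
    -- conjugation by `g` and by `a • g` agree on the cyclic group `F`
    obtain ⟨c, hc⟩ := IsCyclic.exists_generator (α := F)
    obtain ⟨i, hi⟩ := mem_zpowers_iff.1 (hc ⟨g * (c : G) * g⁻¹, (inferInstance : F.Normal).conj_mem _ c.2 g⟩)
    have hgc : g * (c : G) * g⁻¹ = (c : G) ^ i := by simpa using (congrArg Subtype.val hi).symm
    have key : ∀ w ∈ F, g * w * g⁻¹ = w ^ i := by
      intro w hw
      obtain ⟨j, hj⟩ := mem_zpowers_iff.1 (hc ⟨w, hw⟩)
      have hwc : w = (c : G) ^ j := by simpa using (congrArg Subtype.val hj).symm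
      rw [hwc, ← conj_zpow, hgc, ← zpow_mul, ← zpow_mul, mul_comm]
    have key2 : (a • g) * x * (a • g)⁻¹ = x ^ i := by
      have h1 := key (a⁻¹ • x) (smul_mem_fitting a⁻¹ hx)
      have h2 := congrArg (a • ·) h1
      simp only [smul_mul', smul_inv', smul_inv_smul, smul_zpow'] at h2
      exact h2
    have e : g * x * g⁻¹ = (a • g) * x * (a • g)⁻¹ := by rw [key x hx, key2]
    calc x * (g⁻¹ * a • g) = g⁻¹ * (g * x * g⁻¹) * a • g := by group
      _ = g⁻¹ * ((a • g) * x * (a • g)⁻¹) * a • g := by rw [e]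
      _ = _ := by group
  exact isCyclic_of_le hKF

theorem exists_fixed_coset (hcop : (Nat.card A).Coprime (Nat.card G)) [IsMulCommutative (actComm G A)] (g : G) :
    ∃ k ∈ actComm G A, ∀ a : A, a • (g * k) = g * k := by
  classical
  haveI := Fintype.ofFinite A
  set K := actComm G A
  let c : A → K := fun a => ⟨g⁻¹ * a • g, mem_actComm a g⟩
  let act : A → K →* K := fun a => ((MulDistribMulAction.toMonoidHom G a).comp K.subtype).codRestrict K
    fun k => smul_mem_actComm a k.2
  letI : CommGroup K := { (inferInstance : Group K) with mul_comm := fun x y => IsMulCommutative.is_comm.comm x y }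
  have hc : ∀ a b : A, c (a * b) = c a * act a (c b) := fun a b => Subtype.ext (by
    show g⁻¹ * (a * b) • g = g⁻¹ * a • g * a • (g⁻¹ * b • g)
    rw [smul_mul', smul_inv', mul_smul]
    group)
  set s := ∏ b : A, c b with hs
  have hsum : ∀ a : A, s = c a ^ Fintype.card A * act a s := by
    intro a
    rw [hs, map_prod, ← Finset.card_univ, ← Finset.prod_const, ← Finset.prod_mul_distrib]
    rw [← Fintype.prod_equiv (Equiv.mulLeft a) (fun b => c (a * b)) c fun b => rfl]
    exact Finset.prod_congr rfl fun b _ => hc a b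
  have hcK : (Nat.card K).Coprime (Fintype.card A) := by
    rw [← Nat.card_eq_fintype_card]
    exact (hcop.coprime_dvd_right K.card_subgroup_dvd_card).symm
  set t := (powCoprime hcK).symm s with ht
  have htm : t ^ Fintype.card A = s := (powCoprime hcK).apply_symm_apply s
  refine ⟨t, t.2, fun a => ?_⟩
  have h1 : c a * act a t = t := by
    refine (powCoprime hcK).injective ?_
    show (c a * act a t) ^ Fintype.card A = t ^ Fintype.card A
    rw [mul_pow, ← map_pow, htm, ← hsum a]
  have h2 : g⁻¹ * a • g * a • (t : G) = t := congrArg Subtype.val h1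
  rw [smul_mul']
  calc a • g * a • (t : G) = g * (g⁻¹ * a • g * a • (t : G)) := by group
    _ = g * t := by rw [h2]

theorem eq_one_of_fixed (hcop : (Nat.card A).Coprime (Nat.card G)) [IsMulCommutative (actComm G A)]
    {x : G} (hx : x ∈ actComm G A) (hfix : ∀ a : A, a • x = x) : x = 1 := by
  classical
  haveI := Fintype.ofFinite A
  set K := actComm G A
  letI : CommGroup K := { (inferInstance : Group K) with mul_comm := fun x y => IsMulCommutative.is_comm.comm x y }
  let act : A → K →* K := fun a => ((MulDistribMulAction.toMonoidHom G a).comp K.subtype).codRestrict K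
    fun k => smul_mem_actComm a k.2
  let N : K →* K := ∏ a : A, act a
  have hN : ∀ k : K, N k = ∏ a : A, act a k := fun k => by rw [MonoidHom.finsetProd_apply]
  have hK : ∀ (y : G) (hy : y ∈ K), N ⟨y, hy⟩ = 1 := by
    intro y hy
    induction hy using Subgroup.closure_induction with
    | mem y hy =>
      obtain ⟨a, g, rfl⟩ := hy
      obtain ⟨k, hk, hgk⟩ := exists_fixed_coset (A := A) hcop g
      -- `g = f k⁻¹` with `f` fixed
      set f := g * k with hf
      have hconj : ∀ b : A, b • (g⁻¹ * a • g) = (b • k) * ((b * a) • k)⁻¹ := by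
        intro b
        have e1 : g = f * k⁻¹ := by rw [hf]; group
        rw [e1]
        simp only [smul_mul', smul_inv', mul_inv_rev, inv_inv, ← mul_smul, hgk]
        group
      rw [hN]
      have e : ∀ b : A, act b ⟨g⁻¹ * a • g, mem_actComm a g⟩ =
          (⟨b • k, smul_mem_actComm b hk⟩ : K) * (⟨(b * a) • k, smul_mem_actComm (b * a) hk⟩ : K)⁻¹ :=
        fun b => Subtype.ext (hconj b)
      rw [Finset.prod_congr rfl fun b _ => e b, Finset.prod_mul_distrib, Finset.prod_inv_distrib, mul_inv_eq_one]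
      exact (Fintype.prod_equiv (Equiv.mulRight a) (fun b => (⟨(b * a) • k, smul_mem_actComm (b * a) hk⟩ : K))
        (fun b => (⟨b • k, smul_mem_actComm b hk⟩ : K)) fun b => rfl).symm
    | one => exact map_one N
    | mul y w hy hw h1 h2 =>
      rw [show (⟨y * w, _⟩ : K) = ⟨y, hy⟩ * ⟨w, hw⟩ from rfl, map_mul, h1, h2, one_mul]
    | inv y hy h1 =>
      rw [show (⟨y⁻¹, _⟩ : K) = ⟨y, hy⟩⁻¹ from rfl, map_inv, h1, inv_one]
  have h1 := hK x hx
  rw [hN, Finset.prod_congr rfl fun b _ => (Subtype.ext (hfix b) : act b ⟨x, hx⟩ = ⟨x, hx⟩),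
    Finset.prod_const, Finset.card_univ, ← orderOf_dvd_iff_pow_eq_one, Subgroup.orderOf_mk] at h1
  rw [← Nat.card_eq_fintype_card] at h1
  exact orderOf_eq_one_iff.1 (Nat.eq_one_of_dvd_coprimes hcop h1 (orderOf_dvd_natCard x))

theorem main (hcop : (Nat.card A).Coprime (Nat.card G))
    (hcyc : ∀ (p : ℕ) [Fact p.Prime] (P : Sylow p G), IsCyclic (P : Subgroup G)) :
    (Nat.card (MulAction.fixedPoints A G : Set G)).Coprime (Nat.card G / Nat.card (MulAction.fixedPoints A G : Set G)) ∧
    IsCyclic (actComm G A) ∧ (actComm G A).Normal ∧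
    (actComm G A : Set G) ∩ MulAction.fixedPoints A G = {1} ∧
    actComm G A ⊔ closure (MulAction.fixedPoints A G) = ⊤ := by
  haveI : IsZGroup G := ⟨fun p hp P => by haveI := Fact.mk hp; exact hcyc p P⟩
  haveI hKc : IsCyclic (actComm G A) := isCyclic_actComm
  haveI : IsMulCommutative (actComm G A) := inferInstance
  haveI hKn : (actComm G A).Normal := actComm_normal
  set K := actComm G A
  let F : Subgroup G :=
    { carrier := MulAction.fixedPoints A G
      one_mem' := fun a => smul_one a
      mul_mem' := fun {x y} hx hy a => by rw [smul_mul', hx a, hy a]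
      inv_mem' := fun {x} hx a => by rw [smul_inv', hx a] }
  have hdisj : K ⊓ F = ⊥ := eq_bot_iff.2 fun x hx => mem_bot.2 (eq_one_of_fixed hcop hx.1 hx.2)
  have hsup : K ⊔ F = ⊤ := eq_top_iff.2 fun g _ => by
    obtain ⟨k, hk, hgk⟩ := exists_fixed_coset (A := A) hcop g
    rw [show g = g * k * k⁻¹ by group]
    exact mul_mem (mem_sup_right hgk) (mem_sup_left (inv_mem hk))
  have hcomp : K.IsComplement' F := isComplement'_of_disjoint_and_mul_eq_univ (disjoint_iff.2 hdisj) (by
    rw [← normal_mul, hsup, coe_top])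
  refine ⟨?_, hKc, hKn, ?_, ?_⟩
  · show (Nat.card F).Coprime (Nat.card G / Nat.card F)
    rw [← hcomp.card_mul, Nat.mul_div_cancel _ Nat.card_pos]
    refine Nat.coprime_of_dvd fun p hp hpF hpK => ?_
    haveI := Fact.mk hp
    obtain ⟨f, hf⟩ := exists_prime_orderOf_dvd_card' (G := F) p hpF
    obtain ⟨k, hk⟩ := exists_prime_orderOf_dvd_card' (G := K) p hpK
    rw [← orderOf_coe] at hf hk
    obtain ⟨P, hP⟩ := (IsPGroup.of_card (n := 1) (by rw [Nat.card_zpowers, hf, pow_one]) : IsPGroup p (zpowers (f : G))).exists_le_sylow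
    obtain ⟨Q, hQ⟩ := (IsPGroup.of_card (n := 1) (by rw [Nat.card_zpowers, hk, pow_one]) : IsPGroup p (zpowers (k : G))).exists_le_sylow
    obtain ⟨u, hu⟩ := MulAction.exists_smul_eq G Q P
    have hkP : u * (k : G) * u⁻¹ ∈ (P : Subgroup G) := by
      rw [← hu]
      exact ⟨k, hQ (mem_zpowers _), rfl⟩
    haveI := hcyc p P
    haveI := Fintype.ofFinite (P : Subgroup G)
    have huk : orderOf (u * (k : G) * u⁻¹) = p := by
      rw [← MulAut.conj_apply, ← hk]
      exact orderOf_injective (MulAut.conj u).toMonoidHom (MulAut.conj u).injective _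
    have hmem : (f : G) ∈ zpowers (u * (k : G) * u⁻¹) := by
      have hsub : (zpowers (⟨u * k * u⁻¹, hkP⟩ : (P : Subgroup G))) = zpowers (⟨f, hP (mem_zpowers _)⟩ : (P : Subgroup G)) := by
        refine Cfsg.Lib.SolvStruct.CyclicProduct.eq_of_card_eq_of_isCyclic (A := ⊤) le_top le_top ?_
        rw [Nat.card_zpowers, Nat.card_zpowers, orderOf_mk, orderOf_mk, huk, hf]
      obtain ⟨i, hi⟩ := mem_zpowers_iff.1 (hsub.ge (mem_zpowers _))
      exact mem_zpowers_iff.2 ⟨i, by simpa using congrArg Subtype.val hi⟩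
    have h2 : (f : G) ∈ K ⊓ F := ⟨(zpowers_le.2 (hKn.conj_mem _ k.2 u)) hmem, f.2⟩
    rw [hdisj, mem_bot] at h2
    rw [h2, orderOf_one] at hf
    exact hp.ne_one hf.symm
  · exact Set.eq_singleton_iff_unique_mem.2 ⟨⟨one_mem K, fun a => smul_one a⟩,
      fun x hx => eq_one_of_fixed hcop hx.1 hx.2⟩
  · rw [show closure (MulAction.fixedPoints A G) = F from closure_eq F]
    exact hsup

end Cfsg.Lib.SolvStruct.ZGroupAction
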