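import Cfsg.Agent.Coprime.OmegaTwo

/-!
A `p'`-group of automorphisms fixing all elements of order `p` (or `4`) of a `p`-group is trivial.
-/

set_option autoImplicit false

namespace Cfsg.Lib.SolvStruct

open Subgroup Cfsg.Lib.Coprime
open scoped commutatorElement

variable {G : Type*} [Group G] [Finite G] {p : ℕ} [Fact p.Prime]

theorem le_centralizer_of_fix_prime_aux (hp2 : p ≠ 2) : ∀ (n : ℕ) (A P : Subgroup G), Nat.card P = n → IsPGroup p P →
    (Nat.card A).Coprime p → A ≤ normalizer (P : Set G) →
    (∀ x ∈ P, x ^ p = 1 → ∀ a ∈ A, a * x = x * a) → A ≤ centralizer (P : Set G) := by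
  intro n
  induction n using Nat.strong_induction_on with
  | _ n ih =>
  intro A P hn hP hA hAP hfix
  have hind : ∀ Q : Subgroup G, Q < P → A ≤ normalizer (Q : Set G) → A ≤ centralizer (Q : Set G) :=
    fun Q hQ hAQ => ih _ (hn ▸ lt_of_le_of_ne (Nat.le_of_dvd Nat.card_pos (card_dvd_of_le hQ.le))
      (fun h => hQ.ne (eq_of_le_of_card_ge hQ.le h.ge))) A Q rfl (hP.to_le hQ.le) hA hAQ
      fun x hx => hfix x (hQ.le hx)
  have hcop : (Nat.card A).Coprime (Nat.card P) := by
    obtain ⟨j, hj⟩ := IsPGroup.iff_card.1 hP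
    rw [hj]
    exact hA.pow_right j
  have hsol : Group.IsSolvable A ∨ Group.IsSolvable P :=
    Or.inr (@IsNilpotent.to_isSolvable P _ hP.isNilpotent)
  by_cases hPb : P = ⊥
  · subst hPb
    intro a _
    rw [mem_centralizer_iff]
    intro y hy
    rw [SetLike.mem_coe, mem_bot] at hy
    simp [hy]
  haveI : Nontrivial P := (nontrivial_iff_ne_bot P).2 hPb
  set F := (frattini P).map P.subtype with hF
  have hFP : F ≤ P := map_subtype_le _
  have hFne : F ≠ P := fun h => by
    have h2 : frattini P = ⊤ := map_injective P.subtype_injective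
      (show (frattini P).map P.subtype = (⊤ : Subgroup P).map P.subtype by
        rw [← hF, h, ← MonoidHom.range_eq_map, range_subtype])
    have : (⊥ : Subgroup P) = ⊤ := frattini_nongenerating (by rw [h2, bot_sup_eq])
    exact bot_ne_top this
  have hKF : ∀ g ∈ normalizer (P : Set G), ∀ x ∈ F, g * x * g⁻¹ ∈ F := by
    rintro g hg - ⟨y, hy, rfl⟩
    have hc := (characteristic_iff_map_eq.mp (frattini_characteristic (G := P)))
      (P.normalizerMonoidHom ⟨g, hg⟩)
    exact ⟨P.normalizerMonoidHom ⟨g, hg⟩ y, hc.le ⟨y, hy, rfl⟩, rfl⟩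
  have hnF : normalizer (P : Set G) ≤ normalizer (F : Set G) := fun g hg =>
    mem_normalizer_of_conj_mem (hKF g hg) (fun x hx => by simpa using hKF _ (inv_mem hg) x hx)
  have hAF := hind F (lt_of_le_of_ne hFP hFne) (hAP.trans hnF)
  have hle := commutator_le_of_le_normalizer hAP
  by_cases hPA : ⁅P, A⁆ = P
  · -- the Frattini subgroup is central in `P`
    have h1 : ⁅⁅A, F⁆, P⁆ = ⊥ := by
      rw [commutator_eq_bot_iff_le_centralizer.2 hAF, commutator_bot_left]
    have h2 : ⁅⁅F, P⁆, A⁆ = ⊥ := by
      rw [commutator_eq_bot_iff_le_centralizer]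
      have h3 : ⁅F, P⁆ ≤ F := by
        rw [commutator_le]
        intro f hf x hx
        have := hKF x (le_normalizer hx) _ (inv_mem hf)
        rw [commutatorElement_def]
        have : f * (x * f⁻¹ * x⁻¹) ∈ F := mul_mem hf this
        simpa [mul_assoc] using this
      refine h3.trans ?_
      exact le_centralizer_iff.1 hAF
    have h4 := commutator_commutator_eq_bot_of_rotate h1 h2
    rw [hPA, commutator_eq_bot_iff_le_centralizer] at h4
    have hcen : ∀ f ∈ F, ∀ x ∈ P, f * x = x * f := fun f hf x hx => mem_centralizer_iff.1 (h4 hx) f hf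
    have hsq : ∀ x ∈ P, x ^ p ∈ F := fun x hx =>
      ⟨⟨x, hx⟩ ^ p, Cfsg.Lib.PGroups.pow_mem_frattini hP _, rfl⟩
    have hcomm : ∀ x ∈ P, ∀ y ∈ P, ⁅x, y⁆ ∈ F := fun x hx y hy =>
      ⟨⁅(⟨x, hx⟩ : P), ⟨y, hy⟩⁆, Cfsg.Lib.PGroups.commutator_le_frattini hP
        (commutator_mem_commutator (mem_top _) (mem_top _)), rfl⟩
    have hpow : ∀ x ∈ P, ∀ c ∈ P, (x * c) ^ p = x ^ p * c ^ p := by
      intro x hx c hc
      set z := ⁅c, x⁆ with hz
      have hzF : z ∈ F := hcomm c hc x hx
      have hzc : Commute z c := hcen z hzF c hc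
      have hzx : Commute z x := hcen z hzF x hx
      have hcx : c * x = z * x * c := by rw [hz, commutatorElement_def]; group
      have hcn : ∀ n : ℕ, c ^ n * x = z ^ n * x * c ^ n := by
        intro n
        induction n with
        | zero => simp
        | succ n ihn =>
          calc c ^ (n + 1) * x = c ^ n * (c * x) := by rw [pow_succ, mul_assoc]
            _ = c ^ n * (z * x * c) := by rw [hcx]
            _ = (c ^ n * z) * x * c := by group
            _ = (z * c ^ n) * x * c := by rw [(hzc.pow_right n).eq]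
            _ = z * (c ^ n * x) * c := by group
            _ = z * (z ^ n * x * c ^ n) * c := by rw [ihn]
            _ = _ := by rw [pow_succ' z n, pow_succ c n]; group
      have hzp : z ^ p = 1 := by
        have h : Commute (c ^ p) x := hcen _ (hsq c hc) x hx
        have h' := hcn p
        rw [h.eq, mul_assoc] at h'
        exact mul_eq_right.1 h'.symm
      have hn : ∀ n : ℕ, (x * c) ^ n = z ^ n.choose 2 * (x ^ n * c ^ n) := by
        intro n
        induction n with
        | zero => simp
        | succ n ihn =>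
          calc (x * c) ^ (n + 1) = z ^ n.choose 2 * (x ^ n * c ^ n) * (x * c) := by rw [pow_succ, ihn]
            _ = z ^ n.choose 2 * x ^ n * (c ^ n * x) * c := by group
            _ = z ^ n.choose 2 * x ^ n * (z ^ n * x * c ^ n) * c := by rw [hcn n]
            _ = z ^ n.choose 2 * (x ^ n * z ^ n) * (x * c ^ n * c) := by group
            _ = z ^ n.choose 2 * (z ^ n * x ^ n) * (x * c ^ n * c) := by
              rw [((hzx.pow_pow n n).symm).eq]
            _ = _ := by
              rw [Nat.choose_succ_succ, Nat.choose_one_right, add_comm n, pow_add, pow_succ x n, pow_succ c n]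
              group
      obtain ⟨k, hk⟩ := (Fact.out : p.Prime).dvd_choose_self (by norm_num : (2 : ℕ) ≠ 0)
        (lt_of_le_of_ne (Fact.out : p.Prime).two_le (Ne.symm hp2))
      rw [hn p, hk, pow_mul, hzp, one_pow, one_mul]
    have hle2 : ⁅P, A⁆ ≤ centralizer (A : Set G) := by
      rw [commutator_le]
      intro k hk a ha
      have hc : ⁅k, a⁆ ∈ P := hle (commutator_mem_commutator hk ha)
      rw [mem_centralizer_iff]
      intro b hb
      refine hfix _ hc ?_ b hb
      have hk4 : k⁻¹ ^ p ∈ F := hsq _ (inv_mem hk)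
      have h := hpow k⁻¹ (inv_mem hk) ⁅k, a⁆ hc
      have h5 : a * k⁻¹ ^ p * a⁻¹ = k⁻¹ ^ p := by
        rw [← mem_centralizer_iff.1 (hAF ha) _ hk4, mul_inv_cancel_right]
      have h6 : k⁻¹ * ⁅k, a⁆ = a * k⁻¹ * a⁻¹ := by rw [commutatorElement_def]; group
      rw [h6, conj_pow, h5] at h
      exact (mul_eq_left).1 h.symm
    rw [hPA] at hle2
    exact le_centralizer_iff.1 hle2
  · have h := hind _ (lt_of_le_of_ne hle hPA) (le_normalizer_commutator_right A P)
    have h2 : ⁅⁅P, A⁆, A⁆ = ⊥ := commutator_eq_bot_iff_le_centralizer.2 (le_centralizer_iff.1 h)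
    rw [commutator_commutator_eq hAP hcop hsol, commutator_eq_bot_iff_le_centralizer] at h2
    exact le_centralizer_iff.1 h2

/-- elements of order `p`, or `4` for `p = 2`, control coprime automorphisms -/
theorem le_centralizer_of_fix_small {A P : Subgroup G} (hP : IsPGroup p P) (hA : (Nat.card A).Coprime p)
    (hAP : A ≤ normalizer (P : Set G))
    (hfix : ∀ x ∈ P, (orderOf x = p ∨ (p = 2 ∧ orderOf x = 4)) → ∀ a ∈ A, a * x = x * a) :
    A ≤ centralizer (P : Set G) := by
  have hone : ∀ x : G, orderOf x = 1 → ∀ a ∈ A, a * x = x * a := fun x hx a _ => by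
    rw [orderOf_eq_one_iff.mp hx, mul_one, one_mul]
  by_cases hp2 : p = 2
  · subst hp2
    refine le_centralizer_of_fix_four hP ?_ hAP fun x hx h4 a ha => ?_
    · exact Nat.coprime_two_right.mp hA
    · have h : orderOf x ∣ 2 ^ 2 := orderOf_dvd_of_pow_eq_one h4
      obtain ⟨i, hi, hx2⟩ := (Nat.dvd_prime_pow Nat.prime_two).mp h
      interval_cases i
      · exact hone x hx2 a ha
      · exact hfix x hx (Or.inl (by simpa using hx2)) a ha
      · exact hfix x hx (Or.inr ⟨rfl, by simpa using hx2⟩) a ha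
  · refine le_centralizer_of_fix_prime_aux hp2 _ A P rfl hP hA hAP fun x hx hxp a ha => ?_
    rcases ((Fact.out : p.Prime).eq_one_or_self_of_dvd _ (orderOf_dvd_of_pow_eq_one hxp)) with h | h
    · exact hone x h a ha
    · exact hfix x hx (Or.inl h) a ha

end Cfsg.Lib.SolvStruct
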