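/-
A normal subgroup containing a non-central Sylow subgroup whose elements have at most one non-trivial
class size in the whole group is nilpotent.
-/
import Cfsg.Agent.SolvStruct.ItoTwoSizes
import Cfsg.Agent.SolvStruct.Basics
import Cfsg.Agent.SolvStruct.ItoClasses
import Cfsg.Agent.Transfer.Basic

set_option autoImplicit false
set_option linter.unusedSectionVars false
set_option linter.style.haveILetI false

namespace Cfsg.Lib.OneSizeSylow

open Subgroup Cfsg.Lib.SolvStruct.TwoSizes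
open scoped commutatorElement Pointwise

universe u

variable {G : Type u} [Group G] [Finite G] {r : ℕ} [hr : Fact r.Prime] {N : Subgroup G} {m : ℕ}

local notation "cen" g:max => Subgroup.centralizer ({g} : Set _)

/-- an `r`-element -/
def REl (r : ℕ) (g : G) : Prop := ∃ k, orderOf g = r ^ k

/-- the standing hypotheses -/
structure Setup (r : ℕ) (N : Subgroup G) (m : ℕ) : Prop where
  size : ∀ v ∈ N, v ∉ center G → (Subgroup.centralizer ({v} : Set G)).index = m
  rmem : ∀ g : G, REl r g → g ∈ N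
  nocen : ∀ (P : Sylow r G), ∀ x ∈ (P : Subgroup G), x ∉ center G → ¬ (P : Subgroup G) ≤ Subgroup.centralizer ({x} : Set G)

/-- an `r`-element commuting with a non-central element of `N` of order prime to `r` -/
def Good (r : ℕ) (N : Subgroup G) (u : G) : Prop :=
  REl r u ∧ u ∉ center G ∧ ∃ y ∈ N, (orderOf y).Coprime r ∧ y ∉ center G ∧ Commute u y

theorem mem_cen {a b : G} : a ∈ (cen b : Subgroup G) ↔ Commute a b := mem_centralizer_singleton_iff

theorem rel_of_mem {P : Subgroup G} (hP : IsPGroup r P) {g : G} (hg : g ∈ P) : REl r g := by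
  obtain ⟨k, hk⟩ := IsPGroup.iff_orderOf.mp hP ⟨g, hg⟩
  exact ⟨k, by rw [← hk, Subgroup.orderOf_mk]⟩

theorem isPGroup_zpowers {g : G} (hg : REl r g) : IsPGroup r (zpowers g) := by
  obtain ⟨k, hk⟩ := hg
  exact IsPGroup.of_card ((Nat.card_zpowers g).trans hk)

theorem rel_inv_iff {g h : G} : REl r (h * g * h⁻¹) ↔ REl r g := by
  have : orderOf (h * g * h⁻¹) = orderOf g := by
    rw [show h * g * h⁻¹ = (MulAut.conj h) g from rfl]
    exact MulEquiv.orderOf_eq _ g
  unfold REl; rw [this]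

theorem eq_one_of_both {g : G} (h1 : REl r g) (h2 : (orderOf g).Coprime r) : g = 1 := by
  obtain ⟨k, hk⟩ := h1
  rw [← orderOf_eq_one_iff]
  exact Nat.eq_one_of_dvd_coprimes (h2.pow_right k) dvd_rfl hk.dvd

theorem mem_of_pow_mem {H : Subgroup G} {y : G} {k : ℕ} (hy : (orderOf y).Coprime r) (h : y ^ r ^ k ∈ H) :
    y ∈ H := by
  obtain ⟨j, hj⟩ := exists_pow_eq_self_of_coprime (x := y) (n := r ^ k) ((hy.pow_right k).symm)
  rw [← hj]; exact pow_mem h j

/-- conjugation by an element of order prime to `r` multiplying by a fixed `r`-element fixes -/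
theorem fixed_of_mul {c g d : G} (hc : (orderOf c).Coprime r) (hd : REl r d) (hcd : Commute c d)
    (h : c * g * c⁻¹ = g * d) : Commute c g := by
  have hn : ∀ n : ℕ, c ^ n * g * (c ^ n)⁻¹ = g * d ^ n := fun n => by
    induction n with
    | zero => simp
    | succ n ih =>
      rw [pow_succ' c, show c * c ^ n * g * (c * c ^ n)⁻¹ = c * (c ^ n * g * (c ^ n)⁻¹) * c⁻¹ by group, ih,
        show c * (g * d ^ n) * c⁻¹ = (c * g * c⁻¹) * (c * d ^ n * c⁻¹) by group, h,
        (hcd.pow_right n).eq, mul_inv_cancel_right, pow_succ', mul_assoc]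
  have h1 := hn (orderOf c)
  rw [pow_orderOf_eq_one, one_mul, inv_one, mul_one, left_eq_mul] at h1
  obtain ⟨k, hk⟩ := hd
  have hd1 : d = 1 := orderOf_eq_one_iff.1
    (Nat.eq_one_of_dvd_coprimes (hc.pow_right k) (orderOf_dvd_of_pow_eq_one h1) hk.dvd)
  rw [hd1, mul_one, mul_inv_eq_iff_eq_mul] at h
  exact h

theorem exists_sylow_mem {g : G} (hg : REl r g) : ∃ P : Sylow r G, g ∈ (P : Subgroup G) := by
  obtain ⟨P, hP⟩ := (isPGroup_zpowers hg).exists_le_sylow
  exact ⟨P, hP (mem_zpowers g)⟩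

theorem center_mem_sylow {g : G} (hg : REl r g) (hc : g ∈ center G) (P : Sylow r G) : g ∈ (P : Subgroup G) := by
  obtain ⟨Q, hQ⟩ := exists_sylow_mem hg
  obtain ⟨h, rfl⟩ := MulAction.exists_smul_eq G Q P
  exact ⟨g, hQ, by simp [MulAut.conj_apply, mem_center_iff.1 hc h]⟩

/-- the central `r`-elements -/
noncomputable def Zr (r : ℕ) (G : Type u) [Group G] : Subgroup G := ((default : Sylow r G) : Subgroup G) ⊓ center G

theorem inf_center_eq (P : Sylow r G) : (P : Subgroup G) ⊓ center G = Zr r G :=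
  le_antisymm (fun g hg => ⟨center_mem_sylow (rel_of_mem P.2 hg.1) hg.2 _, hg.2⟩)
    (fun g hg => ⟨center_mem_sylow (rel_of_mem (default : Sylow r G).2 hg.1) hg.2 P, hg.2⟩)

theorem Zr_le (P : Sylow r G) : Zr r G ≤ (P : Subgroup G) := inf_center_eq P ▸ inf_le_left

theorem Zr_le_cen (v : G) : Zr r G ≤ (cen v : Subgroup G) := fun g hg =>
  mem_cen.2 (mem_center_iff.1 hg.2 v).symm

theorem mem_Zr {P : Sylow r G} {g : G} (h1 : g ∈ (P : Subgroup G)) (h2 : g ∈ center G) : g ∈ Zr r G :=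
  inf_center_eq P ▸ ⟨h1, h2⟩

/-- the order of a Sylow subgroup of a non-central centraliser -/
noncomputable def rc (r : ℕ) (G : Type u) [Group G] (m : ℕ) : ℕ := r ^ (Nat.card G / m).factorization r

variable (H : Setup r N m)
include H

theorem m_pos {v : G} (hv : v ∈ N) (hvc : v ∉ center G) : 1 < m := by
  have h := H.size v hv hvc
  have h1 : (cen v : Subgroup G).index ≠ 1 := fun e => hvc (mem_center_of_cen_top e)
  have h0 : (cen v : Subgroup G).index ≠ 0 := index_ne_zero_of_finite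
  omega

theorem card_cen {v : G} (hv : v ∈ N) (hvc : v ∉ center G) : Nat.card (cen v : Subgroup G) = Nat.card G / m := by
  rw [← (cen v : Subgroup G).card_mul_index, H.size v hv hvc,
    Nat.mul_div_cancel _ (zero_lt_one.trans (m_pos H hv hvc))]

theorem cen_eq' {a b : G} (ha : a ∈ N) (hb : b ∈ N) (hac : a ∉ center G) (hbc : b ∉ center G)
    (hle : (cen a : Subgroup G) ≤ cen b) : (cen a : Subgroup G) = cen b :=
  eq_of_le_of_card_ge hle (by rw [card_cen H ha hac, card_cen H hb hbc])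

theorem cen_eq_parts {x y : G} (hx : x ∈ N) (hy : y ∈ N) (hxy : Commute x y) (hxr : REl r x)
    (hyr : (orderOf y).Coprime r) (hxc : x ∉ center G) (hyc : y ∉ center G) :
    (cen x : Subgroup G) = cen y := by
  obtain ⟨k, hk⟩ := hxr
  have ha : x ^ r ^ k = 1 := hk ▸ pow_orderOf_eq_one x
  have hb := pow_orderOf_eq_one y
  have hab : (r ^ k).Coprime (orderOf y) := (hyr.symm).pow_left k
  have hxyc : x * y ∉ center G := fun hc => hxc (mem_center_iff.2 fun g =>
    (commute_mul_coprime hxy ha hb hab (mem_center_iff.1 hc g : Commute g (x * y))).eq)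
  have h1 : (cen (x * y) : Subgroup G) = cen x := cen_eq' H (mul_mem hx hy) hx hxyc hxc fun g hg =>
    mem_cen.2 (commute_mul_coprime hxy ha hb hab (mem_cen.1 hg))
  have h2 : (cen (x * y) : Subgroup G) = cen y := cen_eq' H (mul_mem hx hy) hy hxyc hyc fun g hg => by
    refine mem_cen.2 (commute_mul_coprime hxy.symm hb ha hab.symm ?_)
    rw [← hxy.eq]
    exact mem_cen.1 hg
  exact h1.symm.trans h2

theorem card_le_rc {v : G} (hv : v ∈ N) (hvc : v ∉ center G) {Q : Subgroup G} (hQ : IsPGroup r Q)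
    (hle : Q ≤ cen v) : Nat.card Q ≤ rc r G m := by
  set C := (cen v : Subgroup G)
  obtain ⟨S, hS⟩ := (hQ.comap_subtype (K := C)).exists_le_sylow
  have h1 : Nat.card ↥(Q.subgroupOf C) ≤ Nat.card ↥(S : Subgroup C) := card_le_of_le hS
  rw [Nat.card_congr (subgroupOfEquivOfLe hle).toEquiv] at h1
  refine h1.trans (le_of_eq ?_)
  rw [show Nat.card ↥(S : Subgroup C) = r ^ (Nat.card C).factorization r from S.card_eq_multiplicity]
  rw [rc, card_cen H hv hvc]

/-- some Sylow subgroup of `G` contains a Sylow subgroup of the centraliser -/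
theorem exists_adapted {v : G} (hv : v ∈ N) (hvc : v ∉ center G) :
    ∃ P : Sylow r G, Nat.card ((P : Subgroup G) ⊓ cen v : Subgroup G) = rc r G m := by
  set C := (cen v : Subgroup G)
  obtain ⟨Q⟩ : Nonempty (Sylow r C) := inferInstance
  obtain ⟨P, hP⟩ := (Q.2.map C.subtype).exists_le_sylow
  refine ⟨P, le_antisymm (card_le_rc H hv hvc (P.2.to_le inf_le_left) inf_le_right) ?_⟩
  have h1 := card_le_of_le (le_inf hP (map_subtype_le _) : (Q : Subgroup C).map C.subtype ≤ (P : Subgroup G) ⊓ C)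
  rw [card_subtype, show Nat.card ↥(Q : Subgroup C) = r ^ (Nat.card C).factorization r from Q.card_eq_multiplicity] at h1
  rwa [rc, ← card_cen H hv hvc]

theorem conj_cen (g v : G) : ∀ w : G, w ∈ (cen (g * v * g⁻¹) : Subgroup G) ↔ g⁻¹ * w * g ∈ (cen v : Subgroup G) := by
  intro w
  rw [mem_cen, mem_cen, ← commutatorElement_eq_one_iff_commute, ← commutatorElement_eq_one_iff_commute]
  rw [show ⁅g⁻¹ * w * g, v⁆ = g⁻¹ * ⁅w, g * v * g⁻¹⁆ * g by simp only [commutatorElement_def]; group]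
  constructor
  · intro h; rw [h]; group
  · intro h
    calc ⁅w, g * v * g⁻¹⁆ = g * (g⁻¹ * ⁅w, g * v * g⁻¹⁆ * g) * g⁻¹ := by group
      _ = 1 := by rw [h]; group

theorem conj_cen_map (g v : G) : (cen (g * v * g⁻¹) : Subgroup G) = (cen v : Subgroup G).map (MulAut.conj g).toMonoidHom := by
  ext w
  rw [conj_cen H g v w]
  exact ⟨fun h => ⟨_, h, by simp [MulAut.conj_apply, mul_assoc]⟩, by rintro ⟨a, ha, rfl⟩; simpa [MulAut.conj_apply, mul_assoc] using ha⟩

theorem card_inf_of_normalizes {v : G} (hv : v ∈ N) (hvc : v ∉ center G) (P : Sylow r G)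
    (hP : ∀ g ∈ (P : Subgroup G), ∀ a ∈ (cen v : Subgroup G), g * a * g⁻¹ ∈ (cen v : Subgroup G)) :
    Nat.card ((P : Subgroup G) ⊓ cen v : Subgroup G) = rc r G m := by
  set C := (cen v : Subgroup G)
  set T := normalizer (C : Set G)
  have hPT : (P : Subgroup G) ≤ T := fun g hg => mem_normalizer_fintype fun a ha => hP g hg a ha
  obtain ⟨Q⟩ : Nonempty (Sylow r C) := inferInstance
  have hQT : (Q : Subgroup C).map C.subtype ≤ T := (map_subtype_le _).trans le_normalizer
  obtain ⟨P1, hP1⟩ := ((Q.2.map C.subtype).comap_subtype (K := T)).exists_le_sylow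
  obtain ⟨n, hn⟩ := MulAction.exists_smul_eq T P1 (P.subtype hPT)
  refine le_antisymm (card_le_rc H hv hvc (P.2.to_le inf_le_left) inf_le_right) ?_
  have hsub : ((Q : Subgroup C).map C.subtype).map (MulAut.conj (n : G)).toMonoidHom ≤ (P : Subgroup G) ⊓ C := by
    rintro _ ⟨w, hw, rfl⟩
    refine ⟨?_, (mem_normalizer_iff.1 n.2 w).1 (map_subtype_le _ hw)⟩
    have h1 : n * ⟨w, hQT hw⟩ * n⁻¹ ∈ ((P.subtype hPT : Sylow r T) : Subgroup T) := by
      rw [← hn]
      exact ⟨_, hP1 (show (⟨w, hQT hw⟩ : T) ∈ ((Q : Subgroup C).map C.subtype).subgroupOf T from hw), rfl⟩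
    exact h1
  have h1 := card_le_of_le hsub
  rw [card_map_of_injective (MulAut.conj (n : G)).injective, card_subtype,
    show Nat.card ↥(Q : Subgroup C) = r ^ (Nat.card C).factorization r from Q.card_eq_multiplicity] at h1
  rwa [rc, ← card_cen H hv hvc]

theorem zr_lt {P : Sylow r G} {v : G} (hv : v ∈ (P : Subgroup G)) (hvc : v ∉ center G) :
    Nat.card (Zr r G) < rc r G m := by
  have hlt : Zr r G < (P : Subgroup G) ⊓ cen v := by
    refine lt_of_le_of_ne (le_inf (Zr_le P) (Zr_le_cen v)) fun e => hvc ?_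
    have : v ∈ Zr r G := by rw [e]; exact ⟨hv, mem_cen.2 (Commute.refl v)⟩
    exact this.2
  refine lt_of_lt_of_le ?_ (card_le_rc H (H.rmem v (rel_of_mem P.2 hv)) hvc (P.2.to_le inf_le_left) inf_le_right)
  exact lt_of_le_of_ne (card_le_of_le hlt.le) fun e => hlt.ne (eq_of_le_of_card_ge hlt.le e.ge)

theorem exists_partner {y : G} (hy : y ∈ N) (hyc : y ∉ center G) (hyr : (orderOf y).Coprime r)
    (hR : ∃ P : Sylow r G, ∃ x ∈ (P : Subgroup G), x ∉ center G) : ∃ u, Good r N u ∧ Commute u y := by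
  obtain ⟨P₁, x, hx, hxc⟩ := hR
  have hlt := zr_lt H hx hxc
  obtain ⟨P, hP⟩ := exists_adapted H hy hyc
  by_contra hno
  push Not at hno
  refine absurd hP (ne_of_lt (lt_of_le_of_lt (card_le_of_le fun u hu => ?_) hlt))
  by_contra huz
  have huc : u ∉ center G := fun h => huz (mem_Zr hu.1 h)
  exact hno u ⟨rel_of_mem P.2 hu.1, huc, y, hy, hyr, hyc, mem_cen.1 hu.2⟩ (mem_cen.1 hu.2)

theorem cen_eq_of_good {u v : G} (hu : Good r N u) (hv : v ∈ N) (hvc : v ∉ center G)
    (hvu : Commute v u) : (cen v : Subgroup G) = cen u := by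
  obtain ⟨hur, huc, y, hy, hyr, hyc, huy⟩ := hu
  have huN := H.rmem u hur
  obtain ⟨a, b, ha, hb, hab, ⟨k, hk⟩, hbr⟩ := Cfsg.Lib.Transfer.exists_pPart r v
  obtain ⟨i, rfl⟩ := mem_zpowers_iff.1 ha
  obtain ⟨j, rfl⟩ := mem_zpowers_iff.1 hb
  have hle : ∀ i : ℤ, (cen v : Subgroup G) ≤ cen (v ^ i) := fun i w hw => mem_cen.2 ((mem_cen.1 hw).zpow_right i)
  by_cases hbc : v ^ j ∈ center G
  · have hac : v ^ i ∉ center G := fun h => hvc (hab ▸ mul_mem h hbc)
    have h1 := cen_eq_parts H huN hy huy hur hyr huc hyc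
    have hcom : Commute (v ^ i) y := mem_cen.1 (h1 ▸ mem_cen.2 (hvu.zpow_left i) : v ^ i ∈ (cen y : Subgroup G))
    rw [cen_eq' H hv (zpow_mem hv i) hvc hac (hle i), h1]
    exact cen_eq_parts H (zpow_mem hv i) hy hcom ⟨k, hk⟩ hyr hac hyc
  · rw [cen_eq' H hv (zpow_mem hv j) hvc hbc (hle j)]
    exact (cen_eq_parts H huN (zpow_mem hv j) (hvu.zpow_left j).symm hur hbr huc hbc).symm

theorem commute_of_good {u a b : G} (hu : Good r N u) (ha : a ∈ N) (hau : Commute a u) (hbu : Commute b u) :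
    Commute a b := by
  by_cases hac : a ∈ center G
  · exact (mem_center_iff.1 hac b).symm
  · exact ((mem_cen.1 ((cen_eq_of_good H hu ha hac hau).ge (mem_cen.2 hbu)))).symm

theorem mem_adapted {u v : G} (hu : Good r N u) {P : Sylow r G}
    (hP : Nat.card ((P : Subgroup G) ⊓ cen u : Subgroup G) = rc r G m) (hv : REl r v) (hvu : Commute v u) :
    v ∈ (P : Subgroup G) := by
  set S := (P : Subgroup G) ⊓ cen u
  have hvS : zpowers v ≤ normalizer (S : Set G) := zpowers_le.2 (mem_normalizer_fintype fun s hs => by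
    rw [(commute_of_good H hu (H.rmem v hv) hvu (mem_cen.1 hs.2)).eq, mul_inv_cancel_right]; exact hs)
  have hp : IsPGroup r (S ⊔ zpowers v : Subgroup G) :=
    (P.2.to_le inf_le_left).to_sup_of_normal_left' (isPGroup_zpowers hv) hvS
  have hle : S ⊔ zpowers v ≤ cen u := sup_le inf_le_right (zpowers_le.2 (mem_cen.2 hvu))
  have heq := eq_of_le_of_card_ge (le_sup_left : S ≤ S ⊔ zpowers v)
    (hP ▸ card_le_rc H (H.rmem u hu.1) hu.2.1 hp hle)
  exact (heq ▸ mem_sup_right (mem_zpowers v) : v ∈ S).1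

theorem conj_good {u : G} [N.Normal] (hu : Good r N u) (g : G) : Good r N (g * u * g⁻¹) := by
  obtain ⟨hur, huc, y, hy, hyr, hyc, huy⟩ := hu
  have key : ∀ a : G, g * a * g⁻¹ ∈ center G → a ∈ center G := fun a h => by
    have := (inferInstance : (center G).Normal).conj_mem _ h g⁻¹
    simpa [mul_assoc] using this
  refine ⟨rel_inv_iff.2 hur, fun h => huc (key u h), g * y * g⁻¹, (inferInstance : N.Normal).conj_mem y hy g, ?_,
    fun h => hyc (key y h), huy.map (MulAut.conj g)⟩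
  rw [show g * y * g⁻¹ = (MulAut.conj g) y from rfl]
  rwa [MulEquiv.orderOf_eq]

theorem exists_good_adapted [N.Normal] {u : G} (hu : Good r N u) (P : Sylow r G) :
    ∃ u', Good r N u' ∧ Nat.card ((P : Subgroup G) ⊓ cen u' : Subgroup G) = rc r G m := by
  obtain ⟨P₁, hP₁⟩ := exists_adapted H (H.rmem u hu.1) hu.2.1
  obtain ⟨g, rfl⟩ := MulAction.exists_smul_eq G P₁ P
  refine ⟨g * u * g⁻¹, conj_good H hu g, ?_⟩
  rw [conj_cen_map H, ← hP₁, show (((g • P₁ : Sylow r G)) : Subgroup G) = (P₁ : Subgroup G).map (MulAut.conj g).toMonoidHom from rfl,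
    ← Subgroup.map_inf _ _ _ (MulAut.conj g).injective, card_map_of_injective (MulAut.conj g).injective]

/-- outside the centraliser of a special element the `r`-th powers are central -/
theorem pow_mem_center' {P : Subgroup G} (hPp : IsPGroup r P) {x : G} (hs : Special r P x) {g : G}
    (hg : g ∈ P) (hgx : g ∉ (cen x : Subgroup G)) : g ^ r ∈ center G := by
  by_contra hgp
  have hgc : g ∉ center G := fun hc => hgp (pow_mem hc r)
  set π := QuotientGroup.mk' (center G)
  have hcom : Commute (π g) (π x) := by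
    rw [← commutatorElement_eq_one_iff_commute, ← map_commutatorElement]
    exact (QuotientGroup.eq_one_iff _).2 (by rw [commutatorElement_def]; exact hs.2.2.2 g hg)
  have hq : π ((g * x) ^ r) = π (g ^ r) := by
    rw [map_pow, map_mul, hcom.mul_pow, ← map_pow, ← map_pow, show π (x ^ r) = 1 from
      (QuotientGroup.eq_one_iff _).2 hs.2.2.1, mul_one]
  have hz : ((g * x) ^ r)⁻¹ * g ^ r ∈ center G := QuotientGroup.eq.1 hq
  have hgN := H.rmem g (rel_of_mem hPp hg)
  have h1 : g * x ∈ (cen g : Subgroup G) := by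
    rw [cen_eq' H hgN (pow_mem hgN r) hgc hgp (cen_le_pow g r)]
    refine mem_cen.2 ?_
    rw [show g ^ r = (g * x) ^ r * (((g * x) ^ r)⁻¹ * g ^ r) by group]
    exact ((Commute.refl (g * x)).pow_right r).mul_right (mem_center_iff.1 hz _)
  refine hgx (mem_cen.2 ?_)
  have h2 : g * x * g = g * (g * x) := mem_cen.1 h1
  rw [mul_assoc] at h2
  exact (mul_left_cancel h2).symm

/-- the product identity: two independent elements cannot act on a good centraliser -/
theorem no_two_actions [N.Normal] {u : G} (hu : Good r N u) {t₁ t₂ : G}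
    (h1 : ∀ a ∈ (cen u : Subgroup G), t₁ * a * t₁⁻¹ ∈ (cen u : Subgroup G))
    (h2 : ∀ a ∈ (cen u : Subgroup G), t₂ * a * t₂⁻¹ ∈ (cen u : Subgroup G))
    (hr1 : t₁ ^ r ∈ center G) (hr2 : t₂ ^ r ∈ center G)
    (hc : (t₁ * t₂)⁻¹ * (t₂ * t₁) ∈ (cen u : Subgroup G)) (hN1 : t₁ ∈ N) (hN2 : t₂ ∈ N)
    (hout : t₂ ∉ (cen u : Subgroup G)) (hout' : ∀ j : ℕ, t₁ * t₂ ^ j ∉ (cen u : Subgroup G)) : False := by
  classical
  obtain ⟨-, -, y, hy, hyr, hyc, huy⟩ := id hu
  set A := N ⊓ (cen u : Subgroup G) with hA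
  letI : CommGroup A := { (inferInstance : Group A) with
    mul_comm := fun a b => Subtype.ext (commute_of_good H hu a.2.1 (mem_cen.1 a.2.2) (mem_cen.1 b.2.2)).eq }
  let T : Subgroup G := normalizer (A : Set G)
  have hT : ∀ t : G, (∀ a ∈ (cen u : Subgroup G), t * a * t⁻¹ ∈ (cen u : Subgroup G)) → t ∈ T := fun t ht =>
    mem_normalizer_fintype fun a ha => ⟨(inferInstance : N.Normal).conj_mem a ha.1 t, ht a ha.2⟩
  let φ : T →* MulAut A := A.normalizerMonoidHom
  have hφ : ∀ (t : T) (a : A), (φ t a : G) = (t : G) * a * (t : G)⁻¹ := fun t a => rfl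
  have htriv : ∀ t : T, (t : G) ∈ A → φ t = 1 := fun t ht => MulEquiv.ext fun a => Subtype.ext (by
    rw [hφ, (commute_of_good H hu ht.1 (mem_cen.1 ht.2) (mem_cen.1 a.2.2)).eq, mul_inv_cancel_right]; rfl)
  have htrivc : ∀ t : T, (t : G) ∈ center G → φ t = 1 := fun t ht => MulEquiv.ext fun a => Subtype.ext (by
    rw [hφ, ← mem_center_iff.1 ht (a : G), mul_inv_cancel_right]; rfl)
  have hfix : ∀ t : T, (t : G) ∉ (cen u : Subgroup G) → ∀ a : A, φ t a = a → a ∈ (center G).subgroupOf A := by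
    intro t ht a ha
    by_contra hac
    refine ht ((cen_eq_of_good H hu a.2.1 hac (mem_cen.1 a.2.2)).le (mem_cen.2 ?_))
    exact mul_inv_eq_iff_eq_mul.1 ((hφ t a).symm.trans (congrArg Subtype.val ha))
  set a₁ : T := ⟨t₁, hT t₁ h1⟩
  set a₂ : T := ⟨t₂, hT t₂ h2⟩
  have key := product_identity ((center G).subgroupOf A) (φ a₁) (φ a₂)
    (by rw [← map_pow]; exact htrivc _ hr1) (by rw [← map_pow]; exact htrivc _ hr2)
    (by
      have hd : φ ((a₁ * a₂)⁻¹ * (a₂ * a₁)) = 1 := htriv _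
        ⟨N.mul_mem (N.inv_mem (N.mul_mem hN1 hN2)) (N.mul_mem hN2 hN1), hc⟩
      rw [map_mul φ ((a₁ * a₂)⁻¹), map_inv, inv_mul_eq_one] at hd
      rw [commute_iff_eq, ← map_mul, ← map_mul, hd])
    (fun a ha => hfix a₂ hout a ha)
    (fun j a ha => hfix (a₁ * a₂ ^ j) (hout' j) a (by rw [map_mul, map_pow]; exact ha))
    (fun w hw => Subtype.ext (by rw [hφ, show (a₁ : G) * (w : G) = (w : G) * a₁ from mem_center_iff.1 hw _, mul_inv_cancel_right]))
    ⟨y, hy, mem_cen.2 huy.symm⟩
  refine hyc (mem_of_pow_mem (k := 1) hyr ?_)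
  rw [pow_one]; exact key

/-- elements of a Sylow subgroup normalising the adapted part normalise the centraliser -/
theorem normalizes_cen' {P : Sylow r G} {u t : G} (hu : Good r N u)
    (hP : Nat.card ((P : Subgroup G) ⊓ cen u : Subgroup G) = rc r G m)
    (hlt : Nat.card (Zr r G) < rc r G m)
    (ht : ∀ s ∈ (P : Subgroup G) ⊓ cen u, t * s * t⁻¹ ∈ (P : Subgroup G) ⊓ cen u) :
    ∀ a ∈ (cen u : Subgroup G), t * a * t⁻¹ ∈ (cen u : Subgroup G) := by
  obtain ⟨s, hs, hsz⟩ := Set.not_subset.1 (fun h : (P : Subgroup G) ⊓ cen u ≤ Zr r G => absurd (card_le_of_le h) (by omega))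
  have hsc : s ∉ center G := fun h => hsz (mem_Zr hs.1 h)
  have hsN := H.rmem s (rel_of_mem P.2 hs.1)
  have hs'c : t * s * t⁻¹ ∉ center G := fun h => hsc (by
    have := (inferInstance : (center G).Normal).conj_mem _ h t⁻¹
    simpa [mul_assoc] using this)
  have e1 := cen_eq_of_good H hu hsN hsc (mem_cen.1 hs.2)
  have e2 := cen_eq_of_good H hu (H.rmem _ (rel_inv_iff.2 (rel_of_mem P.2 hs.1))) hs'c (mem_cen.1 (ht s hs).2)
  intro a ha
  rw [← e2, conj_cen H]
  rw [show t⁻¹ * (t * a * t⁻¹) * t = a by group]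
  exact e1.ge ha

omit H in
theorem relIndex_dvd_index_normal {X : Type*} [Group X] [Finite X] (C A : Subgroup X) [A.Normal] :
    C.relIndex A ∣ C.index := by
  have e1 := relIndex_mul_relIndex ⊥ (A ⊓ C) C bot_le inf_le_right
  have e2 := relIndex_mul_relIndex ⊥ (C ⊓ A) A bot_le inf_le_right
  have e3 := relIndex_mul_relIndex ⊥ A (C ⊔ A) bot_le le_sup_right
  have e4 := relIndex_mul_relIndex ⊥ C (C ⊔ A) bot_le le_sup_left
  rw [relIndex_bot_left, relIndex_bot_left, inf_relIndex_right] at e1 e2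
  rw [relIndex_bot_left, relIndex_bot_left, relIndex_sup_right] at e3
  rw [relIndex_bot_left, relIndex_bot_left] at e4
  have e5 : C.relIndex (C ⊔ A) = C.relIndex A := by
    refine Nat.eq_of_mul_eq_mul_left (Nat.card_pos (α := C)) ?_
    calc Nat.card C * C.relIndex (C ⊔ A) = Nat.card A * A.relIndex C := by rw [e4, e3]
      _ = Nat.card (A ⊓ C : Subgroup X) * C.relIndex A * A.relIndex C := by
        conv_lhs => rw [← e2, inf_comm]
      _ = Nat.card C * C.relIndex A := by conv_rhs => rw [← e1]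
                                          ring
  exact e5 ▸ relIndex_dvd_index_of_le le_sup_left

omit H in
theorem card_step {A K : Subgroup G} {a : G} (hK : IsPGroup r K) (hlt : A < K) (han : a ∈ normalizer (A : Set G))
    (hap : a ^ r ∈ A) (hgen : K ≤ A ⊔ zpowers a) : Nat.card K = r * Nat.card A := by
  have hsurj : ∀ x ∈ K, ∃ (i : Fin r) (h : A), (h : G) * a ^ (i : ℕ) = x := by
    intro x hx
    have h1 : x ∈ ((A ⊔ zpowers a : Subgroup G) : Set G) := hgen hx
    rw [coe_mul_of_right_le_normalizer_left _ _ (zpowers_le.2 han)] at h1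
    obtain ⟨h, hh, b, hb, rfl⟩ := Set.mem_mul.1 h1
    obtain ⟨i, rfl⟩ := mem_zpowers_iff.1 hb
    refine ⟨⟨(i % (r : ℤ)).toNat, ?_⟩, ⟨h * (a ^ r) ^ (i / (r : ℤ)), mul_mem hh (zpow_mem hap _)⟩, ?_⟩
    · have h2 := Int.emod_lt_of_pos i (show (0 : ℤ) < r by exact_mod_cast hr.out.pos)
      have h3 := Int.emod_nonneg i (show (r : ℤ) ≠ 0 by exact_mod_cast hr.out.ne_zero)
      omega
    · show h * (a ^ r) ^ (i / (r : ℤ)) * a ^ (i % (r : ℤ)).toNat = h * a ^ i
      rw [mul_assoc, ← zpow_natCast a r, ← zpow_mul, ← zpow_natCast a (Int.toNat _),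
        Int.toNat_of_nonneg (Int.emod_nonneg _ (by exact_mod_cast hr.out.ne_zero)), ← zpow_add,
        Int.mul_ediv_add_emod]
  have hle : Nat.card K ≤ r * Nat.card A := by
    choose f1 f2 hf using hsurj
    have := Nat.card_le_card_of_injective (fun x : K => (f1 x x.2, f2 x x.2)) (fun x x' h => by
      obtain ⟨e1, e2⟩ := Prod.mk.injEq .. ▸ h
      exact Subtype.ext (by rw [← hf x x.2, ← hf x' x'.2, e1, e2]))
    rwa [Nat.card_prod, Nat.card_fin] at this
  obtain ⟨i, hi⟩ := (hK.to_le hlt.le).exists_card_eq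
  obtain ⟨j, hj⟩ := hK.exists_card_eq
  have hij : i < j := by
    have h1 : Nat.card A < Nat.card K :=
      lt_of_le_of_ne (card_le_of_le hlt.le) fun e => hlt.ne (eq_of_le_of_card_ge hlt.le e.ge)
    rw [hi, hj] at h1
    exact (Nat.pow_lt_pow_iff_right hr.out.one_lt).1 h1
  refine le_antisymm hle ?_
  rw [hi, hj, ← pow_succ']
  exact Nat.pow_le_pow_right hr.out.pos hij

omit H in
theorem not_mem_mul_pow {A : Subgroup G} {t h : G} (ht : t ∉ A) (hp : h ^ r ∈ A)
    (hh : h ∉ A ⊔ zpowers t) (j : ℕ) : t * h ^ j ∉ A := by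
  intro hj
  by_cases hrj : r ∣ j
  · obtain ⟨i, rfl⟩ := hrj
    refine ht ?_
    have := mul_mem hj (inv_mem (show h ^ (r * i) ∈ A by rw [pow_mul]; exact pow_mem hp i))
    rwa [mul_inv_cancel_right] at this
  · refine hh ?_
    have h1 : h ^ j ∈ A ⊔ zpowers t := by
      have := mul_mem (mem_sup_right (inv_mem (mem_zpowers t)) : t⁻¹ ∈ A ⊔ zpowers t) (mem_sup_left hj)
      rwa [inv_mul_cancel_left] at this
    have hcop : Nat.Coprime j r := ((hr.out.coprime_iff_not_dvd).2 hrj).symm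
    have : (1 : ℤ) = ((j.gcd r : ℕ) : ℤ) := by rw [hcop.gcd_eq_one]; rfl
    rw [← zpow_one h, this, Nat.gcd_eq_gcd_ab, zpow_add, zpow_mul, zpow_mul, zpow_natCast, zpow_natCast]
    exact mul_mem (zpow_mem h1 _) (zpow_mem (mem_sup_left hp) _)

omit H in
/-- two large subgroups with small intersection -/
theorem le_of_two {A B K : Subgroup G} {c k z : ℕ} (hA : Nat.card A = c) (hB : Nat.card B = c)
    (hBK : B ≤ K) (hAK : A ≤ K) (hK : Nat.card K = k * c) (hz : Nat.card (A ⊓ B : Subgroup G) ≤ z) :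
    c ≤ k * z := by
  have hc : 0 < c := hA ▸ Nat.card_pos
  have e1 := relIndex_mul_relIndex ⊥ (A ⊓ B) B bot_le inf_le_right
  rw [relIndex_bot_left, relIndex_bot_left, inf_relIndex_right, hB] at e1
  have e2 : A.relIndex K = k := by
    have := relIndex_mul_relIndex ⊥ A K bot_le hAK
    rw [relIndex_bot_left, relIndex_bot_left, hA, hK, mul_comm k] at this
    exact Nat.eq_of_mul_eq_mul_left hc this
  have e3 : A.relIndex B ≤ k := e2 ▸ relIndex_le_of_le_right hBK index_ne_zero_of_finite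
  rw [← e1, mul_comm k]
  exact Nat.mul_le_mul hz e3

theorem cen_inter {P : Sylow r G} {u x v : G} (hu : Good r N u) (hxu : x ∉ (cen u : Subgroup G))
    (hv : v ∈ (P : Subgroup G)) (hvu : v ∈ (cen u : Subgroup G)) (hvx : Commute v x) : v ∈ Zr r G := by
  by_contra hvz
  have hvc : v ∉ center G := fun h => hvz (mem_Zr hv h)
  exact hxu ((cen_eq_of_good H hu (H.rmem v (rel_of_mem P.2 hv)) hvc (mem_cen.1 hvu)).le (mem_cen.2 hvx.symm))

theorem special_cases [N.Normal] {u x : G} (hu : Good r N u) (P : Sylow r G)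
    (hP : Nat.card ((P : Subgroup G) ⊓ cen u : Subgroup G) = rc r G m) (hs : Special r (P : Subgroup G) x) :
    ((cen x : Subgroup G) = cen u ∧ Nat.card (P : Subgroup G) = r * rc r G m) ∨
    (x ∉ (cen u : Subgroup G) ∧ rc r G m = r * Nat.card (Zr r G)) := by
  obtain ⟨hxP, hxc, hxr, hxcm⟩ := id hs
  have hxN := H.rmem x (rel_of_mem P.2 hxP)
  have hlt := zr_lt H hxP hxc
  have hPN : ∀ g ∈ (P : Subgroup G), g ∈ N := fun g hg => H.rmem g (rel_of_mem P.2 hg)
  have hPx : Nat.card ((P : Subgroup G) ⊓ cen x : Subgroup G) = rc r G m :=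
    card_inf_of_normalizes H hxN hxc P fun g hg a ha => normalizes_cen hs hg ha
  set S := (P : Subgroup G) ⊓ cen u with hS
  set Cx := (P : Subgroup G) ⊓ cen x with hCx
  have hcomm : ∀ g ∈ (P : Subgroup G), ∀ h ∈ (P : Subgroup G), (g * h)⁻¹ * (h * g) ∈ (cen x : Subgroup G) := by
    intro g hg h hh
    have hzg := hxcm g hg
    have hzh := hxcm h hh
    set zg := g * x * g⁻¹ * x⁻¹ with hzgd
    set zh := h * x * h⁻¹ * x⁻¹ with hzhd
    have e1 : g * h * x * (g * h)⁻¹ = zh * zg * x := by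
      calc g * h * x * (g * h)⁻¹ = g * (zh * x) * g⁻¹ := by rw [hzhd]; group
        _ = g * zh * x * g⁻¹ := by rw [← mul_assoc]
        _ = zh * g * x * g⁻¹ := by rw [mem_center_iff.1 hzh g]
        _ = zh * zg * x := by rw [hzgd]; group
    have e2 : h * g * x * (h * g)⁻¹ = zg * zh * x := by
      calc h * g * x * (h * g)⁻¹ = h * (zg * x) * h⁻¹ := by rw [hzgd]; group
        _ = h * zg * x * h⁻¹ := by rw [← mul_assoc]
        _ = zg * h * x * h⁻¹ := by rw [mem_center_iff.1 hzg h]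
        _ = zg * zh * x := by rw [hzhd]; group
    have e3 : g * h * x * (g * h)⁻¹ = h * g * x * (h * g)⁻¹ := by rw [e1, e2, mem_center_iff.1 hzg zh]
    refine mem_cen.2 ?_
    calc ((g * h)⁻¹ * (h * g)) * x = (g * h)⁻¹ * (h * g * x * (h * g)⁻¹) * (h * g) := by group
      _ = (g * h)⁻¹ * (g * h * x * (g * h)⁻¹) * (h * g) := by rw [e3]
      _ = x * ((g * h)⁻¹ * (h * g)) := by group
  by_cases hxu : x ∈ (cen u : Subgroup G)
  · left
    have he := cen_eq_of_good H hu hxN hxc (mem_cen.1 hxu)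
    refine ⟨he, ?_⟩
    have hnorm : ∀ g ∈ (P : Subgroup G), ∀ a ∈ (cen u : Subgroup G), g * a * g⁻¹ ∈ (cen u : Subgroup G) :=
      fun g hg a ha => he.le (normalizes_cen hs hg (he.ge ha))
    obtain ⟨t, ht, htx⟩ := Set.not_subset.1 (H.nocen P x hxP hxc)
    have htS : t ∉ S := fun h => htx (he.ge h.2)
    have hpowS : ∀ g ∈ (P : Subgroup G), g ∉ (cen u : Subgroup G) → g ^ r ∈ center G := fun g hg hgu =>
      pow_mem_center' H P.2 hs hg fun h => hgu (he.le h)
    have htn : t ∈ normalizer (S : Set G) := mem_normalizer_fintype fun s hs' =>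
      mem_inf.2 ⟨mul_mem (mul_mem ht (mem_inf.1 hs').1) (inv_mem ht), hnorm t ht s (mem_inf.1 hs').2⟩
    rw [← hP]
    refine card_step P.2 (lt_of_le_of_ne inf_le_left fun e => htS (e.ge ht)) htn
      ⟨pow_mem ht r, mem_cen.2 (mem_center_iff.1 (hpowS t ht fun h => htS ⟨ht, h⟩) u).symm⟩ fun h hh => ?_
    by_contra hh'
    have hhu : h ∉ (cen u : Subgroup G) := fun h' => hh' (mem_sup_left ⟨hh, h'⟩)
    have hh2 := hpowS h hh hhu
    refine no_two_actions H hu (hnorm t ht) (hnorm h hh) (hpowS t ht fun h => htS ⟨ht, h⟩) hh2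
      (he.le (hcomm t ht h hh)) (hPN t ht) (hPN h hh) hhu fun j hj => ?_
    exact not_mem_mul_pow htS ⟨pow_mem hh r, mem_cen.2 (mem_center_iff.1 hh2 u).symm⟩ hh' j
      ⟨mul_mem ht (pow_mem hh j), hj⟩
  · right
    refine ⟨hxu, ?_⟩
    have hint : ∀ v ∈ S, Commute v x → v ∈ Zr r G := fun v hv h => cen_inter H hu hxu hv.1 hv.2 h
    have hZS : Zr r G ≤ S := le_inf (Zr_le P) (Zr_le_cen u)
    have hxn : ∀ s ∈ S, x * s * x⁻¹ ∈ S := fun s hs' => by
      have hz : x * s * x⁻¹ * s⁻¹ ∈ center G := by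
        have h0 := inv_mem (hxcm s hs'.1)
        rwa [show (s * x * s⁻¹ * x⁻¹)⁻¹ = x * s * x⁻¹ * s⁻¹ by group] at h0
      have hzS : x * s * x⁻¹ * s⁻¹ ∈ S := hZS (mem_Zr
        (mul_mem (mul_mem (mul_mem hxP hs'.1) (inv_mem hxP)) (inv_mem hs'.1)) hz)
      have := mul_mem hzS hs'
      rwa [inv_mul_cancel_right] at this
    have hxS : x ∉ S := fun h => hxu h.2
    set T1 := S ⊔ zpowers x
    have hT1le : T1 ≤ (P : Subgroup G) := sup_le inf_le_left (zpowers_le.2 hxP)
    have hT1 : Nat.card T1 = r * rc r G m := by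
      rw [← hP]
      exact card_step (P.2.to_le hT1le) (lt_of_le_of_ne le_sup_left fun e => hxS (e.ge (mem_sup_right (mem_zpowers x))))
        (mem_normalizer_fintype hxn) ⟨pow_mem hxP r, mem_cen.2 (mem_center_iff.1 hxr u).symm⟩ le_rfl
    obtain ⟨s₀, hs₀, hs₀z⟩ := Set.not_subset.1 (fun h : S ≤ Zr r G => absurd (card_le_of_le h) (by omega))
    have hs₀x : ¬ Commute s₀ x := fun h => hs₀z (hint s₀ hs₀ h)
    -- the normalizer of `S` in `P`
    have hnS : ∀ h ∈ (P : Subgroup G), (∀ s ∈ S, h * s * h⁻¹ ∈ S) → h ∈ T1 := by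
      intro h₀ hh₀ hn₀
      by_contra hout₀
      obtain ⟨h, hh, hn, hout, hhx⟩ : ∃ h ∈ (P : Subgroup G), (∀ s ∈ S, h * s * h⁻¹ ∈ S) ∧ h ∉ T1 ∧ ¬ Commute h x := by
        by_cases hc : Commute h₀ x
        · refine ⟨h₀ * s₀, mul_mem hh₀ hs₀.1, fun s hs' => ?_, fun h' => hout₀ ?_, fun h' => hs₀x ?_⟩
          · rw [show h₀ * s₀ * s * (h₀ * s₀)⁻¹ = h₀ * (s₀ * s * s₀⁻¹) * h₀⁻¹ by group]
            exact hn₀ _ (mul_mem (mul_mem hs₀ hs') (inv_mem hs₀))
          · have := mul_mem h' (inv_mem (mem_sup_left hs₀ : s₀ ∈ T1))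
            rwa [mul_inv_cancel_right] at this
          · have := hc.inv_left.mul_left h'
            rwa [inv_mul_cancel_left] at this
        · exact ⟨h₀, hh₀, hn₀, hout₀, hc⟩
      have hhr := pow_mem_center' H P.2 hs hh fun h' => hhx (mem_cen.1 h')
      have hhu : h ∉ (cen u : Subgroup G) := fun h' => hout (mem_sup_left ⟨hh, h'⟩)
      refine no_two_actions H hu (normalizes_cen' H hu hP hlt hxn) (normalizes_cen' H hu hP hlt hn) hxr hhr ?_
        hxN (hPN h hh) hhu fun j hj => ?_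
      · refine mem_cen.2 (mem_center_iff.1 ?_ u).symm
        rw [show (x * h)⁻¹ * (h * x) = h⁻¹ * (x⁻¹ * (h * x * h⁻¹ * x⁻¹) * x) * h by group,
          ← mem_center_iff.1 (hxcm h hh) x⁻¹ |>.symm]
        simpa [mul_assoc] using (inferInstance : (center G).Normal).conj_mem' _ (hxcm h hh) h
      · exact not_mem_mul_pow hxS ⟨pow_mem hh r, mem_cen.2 (mem_center_iff.1 hhr u).symm⟩ hout j
          ⟨mul_mem hxP (pow_mem hh j), hj⟩
    have hle : rc r G m ≤ r * Nat.card (Zr r G) := by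
      by_cases htop : T1 = (P : Subgroup G)
      · refine le_of_two (K := (P : Subgroup G)) hP hPx inf_le_left inf_le_left (htop ▸ hT1) (card_le_of_le fun v hv => ?_)
        exact hint v hv.1 (mem_cen.1 hv.2.2)
      · haveI := P.2.isNilpotent
        have hlt' : T1.subgroupOf (P : Subgroup G) < ⊤ := lt_top_iff_ne_top.2 fun e =>
          htop (le_antisymm hT1le (subgroupOf_eq_top.1 e))
        obtain ⟨n, hnN, hnT⟩ := SetLike.exists_of_lt (Group.normalizerCondition_of_isNilpotent (G := (P : Subgroup G)) _ hlt')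
        have hnT' : ∀ w ∈ T1, (n : G) * w * (n : G)⁻¹ ∈ T1 := fun w hw =>
          (mem_normalizer_iff.1 hnN ⟨w, hT1le hw⟩).1 hw
        set S' := S.map (MulAut.conj (n : G)).toMonoidHom
        have hS'T : S' ≤ T1 := by
          rintro _ ⟨w, hw, rfl⟩
          exact hnT' w (mem_sup_left hw)
        refine le_of_two (K := T1) hP (by rw [card_map_of_injective (MulAut.conj (n : G)).injective, hP]) hS'T le_sup_left
          hT1 (card_le_of_le fun v hv => ?_)
        obtain ⟨hvS, hvS'⟩ := hv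
        by_contra hvz
        have hvc : v ∉ center G := fun h => hvz (mem_Zr hvS.1 h)
        obtain ⟨w, hw, hwv⟩ := hvS'
        have hwv' : (n : G) * w * (n : G)⁻¹ = v := hwv
        have hwc : w ∉ center G := fun h => hvc (hwv' ▸ (inferInstance : (center G).Normal).conj_mem w h _)
        have e1 := cen_eq_of_good H hu (hPN v hvS.1) hvc (mem_cen.1 hvS.2)
        have e2 := cen_eq_of_good H hu (hPN w hw.1) hwc (mem_cen.1 hw.2)
        refine hnT (hnS n n.2 fun s hs' => mem_inf.2 ⟨mul_mem (mul_mem n.2 (mem_inf.1 hs').1) (inv_mem n.2), ?_⟩)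
        rw [← e1, ← hwv', conj_cen H]
        rw [show (n : G)⁻¹ * ((n : G) * s * (n : G)⁻¹) * n = s by group, e2]
        exact hs'.2
    obtain ⟨i, hi⟩ : ∃ i, Nat.card (Zr r G) = r ^ i :=
      ((default : Sylow r G).2.to_le (Zr_le _)).exists_card_eq
    refine le_antisymm hle ?_
    rw [rc, hi, ← pow_succ']
    rw [rc, hi] at hlt
    exact Nat.pow_le_pow_right hr.out.pos ((Nat.pow_lt_pow_iff_right hr.out.one_lt).1 hlt)

theorem inf_eq_sup_zpowers {P : Sylow r G} {g : G} (hg : g ∈ (P : Subgroup G)) (hgc : g ∉ center G)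
    (hgr : g ^ r ∈ center G) (hrc : rc r G m = r * Nat.card (Zr r G))
    (hPg : Nat.card ((P : Subgroup G) ⊓ cen g : Subgroup G) = rc r G m) :
    (P : Subgroup G) ⊓ cen g = Zr r G ⊔ zpowers g := by
  have hle : Zr r G ⊔ zpowers g ≤ (P : Subgroup G) ⊓ cen g :=
    sup_le (le_inf (Zr_le P) (Zr_le_cen g)) (zpowers_le.2 ⟨hg, mem_cen.2 (Commute.refl g)⟩)
  refine (eq_of_le_of_card_ge hle (le_of_eq ?_)).symm
  rw [hPg, hrc]
  symm
  refine card_step (P.2.to_le (hle.trans inf_le_left))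
    (lt_of_le_of_ne le_sup_left fun e => hgc (e.ge (mem_sup_right (mem_zpowers g))).2) ?_ (mem_Zr (pow_mem hg r) hgr) le_rfl
  exact mem_normalizer_fintype fun s hs => by rw [mem_center_iff.1 hs.2 g, mul_inv_cancel_right]; exact hs

/-- a special element with small centraliser in its Sylow subgroup is good -/
theorem special_good [N.Normal] {u x : G} (hu : Good r N u) (P : Sylow r G)
    (hs : Special r (P : Subgroup G) x) (hrc : rc r G m = r * Nat.card (Zr r G)) : Good r N x := by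
  classical
  obtain ⟨hxP, hxc, hxr, hxcm⟩ := id hs
  have hxN := H.rmem x (rel_of_mem P.2 hxP)
  by_contra hbad
  have hbad' : ∀ y ∈ N, (orderOf y).Coprime r → Commute x y → y ∈ center G := fun y hy hyr hxy =>
    by_contra fun hyc => hbad ⟨rel_of_mem P.2 hxP, hxc, y, hy, hyr, hyc, hxy⟩
  set C := (cen x : Subgroup G)
  have hPC : ∀ g ∈ (P : Subgroup G), ∀ a ∈ C, g * a * g⁻¹ ∈ C := fun g hg a ha => normalizes_cen hs hg ha
  have hPx := card_inf_of_normalizes H hxN hxc P hPC
  have hCx := inf_eq_sup_zpowers H hxP hxc hxr hrc hPx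
  have hPn : (P : Subgroup G) ≤ normalizer (C : Set G) := fun g hg => mem_normalizer_fintype fun a ha => hPC g hg a ha
  -- the `r`-elements of `N ⊓ C` lie in `P`
  have hNC : ∀ w ∈ N, w ∈ C → ∃ p₀ ∈ (P : Subgroup G), ∃ z ∈ center G, (orderOf z).Coprime r ∧ w = p₀ * z := by
    set X := N ⊓ C
    haveI : Group.IsNilpotent X := by
      set Z₀ := (center G).subgroupOf X
      have hZ₀ : Z₀ ≤ center X := fun a ha => mem_center_iff.2 fun b => Subtype.ext (mem_center_iff.1 ha (b : G))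
      haveI : IsPGroup r (X ⧸ Z₀) → Group.IsNilpotent (X ⧸ Z₀) := fun h => h.isNilpotent
      haveI hq : IsPGroup r (X ⧸ Z₀) := by
        intro q
        obtain ⟨⟨w, hw⟩, rfl⟩ := QuotientGroup.mk_surjective q
        obtain ⟨hwN, hwC⟩ := mem_inf.1 hw
        obtain ⟨a, b, ha, hb, hab, ⟨k, hk⟩, hbr⟩ := Cfsg.Lib.Transfer.exists_pPart r w
        refine ⟨k, ?_⟩
        rw [← QuotientGroup.mk_pow, QuotientGroup.eq_one_iff]
        show w ^ r ^ k ∈ center G
        obtain ⟨i, rfl⟩ := mem_zpowers_iff.1 ha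
        obtain ⟨j, rfl⟩ := mem_zpowers_iff.1 hb
        have hcom : Commute (w ^ i) (w ^ j) := (Commute.refl w).zpow_zpow i j
        have := hcom.mul_pow (r ^ k)
        rw [hab, show (w ^ i) ^ r ^ k = 1 from hk ▸ pow_orderOf_eq_one _, one_mul] at this
        rw [this]
        exact pow_mem (hbad' _ (zpow_mem hwN j) hbr ((mem_cen.1 hwC).symm.zpow_right j)) _
      haveI := hq.isNilpotent
      exact Subgroup.isNilpotent_of_ker_le_center (QuotientGroup.mk' Z₀) (by rw [QuotientGroup.ker_mk']; exact hZ₀)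
    intro w hwN hwC
    obtain ⟨a, b, ha, hb, hab, ⟨k, hk⟩, hbr⟩ := Cfsg.Lib.Transfer.exists_pPart r w
    obtain ⟨i, rfl⟩ := mem_zpowers_iff.1 ha
    obtain ⟨j, rfl⟩ := mem_zpowers_iff.1 hb
    refine ⟨w ^ i, ?_, w ^ j, hbad' _ (zpow_mem hwN j) hbr ((mem_cen.1 hwC).symm.zpow_right j), hbr, hab.symm⟩
    have hXP : (P : Subgroup G) ⊓ C ≤ X := le_inf (fun g hg => H.rmem g (rel_of_mem P.2 hg.1)) inf_le_right
    obtain ⟨Q, hQ⟩ := ((P.2.to_le (inf_le_left : (P : Subgroup G) ⊓ C ≤ _)).comap_subtype (K := X)).exists_le_sylow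
    have hQcard : Nat.card ↥(Q : Subgroup X) ≤ rc r G m := by
      rw [← card_subtype]
      exact card_le_rc H hxN hxc (Q.2.map X.subtype) ((map_subtype_le _).trans inf_le_right)
    have hQeq : ((P : Subgroup G) ⊓ C).subgroupOf X = (Q : Subgroup X) := eq_of_le_of_card_ge hQ (by
      rw [Nat.card_congr (subgroupOfEquivOfLe hXP).toEquiv, hPx]; exact hQcard)
    have h03 := (Group.isNilpotent_of_finite_tfae (G := X)).out 0 3
    haveI : (Q : Subgroup X).Normal := h03.1 inferInstance r ‹_› Q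
    haveI := Sylow.unique_of_normal Q ‹_›
    have hel : REl r (⟨w ^ i, mem_inf.2 ⟨zpow_mem hwN i, zpow_mem hwC i⟩⟩ : X) := ⟨k, by rw [← hk]; exact (Subgroup.orderOf_coe _).symm⟩
    obtain ⟨Q', hQ'⟩ := exists_sylow_mem hel
    rw [Subsingleton.elim Q' Q, ← hQeq] at hQ'
    exact (mem_subgroupOf.1 hQ').1
  -- elements of `C` of order prime to `r` centralise `P`
  have hnorm : ∀ c ∈ C, ∀ g ∈ (P : Subgroup G), c * g * c⁻¹ ∈ (P : Subgroup G) := by
    intro c hc g hg
    have hgr := rel_of_mem P.2 hg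
    have hin : c * g * c⁻¹ ∈ C ⊔ (P : Subgroup G) :=
      mul_mem (mul_mem (mem_sup_left hc) (mem_sup_right hg)) (mem_sup_left (inv_mem hc))
    rw [← SetLike.mem_coe, coe_mul_of_right_le_normalizer_left _ _ hPn] at hin
    obtain ⟨w, hw, q, hq, hwq⟩ := Set.mem_mul.1 hin
    have hwN : w ∈ N := by
      rw [← mul_inv_eq_iff_eq_mul.2 hwq.symm]
      exact mul_mem (H.rmem _ (rel_inv_iff.2 hgr)) (inv_mem (H.rmem q (rel_of_mem P.2 hq)))
    obtain ⟨p₀, hp₀, z, hz, hzr, rfl⟩ := hNC w hwN hw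
    have e : c * g * c⁻¹ = (p₀ * q) * z := by rw [← hwq, mul_assoc, ← mem_center_iff.1 hz q, ← mul_assoc]
    obtain ⟨k, hk⟩ := (rel_inv_iff (h := c)).2 hgr
    obtain ⟨k', hk'⟩ := rel_of_mem P.2 (mul_mem hp₀ hq)
    have hz1 : z = 1 := by
      refine eq_one_of_both ?_ hzr
      have hcz : Commute (p₀ * q) z := mem_center_iff.1 hz _
      have h1 : z ^ r ^ (k + k') = 1 := by
        have h2 : (c * g * c⁻¹) ^ r ^ (k + k') = 1 := orderOf_dvd_iff_pow_eq_one.1 (hk ▸ pow_dvd_pow r (Nat.le_add_right k k'))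
        rwa [e, hcz.mul_pow, orderOf_dvd_iff_pow_eq_one.1 (hk' ▸ pow_dvd_pow r (Nat.le_add_left k' k)), one_mul] at h2
      obtain ⟨i, -, hi⟩ := (Nat.dvd_prime_pow hr.out).1 (orderOf_dvd_of_pow_eq_one h1)
      exact ⟨i, hi⟩
    rw [e, hz1, mul_one]
    exact mul_mem hp₀ hq
  have hCP : ∀ c ∈ C, (orderOf c).Coprime r → c ∈ centralizer ((P : Subgroup G) : Set G) := by
    intro c hc hcr
    refine mem_centralizer_iff.2 fun g hg => ?_
    set d := g⁻¹ * (c * g * c⁻¹) with hd
    have hdP : d ∈ (P : Subgroup G) := mul_mem (inv_mem hg) (hnorm c hc g hg)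
    have hdx : d ∈ C := by
      refine mem_cen.2 ?_
      set z := g * x * g⁻¹ * x⁻¹ with hzd
      have e1 : (c * g * c⁻¹) * x * (c * g * c⁻¹)⁻¹ = g * x * g⁻¹ := by
        calc (c * g * c⁻¹) * x * (c * g * c⁻¹)⁻¹ = c * g * (c⁻¹ * (x * c)) * g⁻¹ * c⁻¹ := by group
          _ = c * g * (c⁻¹ * (c * x)) * g⁻¹ * c⁻¹ := by rw [(mem_cen.1 hc).eq]
          _ = c * (z * x) * c⁻¹ := by rw [hzd]; group
          _ = z * (c * x) * c⁻¹ := by rw [← mul_assoc, mem_center_iff.1 (hxcm g hg) c, mul_assoc z]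
          _ = g * x * g⁻¹ := by rw [(mem_cen.1 hc).eq, ← mul_assoc, mul_inv_cancel_right, hzd]; group
      show d * x = x * d
      calc d * x = g⁻¹ * ((c * g * c⁻¹) * x * (c * g * c⁻¹)⁻¹) * (c * g * c⁻¹) := by rw [hd]; group
        _ = x * d := by rw [e1, hd]; group
    have hcd : Commute c d := by
      have hd2 : d ∈ Zr r G ⊔ zpowers x := hCx ▸ ⟨hdP, hdx⟩
      have hle : Zr r G ⊔ zpowers x ≤ cen c := sup_le (Zr_le_cen c) (zpowers_le.2 (mem_cen.2 (mem_cen.1 hc).symm))
      exact (mem_cen.1 (hle hd2)).symm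
    exact (fixed_of_mul hcr (rel_of_mem P.2 hdP) hcd (by rw [hd, mul_inv_cancel_left])).symm
  -- compare with a good element
  obtain ⟨v, hv, hvP⟩ := exists_good_adapted H hu P
  obtain ⟨s, hsS, hsz⟩ := Set.not_subset.1 (fun h : (P : Subgroup G) ⊓ cen v ≤ Zr r G => by
    have := card_le_of_le h; have := zr_lt H hxP hxc; omega)
  have hscc : s ∉ center G := fun h => hsz (mem_Zr hsS.1 h)
  have hsv := cen_eq_of_good H hv (H.rmem s (rel_of_mem P.2 hsS.1)) hscc (mem_cen.1 hsS.2)
  obtain ⟨-, -, y, hy, hyr, hyc, hvy⟩ := id hv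
  set CP := centralizer ((P : Subgroup G) : Set G)
  have hCPv : CP ≤ cen v := hsv ▸ fun w hw => mem_cen.2 (mem_centralizer_iff.1 hw s hsS.1).symm
  obtain ⟨k, hk⟩ : ∃ k : ℕ, Nat.card C ∣ Nat.card CP * r ^ k := by
    refine ⟨(Nat.card C).factorization r, ?_⟩
    rw [Nat.dvd_iff_prime_pow_dvd_dvd]
    intro q e hq he
    haveI := Fact.mk hq
    by_cases hqr : q = r
    · subst hqr
      refine dvd_mul_of_dvd_right (pow_dvd_pow q ?_) _
      exact (hq.pow_dvd_iff_le_factorization Nat.card_pos.ne').1 he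
    · obtain ⟨Q⟩ : Nonempty (Sylow q C) := inferInstance
      refine dvd_mul_of_dvd_left ((Q.pow_dvd_card_of_pow_dvd_card he).trans ?_) _
      rw [← card_subtype]
      refine card_dvd_of_le ?_
      rintro _ ⟨a, ha, rfl⟩
      obtain ⟨j, hj⟩ := IsPGroup.iff_orderOf.mp Q.2 ⟨a, ha⟩
      rw [Subgroup.orderOf_mk, ← Subgroup.orderOf_coe] at hj
      exact hCP a a.2 (hj ▸ Nat.Coprime.pow_left j ((Nat.coprime_primes hq hr.out).2 hqr))
  have hvN := H.rmem v hv.1
  have hcards : Nat.card (cen v : Subgroup G) ∣ Nat.card CP * r ^ k := by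
    rwa [card_cen H hvN hv.2.1, ← card_cen H hxN hxc]
  set V := (cen v : Subgroup G)
  set A := (N ⊓ V).subgroupOf V
  haveI hAn : A.Normal := by
    refine ⟨fun a ha w => ⟨(inferInstance : N.Normal).conj_mem _ ha.1 _, ?_⟩⟩
    exact V.mul_mem (V.mul_mem w.2 a.2) (V.inv_mem w.2)
  have hidx : (CP.subgroupOf V).relIndex A ∣ r ^ k := by
    have h1 : (CP.subgroupOf V).relIndex A ∣ (CP.subgroupOf V).index := relIndex_dvd_index_normal _ _
    refine h1.trans ?_
    have h2 := (CP.subgroupOf V).card_mul_index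
    rw [Nat.card_congr (subgroupOfEquivOfLe hCPv).toEquiv] at h2
    rw [← h2] at hcards
    exact Nat.dvd_of_mul_dvd_mul_left Nat.card_pos hcards
  letI : IsMulCommutative A := ⟨⟨fun a b => Subtype.ext (Subtype.ext
    (commute_of_good H hv a.2.1 (mem_cen.1 a.2.2) (mem_cen.1 b.2.2)).eq)⟩⟩
  set ya : A := ⟨⟨y, mem_cen.2 hvy.symm⟩, hy, mem_cen.2 hvy.symm⟩
  have hy2 : ya ^ ((CP.subgroupOf V).subgroupOf A).index ∈ (CP.subgroupOf V).subgroupOf A := by
    haveI : ((CP.subgroupOf V).subgroupOf A).Normal := ⟨fun a ha b => by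
      rwa [show b * a * b⁻¹ = a by rw [mul_comm' b a, mul_inv_cancel_right]]⟩
    exact pow_index_mem _ _
  obtain ⟨i, -, hi⟩ := (Nat.dvd_prime_pow hr.out).1 hidx
  rw [show ((CP.subgroupOf V).subgroupOf A).index = r ^ i from hi] at hy2
  have hyCP : y ∈ CP := mem_of_pow_mem hyr (show y ^ r ^ i ∈ CP from hy2)
  exact hbad ⟨rel_of_mem P.2 hxP, hxc, y, hy, hyr, hyc, mem_centralizer_iff.1 hyCP x hxP⟩

/-- the Sylow subgroups have order `r²` modulo the centre and all non-central `r`-elements are good -/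
theorem sylow_facts [hNn : N.Normal] {u : G} (hu : Good r N u) :
    rc r G m = r * Nat.card (Zr r G) ∧ (∀ P : Sylow r G, Nat.card (P : Subgroup G) = r * rc r G m) ∧
      ∀ P : Sylow r G, ∀ g ∈ (P : Subgroup G), g ∉ center G → Good r N g ∧ Special r (P : Subgroup G) g := by
  classical
  have hnc : ∀ P : Sylow r G, ¬ (P : Subgroup G) ≤ center G := by
    intro P hle
    obtain ⟨Q, hQ⟩ := exists_sylow_mem hu.1
    obtain ⟨g, rfl⟩ := MulAction.exists_smul_eq G Q P
    have h1 : g * u * g⁻¹ ∈ center G := hle ⟨u, hQ, rfl⟩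
    exact hu.2.1 (by simpa [mul_assoc] using (inferInstance : (center G).Normal).conj_mem _ h1 g⁻¹)
  have hex : ∀ P : Sylow r G, ∃ x v, Special r (P : Subgroup G) x ∧ Good r N v ∧
      Nat.card ((P : Subgroup G) ⊓ cen v : Subgroup G) = rc r G m := fun P => by
    obtain ⟨x, hx⟩ := exists_special P.2 (hnc P)
    obtain ⟨v, hv, hvP⟩ := exists_good_adapted H hu P
    exact ⟨x, v, hx, hv, hvP⟩
  have hrc : rc r G m = r * Nat.card (Zr r G) := by
    by_contra hne
    -- all specials lie in good centralisers, and then those cover `N`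
    have hA : ∀ (P : Sylow r G) (x v : G), Special r (P : Subgroup G) x → Good r N v →
        Nat.card ((P : Subgroup G) ⊓ cen v : Subgroup G) = rc r G m →
        (cen x : Subgroup G) = cen v ∧ Nat.card (P : Subgroup G) = r * rc r G m :=
      fun P x v hx hv hvP => (special_cases H hv P hvP hx).resolve_right fun h => hne h.2
    obtain ⟨x₀, v₀, hx₀, hv₀, hv₀P⟩ := hex (default : Sylow r G)
    set P₀ : Sylow r G := default
    have hx₀N := H.rmem x₀ (rel_of_mem P₀.2 hx₀.1)
    have hlt := zr_lt H hx₀.1 hx₀.2.1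
    have hgood : ∀ g : G, REl r g → g ∉ center G → ∃ v, Good r N v ∧ Commute g v := by
      intro g hg hgc
      obtain ⟨P, hP⟩ := exists_adapted H (H.rmem g hg) hgc
      obtain ⟨x, v, hx, hv, hvP⟩ := hex P
      obtain ⟨-, hcard⟩ := hA P x v hx hv hvP
      refine ⟨v, hv, ?_⟩
      by_contra hgv
      have h2 := le_of_two (K := (P : Subgroup G)) hvP hP inf_le_left inf_le_left hcard (card_le_of_le fun w hw =>
        cen_inter H hv (fun h => hgv (mem_cen.1 h)) hw.1.1 hw.1.2 (mem_cen.1 hw.2.2))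
      obtain ⟨i, hi⟩ : ∃ i, Nat.card (Zr r G) = r ^ i := (P₀.2.to_le (Zr_le _)).exists_card_eq
      refine hne (le_antisymm h2 ?_)
      rw [rc, hi, ← pow_succ']
      rw [rc, hi] at hlt
      exact Nat.pow_le_pow_right hr.out.pos ((Nat.pow_lt_pow_iff_right hr.out.one_lt).1 hlt)
    have hconj : ∀ v, Good r N v → ∃ n ∈ N, (cen v : Subgroup G) = cen (n * x₀ * n⁻¹) := by
      intro v hv
      obtain ⟨P, hP⟩ := exists_adapted H (H.rmem v hv.1) hv.2.1
      have hPN : ∀ Q : Sylow r G, (Q : Subgroup G) ≤ N := fun Q g hg => H.rmem g (rel_of_mem Q.2 hg)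
      obtain ⟨n, hn⟩ := MulAction.exists_smul_eq N (P₀.subtype (hPN P₀)) (P.subtype (hPN P))
      refine ⟨n, n.2, ?_⟩
      have hmemP : ∀ g, g ∈ (P : Subgroup G) ↔ (n : G)⁻¹ * g * n ∈ (P₀ : Subgroup G) := by
        intro g
        constructor
        · intro hg
          have h1 : (⟨g, hPN P hg⟩ : N) ∈ ((P.subtype (hPN P) : Sylow r N) : Subgroup N) := hg
          rw [← hn] at h1
          obtain ⟨a, ha, hag⟩ := h1
          have hag' : (n : G) * a * (n : G)⁻¹ = g := congrArg Subtype.val hag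
          rw [← hag', show (n : G)⁻¹ * ((n : G) * a * (n : G)⁻¹) * n = a by group]
          exact ha
        · intro hg
          have h1 : n * ⟨_, hPN P₀ hg⟩ * n⁻¹ ∈ ((P.subtype (hPN P) : Sylow r N) : Subgroup N) := by
            rw [← hn]; exact ⟨⟨_, hPN P₀ hg⟩, hg, rfl⟩
          have h2 : (n : G) * ((n : G)⁻¹ * g * n) * (n : G)⁻¹ ∈ (P : Subgroup G) := h1
          simpa [mul_assoc] using h2
      have hxP : Special r (P : Subgroup G) ((n : G) * x₀ * (n : G)⁻¹) := by
        refine ⟨(hmemP _).2 (by simpa [mul_assoc] using hx₀.1), fun h => hx₀.2.1 ?_, ?_, fun g hg => ?_⟩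
        · simpa [mul_assoc] using (inferInstance : (center G).Normal).conj_mem _ h (n : G)⁻¹
        · rw [conj_pow]; exact (inferInstance : (center G).Normal).conj_mem _ hx₀.2.2.1 _
        · have h2 := (inferInstance : (center G).Normal).conj_mem _ (hx₀.2.2.2 _ ((hmemP g).1 hg)) (n : G)
          simpa [mul_assoc] using h2
      exact (hA P _ v hxP hv hP).1.symm
    have hpart : ∀ w ∈ N, ∃ n ∈ N, w ∈ (cen (n * x₀ * n⁻¹) : Subgroup G) := by
      intro w hw
      by_cases hwc : w ∈ center G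
      · exact ⟨1, one_mem N, mem_cen.2 (mem_center_iff.1 hwc _).symm⟩
      obtain ⟨a, b, ha, hb, hab, ⟨k, hk⟩, hbr⟩ := Cfsg.Lib.Transfer.exists_pPart r w
      obtain ⟨i, rfl⟩ := mem_zpowers_iff.1 ha
      obtain ⟨j, rfl⟩ := mem_zpowers_iff.1 hb
      obtain ⟨v, hv, hwv⟩ : ∃ v, Good r N v ∧ Commute w v := by
        by_cases hbc : w ^ j ∈ center G
        · have hac : w ^ i ∉ center G := fun h => hwc (hab ▸ mul_mem h hbc)
          obtain ⟨v, hv, hiv⟩ := hgood _ ⟨k, hk⟩ hac
          exact ⟨v, hv, hab ▸ hiv.mul_left (mem_center_iff.1 hbc v).symm⟩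
        · obtain ⟨v, hv, hvy⟩ := exists_partner H (zpow_mem hw j) hbc hbr ⟨P₀, x₀, hx₀.1, hx₀.2.1⟩
          refine ⟨v, hv, ?_⟩
          have h1 := cen_eq' H hw (zpow_mem hw j) hwc hbc fun g hg => mem_cen.2 ((mem_cen.1 hg).zpow_right j)
          exact (mem_cen.1 (h1.ge (mem_cen.2 hvy))).symm
      obtain ⟨n, hn, hvn⟩ := hconj v hv
      exact ⟨n, hn, hvn ▸ mem_cen.2 hwv⟩
    set M₀ := ((cen x₀ : Subgroup G)).subgroupOf N
    have hM₀ : M₀ ≠ ⊤ := fun e => H.nocen P₀ x₀ hx₀.1 hx₀.2.1 fun g hg =>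
      subgroupOf_eq_top.1 e (H.rmem g (rel_of_mem P₀.2 hg))
    obtain ⟨g, hg⟩ := Cfsg.Lib.SolvStruct.exists_not_mem_conj M₀ hM₀
    obtain ⟨n, hn, hgn⟩ := hpart g g.2
    exact hg ⟨n, hn⟩ ((conj_cen H n x₀ g).1 hgn)
  -- with the bound, every special element is good
  have hcardP : ∀ P : Sylow r G, Nat.card (P : Subgroup G) = r * rc r G m := by
    intro P
    obtain ⟨x, v, hx, hv, hvP⟩ := hex P
    have hxN := H.rmem x (rel_of_mem P.2 hx.1)
    have hxg := special_good H hu P hx hrc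
    have hPx := card_inf_of_normalizes H hxN hx.2.1 P fun g hg a ha => normalizes_cen hx hg ha
    exact ((special_cases H hxg P hPx hx).resolve_right fun h => h.1 (mem_cen.2 (Commute.refl x))).2
  refine ⟨hrc, hcardP, fun P g hg hgc => ?_⟩
  have hcomm : ∀ a ∈ (P : Subgroup G), ∀ b ∈ (P : Subgroup G), a * b * a⁻¹ * b⁻¹ ∈ center G := by
    intro a ha b hb
    set Z₀ := (center G).subgroupOf (P : Subgroup G)
    have hcard : Nat.card ((P : Subgroup G) ⧸ Z₀) = r ^ 2 := by
      have h1 := Z₀.card_mul_index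
      rw [hcardP P, hrc] at h1
      have h2 : Nat.card Z₀ = Nat.card (Zr r G) := by
        rw [← inf_center_eq P, ← card_subtype (P : Subgroup G) Z₀, subgroupOf_map_subtype, inf_comm]
      rw [h2, index_eq_card] at h1
      refine Nat.eq_of_mul_eq_mul_left (Nat.card_pos (α := Zr r G)) ?_
      rw [h1]; ring
    have h3 := IsPGroup.commutative_of_card_eq_prime_sq hcard
      (QuotientGroup.mk (⟨a, ha⟩ : (P : Subgroup G))) (QuotientGroup.mk ⟨b, hb⟩)
    rw [← commutatorElement_eq_one_iff_mul_comm, ← QuotientGroup.mk'_apply, ← QuotientGroup.mk'_apply,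
      ← map_commutatorElement] at h3
    have h4 : ((⁅(⟨a, ha⟩ : (P : Subgroup G)), ⟨b, hb⟩⁆ : (P : Subgroup G)) : G) ∈ center G := by
      have h5 := (QuotientGroup.ker_mk' Z₀).le ((MonoidHom.mem_ker).2 h3)
      exact h5
    simpa [commutatorElement_def] using h4
  have hgs : Special r (P : Subgroup G) g := by
    refine ⟨hg, hgc, ?_, fun a ha => hcomm a ha g hg⟩
    obtain ⟨x, v, hx, -, -⟩ := hex P
    by_cases hgx : g ∈ (cen x : Subgroup G)
    · have hxN := H.rmem x (rel_of_mem P.2 hx.1)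
      have hPx := card_inf_of_normalizes H hxN hx.2.1 P fun g hg a ha => normalizes_cen hx hg ha
      have hg' : g ∈ Zr r G ⊔ zpowers x := inf_eq_sup_zpowers H hx.1 hx.2.1 hx.2.2.1 hrc hPx ▸ ⟨hg, hgx⟩
      have hle : ((Zr r G ⊔ zpowers x : Subgroup G) : Set G) = (Zr r G : Set G) * (zpowers x : Set G) :=
        coe_mul_of_right_le_normalizer_left _ _ (zpowers_le.2 (mem_normalizer_fintype fun s hs => by
          rw [mem_center_iff.1 hs.2 x, mul_inv_cancel_right]; exact hs))
      rw [← SetLike.mem_coe, hle] at hg'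
      obtain ⟨z, hz, b, hb, rfl⟩ := Set.mem_mul.1 hg'
      obtain ⟨i, rfl⟩ := mem_zpowers_iff.1 hb
      rw [((show Commute z (x ^ i) from (mem_center_iff.1 hz.2 _).symm)).mul_pow, ← zpow_natCast (x ^ i), ← zpow_mul,
        mul_comm, zpow_mul, zpow_natCast x r]
      exact mul_mem (pow_mem hz.2 r) (zpow_mem hx.2.2.1 i)
    · exact pow_mem_center' H P.2 hx hg hgx
  exact ⟨special_good H hu P hgs hrc, hgs⟩

omit H in
theorem arith {r n f b z zr c N₀ : ℕ} (hr : 2 ≤ r) (hn : 1 ≤ n) (hz : 0 < z) (hzr : 0 < zr) (hf : 1 ≤ f)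
    (h1 : n * (r * (r * zr) - zr) = c * (r * zr - zr)) (h2 : N₀ = n * (f * (r * r * z)))
    (h3 : N₀ - z + b * z = c * (z * r)) (h4 : 2 * b ≤ c) : False := by
  obtain ⟨s, rfl⟩ : ∃ s, r = s + 1 := ⟨r - 1, by omega⟩
  have e1 : (s + 1) * ((s + 1) * zr) - zr = s * (s + 2) * zr := Nat.sub_eq_of_eq_add (by ring)
  have e2 : (s + 1) * zr - zr = s * zr := Nat.sub_eq_of_eq_add (by ring)
  rw [e1, e2] at h1
  have hc : c = n * (s + 2) := Nat.eq_of_mul_eq_mul_right (Nat.mul_pos (by omega : 0 < s) hzr)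
    (by rw [← h1]; ring)
  subst hc h2
  have hle : z ≤ n * (f * ((s + 1) * (s + 1) * z)) := by
    calc z = 1 * (1 * (1 * z)) := by ring
      _ ≤ _ := Nat.mul_le_mul hn (Nat.mul_le_mul hf (Nat.mul_le_mul_right z (Nat.mul_pos (by omega) (by omega))))
  have h5 : (n * f * (s + 1) * (s + 1) + b) * z = (n * (s + 2) * (s + 1) + 1) * z := by
    have h6 : n * (f * ((s + 1) * (s + 1) * z)) + b * z = n * (s + 2) * (z * (s + 1)) + z := by omega
    calc (n * f * (s + 1) * (s + 1) + b) * z = n * (f * ((s + 1) * (s + 1) * z)) + b * z := by ring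
      _ = n * (s + 2) * (z * (s + 1)) + z := h6
      _ = _ := by ring
  have h7 := Nat.eq_of_mul_eq_mul_right hz h5
  rcases Nat.lt_or_ge f 2 with hlt | hge
  · obtain rfl : f = 1 := by omega
    nlinarith
  · nlinarith [Nat.mul_le_mul_left (n * ((s + 1) * (s + 1))) hge, Nat.mul_le_mul hn (show 1 ≤ s by omega)]

theorem count [hNn : N.Normal] {u : G} (hu : Good r N u) : False := by
  classical
  haveI := Fintype.ofFinite G
  haveI := Fintype.ofFinite (Sylow r G)
  obtain ⟨hrc, hcardP, hgood⟩ := sylow_facts H hu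
  obtain ⟨P₀, hu₀⟩ := exists_sylow_mem hu.1
  have hlt := zr_lt H hu₀ hu.2.1
  set z := Nat.card (N ⊓ center G : Subgroup G)
  have hPN : ∀ P : Sylow r G, (P : Subgroup G) ≤ N := fun P g hg => H.rmem g (rel_of_mem P.2 hg)
  have hNcen : ∀ v ∈ N, v ∉ center G → ∃ w, Good r N w ∧ (cen v : Subgroup G) = cen w := by
    intro v hv hvc
    obtain ⟨a, b, ha, hb, hab, ⟨k, hk⟩, hbr⟩ := Cfsg.Lib.Transfer.exists_pPart r v
    obtain ⟨i, rfl⟩ := mem_zpowers_iff.1 ha
    obtain ⟨j, rfl⟩ := mem_zpowers_iff.1 hb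
    by_cases hbc : v ^ j ∈ center G
    · have hac : v ^ i ∉ center G := fun h => hvc (hab ▸ mul_mem h hbc)
      obtain ⟨P, hP⟩ := exists_sylow_mem (r := r) (g := v ^ i) ⟨k, hk⟩
      exact ⟨v ^ i, (hgood P _ hP hac).1, cen_eq' H hv (zpow_mem hv i) hvc hac fun g hg => mem_cen.2 ((mem_cen.1 hg).zpow_right i)⟩
    · obtain ⟨w, hw, hwy⟩ := exists_partner H (zpow_mem hv j) hbc hbr ⟨P₀, u, hu₀, hu.2.1⟩
      refine ⟨w, hw, ?_⟩
      rw [cen_eq' H hv (zpow_mem hv j) hvc hbc fun g hg => mem_cen.2 ((mem_cen.1 hg).zpow_right j)]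
      exact cen_eq_of_good H hw (zpow_mem hv j) hbc hwy.symm
  set NC : Finset G := Finset.univ.filter fun v => v ∈ N ∧ v ∉ center G
  set 𝔅 : Finset (Subgroup G) := NC.image fun v => (cen v : Subgroup G)
  have hB : ∀ M ∈ 𝔅, ∃ w, Good r N w ∧ M = (cen w : Subgroup G) := by
    intro M hM
    obtain ⟨v, hv, rfl⟩ := Finset.mem_image.1 hM
    exact hNcen v (Finset.mem_filter.1 hv).2.1 (Finset.mem_filter.1 hv).2.2
  -- Sylow subgroups and centralisers
  have hmeet : ∀ (P : Sylow r G) (w : G), Good r N w → ∀ g ∈ (P : Subgroup G), g ∉ center G →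
      g ∈ (cen w : Subgroup G) → Nat.card ((P : Subgroup G) ⊓ cen w : Subgroup G) = rc r G m := by
    intro P w hw g hg hgc hgw
    rw [← cen_eq_of_good H hw (H.rmem g (rel_of_mem P.2 hg)) hgc (mem_cen.1 hgw)]
    exact card_inf_of_normalizes H (H.rmem g (rel_of_mem P.2 hg)) hgc P fun a ha b hb =>
      normalizes_cen (hgood P g hg hgc).2 ha hb
  let Ad : Subgroup G → Finset (Sylow r G) := fun M =>
    Finset.univ.filter fun P : Sylow r G => Nat.card ((P : Subgroup G) ⊓ M : Subgroup G) = rc r G m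
  have hcount : ∀ (P : Sylow r G), Nat.card (P : Subgroup G) - Nat.card (Zr r G) =
      (𝔅.filter fun M => P ∈ Ad M).card * (rc r G m - Nat.card (Zr r G)) := by
    intro P
    set T := Finset.univ.filter fun g : G => g ∈ (P : Subgroup G) ∧ g ∉ center G
    have hcardT : ∀ (A : Subgroup G), A ≤ (P : Subgroup G) → Zr r G ≤ A →
        (Finset.univ.filter fun g : G => g ∈ A ∧ g ∉ center G).card = Nat.card A - Nat.card (Zr r G) := by
      intro A hA hZA
      have e : (Finset.univ.filter fun g : G => g ∈ A ∧ g ∉ center G) =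
          (Finset.univ.filter fun g : G => g ∈ A) \ (Finset.univ.filter fun g : G => g ∈ Zr r G) := by
        ext g
        simp only [Finset.mem_filter, Finset.mem_univ, true_and, Finset.mem_sdiff]
        exact ⟨fun h => ⟨h.1, fun hz => h.2 hz.2⟩, fun h => ⟨h.1, fun hc => h.2 (mem_Zr (hA h.1) hc)⟩⟩
      rw [e, Finset.card_sdiff_of_subset (fun g hg => Finset.mem_filter.2 ⟨Finset.mem_univ _, hZA (Finset.mem_filter.1 hg).2⟩)]
      rw [Nat.card_eq_fintype_card, Nat.card_eq_fintype_card, Fintype.card_subtype, Fintype.card_subtype]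
    rw [← hcardT _ le_rfl (Zr_le P)]
    refine (Finset.card_eq_sum_card_fiberwise (f := fun g => (cen g : Subgroup G))
      (t := 𝔅.filter fun M => P ∈ Ad M) ?_).trans ?_
    · intro g hg
      obtain ⟨-, hgP, hgc⟩ := Finset.mem_filter.1 hg
      refine Finset.mem_filter.2 ⟨Finset.mem_image.2 ⟨g, Finset.mem_filter.2 ⟨Finset.mem_univ _, hPN P hgP, hgc⟩, rfl⟩, ?_⟩
      exact Finset.mem_filter.2 ⟨Finset.mem_univ _, card_inf_of_normalizes H (hPN P hgP) hgc P fun a ha b hb =>
        normalizes_cen (hgood P g hgP hgc).2 ha hb⟩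
    refine (Finset.sum_congr rfl fun M hM => ?_).trans (by rw [Finset.sum_const, smul_eq_mul])
    obtain ⟨hM, hPM⟩ := Finset.mem_filter.1 hM
    obtain ⟨w, hw, rfl⟩ := hB M hM
    rw [← (Finset.mem_filter.1 hPM).2, ← hcardT _ inf_le_left (le_inf (Zr_le P) (Zr_le_cen w))]
    congr 1
    ext g
    simp only [Finset.mem_filter, Finset.mem_univ, true_and]
    constructor
    · rintro ⟨⟨hg, hgc⟩, hgw⟩
      exact ⟨⟨hg, hgw ▸ mem_cen.2 (Commute.refl g)⟩, hgc⟩
    · rintro ⟨⟨hg, hgw⟩, hgc⟩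
      exact ⟨⟨hg, hgc⟩, cen_eq_of_good H hw (hPN P hg) hgc (mem_cen.1 hgw)⟩
  -- the number of Sylow subgroups meeting a centraliser
  have horbit : ∀ M ∈ 𝔅, Nat.card (N ⊓ M : Subgroup G) = (Ad M).card * (z * r) ∧ 2 ≤ (Ad M).card := by
    intro M hM
    obtain ⟨w, hw, rfl⟩ := hB M hM
    obtain ⟨P, hP⟩ := exists_adapted H (H.rmem w hw.1) hw.2.1
    set B := N ⊓ (cen w : Subgroup G)
    set S := (P : Subgroup G) ⊓ (cen w : Subgroup G)
    set W := (N ⊓ center G) ⊔ S
    have hSB : S ≤ B := le_inf ((inf_le_left : S ≤ _).trans (hPN P)) inf_le_right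
    have hWB : W ≤ B := sup_le (le_inf inf_le_left fun g hg => mem_cen.2 (mem_center_iff.1 hg.2 w).symm) hSB
    have hnormB : ∀ g ∈ (P : Subgroup G), ∀ s ∈ S, g * s * g⁻¹ ∈ S := by
      intro g hg s hs
      refine mem_inf.2 ⟨mul_mem (mul_mem hg (mem_inf.1 hs).1) (inv_mem hg), ?_⟩
      by_cases hsc : s ∈ center G
      · rw [mem_center_iff.1 hsc g, mul_inv_cancel_right]; exact hs.2
      · have hz := (hgood P s hs.1 hsc).2.2.2.2 g hg
        rw [show g * s * g⁻¹ = (g * s * g⁻¹ * s⁻¹) * s by group]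
        exact mul_mem (mem_cen.2 (mem_center_iff.1 hz w).symm) hs.2
    have hW : Nat.card W = z * r := by
      haveI : (N ⊓ center G).Normal := inferInstance
      have e1 := relIndex_mul_relIndex ⊥ (N ⊓ center G) W bot_le le_sup_left
      rw [relIndex_bot_left, relIndex_bot_left, show (N ⊓ center G).relIndex W = (N ⊓ center G).relIndex S by
        rw [show W = S ⊔ (N ⊓ center G) from sup_comm _ _, relIndex_sup_right]] at e1
      have hint : (N ⊓ center G) ⊓ S = Zr r G := le_antisymm (fun g hg => mem_Zr hg.2.1 hg.1.2)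
        fun g hg => ⟨⟨hPN P (Zr_le P hg), hg.2⟩, Zr_le P hg, Zr_le_cen w hg⟩
      have e2 := relIndex_mul_relIndex ⊥ ((N ⊓ center G) ⊓ S) S bot_le inf_le_right
      rw [relIndex_bot_left, relIndex_bot_left, inf_relIndex_right, hP, hrc, hint, mul_comm r] at e2
      rw [← e1, Nat.eq_of_mul_eq_mul_left Nat.card_pos e2]
    -- the stabiliser of `P` in `B`
    have hstab : ∀ b ∈ B, (∀ g ∈ (P : Subgroup G), b * g * b⁻¹ ∈ (P : Subgroup G)) → b ∈ W := by
      intro b hb hbn
      obtain ⟨a, c, ha, hc, hac, ⟨k, hk⟩, hcr⟩ := Cfsg.Lib.Transfer.exists_pPart r b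
      have haB : a ∈ B := zpowers_le.2 hb ha
      have hcB : c ∈ B := zpowers_le.2 hb hc
      have haS : a ∈ S := ⟨mem_adapted H hw hP ⟨k, hk⟩ (mem_cen.1 haB.2), haB.2⟩
      rw [← hac]
      refine mul_mem (mem_sup_right haS) (mem_sup_left ⟨hcB.1, ?_⟩)
      by_contra hcc
      obtain ⟨g, hg, hgw⟩ := Set.not_subset.1 (fun hle : (P : Subgroup G) ≤ cen w => by
        obtain ⟨s, hs, hsz⟩ := Set.not_subset.1 (fun h : S ≤ Zr r G => absurd (card_le_of_le h) (by omega))
        have hsc : s ∉ center G := fun h => hsz (mem_Zr hs.1 h)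
        exact H.nocen P s hs.1 hsc ((cen_eq_of_good H hw (hPN P hs.1) hsc (mem_cen.1 hs.2)).symm ▸ hle))
      have hcn : c ∈ normalizer ((P : Subgroup G) : Set G) :=
        zpowers_le.2 (mem_normalizer_fintype (S := ((P : Subgroup G) : Set G)) hbn) hc
      set d := g⁻¹ * (c * g * c⁻¹) with hd
      have hdP : d ∈ (P : Subgroup G) := mul_mem (inv_mem hg) ((mem_normalizer_iff.1 hcn g).1 hg)
      have hgn : ∀ a ∈ (cen w : Subgroup G), g⁻¹ * a * g ∈ (cen w : Subgroup G) := by
        have h2 := normalizes_cen' H hw hP (by omega) (hnormB g⁻¹ (inv_mem hg))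
        intro a ha
        simpa using h2 a ha
      have hdw : d ∈ (cen w : Subgroup G) := by
        rw [hd, show g⁻¹ * (c * g * c⁻¹) = (g⁻¹ * c * g) * c⁻¹ by group]
        exact mul_mem (hgn c hcB.2) (inv_mem hcB.2)
      have hcg : Commute c g := fixed_of_mul hcr (rel_of_mem P.2 hdP)
        (commute_of_good H hw hcB.1 (mem_cen.1 hcB.2) (mem_cen.1 hdw)) (by rw [hd, mul_inv_cancel_left])
      exact hgw ((cen_eq_of_good H hw hcB.1 hcc (mem_cen.1 hcB.2)).le (mem_cen.2 hcg.symm))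
    -- transitivity
    have hAd : ∀ Q : Sylow r G, Q ∈ Ad (cen w) ↔ ∃ b ∈ B, b • P = Q := by
      intro Q
      constructor
      · intro hQ
        have hQc : Nat.card ((Q : Subgroup G) ⊓ cen w : Subgroup G) = rc r G m := (Finset.mem_filter.1 hQ).2
        have hSQ : S ≤ (Q : Subgroup G) := fun s hs => mem_adapted H hw hQc (rel_of_mem P.2 hs.1) (mem_cen.1 hs.2)
        let K : Subgroup G :=
          { carrier := {g | g ∈ N ∧ ∀ s ∈ S, g * s * g⁻¹ * s⁻¹ ∈ center G}
            one_mem' := ⟨one_mem _, fun s _ => by simp⟩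
            mul_mem' := fun {a b} ha hb => ⟨mul_mem ha.1 hb.1, fun s hs => by
              have h1 := ha.2 s hs
              have h2 := hb.2 s hs
              rw [show a * b * s * (a * b)⁻¹ * s⁻¹ = (a * (b * s * b⁻¹ * s⁻¹) * a⁻¹) * (a * s * a⁻¹ * s⁻¹) by group]
              exact mul_mem ((inferInstance : (center G).Normal).conj_mem _ h2 a) h1⟩
            inv_mem' := fun {a} ha => ⟨inv_mem ha.1, fun s hs => by
              rw [show a⁻¹ * s * a⁻¹⁻¹ * s⁻¹ = a⁻¹ * (a * s * a⁻¹ * s⁻¹)⁻¹ * a⁻¹⁻¹ by group]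
              exact (inferInstance : (center G).Normal).conj_mem _ (inv_mem (ha.2 s hs)) _⟩ }
        have hPK : ∀ Q : Sylow r G, S ≤ (Q : Subgroup G) → (Q : Subgroup G) ≤ K := fun Q hSQ g hg =>
          ⟨hPN Q hg, fun s hs => by
            by_cases hsc : s ∈ center G
            · rw [mem_center_iff.1 hsc g, mul_inv_cancel_right, mul_inv_cancel]; exact one_mem _
            · exact (hgood Q s (hSQ hs) hsc).2.2.2.2 g hg⟩
        have hPK' := hPK P inf_le_left
        have hBK : B ≤ K := fun b hb => ⟨hb.1, fun s hs => by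
          rw [(commute_of_good H hw hb.1 (mem_cen.1 hb.2) (mem_cen.1 hs.2)).eq, mul_inv_cancel_right, mul_inv_cancel]
          exact one_mem _⟩
        -- `K = B P`
        have hKcop : ∀ c ∈ K, (orderOf c).Coprime r → c ∈ B := by
          intro c hc hcr
          refine ⟨hc.1, ?_⟩
          obtain ⟨s, hs, hsz⟩ := Set.not_subset.1 (fun h : S ≤ Zr r G => absurd (card_le_of_le h) (by omega))
          have hsc : s ∉ center G := fun h => hsz (mem_Zr hs.1 h)
          set e := c * s * c⁻¹ * s⁻¹ with he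
          have hes : Commute s⁻¹ e := mem_center_iff.1 (hc.2 s hs) _
          have her : REl r (s⁻¹ * (c * s * c⁻¹)) := by
            rw [show c * s * c⁻¹ = e * s by rw [he]; group, ← mul_assoc, hes.eq, inv_mul_cancel_right]
            obtain ⟨k₁, hk₁⟩ := (rel_inv_iff (h := c)).2 (rel_of_mem P.2 hs.1)
            obtain ⟨k₂, hk₂⟩ := rel_of_mem P.2 (inv_mem hs.1)
            have hcs : Commute (c * s * c⁻¹) s⁻¹ := by
              rw [show c * s * c⁻¹ = e * s by rw [he]; group]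
              exact hes.symm.mul_left ((Commute.refl s).inv_right)
            obtain ⟨i, -, hi⟩ := (Nat.dvd_prime_pow hr.out).1 (orderOf_dvd_of_pow_eq_one (show e ^ r ^ (k₁ + k₂) = 1 by
              rw [he, hcs.mul_pow, orderOf_dvd_iff_pow_eq_one.1 (hk₁ ▸ pow_dvd_pow r (Nat.le_add_right k₁ k₂)),
                orderOf_dvd_iff_pow_eq_one.1 (hk₂ ▸ pow_dvd_pow r (Nat.le_add_left k₂ k₁)), one_mul]))
            exact ⟨i, hi⟩
          have hfix : Commute c s := fixed_of_mul hcr her (by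
            rw [show s⁻¹ * (c * s * c⁻¹) = e by rw [show c * s * c⁻¹ = e * s by rw [he]; group, ← mul_assoc, hes.eq, inv_mul_cancel_right]]
            exact mem_center_iff.1 (hc.2 s hs) c) (by rw [mul_inv_cancel_left])
          exact (cen_eq_of_good H hw (hPN P hs.1) hsc (mem_cen.1 hs.2)).le (mem_cen.2 hfix)
        have hnBP : (P : Subgroup G) ≤ normalizer (B : Set G) := fun g hg => mem_normalizer_fintype fun b hb =>
          ⟨hNn.conj_mem b hb.1 g, normalizes_cen' H hw hP (by omega) (hnormB g hg) b hb.2⟩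
        have htop : K ≤ B ⊔ (P : Subgroup G) := by
          set J := (B ⊔ (P : Subgroup G)).subgroupOf K
          have hJcard : Nat.card K ∣ Nat.card J := by
            rw [Nat.dvd_iff_prime_pow_dvd_dvd]
            intro q e hq he
            haveI := Fact.mk hq
            by_cases hqr : q = r
            · subst hqr
              refine (((P.subtype hPK') : Sylow q K).pow_dvd_card_of_pow_dvd_card he).trans (card_dvd_of_le ?_)
              exact fun g hg => mem_sup_right (show (g : G) ∈ (P : Subgroup G) from hg)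
            · obtain ⟨Q'⟩ : Nonempty (Sylow q K) := inferInstance
              refine (Q'.pow_dvd_card_of_pow_dvd_card he).trans (card_dvd_of_le fun g hg => mem_sup_left ?_)
              obtain ⟨j, hj⟩ := IsPGroup.iff_orderOf.mp Q'.2 ⟨g, hg⟩
              rw [Subgroup.orderOf_mk, ← Subgroup.orderOf_coe] at hj
              exact hKcop g g.2 (hj ▸ Nat.Coprime.pow_left j ((Nat.coprime_primes hq hr.out).2 hqr))
          have hJtop : J = ⊤ := eq_top_of_card_eq _ (Nat.dvd_antisymm (card_subgroup_dvd_card J) hJcard)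
          exact subgroupOf_eq_top.1 hJtop
        obtain ⟨k, hk⟩ := MulAction.exists_smul_eq K (P.subtype hPK') (Q.subtype (hPK Q hSQ))
        have hk' : (k : G) • P = Q := by
          refine Sylow.ext (le_antisymm ?_ ?_)
          · rintro _ ⟨g, hg, rfl⟩
            have h1 : k * ⟨g, hPK' hg⟩ * k⁻¹ ∈ ((Q.subtype (hPK Q hSQ) : Sylow r K) : Subgroup K) := by
              rw [← hk]; exact ⟨⟨g, hPK' hg⟩, hg, rfl⟩
            exact h1
          · intro g hg
            have h1 : (⟨g, hPK Q hSQ hg⟩ : K) ∈ ((Q.subtype (hPK Q hSQ) : Sylow r K) : Subgroup K) := hg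
            rw [← hk] at h1
            obtain ⟨a, ha, hag⟩ := h1
            exact ⟨(a : G), ha, congrArg Subtype.val hag⟩
        have hkmem : (k : G) ∈ ((B ⊔ (P : Subgroup G) : Subgroup G) : Set G) := htop k.2
        rw [coe_mul_of_right_le_normalizer_left _ _ hnBP] at hkmem
        obtain ⟨b, hb, q, hq, hbq⟩ := Set.mem_mul.1 hkmem
        refine ⟨b, hb, ?_⟩
        have hqP : q • P = P := Sylow.smul_eq_iff_mem_normalizer.2 (le_normalizer hq)
        rw [← hk', ← hbq, ← smul_smul, hqP]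
      · rintro ⟨b, hb, rfl⟩
        refine Finset.mem_filter.2 ⟨Finset.mem_univ _, ?_⟩
        have hcen : (cen w : Subgroup G).map (MulAut.conj b).toMonoidHom = cen w := by
          refine eq_of_le_of_card_ge ?_ (by rw [card_map_of_injective (MulAut.conj b).injective])
          rintro _ ⟨a, ha, rfl⟩
          exact mul_mem (mul_mem hb.2 ha) (inv_mem hb.2)
        calc Nat.card (((b • P : Sylow r G) : Subgroup G) ⊓ cen w : Subgroup G)
            = Nat.card (((P : Subgroup G) ⊓ cen w).map (MulAut.conj b).toMonoidHom) := by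
              rw [Subgroup.map_inf _ _ _ (MulAut.conj b).injective, hcen]; rfl
          _ = rc r G m := by rw [card_map_of_injective (MulAut.conj b).injective, hP]
    have hcard : Nat.card B = (Ad (cen w)).card * (z * r) := by
      have e := MulAction.card_orbit_mul_card_stabilizer_eq_card_group B P
      simp only [← Nat.card_eq_fintype_card] at e
      rw [← e]
      congr 1
      · rw [← Nat.card_eq_finsetCard]
        refine Nat.card_congr (Equiv.subtypeEquivRight fun Q => ?_)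
        rw [hAd]
        exact ⟨fun ⟨⟨b, hb⟩, h⟩ => ⟨b, hb, h⟩, fun ⟨b, hb, h⟩ => ⟨⟨b, hb⟩, h⟩⟩
      · rw [← hW]
        refine Nat.card_congr ((Equiv.subtypeEquivRight fun b => ?_).trans (subgroupOfEquivOfLe hWB).toEquiv)
        show (b : G) • P = P ↔ (b : G) ∈ W
        rw [Sylow.smul_eq_iff_mem_normalizer]
        refine ⟨fun h => hstab b b.2 fun g hg => (mem_normalizer_iff.1 h g).1 hg, fun h => ?_⟩
        have hle : W ≤ normalizer ((P : Subgroup G) : Set G) :=
          sup_le (fun g hg => center_le_normalizer _ hg.2) ((inf_le_left : S ≤ _).trans le_normalizer)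
        exact hle h
    refine ⟨hcard, ?_⟩
    by_contra hlt2
    have hcardle : Nat.card B ≤ Nat.card W := by
      rw [hcard, hW]
      exact le_trans (Nat.mul_le_mul_right _ (by omega : (Ad (cen w)).card ≤ 1)) (by rw [one_mul])
    have hBW : B = W := (eq_of_le_of_card_ge hWB hcardle).symm
    obtain ⟨-, -, y, hy, hyr, hyc, hwy⟩ := id hw
    have hyW : y ∈ ((W : Subgroup G) : Set G) := hBW ▸ (⟨hy, mem_cen.2 hwy.symm⟩ : y ∈ B)
    rw [Subgroup.normal_mul] at hyW
    obtain ⟨zz, hzz, s, hs, rfl⟩ := Set.mem_mul.1 hyW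
    obtain ⟨k, hk⟩ := rel_of_mem P.2 hs.1
    refine hyc (mem_of_pow_mem (k := k) hyr ?_)
    rw [(show Commute zz s from (mem_center_iff.1 hzz.2 s).symm).mul_pow, show s ^ r ^ k = 1 by rw [← hk]; exact pow_orderOf_eq_one s, mul_one]
    exact pow_mem hzz.2 _
  -- assemble
  have hsum : Nat.card (Sylow r G) * (r * rc r G m - Nat.card (Zr r G)) =
      (∑ M ∈ 𝔅, (Ad M).card) * (rc r G m - Nat.card (Zr r G)) := by
    have h1 : ∑ P : Sylow r G, (𝔅.filter fun M => P ∈ Ad M).card * (rc r G m - Nat.card (Zr r G)) =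
        Nat.card (Sylow r G) * (r * rc r G m - Nat.card (Zr r G)) := by
      rw [Finset.sum_congr rfl fun P _ => (hcount P).symm]
      simp only [hcardP, Finset.sum_const, smul_eq_mul, Finset.card_univ, Nat.card_eq_fintype_card (α := Sylow r G)]
    rw [← h1, ← Finset.sum_mul]
    congr 1
    have h2 := Finset.sum_card_bipartiteAbove_eq_sum_card_bipartiteBelow
      (s := (Finset.univ : Finset (Sylow r G))) (t := 𝔅) (fun P M => P ∈ Ad M)
    simp only [Finset.bipartiteAbove, Finset.bipartiteBelow] at h2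
    rw [h2]
    simp [Ad]
  have hNCcard : NC.card = Nat.card N - z := by
    have e : NC = (Finset.univ.filter fun v : G => v ∈ N) \ (Finset.univ.filter fun v : G => v ∈ N ⊓ center G) := by
      ext v
      simp only [NC, Finset.mem_filter, Finset.mem_univ, true_and, Finset.mem_sdiff, mem_inf]
      tauto
    rw [e, Finset.card_sdiff_of_subset (fun v hv => Finset.mem_filter.2 ⟨Finset.mem_univ _, (Finset.mem_filter.1 hv).2.1⟩)]
    simp only [z, Nat.card_eq_fintype_card, Fintype.card_subtype]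
  have hfib : NC.card + 𝔅.card * z = (∑ M ∈ 𝔅, (Ad M).card) * (z * r) := by
    rw [Finset.card_eq_sum_card_fiberwise (f := fun v => (cen v : Subgroup G)) (t := 𝔅)
      (fun v hv => Finset.mem_image_of_mem _ hv), Finset.sum_mul, ← smul_eq_mul 𝔅.card z,
      ← Finset.sum_const, ← Finset.sum_add_distrib]
    refine Finset.sum_congr rfl fun M hM => ?_
    rw [← (horbit M hM).1]
    obtain ⟨w, hw, rfl⟩ := hB M hM
    have e : (NC.filter fun v => (cen v : Subgroup G) = cen w) =
        (Finset.univ.filter fun v : G => v ∈ N ⊓ cen w) \ (Finset.univ.filter fun v : G => v ∈ N ⊓ center G) := by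
      ext v
      simp only [NC, Finset.mem_filter, Finset.mem_univ, true_and, Finset.mem_sdiff, mem_inf]
      constructor
      · rintro ⟨⟨hv, hvc⟩, hvw⟩
        exact ⟨⟨hv, hvw ▸ mem_cen.2 (Commute.refl v)⟩, fun h => hvc h.2⟩
      · rintro ⟨⟨hv, hvw⟩, hvc⟩
        exact ⟨⟨hv, fun h => hvc ⟨hv, h⟩⟩, cen_eq_of_good H hw hv (fun h => hvc ⟨hv, h⟩) (mem_cen.1 hvw)⟩
    have hsub : N ⊓ center G ≤ N ⊓ (cen w : Subgroup G) :=
      le_inf inf_le_left fun v hv => mem_cen.2 (mem_center_iff.1 hv.2 w).symm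
    rw [e, Finset.card_sdiff_of_subset (fun v hv => Finset.mem_filter.2 ⟨Finset.mem_univ _, hsub (Finset.mem_filter.1 hv).2⟩)]
    have hle := card_le_of_le hsub
    simp only [z, Nat.card_eq_fintype_card, Fintype.card_subtype] at hle ⊢
    omega
  obtain ⟨f, hf⟩ : r * r * z ∣ Nat.card (normalizer ((P₀ : Subgroup G) : Set G) ⊓ N : Subgroup G) := by
    haveI : (N ⊓ center G).Normal := inferInstance
    have e1 := relIndex_mul_relIndex ⊥ (N ⊓ center G) ((N ⊓ center G) ⊔ (P₀ : Subgroup G)) bot_le le_sup_left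
    rw [relIndex_bot_left, relIndex_bot_left, sup_comm, relIndex_sup_right] at e1
    have hint : (N ⊓ center G) ⊓ (P₀ : Subgroup G) = Zr r G := le_antisymm (fun g hg => mem_Zr hg.2 hg.1.2)
      fun g hg => ⟨⟨hPN P₀ (Zr_le P₀ hg), hg.2⟩, Zr_le P₀ hg⟩
    have e2 := relIndex_mul_relIndex ⊥ ((N ⊓ center G) ⊓ (P₀ : Subgroup G)) (P₀ : Subgroup G) bot_le inf_le_right
    rw [relIndex_bot_left, relIndex_bot_left, inf_relIndex_right, hcardP, hrc, hint] at e2
    have e3 : (N ⊓ center G).relIndex (P₀ : Subgroup G) = r * r :=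
      Nat.eq_of_mul_eq_mul_left Nat.card_pos (e2.trans (by ring))
    rw [e3, mul_comm] at e1
    rw [e1]
    exact card_dvd_of_le (sup_le le_normalizer (fun g hg => center_le_normalizer _ hg.2) |> fun h => le_inf h (sup_le (hPN P₀) inf_le_left))
  have hN₀ : Nat.card N = Nat.card (Sylow r G) * (f * (r * r * z)) := by
    have e := Sylow.card_eq_index_normalizer (P₀.subtype (hPN P₀))
    have e2 : Nat.card (Sylow r N) = Nat.card (Sylow r G) := by
      refine Nat.card_congr (Equiv.ofBijective (fun P : Sylow r N => ((P.2.map N.subtype).toSylow ?_ : Sylow r G)) ⟨?_, ?_⟩)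
      · rw [index_map_subtype]
        refine hr.out.not_dvd_mul P.not_dvd_index fun hd => ?_
        exact P₀.not_dvd_index (hd.trans (index_dvd_of_le (hPN P₀)))
      · intro P Q h
        exact Sylow.ext (map_injective N.subtype_injective (congrArg Sylow.toSubgroup h))
      · intro Q
        exact ⟨Q.subtype (hPN Q), Sylow.ext (map_subgroupOf_eq_of_le (hPN Q))⟩
    rw [← (normalizer ((P₀.subtype (hPN P₀) : Sylow r N) : Set N)).card_mul_index, ← e, e2, mul_comm]
    congr 1
    rw [mul_comm f, ← hf]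
    refine Nat.card_congr ((Equiv.subtypeEquivRight fun g => ?_).trans
      (subgroupOfEquivOfLe (inf_le_right : normalizer ((P₀ : Subgroup G) : Set G) ⊓ N ≤ N)).toEquiv)
    show g ∈ normalizer _ ↔ (g : G) ∈ normalizer ((P₀ : Subgroup G) : Set G) ⊓ N
    simp only [mem_inf, SetLike.coe_mem, and_true]
    refine ⟨fun h => mem_normalizer_fintype fun a ha => ?_, fun h => mem_normalizer_fintype fun a ha => ?_⟩
    · exact (mem_normalizer_iff.1 h ⟨a, hPN P₀ ha⟩).1 ha
    · exact (mem_normalizer_iff.1 h (a : G)).1 ha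
  have hb : 2 * 𝔅.card ≤ ∑ M ∈ 𝔅, (Ad M).card := by
    rw [mul_comm, ← smul_eq_mul, ← Finset.sum_const]
    exact Finset.sum_le_sum fun M hM => (horbit M hM).2
  have hzpos : 0 < z := Nat.card_pos
  have hf1 : 1 ≤ f := Nat.pos_of_ne_zero fun h0 => Nat.card_pos.ne' (hf.trans (by rw [h0, mul_zero]))
  rw [hrc] at hsum
  exact arith hr.out.two_le Nat.card_pos hzpos (Nat.card_pos (α := Zr r G)) hf1 hsum hN₀ (hNCcard ▸ hfib) hb

omit H in
/-- The theorem. -/
theorem isNilpotent (R : Sylow r G) (hR : ¬ (R : Subgroup G) ≤ center G) (N : Subgroup G) [hNn : N.Normal]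
    (hRN : (R : Subgroup G) ≤ N) (m : ℕ)
    (h : ∀ x ∈ N, (cen x : Subgroup G).index = 1 ∨ (cen x : Subgroup G).index = m) : Group.IsNilpotent N := by
  classical
  have hsize : ∀ v ∈ N, v ∉ center G → (cen v : Subgroup G).index = m := fun v hv hvc =>
    (h v hv).resolve_left fun h1 => hvc (mem_center_of_cen_top h1)
  have hrm : ∀ g : G, REl r g → g ∈ N := fun g hg => by
    obtain ⟨P, hP⟩ := exists_sylow_mem hg
    obtain ⟨c, rfl⟩ := MulAction.exists_smul_eq G R P
    obtain ⟨a, ha, rfl⟩ := hP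
    exact hNn.conj_mem a (hRN ha) c
  by_cases hall : ∀ y ∈ N, (orderOf y).Coprime r → y ∈ center G
  · set Z₀ := (center G).subgroupOf N
    have hZ₀ : Z₀ ≤ center N := fun a ha => mem_center_iff.2 fun b => Subtype.ext (mem_center_iff.1 ha (b : G))
    have hq : IsPGroup r (N ⧸ Z₀) := by
      intro q
      obtain ⟨⟨w, hw⟩, rfl⟩ := QuotientGroup.mk_surjective q
      obtain ⟨a, b, ha, hb, hab, ⟨k, hk⟩, hbr⟩ := Cfsg.Lib.Transfer.exists_pPart r w
      refine ⟨k, ?_⟩
      rw [← QuotientGroup.mk_pow, QuotientGroup.eq_one_iff]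
      show w ^ r ^ k ∈ center G
      obtain ⟨i, rfl⟩ := mem_zpowers_iff.1 ha
      obtain ⟨j, rfl⟩ := mem_zpowers_iff.1 hb
      have hcom : Commute (w ^ i) (w ^ j) := (Commute.refl w).zpow_zpow i j
      have := hcom.mul_pow (r ^ k)
      rw [hab, show (w ^ i) ^ r ^ k = 1 from hk ▸ pow_orderOf_eq_one _, one_mul] at this
      rw [this]
      exact pow_mem (hall _ (zpow_mem hw j) hbr) _
    haveI := hq.isNilpotent
    exact Subgroup.isNilpotent_of_ker_le_center (QuotientGroup.mk' Z₀) (by rw [QuotientGroup.ker_mk']; exact hZ₀)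
  push Not at hall
  obtain ⟨y, hy, hyr, hyc⟩ := hall
  by_cases hcase : ∃ (P : Sylow r G), ∃ x ∈ (P : Subgroup G), x ∉ center G ∧ (P : Subgroup G) ≤ cen x
  · -- a central non-central element: `N` is commutative
    obtain ⟨P, x, hxP, hxc, hPx⟩ := hcase
    have hxN := hrm x (rel_of_mem P.2 hxP)
    have hrm' : ¬ r ∣ m := fun hd => P.not_dvd_index ((hsize x hxN hxc ▸ hd).trans (index_dvd_of_le hPx))
    have hPN : ∀ Q : Sylow r G, (Q : Subgroup G) ≤ N := fun Q g hg => hrm g (rel_of_mem Q.2 hg)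
    -- every element of `N` centralises a Sylow subgroup
    have hcov : ∀ v ∈ N, ∃ n ∈ N, ∀ g ∈ (P : Subgroup G), Commute v (n * g * n⁻¹) := by
      intro v hv
      by_cases hvc : v ∈ center G
      · exact ⟨1, one_mem N, fun g _ => (mem_center_iff.1 hvc _).symm⟩
      obtain ⟨Q, hQ⟩ := Cfsg.Lib.SolvStruct.ItoClasses.exists_sylow_centralizing (p := r) v (hsize v hv hvc ▸ hrm')
      obtain ⟨n, hn⟩ := MulAction.exists_smul_eq N (P.subtype (hPN P)) (Q.subtype (hPN Q))
      refine ⟨n, n.2, fun g hg => ?_⟩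
      have h1 : n * ⟨g, hPN P hg⟩ * n⁻¹ ∈ ((Q.subtype (hPN Q) : Sylow r N) : Subgroup N) := by
        rw [← hn]; exact ⟨⟨g, hPN P hg⟩, hg, rfl⟩
      exact (mem_centralizer_iff.1 hQ _ h1).symm
    set M₀ := (centralizer ((P : Subgroup G) : Set G)).subgroupOf N
    have hM₀ : M₀ = ⊤ := by
      by_contra hne
      obtain ⟨g, hg⟩ := Cfsg.Lib.SolvStruct.exists_not_mem_conj M₀ hne
      obtain ⟨n, hn, hcm⟩ := hcov g g.2
      refine hg ⟨n, hn⟩ (mem_centralizer_iff.2 fun a ha => ?_)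
      show a * (n⁻¹ * (g : G) * n) = n⁻¹ * (g : G) * n * a
      have h1 := hcm a ha
      calc a * (n⁻¹ * (g : G) * n) = n⁻¹ * ((n * a * n⁻¹) * (g : G)) * n := by group
        _ = n⁻¹ * ((g : G) * (n * a * n⁻¹)) * n := by rw [h1.eq]
        _ = n⁻¹ * (g : G) * n * a := by group
    have hcP : ∀ v ∈ N, ∀ g ∈ (P : Subgroup G), Commute g v := fun v hv g hg =>
      mem_centralizer_iff.1 (subgroupOf_eq_top.1 hM₀ hv) g hg
    -- elements of order prime to `r` commute
    have hcc : ∀ a ∈ N, (orderOf a).Coprime r → ∀ b ∈ N, (orderOf b).Coprime r → Commute a b := by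
      intro a ha har b hb hbr
      by_cases hac : a ∈ center G
      · exact (mem_center_iff.1 hac b).symm
      by_cases hbc : b ∈ center G
      · exact mem_center_iff.1 hbc a
      have hxa : Commute x a := hcP a ha x hxP
      have e : (cen x : Subgroup G) = cen a := by
        obtain ⟨k, hk⟩ := rel_of_mem P.2 hxP
        have hx1 : x ^ r ^ k = 1 := hk ▸ pow_orderOf_eq_one x
        have hb1 := pow_orderOf_eq_one a
        have hab : (r ^ k).Coprime (orderOf a) := (har.symm).pow_left k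
        have hxyc : x * a ∉ center G := fun hc => hxc (mem_center_iff.2 fun g =>
          (commute_mul_coprime hxa hx1 hb1 hab (mem_center_iff.1 hc g : Commute g (x * a))).eq)
        have hm0 : 0 < m := Nat.pos_of_ne_zero (hsize x hxN hxc ▸ index_ne_zero_of_finite)
        have key : ∀ v w : G, v ∈ N → w ∈ N → v ∉ center G → w ∉ center G →
            (cen v : Subgroup G) ≤ cen w → (cen v : Subgroup G) = cen w := fun v w hv hw hvc hwc hle => by
          refine eq_of_le_of_card_ge hle (le_of_eq ?_)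
          have h1 := (cen v : Subgroup G).card_mul_index
          rw [← (cen w : Subgroup G).card_mul_index, hsize v hv hvc, hsize w hw hwc] at h1
          exact (Nat.eq_of_mul_eq_mul_right hm0 h1).symm
        refine (key _ _ (mul_mem hxN ha) hxN hxyc hxc fun g hg => mem_cen.2 (commute_mul_coprime hxa hx1 hb1 hab (mem_cen.1 hg))).symm.trans
          (key _ _ (mul_mem hxN ha) ha hxyc hac fun g hg => mem_cen.2 (commute_mul_coprime hxa.symm hb1 hx1 hab.symm ?_))
        rw [← hxa.eq]; exact mem_cen.1 hg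
      have h1 : b ∈ (cen a : Subgroup G) := e ▸ mem_cen.2 (hcP b hb x hxP).symm
      exact (mem_cen.1 h1).symm
    haveI := P.2.isNilpotent
    set Z₁ := (center (N : Type u))
    haveI : Group.IsNilpotent (P : Subgroup G) := inferInstance
    have hnil : ∀ (q : ℕ) (_ : Fact q.Prime) (Q : Sylow q N), (Q : Subgroup N).Normal := by
      intro q _ Q
      by_cases hqr : q = r
      · subst hqr
        haveI : ((P.subtype (hPN P) : Sylow q N) : Subgroup N).Normal := ⟨fun a ha b => by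
          have h1 : Commute (a : G) b := hcP b b.2 a ha
          rw [show b * a * b⁻¹ = a from Subtype.ext (by
            show (b : G) * a * (b : G)⁻¹ = a
            rw [← h1.eq, mul_inv_cancel_right])]
          exact ha⟩
        haveI := Sylow.unique_of_normal (P.subtype (hPN P)) ‹_›
        rw [Subsingleton.elim Q (P.subtype (hPN P))]
        infer_instance
      · refine ⟨fun a ha b => ?_⟩
        obtain ⟨j, hj⟩ := IsPGroup.iff_orderOf.mp Q.2 ⟨a, ha⟩
        rw [Subgroup.orderOf_mk, ← Subgroup.orderOf_coe] at hj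
        have har : (orderOf (a : G)).Coprime r :=
          hj ▸ Nat.Coprime.pow_left j ((Nat.coprime_primes Fact.out hr.out).2 hqr)
        have h1 : Commute (a : G) (b : G) := by
          obtain ⟨c, d, hc, hd, hcd, ⟨k, hk⟩, hdr⟩ := Cfsg.Lib.Transfer.exists_pPart r (b : G)
          have hcN : c ∈ N := zpowers_le.2 b.2 hc
          have hdN : d ∈ N := zpowers_le.2 b.2 hd
          obtain ⟨Q', hQ'⟩ := exists_sylow_mem (r := r) (g := c) ⟨k, hk⟩
          haveI : ((P.subtype (hPN P) : Sylow r N) : Subgroup N).Normal := ⟨fun u hu v => by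
            have h2 : Commute (u : G) v := hcP v v.2 u hu
            rw [show v * u * v⁻¹ = u from Subtype.ext (by
              show (v : G) * u * (v : G)⁻¹ = u
              rw [← h2.eq, mul_inv_cancel_right])]
            exact hu⟩
          haveI := Sylow.unique_of_normal (P.subtype (hPN P)) ‹_›
          have hcP' : c ∈ (P : Subgroup G) := by
            have h2 : (⟨c, hcN⟩ : N) ∈ ((Q'.subtype (hPN Q') : Sylow r N) : Subgroup N) := hQ'
            rw [Subsingleton.elim (Q'.subtype (hPN Q')) (P.subtype (hPN P))] at h2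
            exact h2
          rw [← hcd]
          exact (hcP a a.2 c hcP').symm.mul_right (hcc a a.2 har d hdN hdr)
        rw [show b * a * b⁻¹ = a from Subtype.ext (by
          show (b : G) * a * (b : G)⁻¹ = a
          rw [← h1.eq, mul_inv_cancel_right])]
        exact ha
    exact ((Group.isNilpotent_of_finite_tfae (G := N)).out 0 3).2 hnil
  · exfalso
    push Not at hcase
    have H : Setup r N m := ⟨hsize, hrm, fun P x hx hxc => hcase P x hx hxc⟩
    obtain ⟨x, hx, hxc⟩ := Set.not_subset.1 hR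
    obtain ⟨u, hu, -⟩ := exists_partner H hy hyc hyr ⟨R, x, hx, hxc⟩
    exact count H hu

end Cfsg.Lib.OneSizeSylow
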