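import Cfsg.Agent.Coprime.Sylow
import Cfsg.Agent.SolvStruct.PGroupBasics
import Cfsg.Agent.PGroups.Bounds

/-!
Subgroups generated by elements of smallest class size.
-/

set_option autoImplicit false
set_option linter.style.haveILetI false
set_option linter.unusedSectionVars false

namespace Cfsg.Lib.SolvStruct

open Subgroup
open scoped commutatorElement

variable {G : Type*} [Group G] [Finite G]

/-- commutators of a normal abelian subgroup with an element of smallest class are central -/
theorem commutator_mem_center_of_min_class {A : Subgroup G} [A.Normal] (hA : IsMulCommutative A) {m : ℕ}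
    (hmin : ∀ z : G, 1 < (centralizer ({z} : Set G)).index → m ≤ (centralizer ({z} : Set G)).index)
    {x : G} (hx : (centralizer ({x} : Set G)).index = m) {a : G} (ha : a ∈ A) :
    ⁅a, x⁆ ∈ center G := by
  classical
  have hc : ∀ u ∈ A, ∀ v ∈ A, u * v = v * u := fun u hu v hv =>
    congrArg Subtype.val (hA.is_comm.comm (⟨u, hu⟩ : A) ⟨v, hv⟩)
  have hmem : ∀ u ∈ A, ⁅u, x⁆ ∈ A := fun u hu => by
    rw [commutatorElement_def, show u * x * u⁻¹ * x⁻¹ = u * (x * u⁻¹ * x⁻¹) by group]
    exact mul_mem hu (Subgroup.Normal.conj_mem inferInstance _ (inv_mem hu) x)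
  let f : A →* A := MonoidHom.mk' (fun u => ⟨⁅(u : G), x⁆, hmem u u.2⟩) fun u v => Subtype.ext (by
    show ⁅(u : G) * v, x⁆ = ⁅(u : G), x⁆ * ⁅(v : G), x⁆
    calc ⁅(u : G) * v, x⁆ = (u : G) * ⁅(v : G), x⁆ * (x * (u : G)⁻¹ * x⁻¹) := by
          simp only [commutatorElement_def]; group
      _ = ⁅(v : G), x⁆ * (u : G) * (x * (u : G)⁻¹ * x⁻¹) := by rw [hc _ u.2 _ (hmem v v.2)]
      _ = ⁅(v : G), x⁆ * ⁅(u : G), x⁆ := by simp only [commutatorElement_def]; group
      _ = _ := hc _ (hmem v v.2) _ (hmem u u.2))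
  set B := f.range
  set C := centralizer ({x} : Set G) with hCdef
  set y := ⁅a, x⁆ with hy
  by_cases hy1 : y = 1
  · rw [hy1]; exact one_mem _
  have hyA : y ∈ A := hmem a ha
  set D := C ⊓ centralizer ({y} : Set G)
  -- the orbit of `y` under `C`
  have horb : D.relIndex C < Nat.card B := by
    have hconj : ∀ c ∈ C, ∃ b : B, ((b : A) : G) = c * y * c⁻¹ ∧ ((b : A) : G) ≠ 1 := by
      intro c hc'
      refine ⟨⟨f ⟨c * a * c⁻¹, Subgroup.Normal.conj_mem inferInstance _ ha c⟩, _, rfl⟩, ?_, ?_⟩
      · show ⁅c * a * c⁻¹, x⁆ = c * y * c⁻¹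
        have hcx : c * x * c⁻¹ = x := by
          rw [mem_centralizer_singleton_iff.mp hc', mul_inv_cancel_right]
        conv_lhs => rw [← hcx]
        simp only [hy, commutatorElement_def]; group
      · intro h1
        have h2 : ⁅c * a * c⁻¹, x⁆ = 1 := h1
        refine hy1 ?_
        have hcx : c * x * c⁻¹ = x := by
          rw [mem_centralizer_singleton_iff.mp hc', mul_inv_cancel_right]
        rw [← hcx] at h2
        calc y = c⁻¹ * ⁅c * a * c⁻¹, c * x * c⁻¹⁆ * c := by simp only [hy, commutatorElement_def]; group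
          _ = 1 := by rw [h2]; group
    choose b hb hb1 using hconj
    let φ : C ⧸ D.subgroupOf C → {b : B // b ≠ 1} := fun q =>
      ⟨b q.out q.out.2, fun h => hb1 q.out q.out.2 (by rw [h]; rfl)⟩
    have hφ : Function.Injective φ := by
      intro q q' hqq
      have h1 : ((b q.out q.out.2 : A) : G) = ((b q'.out q'.out.2 : A) : G) :=
        congrArg (fun z : {b : B // b ≠ 1} => ((z.1 : A) : G)) hqq
      rw [hb, hb] at h1
      rw [← q.out_eq, ← q'.out_eq]
      refine QuotientGroup.eq.mpr (mem_subgroupOf.mpr (mem_inf.mpr ⟨(q.out⁻¹ * q'.out).2, ?_⟩))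
      · rw [mem_centralizer_singleton_iff]
        show ((q.out : C) : G)⁻¹ * q'.out * y = y * (((q.out : C) : G)⁻¹ * q'.out)
        calc ((q.out : C) : G)⁻¹ * q'.out * y
            = ((q.out : C) : G)⁻¹ * (((q'.out : C) : G) * y * ((q'.out : C) : G)⁻¹) * q'.out := by group
          _ = ((q.out : C) : G)⁻¹ * (((q.out : C) : G) * y * ((q.out : C) : G)⁻¹) * q'.out := by rw [h1]
          _ = _ := by group
    refine lt_of_le_of_lt (Nat.card_le_card_of_injective φ hφ) ?_
    exact Finite.card_subtype_lt (p := fun b : B => b ≠ 1) (x := 1) (by simp)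
  -- compare centralizers
  have hker : Nat.card ↥(A ⊓ C) * Nat.card B = Nat.card A := by
    have h1 : Nat.card f.ker * Nat.card f.range = Nat.card A := by
      rw [← index_ker]; exact f.ker.card_mul_index
    have hk : f.ker = C.subgroupOf A := by
      ext u
      rw [MonoidHom.mem_ker, mem_subgroupOf, hCdef, mem_centralizer_singleton_iff, Subtype.ext_iff]
      show ⁅(u : G), x⁆ = 1 ↔ _
      exact commutatorElement_eq_one_iff_mul_comm
    rw [hk] at h1
    rwa [← inf_subgroupOf_left, Nat.card_congr (subgroupOfEquivOfLe inf_le_left).toEquiv] at h1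
  have hAD : Nat.card A * Nat.card D ≤ Nat.card (centralizer ({y} : Set G)) * Nat.card ↥(A ⊓ C) := by
    rw [← Cfsg.Lib.Coprime.card_sup_mul_card_inf (N := A) (H := D) le_normalizer_of_normal]
    refine Nat.mul_le_mul (card_le_of_le (sup_le (fun u hu => ?_) inf_le_right))
      (card_le_of_le (inf_le_inf_left A inf_le_left))
    rw [mem_centralizer_singleton_iff]
    exact hc u hu y hyA
  have hC : Nat.card C = Nat.card D * D.relIndex C := by
    rw [← relIndex_bot_left, ← relIndex_bot_left, relIndex_mul_relIndex _ _ _ bot_le inf_le_left]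
  have hlt : Nat.card C < Nat.card (centralizer ({y} : Set G)) := by
    refine lt_of_lt_of_le (b := Nat.card D * Nat.card B) ?_
      (le_of_mul_le_mul_right ?_ (Nat.card_pos (α := ↥(A ⊓ C))))
    (rw [hC]; exact Nat.mul_lt_mul_of_pos_left horb Nat.card_pos)
    calc Nat.card D * Nat.card B * Nat.card ↥(A ⊓ C) = Nat.card A * Nat.card D := by rw [← hker]; ring
      _ ≤ _ := hAD
  rw [mem_center_iff]
  intro g
  have hi : (centralizer ({y} : Set G)).index = 1 := by
    by_contra h1
    have hpos := Nat.pos_of_ne_zero (centralizer ({y} : Set G)).index_ne_zero_of_finite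
    have hm := hmin y (by omega)
    have e1 := C.card_mul_index
    have e2 := (centralizer ({y} : Set G)).card_mul_index
    rw [hCdef, hx] at e1
    have hm0 : 0 < m := by rw [← hx]; exact Nat.pos_of_ne_zero index_ne_zero_of_finite
    have := Nat.mul_lt_mul_of_lt_of_le hlt hm hpos
    rw [hCdef] at this
    omega
  exact mem_centralizer_singleton_iff.mp (index_eq_one.mp hi ▸ mem_top g)

/-- the elements of smallest class generate a subgroup of class at most three -/
theorem class_three_of_min_class {A : Subgroup G} [A.Normal] (hA : IsMulCommutative A)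
    (hCA : centralizer (A : Set G) = A) {m : ℕ}
    (hmin : ∀ z : G, 1 < (centralizer ({z} : Set G)).index → m ≤ (centralizer ({z} : Set G)).index) :
    Subgroup.upperCentralSeries ↥(closure {x : G | (centralizer ({x} : Set G)).index = 1 ∨
      (centralizer ({x} : Set G)).index = m}) 3 = ⊤ := by
  set M := closure {x : G | (centralizer ({x} : Set G)).index = 1 ∨ (centralizer ({x} : Set G)).index = m}
  have key : ∀ z ∈ M, ∀ a ∈ A, ∃ u ∈ center G, z * a * z⁻¹ = u * a := by
    intro z hz
    induction hz using closure_induction with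
    | mem x hx =>
      intro a ha
      rcases hx with hx | hx
      · refine ⟨1, one_mem _, ?_⟩
        have h : a ∈ centralizer ({x} : Set G) := index_eq_one.mp hx ▸ mem_top a
        rw [← mem_centralizer_singleton_iff.mp h, mul_inv_cancel_right, one_mul]
      · refine ⟨⁅a, x⁆⁻¹, inv_mem (commutator_mem_center_of_min_class hA hmin hx ha), ?_⟩
        rw [commutatorElement_def]; group
    | one => exact fun a _ => ⟨1, one_mem _, by group⟩
    | mul z w _ _ ihz ihw =>
      intro a ha
      obtain ⟨u, hu, he⟩ := ihw a ha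
      obtain ⟨v, hv, he'⟩ := ihz a ha
      refine ⟨u * v, mul_mem hu hv, ?_⟩
      calc z * w * a * (z * w)⁻¹ = z * (w * a * w⁻¹) * z⁻¹ := by group
        _ = z * u * a * z⁻¹ := by rw [he]; group
        _ = u * (z * a * z⁻¹) := by rw [mem_center_iff.mp hu z]; group
        _ = _ := by rw [he', mul_assoc]
    | inv z _ ihz =>
      intro a ha
      obtain ⟨u, hu, he⟩ := ihz a ha
      refine ⟨u⁻¹, inv_mem hu, ?_⟩
      have h : a = z⁻¹ * (u * a) * z := by rw [← he]; group
      calc z⁻¹ * a * z⁻¹⁻¹ = u⁻¹ * (u * z⁻¹) * a * z := by group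
        _ = u⁻¹ * (z⁻¹ * u) * a * z := by rw [mem_center_iff.mp hu z⁻¹]
        _ = u⁻¹ * (z⁻¹ * (u * a) * z) := by group
        _ = _ := by rw [← h]
  have hcomm : ∀ z ∈ M, ∀ w ∈ M, ⁅z, w⁆ ∈ A := by
    intro z hz w hw
    have hPQ : ∀ a ∈ A, z * w * a * (z * w)⁻¹ = w * z * a * (w * z)⁻¹ := by
      intro a ha
      obtain ⟨u, hu, he⟩ := key z hz a ha
      obtain ⟨v, hv, he'⟩ := key w hw a ha
      have h1 : z * w * a * (z * w)⁻¹ = u * v * a := by
        calc z * w * a * (z * w)⁻¹ = z * (w * a * w⁻¹) * z⁻¹ := by group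
          _ = z * v * a * z⁻¹ := by rw [he']; group
          _ = v * (z * a * z⁻¹) := by rw [mem_center_iff.mp hv z]; group
          _ = _ := by rw [he, mem_center_iff.mp hv u, mul_assoc]
      rw [h1]
      calc u * v * a = u * (w * a * w⁻¹) := by rw [he', mul_assoc]
        _ = (w * u) * a * w⁻¹ := by rw [mem_center_iff.mp hu w]; group
        _ = w * (z * a * z⁻¹) * w⁻¹ := by rw [he]; group
        _ = _ := by group
    rw [← hCA, mem_centralizer_iff]
    intro a ha
    have h := hPQ _ (Subgroup.Normal.conj_mem inferInstance _ ha (w * z)⁻¹)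
    have h2 : ⁅z, w⁆ * a * ⁅z, w⁆⁻¹ = a := by
      calc ⁅z, w⁆ * a * ⁅z, w⁆⁻¹
          = z * w * ((w * z)⁻¹ * a * (w * z)⁻¹⁻¹) * (z * w)⁻¹ := by
            simp only [commutatorElement_def]; group
        _ = _ := by rw [h]; group
    calc a * ⁅z, w⁆ = ⁅z, w⁆ * a * ⁅z, w⁆⁻¹ * ⁅z, w⁆ := by rw [h2]
      _ = _ := by group
  rw [eq_top_iff]
  intro x _
  rw [Subgroup.mem_upperCentralSeries_succ_iff]
  intro y
  rw [Subgroup.mem_upperCentralSeries_succ_iff]
  intro z
  rw [Subgroup.upperCentralSeries_one, mem_center_iff]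
  intro w
  obtain ⟨u, hu, he⟩ := key z z.2 _ (hcomm x x.2 y y.2)
  refine Subtype.ext ?_
  have h1 : ⁅(⁅(x : G), (y : G)⁆), (z : G)⁆ = u⁻¹ := by
    calc ⁅(⁅(x : G), (y : G)⁆), (z : G)⁆
        = ⁅(x : G), (y : G)⁆ * ((z : G) * ⁅(x : G), (y : G)⁆ * (z : G)⁻¹)⁻¹ := by
          simp only [commutatorElement_def]; group
      _ = _ := by rw [he]; group
  show (w : G) * ⁅⁅(x : G), (y : G)⁆, (z : G)⁆ = ⁅⁅(x : G), (y : G)⁆, (z : G)⁆ * w
  rw [h1]
  exact mem_center_iff.mp (inv_mem hu) w

end Cfsg.Lib.SolvStruct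

namespace Cfsg.Lib.SolvStruct

open Subgroup

/-- a `p`-group with two class sizes has class at most three -/
theorem class_three_of_two_classes {P : Type*} [Group P] [Finite P] {p : ℕ} [Fact p.Prime]
    (hP : IsPGroup p P) {m : ℕ} (h : ∀ x : P, (centralizer ({x} : Set P)).index = 1 ∨
      (centralizer ({x} : Set P)).index = m) : Subgroup.upperCentralSeries P 3 = ⊤ := by
  obtain ⟨A, ⟨hAn, hAc⟩, hmax⟩ := WellFounded.has_min
    (IsWellFounded.wf (r := ((· > ·) : Subgroup P → Subgroup P → Prop)))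
    {A | A.Normal ∧ IsMulCommutative A} ⟨⊥, inferInstance, inferInstance⟩
  haveI := hAn
  have hCA := Cfsg.Lib.PGroups.centralizer_eq_self_of_maximal_normal_abelian hP A hAc
    fun B hB hBc hAB => ((eq_or_lt_of_le hAB).resolve_right fun hlt => hmax B ⟨hB, hBc⟩ hlt).symm
  have h3 := class_three_of_min_class hAc hCA (m := m) fun z hz => by
    rcases h z with h1 | h1 <;> omega
  set S := {x : P | (centralizer ({x} : Set P)).index = 1 ∨ (centralizer ({x} : Set P)).index = m}
  have htop : closure S = ⊤ := top_le_iff.mp fun x _ => subset_closure (h x)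
  let e : closure S ≃* P := (MulEquiv.subgroupCongr htop).trans Subgroup.topEquiv
  have := Subgroup.comap_upperCentralSeries e 3
  rw [h3] at this
  rw [eq_top_iff]
  intro x _
  have hx : e.symm x ∈ (Subgroup.upperCentralSeries P 3).comap e.toMonoidHom := this.symm ▸ mem_top _
  rw [mem_comap] at hx
  simpa using hx

end Cfsg.Lib.SolvStruct
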