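/-
Groups with a two-generated non-abelian Sylow subgroup and trivial cores: the minimal normal subgroup.
-/
import Cfsg.Agent.Transfer.Tate
import Cfsg.Agent.Components.GenFitting
import Cfsg.Agent.Components.Control.TransferNormal
import Cfsg.Agent.Coprime.Fitting
import Cfsg.Agent.SolvStruct.Gaschuetz

set_option linter.style.haveILetI false
set_option linter.unusedSectionVars false

namespace Cfsg.Lib.TwoGeneratedSylow

open Subgroup Cfsg.Lib.Components
open scoped commutatorElement

universe u

variable {G : Type u} [Group G] [Finite G] {p : ℕ} [hp : Fact p.Prime]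

section

variable {P : Type u} [Group P] [Finite P]

/-- An element outside `Φ(P)` is half of a generating pair. -/
theorem exists_partner (hP : IsPGroup p P) (hna : ¬ IsMulCommutative P)
    (hidx : (frattini P).index = p ^ 2) (a : P) (ha : a ∉ frattini P) :
    ∃ x : P, zpowers a ⊔ zpowers x = ⊤ ∧
      ∀ y : P, y ∉ frattini P ⊔ zpowers a → zpowers a ⊔ zpowers y = ⊤ := by
  set M := frattini P ⊔ zpowers a with hM
  have hlt : frattini P < M :=
    lt_of_le_of_ne le_sup_left fun e => ha (e ▸ mem_sup_right (mem_zpowers a))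
  have htop : M ≠ ⊤ := fun e => hna <| by
    have h : zpowers a = ⊤ := frattini_nongenerating (by rw [sup_comm]; exact e)
    exact ⟨⟨fun b c => by
      obtain ⟨i, rfl⟩ := mem_zpowers_iff.1 (h.ge (mem_top b))
      obtain ⟨j, rfl⟩ := mem_zpowers_iff.1 (h.ge (mem_top c))
      rw [← zpow_add, ← zpow_add, add_comm]⟩⟩
  have hidxM : M.index = p := by
    obtain ⟨i, hi, he⟩ := (Nat.dvd_prime_pow hp.out).1 (hidx ▸ index_dvd_of_le hlt.le)
    have h1 : i ≠ 0 := fun e => htop (index_eq_one.1 (by rw [he, e, pow_zero]))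
    have h2 : i ≠ 2 := fun e => by
      have := index_strictAnti hlt
      rw [hidx, he, e] at this
      exact lt_irrefl _ this
    obtain rfl : i = 1 := by omega
    rw [he, pow_one]
  have hall : ∀ y : P, y ∉ M → zpowers a ⊔ zpowers y = ⊤ := fun y hy => by
    refine frattini_nongenerating ?_
    have h1 : M < zpowers a ⊔ zpowers y ⊔ frattini P := by
      refine lt_of_le_of_ne (sup_le le_sup_right (le_sup_left.trans le_sup_left)) fun e => hy ?_
      rw [e]
      exact mem_sup_left (mem_sup_right (mem_zpowers y))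
    refine index_eq_one.1 (((Nat.dvd_prime hp.out).1 (hidxM ▸ index_dvd_of_le h1.le)).resolve_right ?_)
    intro e
    have := index_strictAnti h1
    rw [hidxM, e] at this
    exact lt_irrefl _ this
  obtain ⟨x, -, hx⟩ := SetLike.exists_of_lt (lt_top_iff_ne_top.2 htop)
  exact ⟨x, hall x hx, hall⟩

/-- Two disjoint normal subgroups cannot both leave `Φ(P)`. -/
theorem false_of_two_normal (hP : IsPGroup p P) (hna : ¬ IsMulCommutative P)
    (hidx : (frattini P).index = p ^ 2) (A B : Subgroup P) [hA : A.Normal] [hB : B.Normal]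
    (hAB : A ⊓ B = ⊥) (a b : P) (haA : a ∈ A) (hbB : b ∈ B) (ha : a ∉ frattini P) (hb : b ∉ frattini P) :
    False := by
  have hcomm : Commute a b :=
    commute_of_normal_of_disjoint A B hA hB (disjoint_iff.2 hAB) a b haA hbB
  have key : ∀ x : P, zpowers a ⊔ zpowers x = ⊤ → ∀ N : Subgroup P, N.Normal → a ∈ N → commutator P ≤ N := by
    intro x hx N hN haN
    haveI := hN
    refine (Subgroup.Normal.quotient_commutative_iff_commutator_le (N := N)).1 ⟨⟨fun u v => ?_⟩⟩
    have hgen : ∀ u : P ⧸ N, ∃ i : ℤ, QuotientGroup.mk' N x ^ i = u := by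
      intro u
      obtain ⟨w, rfl⟩ := QuotientGroup.mk'_surjective N u
      have h1 : (zpowers a ⊔ zpowers x).map (QuotientGroup.mk' N) ≤ zpowers (QuotientGroup.mk' N x) := by
        rw [Subgroup.map_sup, MonoidHom.map_zpowers, MonoidHom.map_zpowers,
          show QuotientGroup.mk' N a = 1 from (QuotientGroup.eq_one_iff a).2 haN]
        exact sup_le (by simp) le_rfl
      exact mem_zpowers_iff.1 (h1 ⟨w, by rw [hx]; exact mem_top w, rfl⟩)
    obtain ⟨i, rfl⟩ := hgen u
    obtain ⟨j, rfl⟩ := hgen v
    rw [← zpow_add, ← zpow_add, add_comm]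
  obtain ⟨x, hx, hall⟩ := exists_partner hP hna hidx a ha
  by_cases hbM : b ∈ frattini P ⊔ zpowers a
  · -- same line: `b` and `x` generate as well
    obtain ⟨y, hy, hally⟩ := exists_partner hP hna hidx b hb
    have hxM : x ∉ frattini P ⊔ zpowers a := fun h => hna <| by
      have h1 : zpowers a = ⊤ := frattini_nongenerating (by
        rw [eq_top_iff, ← hx]
        exact sup_le le_sup_left (zpowers_le.2 (by rwa [sup_comm])))
      exact ⟨⟨fun c d => by
        obtain ⟨i, rfl⟩ := mem_zpowers_iff.1 (h1.ge (mem_top c))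
        obtain ⟨j, rfl⟩ := mem_zpowers_iff.1 (h1.ge (mem_top d))
        rw [← zpow_add, ← zpow_add, add_comm]⟩⟩
    have hle : frattini P ⊔ zpowers b ≤ frattini P ⊔ zpowers a := sup_le le_sup_left (zpowers_le.2 hbM)
    have hbx : zpowers b ⊔ zpowers x = ⊤ := hally x fun h => hxM (hle h)
    refine hna ⟨⟨fun c d => ?_⟩⟩
    rw [← commutatorElement_eq_one_iff_mul_comm]
    have hm : ⁅c, d⁆ ∈ commutator P := commutator_mem_commutator (mem_top _) (mem_top _)
    have hbkey : commutator P ≤ B := by
      refine (Subgroup.Normal.quotient_commutative_iff_commutator_le (N := B)).1 ⟨⟨fun u v => ?_⟩⟩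
      have hgen : ∀ u : P ⧸ B, ∃ i : ℤ, QuotientGroup.mk' B x ^ i = u := by
        intro u
        obtain ⟨w, rfl⟩ := QuotientGroup.mk'_surjective B u
        have h1 : (zpowers b ⊔ zpowers x).map (QuotientGroup.mk' B) ≤ zpowers (QuotientGroup.mk' B x) := by
          rw [Subgroup.map_sup, MonoidHom.map_zpowers, MonoidHom.map_zpowers,
            show QuotientGroup.mk' B b = 1 from (QuotientGroup.eq_one_iff b).2 hbB]
          exact sup_le (by simp) le_rfl
        exact mem_zpowers_iff.1 (h1 ⟨w, by rw [hbx]; exact mem_top w, rfl⟩)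
      obtain ⟨i, rfl⟩ := hgen u
      obtain ⟨j, rfl⟩ := hgen v
      rw [← zpow_add, ← zpow_add, add_comm]
    exact mem_bot.1 (hAB ▸ mem_inf.2 ⟨key x hx A hA haA hm, hbkey hm⟩)
  · have h := hall b hbM
    refine hna ⟨⟨fun c d => ?_⟩⟩
    have hz : ∀ z : P, z ∈ center P := by
      have hac : a ∈ center P := mem_center_iff.2 fun z => by
        have h1 : zpowers a ⊔ zpowers b ≤ centralizer ({a} : Set P) := sup_le
          (zpowers_le.2 (mem_centralizer_singleton_iff.2 rfl))
          (zpowers_le.2 (mem_centralizer_singleton_iff.2 hcomm.symm.eq))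
        exact mem_centralizer_singleton_iff.1 (h1 (h ▸ mem_top z))
      have hbc : b ∈ center P := mem_center_iff.2 fun z => by
        have h1 : zpowers a ⊔ zpowers b ≤ centralizer ({b} : Set P) := sup_le
          (zpowers_le.2 (mem_centralizer_singleton_iff.2 hcomm.eq))
          (zpowers_le.2 (mem_centralizer_singleton_iff.2 rfl))
        exact mem_centralizer_singleton_iff.1 (h1 (h ▸ mem_top z))
      exact fun z => (h.ge.trans (sup_le (zpowers_le.2 hac) (zpowers_le.2 hbc))) (mem_top z)
    exact mem_center_iff.1 (hz d) c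

end

variable (P : Sylow p G)

/-- A subgroup normalised by `M` and `P` that lies in the normal subgroup `M` and meets `P` in `Φ(P)`
is a `p`-group. -/
theorem isPGroup_of_inf_le (hcore : Cfsg.pPrimeCore p G = ⊥) (M N₁ : Subgroup G) [M.Normal]
    (h1 : N₁ ≤ M) (hMn : M ≤ normalizer (N₁ : Set G)) (hPn : (P : Subgroup G) ≤ normalizer (N₁ : Set G))
    (h : N₁ ⊓ (P : Subgroup G) ≤ (frattini (P : Subgroup G)).map (P : Subgroup G).subtype) :
    IsPGroup p N₁ := by
  classical
  set T := normalizer (N₁ : Set G)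
  set S : Sylow p T := P.subtype hPn
  haveI : (N₁.subgroupOf T).Normal := normal_subgroupOf_of_le_normalizer le_rfl
  have hT : Cfsg.HasNormalPComplement p ↥(N₁.subgroupOf T) := by
    refine Cfsg.Lib.Transfer.hasNormalPComplement_of_le_frattini S _ fun x hx => ?_
    obtain ⟨hxN, hxS⟩ := hx
    obtain ⟨y, hy, hyx⟩ := h (mem_inf.2 ⟨hxN, hxS⟩)
    set e := subgroupOfEquivOfLe hPn
    refine ⟨e.symm y, ?_, Subtype.ext hyx⟩
    have hy' : y ∈ e.mapSubgroup (frattini ↥(S : Subgroup T)) := by
      rw [show e.mapSubgroup (frattini ↥(S : Subgroup T)) = frattini ↥(P : Subgroup G) from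
        OrderIso.map_radical e.mapSubgroup]
      exact hy
    obtain ⟨w, hw, hwy⟩ := hy'
    rw [← hwy]
    show e.symm (e w) ∈ _
    rwa [e.symm_apply_apply]
  obtain ⟨C, hCn, hC, k, hk⟩ := Cfsg.Lib.Transfer.hasNormalPComplement_iff.1 hT
  haveI := hCn
  have hCbot : C = ⊥ := by
    have h2 : C ≤ Cfsg.pPrimeCore p ↥(N₁.subgroupOf T) := le_pPrimeCore hC
    set C' := (Cfsg.pPrimeCore p ↥(N₁.subgroupOf T)).map (N₁.subgroupOf T).subtype
    haveI : (Cfsg.pPrimeCore p ↥(N₁.subgroupOf T)).Characteristic := inferInstance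
    haveI : C'.Normal := ConjAct.normal_of_characteristic_of_normal
    set C'' := C'.map T.subtype
    have hle : C'' ≤ M := by
      rintro _ ⟨w, ⟨v, -, rfl⟩, rfl⟩
      exact h1 v.2
    have hcard : (Nat.card C'').Coprime p := by
      rw [card_subtype, card_subtype]; exact coprime_card_pPrimeCore p
    have hMn' : (C''.subgroupOf M).Normal := by
      refine normal_subgroupOf_of_le_normalizer fun m hm => mem_normalizer_fintype ?_
      rintro _ ⟨w, hw, rfl⟩
      exact ⟨_, Subgroup.Normal.conj_mem ‹C'.Normal› w hw ⟨m, hMn hm⟩, rfl⟩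
    have h3 : C''.subgroupOf M ≤ Cfsg.pPrimeCore p M :=
      le_pPrimeCore (hn := hMn') (by rw [Nat.card_congr (subgroupOfEquivOfLe hle).toEquiv]; exact hcard)
    haveI : (Cfsg.pPrimeCore p M).Characteristic := inferInstance
    haveI : ((Cfsg.pPrimeCore p M).map M.subtype).Normal := ConjAct.normal_of_characteristic_of_normal
    have h4 : (Cfsg.pPrimeCore p M).map M.subtype ≤ Cfsg.pPrimeCore p G :=
      le_pPrimeCore (by rw [card_subtype]; exact coprime_card_pPrimeCore p)
    rw [eq_bot_iff]
    intro c hc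
    have h5 : ((c : T) : G) ∈ C'' := ⟨_, ⟨c, h2 hc, rfl⟩, rfl⟩
    have h6 : ((c : T) : G) ∈ Cfsg.pPrimeCore p G := h4 ⟨⟨_, hle h5⟩, h3 h5, rfl⟩
    rw [hcore, mem_bot] at h6
    exact mem_bot.2 (Subtype.ext (Subtype.ext h6))
  rw [hCbot, index_bot, Nat.card_congr (subgroupOfEquivOfLe (le_normalizer : N₁ ≤ T)).toEquiv] at hk
  exact IsPGroup.of_card hk

/-- Every non-trivial normal subgroup meets `P` outside `Φ(P)`. -/
theorem exists_notMem_frattini (hcore : Cfsg.pPrimeCore p G = ⊥)
    (hfrat : ((frattini ↥(P : Subgroup G)).map (P : Subgroup G).subtype).normalCore = ⊥)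
    (N : Subgroup G) [hN : N.Normal] (hne : N ≠ ⊥) :
    ∃ a : (P : Subgroup G), (a : G) ∈ N ∧ a ∉ frattini ↥(P : Subgroup G) := by
  by_contra hno
  push Not at hno
  have hle : N ⊓ (P : Subgroup G) ≤ (frattini ↥(P : Subgroup G)).map (P : Subgroup G).subtype :=
    fun x hx => ⟨⟨x, hx.2⟩, hno ⟨x, hx.2⟩ hx.1, rfl⟩
  have hNp := isPGroup_of_inf_le P hcore N N le_rfl le_normalizer le_normalizer_of_normal hle
  have hNP : N ≤ (P : Subgroup G) :=
    (le_pCore hNp).trans (Cfsg.Lib.Coprime.pCore_le_sylow p P)
  refine hne (le_bot_iff.1 (hfrat ▸ ?_))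
  exact Subgroup.normal_le_normalCore.2 fun x hx => hle ⟨hx, hNP hx⟩

theorem main (hna : ¬ IsMulCommutative (P : Subgroup G)) (hgen : (frattini ↥(P : Subgroup G)).index = p ^ 2)
    (hcore : Cfsg.pPrimeCore p G = ⊥)
    (hfrat : ((frattini ↥(P : Subgroup G)).map (P : Subgroup G).subtype).normalCore = ⊥)
    [hFn : (Cfsg.generalizedFittingSubgroup G).Normal] :
    (Cfsg.generalizedFittingSubgroup G ≠ ⊥ ∧ ∀ K : Subgroup G, K.Normal → K ≠ ⊥ → Cfsg.generalizedFittingSubgroup G ≤ K) ∧
      IsCyclic ↥((P : Subgroup G).map (QuotientGroup.mk' (Cfsg.generalizedFittingSubgroup G))) ∧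
      (¬ IsMulCommutative (Cfsg.generalizedFittingSubgroup G) → ∀ K L : Subgroup G, Cfsg.IsComponent K → Cfsg.IsComponent L → ∃ x ∈ (P : Subgroup G), L = K.map (MulAut.conj x).toMonoidHom) := by
  classical
  have hPntriv : (P : Subgroup G) ≠ ⊥ := fun e => hna ⟨⟨fun a b => Subtype.ext (by
    have ha : (a : G) = 1 := mem_bot.1 (e.le a.2)
    have hb : (b : G) = 1 := mem_bot.1 (e.le b.2)
    simp [ha, hb])⟩⟩
  haveI : Nontrivial G := by
    obtain ⟨x, -, hx1⟩ := (Subgroup.bot_or_exists_ne_one (P : Subgroup G)).resolve_left hPntriv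
    exact ⟨x, 1, hx1⟩
  obtain ⟨N, ⟨hNn, hN1⟩, hNmin⟩ := WellFounded.has_min (wellFounded_lt (α := Subgroup G))
    {N : Subgroup G | N.Normal ∧ N ≠ ⊥} ⟨⊤, inferInstance, top_ne_bot⟩
  haveI := hNn
  -- `N` lies in every non-trivial normal subgroup
  have hmin : ∀ K : Subgroup G, K.Normal → K ≠ ⊥ → N ≤ K := by
    intro K hK hK1
    haveI := hK
    by_cases h : N ⊓ K = ⊥
    · exfalso
      obtain ⟨a, haN, ha⟩ := exists_notMem_frattini P hcore hfrat N hN1
      obtain ⟨b, hbK, hb⟩ := exists_notMem_frattini P hcore hfrat K hK1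
      refine false_of_two_normal P.2 hna hgen (N.subgroupOf P) (K.subgroupOf P) ?_ a b haN hbK ha hb
      rw [eq_bot_iff]
      intro x hx
      have h1 : (x : G) ∈ N ⊓ K := ⟨hx.1, hx.2⟩
      rw [h, mem_bot] at h1
      exact mem_bot.2 (Subtype.ext h1)
    · exact inf_eq_left.1 ((inf_le_left : N ⊓ K ≤ N).antisymm (not_lt_iff_le_imp_ge.1
        (hNmin (N ⊓ K) ⟨inferInstance, h⟩) inf_le_left))
  set F := Cfsg.generalizedFittingSubgroup G with hF
  have hFne : F ≠ ⊥ := fun e => by
    have h := centralizer_genFitting_le (G := G)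
    rw [← hF, e] at h
    obtain ⟨x, hx⟩ := exists_ne (1 : G)
    exact hx (mem_bot.1 (h (mem_centralizer_iff.2 fun y hy => by
      rw [SetLike.mem_coe, mem_bot] at hy; simp [hy])))
  obtain ⟨a, haN, ha⟩ := exists_notMem_frattini P hcore hfrat N hN1
  obtain ⟨x, hx, -⟩ := exists_partner P.2 hna hgen a ha
  have hFsmall : F ≤ N ∧ (¬ IsMulCommutative N → ∀ K L : Subgroup G, Cfsg.IsComponent K → Cfsg.IsComponent L →
      ∃ y ∈ (P : Subgroup G), L = K.map (MulAut.conj y).toMonoidHom) := by
    by_cases hab : IsMulCommutative N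
    · refine ⟨?_, fun h => absurd hab h⟩
      have hNp : IsPGroup p N := by
        refine IsPGroup.iff_orderOf.mpr fun n => ⟨_, Nat.eq_prime_pow_of_unique_prime_dvd (orderOf_pos n).ne'
          fun {r} hr hd => by_contra fun hrp => ?_⟩
        have h1 : orderOf (n ^ (orderOf n / r)) = r := orderOf_pow_orderOf_div (orderOf_pos n).ne' hd
        set m := n ^ (orderOf n / r)
        haveI : (zpowers m).Normal := ⟨fun y hy z => by
          rw [show z * y * z⁻¹ = y by rw [hab.is_comm.comm z y, mul_inv_cancel_right]]; exact hy⟩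
        have h2 : zpowers m ≤ Cfsg.pPrimeCore p N :=
          le_pPrimeCore (by rw [Nat.card_zpowers, h1]; exact (Nat.coprime_primes hr hp.out).2 hrp)
        haveI : ((Cfsg.pPrimeCore p N).map N.subtype).Normal := ConjAct.normal_of_characteristic_of_normal
        have h3 : (Cfsg.pPrimeCore p N).map N.subtype ≤ Cfsg.pPrimeCore p G :=
          le_pPrimeCore (by rw [card_subtype]; exact coprime_card_pPrimeCore p)
        have h4 := h3 ⟨m, h2 (mem_zpowers m), rfl⟩
        rw [hcore, mem_bot] at h4
        rw [show m = 1 from Subtype.ext h4, orderOf_one] at h1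
        exact hr.ne_one h1.symm
      have hNP : N ≤ (P : Subgroup G) := (le_pCore hNp).trans (Cfsg.Lib.Coprime.pCore_le_sylow p P)
      -- no component
      have hE : Cfsg.layer G = ⊥ := by
        by_contra hE
        set E := Cfsg.layer G
        haveI : E.Normal := inferInstance
        have hNE : N ≤ E := hmin E inferInstance hE
        haveI : IsMulCommutative N := hab
        have hcomm : ⁅E, N⁆ = ⊥ := layer_commute_solvable_normal (H := N)
          (haveI := hNp.isNilpotent; inferInstance)
        set S : Sylow p E := default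
        obtain ⟨T, hT⟩ := (S.2.map E.subtype).exists_le_sylow
        obtain ⟨g, hg⟩ := MulAction.exists_smul_eq G T P
        set D := ⁅(S : Subgroup E), (S : Subgroup E)⁆
        have hUn : (N.subgroupOf E).Normal := inferInstance
        have hUS : N.subgroupOf E ≤ (S : Subgroup E) :=
          (le_pCore hNp.comap_subtype).trans (Cfsg.Lib.Coprime.pCore_le_sylow p S)
        have hle : N.subgroupOf E ⊓ commutator E ≤ D := by
          refine Cfsg.Lib.Control.inf_commutator_le_of_central S le_rfl hUS fun u hu e => ?_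
          have h1 : ⁅(u : G), (e : G)⁆ ∈ (⊥ : Subgroup G) := by
            rw [← hcomm, commutator_comm E N]
            exact commutator_mem_commutator hu e.2
          rw [show ⁅u, e⁆ = 1 from Subtype.ext (mem_bot.1 h1)]
          exact one_mem _
        have hperf : commutator E = ⊤ := map_injective E.subtype_injective (by
          rw [map_subtype_commutator, layer_perfect, ← MonoidHom.range_eq_map, range_subtype])
        rw [hperf, inf_top_eq] at hle
        -- conjugate into `Φ(P)`
        have hconj : ∀ s ∈ (S : Subgroup E), g * (s : G) * g⁻¹ ∈ (P : Subgroup G) := by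
          intro s hs
          rw [← hg, Sylow.coe_subgroup_smul]
          exact ⟨_, hT ⟨s, hs, rfl⟩, rfl⟩
        have hD : D ≤ ((frattini ↥(P : Subgroup G)).map (P : Subgroup G).subtype).comap
            ((MulAut.conj g).toMonoidHom.comp E.subtype) := commutator_le.2 fun u hu v hv => by
          refine ⟨⁅⟨_, hconj u hu⟩, ⟨_, hconj v hv⟩⁆,
            Cfsg.Lib.PGroups.commutator_le_frattini P.2 (commutator_mem_commutator (mem_top _) (mem_top _)), ?_⟩
          show ⁅g * (u : G) * g⁻¹, g * (v : G) * g⁻¹⁆ = g * ⁅(u : G), (v : G)⁆ * g⁻¹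
          simp only [commutatorElement_def]; group
        have hsub : N ≤ (frattini ↥(P : Subgroup G)).map (P : Subgroup G).subtype := by
          intro n hn
          have hn' : g⁻¹ * n * g ∈ N := hNn.conj_mem' n hn g
          have h2 := hD (hle (show (⟨g⁻¹ * n * g, hNE hn'⟩ : E) ∈ N.subgroupOf E from hn'))
          have h3 : g * (g⁻¹ * n * g) * g⁻¹ ∈ (frattini ↥(P : Subgroup G)).map (P : Subgroup G).subtype := h2
          simpa [mul_assoc] using h3
        exact hN1 (le_bot_iff.1 (hfrat ▸ Subgroup.normal_le_normalCore.2 hsub))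
      -- the Fitting subgroup is the `p`-core
      set V := Cfsg.pCore p G
      have hFV : Cfsg.fittingSubgroup G ≤ V := by
        rw [fitting_eq_iSup_pCore]
        refine iSup_le fun r => ?_
        by_cases hr : r.1 = p
        · rw [hr]
        · haveI := Fact.mk r.2
          exact (Cfsg.Lib.Coprime.pCore_le_pPrimeCore hp.out hr).trans (hcore ▸ bot_le)
      haveI hVn : V.Normal := pCore_normal' p
      have hVP : V ≤ (P : Subgroup G) := Cfsg.Lib.Coprime.pCore_le_sylow p P
      -- `V` is elementary abelian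
      have hVfr : ∀ W : Subgroup G, W.Normal → W ≤ (frattini ↥(P : Subgroup G)).map (P : Subgroup G).subtype → W = ⊥ :=
        fun W hW hle => le_bot_iff.1 (hfrat ▸ Subgroup.normal_le_normalCore.2 hle)
      have hVab : ∀ u ∈ V, ∀ v ∈ V, u * v = v * u := by
        have h1 : ⁅V, V⁆ = ⊥ := hVfr _ inferInstance (commutator_le.2 fun u hu v hv =>
          ⟨⁅⟨u, hVP hu⟩, ⟨v, hVP hv⟩⁆,
            Cfsg.Lib.PGroups.commutator_le_frattini P.2 (commutator_mem_commutator (mem_top _) (mem_top _)), rfl⟩)
        exact fun u hu v hv => commutatorElement_eq_one_iff_mul_comm.1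
          (mem_bot.1 (h1 ▸ commutator_mem_commutator hu hv))
      have hVexp : ∀ v ∈ V, v ^ p = 1 := by
        have h1 : Subgroup.closure ((fun v => v ^ p) '' (V : Set G)) = ⊥ := by
          refine hVfr _ ?_ ((closure_le _).2 ?_)
          · refine ⟨fun y hy z => ?_⟩
            have h2 : Subgroup.closure ((fun v => v ^ p) '' (V : Set G)) ≤
                (Subgroup.closure ((fun v => v ^ p) '' (V : Set G))).comap (MulAut.conj z).toMonoidHom := (closure_le _).2 (by
              rintro _ ⟨v, hv, rfl⟩
              exact subset_closure ⟨z * v * z⁻¹, hVn.conj_mem v hv z, conj_pow⟩)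
            exact h2 hy
          · rintro _ ⟨v, hv, rfl⟩
            exact ⟨⟨v, hVP hv⟩ ^ p, Cfsg.Lib.PGroups.pow_mem_frattini P.2 _, rfl⟩
        exact fun v hv => mem_bot.1 (h1 ▸ subset_closure ⟨v, hv, rfl⟩)
      have hNV : N ≤ V := le_pCore hNp
      have hPsup : (P : Subgroup G) = N ⊔ zpowers (x : G) := by
        refine le_antisymm ?_ (sup_le hNP (zpowers_le.2 x.2))
        have h1 : (zpowers a ⊔ zpowers x).map (P : Subgroup G).subtype ≤ N ⊔ zpowers (x : G) := by
          rw [Subgroup.map_sup, MonoidHom.map_zpowers, MonoidHom.map_zpowers]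
          exact sup_le_sup_right (zpowers_le.2 haN) _
        rwa [hx, ← MonoidHom.range_eq_map, range_subtype] at h1
      have hVN : V ≤ N := by
        by_contra hVN
        obtain ⟨v, hv, hvN⟩ := Set.not_subset.1 hVN
        obtain ⟨n, hn, y, hy, hny⟩ := mem_sup_of_normal_left.1 (hPsup.le (hVP hv))
        have hyV : y ∈ V := by
          rw [show y = n⁻¹ * v by rw [← hny, inv_mul_cancel_left]]
          exact mul_mem (inv_mem (hNV hn)) hv
        have hyN : y ∉ N := fun h => hvN (hny ▸ mul_mem hn h)
        have hdis : zpowers (x : G) ⊓ N = ⊥ := by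
          rw [eq_bot_iff]
          intro w hw
          by_contra hw1
          rw [mem_bot] at hw1
          have hwo : orderOf w = p := orderOf_eq_prime (hVexp w (hNV hw.2)) hw1
          have hyo : orderOf y = p := orderOf_eq_prime (hVexp y hyV) fun e => hyN (e ▸ one_mem N)
          haveI : IsCyclic (zpowers (x : G)) := isCyclic_zpowers _
          haveI := Fintype.ofFinite (zpowers (x : G))
          set W : Finset (zpowers (x : G)) := Finset.univ.filter fun z => z ^ p = 1
          set W' : Finset (zpowers (x : G)) := Finset.univ.filter fun z => z ∈ zpowers (⟨w, hw.1⟩ : zpowers (x : G))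
          have hle' : W' ⊆ W := fun z hz => by
            obtain ⟨i, rfl⟩ := mem_zpowers_iff.1 (Finset.mem_filter.1 hz).2
            refine Finset.mem_filter.2 ⟨Finset.mem_univ _, Subtype.ext ?_⟩
            show (w ^ i) ^ p = 1
            rw [← zpow_natCast, ← zpow_mul, mul_comm, zpow_mul, zpow_natCast, hVexp w (hNV hw.2), one_zpow]
          have hW' : W'.card = p := by
            rw [← Fintype.card_subtype, ← Nat.card_eq_fintype_card]
            exact (Nat.card_zpowers _).trans ((Subgroup.orderOf_mk w hw.1).trans hwo)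
          have hWW : W' = W := Finset.eq_of_subset_of_card_le hle'
            (hW'.symm ▸ IsCyclic.card_pow_eq_one_le hp.out.pos)
          have hy' : (⟨y, hy⟩ : zpowers (x : G)) ∈ W' :=
            hWW.ge (Finset.mem_filter.2 ⟨Finset.mem_univ _, Subtype.ext (hVexp y hyV)⟩)
          obtain ⟨i, hi⟩ := mem_zpowers_iff.1 (Finset.mem_filter.1 hy').2
          exact hyN (by rw [show y = w ^ i from (congrArg Subtype.val hi).symm]; exact zpow_mem (show w ∈ N from hw.2) i)
        obtain ⟨k, hk⟩ := hNp.exists_card_eq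
        haveI : IsMulCommutative N := hab
        obtain ⟨H, hH⟩ := Cfsg.Lib.SolvStruct.exists_complement_averaging (K := N) hNP
          (by rw [hk]; exact Nat.Coprime.pow_left k (hp.out.coprime_iff_not_dvd.2 P.not_dvd_index))
          (zpowers (x : G)) (zpowers_le.2 x.2) hdis hPsup.symm
        have hsupNH : N ⊔ H = ⊤ := hH.sup_eq_top
        haveI hVH : (V ⊓ H).Normal := by
          refine normalizer_eq_top_iff.1 (top_le_iff.1 (hsupNH.ge.trans (sup_le ?_ ?_)))
          · exact fun n hn => mem_normalizer_fintype fun w hw => by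
              rw [hVab n (hNV hn) w hw.1, mul_inv_cancel_right]; exact hw
          · exact fun h hh => mem_normalizer_fintype fun w hw =>
              mem_inf.2 ⟨hVn.conj_mem w hw.1 h, H.mul_mem (H.mul_mem hh hw.2) (H.inv_mem hh)⟩
        have hne : V ⊓ H ≠ ⊥ := by
          intro e
          obtain ⟨n', hn', h', hh', hnh⟩ := mem_sup_of_normal_left.1 (hsupNH.ge (mem_top y))
          have h1 : h' ∈ V := by
            rw [show h' = n'⁻¹ * y by rw [← hnh, inv_mul_cancel_left]]
            exact mul_mem (inv_mem (hNV hn')) hyV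
          have h2 := e.le (mem_inf.2 ⟨h1, hh'⟩)
          rw [mem_bot] at h2
          exact hyN (by rw [← hnh, h2, mul_one]; exact hn')
        have hle := (hmin _ hVH hne).trans inf_le_right
        exact hN1 (le_bot_iff.1 (hH.disjoint le_rfl hle))
      exact sup_le (hE ▸ bot_le) (hFV.trans hVN)
    · -- `N` is not commutative
      have hC : centralizer (N : Set G) = ⊥ := by
        by_contra h
        have h1 := hmin _ inferInstance h
        exact hab ⟨⟨fun u v => Subtype.ext (mem_centralizer_iff.1 (h1 v.2) u u.2)⟩⟩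
      have hFit : Cfsg.fittingSubgroup G = ⊥ := by
        rw [fitting_eq_iSup_pCore, eq_bot_iff]
        refine iSup_le fun r => le_bot_iff.2 ?_
        by_contra h
        haveI := Fact.mk r.2
        have h1 : N ≤ Cfsg.pCore r.1 G := hmin _ (pCore_normal' r.1) h
        have h2 : IsPGroup r.1 N := (isPGroup_pCore r.1).to_le h1
        haveI := h2.isNilpotent
        haveI : Nontrivial N := (Subgroup.nontrivial_iff_ne_bot N).2 hN1
        have h3 : ⁅N, N⁆ < N := by
          refine lt_of_le_of_ne (commutator_le_self N) fun e => ?_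
          exact (Group.IsSolvable.commutator_lt_top_of_nontrivial N).ne (map_injective N.subtype_injective (by
            rw [map_subtype_commutator, e, ← MonoidHom.range_eq_map, range_subtype]))
        have h4 : ⁅N, N⁆ = ⊥ := by
          by_contra hne
          exact hNmin ⁅N, N⁆ ⟨inferInstance, hne⟩ h3
        exact hab ⟨⟨fun u v => Subtype.ext (commutatorElement_eq_one_iff_mul_comm.1
          (mem_bot.1 (h4 ▸ commutator_mem_commutator u.2 v.2)))⟩⟩
      have hcompN : ∀ K : Subgroup G, Cfsg.IsComponent K → K ≤ N := by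
        intro K hK
        refine (comp_le_or_commute hK hNn.isSubnormal).resolve_right fun h => ?_
        rw [commutator_eq_bot_iff_le_centralizer, hC] at h
        exact comp_ne_bot hK (le_bot_iff.1 h)
      have hEN : Cfsg.layer G ≤ N := sSup_le fun K hK => hcompN K hK
      have hFN : F ≤ N := sup_le hEN (hFit ▸ bot_le)
      refine ⟨hFN, fun _ K L hK hL => ?_⟩
      have hNE : N ≤ Cfsg.layer G := by
        refine hmin _ inferInstance fun e => hFne ?_
        rw [hF, Cfsg.generalizedFittingSubgroup, e, hFit, bot_sup_eq]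
      by_contra hno
      push Not at hno
      set O : Set (Subgroup G) := {J | ∃ y ∈ (P : Subgroup G), J = K.map (MulAut.conj y).toMonoidHom}
      set O' : Set (Subgroup G) := {J | Cfsg.IsComponent J ∧ J ∉ O}
      have hOcomp : ∀ J ∈ O, Cfsg.IsComponent J := by
        rintro _ ⟨y, -, rfl⟩; exact comp_conj hK y
      have hKO : K ∈ O := ⟨1, one_mem _, by ext z; simp⟩
      have hmm : ∀ (y z : G) (J : Subgroup G), (J.map (MulAut.conj y).toMonoidHom).map (MulAut.conj z).toMonoidHom =
          J.map (MulAut.conj (z * y)).toMonoidHom := fun y z J => by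
        rw [map_map]; congr 1; ext w; simp [mul_assoc]
      have hOinv : ∀ z ∈ (P : Subgroup G), ∀ J ∈ O, J.map (MulAut.conj z).toMonoidHom ∈ O := by
        rintro z hz _ ⟨y, hy, rfl⟩
        exact ⟨z * y, mul_mem hz hy, hmm y z K⟩
      have hO'inv : ∀ z ∈ (P : Subgroup G), ∀ J ∈ O', J.map (MulAut.conj z).toMonoidHom ∈ O' := by
        rintro z hz J ⟨hJ, hJO⟩
        refine ⟨comp_conj hJ z, fun h => hJO ?_⟩
        have := hOinv z⁻¹ (inv_mem hz) _ h
        rwa [hmm, inv_mul_cancel, show J.map (MulAut.conj (1 : G)).toMonoidHom = J by ext w; simp] at this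
      have hnorm : ∀ s : Set (Subgroup G), (∀ J ∈ s, Cfsg.IsComponent J) →
          (∀ z ∈ (P : Subgroup G), ∀ J ∈ s, J.map (MulAut.conj z).toMonoidHom ∈ s) →
          sSup s ≤ N ∧ N ≤ normalizer ((sSup s : Subgroup G) : Set G) ∧ (P : Subgroup G) ≤ normalizer ((sSup s : Subgroup G) : Set G) := by
        intro s hs hinv
        refine ⟨sSup_le fun J hJ => hcompN J (hs J hJ), fun z hz => mem_normalizer_fintype fun w hw => ?_,
          fun z hz => mem_normalizer_fintype fun w hw => ?_⟩
        · have h1 : sSup s ≤ (sSup s).comap (MulAut.conj z).toMonoidHom := sSup_le fun J hJ w hw =>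
            le_sSup hJ ((mem_normalizer_iff.1 (comp_normal_in_layer (hs J hJ) (hNE hz)) w).1 hw)
          exact h1 hw
        · have h1 : sSup s ≤ (sSup s).comap (MulAut.conj z).toMonoidHom := sSup_le fun J hJ w hw =>
            le_sSup (hinv z hz J hJ) ⟨w, hw, rfl⟩
          exact h1 hw
      obtain ⟨hAN, hNA, hPA⟩ := hnorm O hOcomp hOinv
      obtain ⟨hBN, hNB, hPB⟩ := hnorm O' (fun J hJ => hJ.1) hO'inv
      have hLO' : L ∈ O' := ⟨hL, fun ⟨y, hy, h⟩ => hno y hy h⟩
      have hnp : ∀ (s : Set (Subgroup G)) (J : Subgroup G), J ∈ s → Cfsg.IsComponent J → ¬ IsPGroup p ↥(sSup s) := by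
        intro s J hJ hJc h
        haveI := (h.to_le (le_sSup hJ)).isNilpotent
        exact comp_not_isSolvable hJc inferInstance
      have hex : ∀ (A : Subgroup G), A ≤ N → N ≤ normalizer (A : Set G) → (P : Subgroup G) ≤ normalizer (A : Set G) →
          ¬ IsPGroup p A → ∃ a : (P : Subgroup G), (a : G) ∈ A ∧ a ∉ frattini ↥(P : Subgroup G) := by
        intro A h1 h2 h3 h4
        by_contra hn
        push Not at hn
        exact h4 (isPGroup_of_inf_le P hcore N A h1 h2 h3 fun w hw => ⟨⟨w, hw.2⟩, hn ⟨w, hw.2⟩ hw.1, rfl⟩)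
      obtain ⟨u, huA, hu⟩ := hex _ hAN hNA hPA (hnp O K hKO hK)
      obtain ⟨v, hvB, hv⟩ := hex _ hBN hNB hPB (hnp O' L hLO' hL)
      haveI : ((sSup O).subgroupOf (P : Subgroup G)).Normal := normal_subgroupOf_of_le_normalizer hPA
      haveI : ((sSup O').subgroupOf (P : Subgroup G)).Normal := normal_subgroupOf_of_le_normalizer hPB
      refine false_of_two_normal P.2 hna hgen ((sSup O).subgroupOf P) ((sSup O').subgroupOf P) ?_ u v huA hvB hu hv
      rw [eq_bot_iff]
      intro w hw
      have h1 : sSup O' ≤ centralizer ((sSup O : Subgroup G) : Set G) := sSup_le fun J hJ => by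
        rw [le_centralizer_iff]
        refine sSup_le fun I hI => ?_
        rw [← commutator_eq_bot_iff_le_centralizer]
        exact comp_commute (hOcomp I hI) hJ.1 fun e => hJ.2 (e ▸ hI)
      have hNsup : N ≤ centralizer ({(w : G)} : Set G) := by
        refine hNE.trans (sSup_le fun J hJ z hz => mem_centralizer_singleton_iff.2 ?_)
        by_cases hJO : J ∈ O
        · exact mem_centralizer_iff.1 (h1 hw.2) z (le_sSup hJO hz)
        · exact (mem_centralizer_iff.1 (h1 ((le_sSup (show J ∈ O' from ⟨hJ, hJO⟩) : J ≤ sSup O') hz)) (w : G) hw.1).symm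
      have h2 : (w : G) ∈ centralizer (N : Set G) :=
        mem_centralizer_iff.2 fun z hz => mem_centralizer_singleton_iff.1 (hNsup hz)
      rw [hC, mem_bot] at h2
      exact mem_bot.2 (Subtype.ext h2)
  obtain ⟨hFN, htrans⟩ := hFsmall
  have hFeq : F = N := le_antisymm hFN (hmin F hFn hFne)
  refine ⟨⟨hFne, fun K hK hK1 => hFN.trans (hmin K hK hK1)⟩, ?_, fun h => htrans (fun h' => h (by rw [show Cfsg.generalizedFittingSubgroup G = N from hFeq]; exact h'))⟩
  set π := QuotientGroup.mk' F
  have hmap : (P : Subgroup G).map π = zpowers (π x) := by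
    have h1 : (P : Subgroup G) = (zpowers a ⊔ zpowers x).map (P : Subgroup G).subtype := by
      rw [hx, ← MonoidHom.range_eq_map, range_subtype]
    have h2 : π a = 1 := (QuotientGroup.eq_one_iff _).2 (hFeq ▸ haN)
    rw [show (P : Subgroup G).map π = ((zpowers a ⊔ zpowers x).map (P : Subgroup G).subtype).map π from
        congrArg (Subgroup.map π) h1, Subgroup.map_sup, Subgroup.map_sup, MonoidHom.map_zpowers, MonoidHom.map_zpowers,
      MonoidHom.map_zpowers, MonoidHom.map_zpowers]
    show zpowers (π a) ⊔ zpowers (π x) = zpowers (π x)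
    rw [h2, zpowers_one_eq_bot, bot_sup_eq]
  rw [hmap]
  exact isCyclic_zpowers _

end Cfsg.Lib.TwoGeneratedSylow
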