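/-
The subgroup generated by the elements fixing a nonzero vector.
-/
import Mathlib

set_option linter.style.haveILetI false
set_option linter.unusedSectionVars false

namespace Cfsg.Lib.SolvStruct

open Module

variable {F V : Type*} [Field F] [Fintype F] [AddCommGroup V] [Module F V] [FiniteDimensional F V]

theorem index_fixed_le (H : Subgroup (V ≃ₗ[F] V)) (W : Submodule F V) (hW : ∀ h ∈ H, ∀ w ∈ W, h w ∈ W)
    {v : V} (hv : v ∉ W) :
    (Subgroup.closure {h : ↥H | ∃ v : V, v ≠ 0 ∧ (h : V ≃ₗ[F] V) v = v}).index ≤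
      Fintype.card F ^ finrank F (V ⧸ W) - 1 := by
  classical
  haveI : Finite V := Module.finite_of_finite F
  haveI : Finite (V ⧸ W) := Module.finite_of_finite F
  haveI : Finite (V ≃ₗ[F] V) := Finite.of_injective (fun e => (e : V → V)) DFunLike.coe_injective
  set R := Subgroup.closure {h : ↥H | ∃ v : V, v ≠ 0 ∧ (h : V ≃ₗ[F] V) v = v}
  let K : Subgroup ↥H :=
    { carrier := {h | (h : V ≃ₗ[F] V) v - v ∈ W}
      one_mem' := by simp
      mul_mem' := fun {a b} ha hb => by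
        show ((a : V ≃ₗ[F] V) * (b : V ≃ₗ[F] V)) v - v ∈ W
        rw [LinearEquiv.mul_apply, show (a : V ≃ₗ[F] V) ((b : V ≃ₗ[F] V) v) - v =
          (a : V ≃ₗ[F] V) ((b : V ≃ₗ[F] V) v - v) + ((a : V ≃ₗ[F] V) v - v) by rw [map_sub]; abel]
        exact add_mem (hW _ a.2 _ hb) ha
      inv_mem' := fun {a} ha => by
        show (a : V ≃ₗ[F] V)⁻¹ v - v ∈ W
        have h1 := W.neg_mem (hW _ (inv_mem a.2) _ ha)
        rwa [map_sub, show (a : V ≃ₗ[F] V)⁻¹ ((a : V ≃ₗ[F] V) v) = v from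
          LinearEquiv.symm_apply_apply _ v, neg_sub] at h1 }
  have hKR : K ≤ R := by
    intro h hh
    refine Subgroup.subset_closure ?_
    by_contra hno
    have hinj : ∀ u : V, (h : V ≃ₗ[F] V) u = u → u = 0 := fun u hu =>
      by_contra fun h0 => hno ⟨u, h0, hu⟩
    let f : W → W := fun w => ⟨(h : V ≃ₗ[F] V) w - w, sub_mem (hW _ h.2 _ w.2) w.2⟩
    have hf : Function.Injective f := fun a b e => by
      have e' : (h : V ≃ₗ[F] V) a - a = (h : V ≃ₗ[F] V) b - b := congrArg Subtype.val e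
      refine Subtype.ext (sub_eq_zero.1 (hinj _ ?_))
      rw [map_sub]
      exact sub_eq_sub_iff_sub_eq_sub.1 e'
    obtain ⟨w, hw⟩ := Finite.injective_iff_surjective.1 hf ⟨_, hh⟩
    have e' : (h : V ≃ₗ[F] V) w - w = (h : V ≃ₗ[F] V) v - v := congrArg Subtype.val hw
    have h1 : v - (w : V) = 0 := hinj _ (by rw [map_sub]; exact sub_eq_sub_iff_sub_eq_sub.1 e'.symm)
    exact hv (sub_eq_zero.1 h1 ▸ w.2)
  have h1 : R.index ≤ K.index :=
    Nat.le_of_dvd (Nat.pos_of_ne_zero Subgroup.index_ne_zero_of_finite) (Subgroup.index_dvd_of_le hKR)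
  refine h1.trans ?_
  let f : ↥H ⧸ K → {u : V ⧸ W // u ≠ 0} := fun x =>
    ⟨Submodule.Quotient.mk ((x.out : V ≃ₗ[F] V) v), fun e => by
      rw [Submodule.Quotient.mk_eq_zero] at e
      refine hv ?_
      have := hW _ (inv_mem x.out.2) _ e
      rwa [show (x.out : V ≃ₗ[F] V)⁻¹ ((x.out : V ≃ₗ[F] V) v) = v from
          LinearEquiv.symm_apply_apply _ v] at this⟩
  have hf : Function.Injective f := by
    intro x y e
    have e' : ((x.out : V ≃ₗ[F] V) v) - ((y.out : V ≃ₗ[F] V) v) ∈ W :=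
      (Submodule.Quotient.eq W).1 (congrArg Subtype.val e)
    rw [← QuotientGroup.out_eq' x, ← QuotientGroup.out_eq' y]
    refine (QuotientGroup.eq.2 ?_).symm
    show ((y.out : V ≃ₗ[F] V)⁻¹ * (x.out : V ≃ₗ[F] V)) v - v ∈ W
    have h2 := hW _ (inv_mem y.out.2) _ e'
    rwa [map_sub, show (y.out : V ≃ₗ[F] V)⁻¹ ((y.out : V ≃ₗ[F] V) v) = v from
        LinearEquiv.symm_apply_apply _ v] at h2
  haveI : Fintype (V ⧸ W) := Fintype.ofFinite _
  calc K.index = Nat.card (↥H ⧸ K) := Subgroup.index_eq_card K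
    _ ≤ Nat.card {u : V ⧸ W // u ≠ 0} := Nat.card_le_card_of_injective f hf
    _ = _ := by
      rw [Nat.card_eq_fintype_card, Fintype.card_subtype_compl, Fintype.card_subtype_eq,
        Module.card_eq_pow_finrank (K := F)]

theorem index_fixed_le_of_mem (H : Subgroup (V ≃ₗ[F] V)) (W : Submodule F V)
    (hW : ∀ h ∈ H, ∀ w ∈ W, h w ∈ W) {v : V} (hv : v ∈ W) (hv0 : v ≠ 0) :
    (Subgroup.closure {h : ↥H | ∃ v : V, v ≠ 0 ∧ (h : V ≃ₗ[F] V) v = v}).index ≤
      Fintype.card F ^ finrank F W - 1 := by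
  classical
  haveI : Finite V := Module.finite_of_finite F
  haveI : Finite (V ≃ₗ[F] V) := Finite.of_injective (fun e => (e : V → V)) DFunLike.coe_injective
  haveI : Fintype W := Fintype.ofFinite _
  set R := Subgroup.closure {h : ↥H | ∃ v : V, v ≠ 0 ∧ (h : V ≃ₗ[F] V) v = v}
  let f : ↥H ⧸ R → {u : W // u ≠ 0} := fun x =>
    ⟨⟨(x.out : V ≃ₗ[F] V) v, hW _ x.out.2 _ hv⟩, fun e => by
      refine hv0 ((x.out : V ≃ₗ[F] V).map_eq_zero_iff.1 ?_)
      exact congrArg Subtype.val e⟩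
  have hf : Function.Injective f := by
    intro x y e
    have e' : (x.out : V ≃ₗ[F] V) v = (y.out : V ≃ₗ[F] V) v :=
      congrArg (fun u : {u : W // u ≠ 0} => ((u : W) : V)) e
    rw [← QuotientGroup.out_eq' x, ← QuotientGroup.out_eq' y]
    refine (QuotientGroup.eq.2 ?_).symm
    refine Subgroup.subset_closure ⟨v, hv0, ?_⟩
    show ((y.out : V ≃ₗ[F] V)⁻¹ * (x.out : V ≃ₗ[F] V)) v = v
    rw [LinearEquiv.mul_apply, e']
    exact LinearEquiv.symm_apply_apply _ v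
  calc R.index = Nat.card (↥H ⧸ R) := Subgroup.index_eq_card R
    _ ≤ Nat.card {u : W // u ≠ 0} := Nat.card_le_card_of_injective f hf
    _ = _ := by
      rw [Nat.card_eq_fintype_card, Fintype.card_subtype_compl, Fintype.card_subtype_eq,
        Module.card_eq_pow_finrank (K := F)]

theorem index_fixed_bounds [Nontrivial V] (H : Subgroup (V ≃ₗ[F] V)) :
    (Subgroup.closure {h : ↥H | ∃ v : V, v ≠ 0 ∧ (h : V ≃ₗ[F] V) v = v}).index ≤
        Fintype.card F ^ finrank F V - 1 ∧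
    ((∃ W : Submodule F V, W ≠ ⊥ ∧ W ≠ ⊤ ∧ ∀ h ∈ H, ∀ w ∈ W, h w ∈ W) →
      ((Subgroup.closure {h : ↥H | ∃ v : V, v ≠ 0 ∧ (h : V ≃ₗ[F] V) v = v}).index : ℝ) ≤
        Real.sqrt ((Fintype.card F : ℝ) ^ finrank F V) - 1) := by
  refine ⟨?_, ?_⟩
  · obtain ⟨v, hv⟩ := exists_ne (0 : V)
    have := index_fixed_le_of_mem H ⊤ (fun h _ w _ => Submodule.mem_top) (v := v) Submodule.mem_top hv
    rwa [finrank_top] at this
  · rintro ⟨W, hWb, hWt, hW⟩
    have hq : 1 ≤ Fintype.card F := Fintype.card_pos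
    obtain ⟨k, hk2, hkle⟩ : ∃ k, 2 * k ≤ finrank F V ∧
        (Subgroup.closure {h : ↥H | ∃ v : V, v ≠ 0 ∧ (h : V ≃ₗ[F] V) v = v}).index ≤
          Fintype.card F ^ k - 1 := by
      have hd := W.finrank_quotient_add_finrank
      by_cases h2 : 2 * finrank F W ≤ finrank F V
      · obtain ⟨v, hv, hv0⟩ := W.exists_mem_ne_zero_of_ne_bot hWb
        exact ⟨_, h2, index_fixed_le_of_mem H W hW hv hv0⟩
      · obtain ⟨v, -, hv⟩ := SetLike.exists_of_lt hWt.lt_top
        exact ⟨_, by omega, index_fixed_le H W hW hv⟩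
    have h1 : ((Fintype.card F ^ k - 1 : ℕ) : ℝ) ≤ Real.sqrt ((Fintype.card F : ℝ) ^ finrank F V) - 1 := by
      rw [Nat.cast_sub (Nat.one_le_pow _ _ hq), Nat.cast_one, Nat.cast_pow, sub_le_sub_iff_right]
      refine Real.le_sqrt_of_sq_le ?_
      rw [← pow_mul]
      exact pow_le_pow_right₀ (by exact_mod_cast hq) (by omega)
    exact le_trans (by exact_mod_cast hkle) h1

end Cfsg.Lib.SolvStruct
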