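/-
The elements of p-power order of a group generated by them need more than p proper subgroups to cover.
-/
import Mathlib

set_option linter.style.haveILetI false
set_option linter.unusedSectionVars false

namespace Cfsg.Lib.SolvStruct.PElementCover

open Subgroup

variable {G : Type*} [Group G] [Finite G]

theorem conj_pow_prime_fix {p : ℕ} [hp : Fact p.Prime] {y : G} (hy : ∃ k : ℕ, orderOf y = p ^ k) {M : Subgroup G}
    {d : ℕ} (hd : 0 < d) (hdp : d < p) (h : y ^ d ∈ normalizer (M : Set G)) : y ∈ normalizer (M : Set G) := by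
  obtain ⟨k, hk⟩ := hy
  have hc : d.Coprime (orderOf y) := by
    rw [hk]
    refine Nat.Coprime.pow_right k ((Nat.coprime_comm).1 ((hp.out.coprime_iff_not_dvd).2 fun hh => ?_))
    exact absurd (Nat.le_of_dvd hd hh) (by omega)
  obtain ⟨m, hm⟩ := exists_pow_eq_self_of_coprime hc
  rw [← hm]
  exact pow_mem h m

theorem exists_le (p : ℕ) [hp : Fact p.Prime] {ι : Type*} [Fintype ι] (K : ι → Subgroup G)
    (hcard : Fintype.card ι ≤ p) (hcov : ∀ g : G, (∃ k : ℕ, orderOf g = p ^ k) → ∃ i, g ∈ K i) :
    ∀ (n : ℕ) (L : Subgroup G), Nat.card L ≤ n →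
      closure {g : G | g ∈ L ∧ ∃ k : ℕ, orderOf g = p ^ k} = L → ∃ i, L ≤ K i := by
  classical
  intro n
  induction n with
  | zero => intro L h; exact absurd h (by have := Nat.card_pos (α := L); omega)
  | succ n ih =>
    intro L hn hgen
    by_contra hno
    push Not at hno
    haveI := Fintype.ofFinite G
    obtain ⟨P⟩ := (inferInstance : Nonempty (Sylow p L))
    set S : Subgroup G := (P : Subgroup L).map L.subtype with hS
    have hSL : S ≤ L := map_subtype_le _
    have hSp : IsPGroup p S := P.isPGroup'.map _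
    have hpel : ∀ g ∈ S, ∃ k : ℕ, orderOf g = p ^ k := fun g hg => by
      obtain ⟨k, hk⟩ := IsPGroup.iff_orderOf.1 hSp ⟨g, hg⟩
      exact ⟨k, by rwa [Subgroup.orderOf_mk] at hk⟩
    -- `L` is not a `p`-group
    have hne : S ≠ L := by
      intro e
      have hcov' : ∀ g ∈ L, ∃ i, g ∈ K i := fun g hg => hcov g (hpel g (e.symm ▸ hg))
      have hlt : ∀ i, p * Nat.card (K i ⊓ L : Subgroup G) ≤ Nat.card L := fun i => by
        obtain ⟨a, ha⟩ := IsPGroup.iff_card.1 (e ▸ hSp)
        obtain ⟨b, hb⟩ := IsPGroup.iff_card.1 ((e ▸ hSp : IsPGroup p L).to_le (inf_le_right : K i ⊓ L ≤ L))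
        have h1 : Nat.card (K i ⊓ L : Subgroup G) < Nat.card L := by
          refine lt_of_le_of_ne (Nat.le_of_dvd Nat.card_pos (card_dvd_of_le inf_le_right)) fun hh => ?_
          exact hno i (inf_eq_right.1 (eq_of_le_of_card_ge inf_le_right hh.ge))
        rw [ha, hb] at h1 ⊢
        rw [← pow_succ']
        exact Nat.pow_le_pow_right hp.out.pos ((Nat.pow_lt_pow_iff_right hp.out.one_lt).1 h1)
      let T : Finset G := Finset.univ.filter (fun g => g ∈ L ∧ g ≠ 1)
      let U : ι → Finset G := fun i => Finset.univ.filter (fun g => g ∈ K i ⊓ L ∧ g ≠ 1)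
      have hT : T ⊆ Finset.univ.biUnion U := fun g hg => by
        simp only [T, Finset.mem_filter] at hg
        obtain ⟨i, hi⟩ := hcov' g hg.2.1
        exact Finset.mem_biUnion.2 ⟨i, Finset.mem_univ _, by simp [U, hi, hg.2.1, hg.2.2]⟩
      have hc : ∀ H : Subgroup G, (Finset.univ.filter (fun g => g ∈ H ∧ g ≠ 1)).card + 1 = Nat.card H := by
        intro H
        have h1 : Finset.univ.filter (fun g => g ∈ H ∧ g ≠ 1) = (Finset.univ.filter (fun g => g ∈ H)).erase 1 := by
          ext g
          simp [and_comm]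
        rw [h1, Finset.card_erase_add_one (by simp), Nat.card_eq_fintype_card, Fintype.card_subtype]
      have h1 : T.card * p ≤ (∑ i : ι, (U i).card) * p :=
        Nat.mul_le_mul_right p ((Finset.card_le_card hT).trans Finset.card_biUnion_le)
      have h2 : ∀ i : ι, (U i).card * p ≤ Nat.card L - p := fun i => by
        have h3 : (U i).card + 1 = Nat.card (K i ⊓ L : Subgroup G) := hc _
        have := hlt i
        rw [← h3, mul_add, mul_one, mul_comm] at this
        omega
      have h4 : (∑ i : ι, (U i).card) * p ≤ p * (Nat.card L - p) := by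
        rw [Finset.sum_mul]
        refine (Finset.sum_le_sum fun i _ => h2 i).trans ?_
        rw [Finset.sum_const, smul_eq_mul, Finset.card_univ]
        exact Nat.mul_le_mul_right _ hcard
      have h5 : T.card + 1 = Nat.card L := hc L
      have h6 : T.card ≤ Nat.card L - p := Nat.le_of_mul_le_mul_right
        (((h1.trans h4).trans (mul_comm _ _).le)) hp.out.pos
      obtain ⟨i, hi⟩ := hcov 1 ⟨0, by simp⟩
      have := hlt i
      have h7 : 1 ≤ Nat.card (K i ⊓ L : Subgroup G) := Nat.card_pos
      have h8 : p ≤ Nat.card L := le_trans (by nlinarith) this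
      have := hp.out.one_lt
      omega
    -- the family of maximal proper subgroups generated by p-elements
    let Q : Subgroup G → Prop := fun M =>
      M < L ∧ closure {g : G | g ∈ M ∧ ∃ k : ℕ, orderOf g = p ^ k} = M
    let F := {M : Subgroup G // Maximal Q M}
    have hup : ∀ M, Q M → ∃ M' : F, M ≤ M'.1 := fun M hM => by
      obtain ⟨M', hle, hmax⟩ := Set.Finite.exists_le_maximal (Set.toFinite {M | Q M}) hM
      exact ⟨⟨M', hmax⟩, hle⟩
    have hin : ∀ M : F, ∃ i, M.1 ≤ K i := fun M =>
      ih M.1 (by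
        have h1 := M.2.1.1
        have h2 : Nat.card M.1 < Nat.card L := lt_of_le_of_ne
          (Nat.le_of_dvd Nat.card_pos (card_dvd_of_le h1.le)) fun e => h1.ne (eq_of_le_of_card_ge h1.le e.ge)
        omega) M.2.1.2
    choose f hf using hin
    have hfinj : Function.Injective f := by
      intro M N e
      set J := M.1 ⊔ N.1
      have hJL : J ≤ L := sup_le M.2.1.1.le N.2.1.1.le
      have hJQ : Q J := by
        refine ⟨lt_of_le_of_ne hJL fun hh => hno (f M) (hh ▸ sup_le (hf M) (e ▸ hf N)), le_antisymm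
          ((closure_le _).2 fun g hg => hg.1) (sup_le ?_ ?_)⟩
        · conv_lhs => rw [← M.2.1.2]
          exact closure_mono fun g hg => ⟨mem_sup_left hg.1, hg.2⟩
        · conv_lhs => rw [← N.2.1.2]
          exact closure_mono fun g hg => ⟨mem_sup_right hg.1, hg.2⟩
      exact Subtype.ext ((le_antisymm le_sup_left (M.2.2 hJQ le_sup_left)).trans
        (le_antisymm le_sup_right (N.2.2 hJQ le_sup_right)).symm)
    have hSQ : Q S := ⟨lt_of_le_of_ne hSL hne, le_antisymm ((closure_le _).2 fun g hg => hg.1)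
      fun g hg => subset_closure ⟨hg, hpel g hg⟩⟩
    obtain ⟨M₀, hM₀⟩ := hup S hSQ
    -- some p-element moves `M₀`
    obtain ⟨y, hyL, hy, hyn⟩ : ∃ y ∈ L, (∃ k : ℕ, orderOf y = p ^ k) ∧ y ∉ normalizer (M₀.1 : Set G) := by
      by_contra hall
      push Not at hall
      have hLn : L ≤ normalizer (M₀.1 : Set G) := by
        conv_lhs => rw [← hgen]
        exact (closure_le _).2 fun g hg => hall g hg.1 hg.2
      refine M₀.2.1.1.ne (le_antisymm M₀.2.1.1.le ?_)
      conv_lhs => rw [← hgen]
      refine (closure_le _).2 fun g hg => ?_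
      have hgp : IsPGroup p (zpowers (⟨g, hg.1⟩ : L)) := by
        refine IsPGroup.of_card (n := hg.2.choose) ?_
        rw [Nat.card_zpowers, Subgroup.orderOf_mk]
        exact hg.2.choose_spec
      obtain ⟨R, hR⟩ := hgp.exists_le_sylow
      obtain ⟨t, ht⟩ := MulAction.exists_smul_eq L P R
      have hgR := hR (mem_zpowers _)
      rw [← ht] at hgR
      obtain ⟨s, hs, e⟩ := hgR
      have hsM : (s : G) ∈ M₀.1 := hM₀ ⟨s, hs, rfl⟩
      have e' : (t : G) * s * (t : G)⁻¹ = g := congrArg Subtype.val e
      rw [← e']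
      exact (Subgroup.mem_normalizer_iff.1 (hLn t.2) s).1 hsM
    -- its orbit
    have hQc : ∀ (z : G), z ∈ L → ∀ M : F, Maximal Q (M.1.map (MulAut.conj z).toMonoidHom) := by
      intro z hz M
      have hLz : ∀ w ∈ L, L.map (MulAut.conj w).toMonoidHom = L := fun w hw =>
        Subgroup.mem_normalizer_iff_map_conj_eq.1 (le_normalizer hw)
      have hQmap : ∀ w ∈ L, ∀ N, Q N → Q (N.map (MulAut.conj w).toMonoidHom) := by
        intro w hw N hN
        refine ⟨?_, le_antisymm ((closure_le _).2 fun g hg => hg.1) ?_⟩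
        · refine lt_of_le_of_ne ((Subgroup.map_mono hN.1.le).trans (hLz w hw).le) fun e => hN.1.ne ?_
          exact Subgroup.map_injective (f := (MulAut.conj w).toMonoidHom) (MulAut.conj w).injective
            (e.trans (hLz w hw).symm)
        · conv_lhs => rw [← hN.2]
          rw [MonoidHom.map_closure]
          refine closure_mono ?_
          rintro _ ⟨g, hg, rfl⟩
          refine ⟨⟨g, hg.1, rfl⟩, hg.2.choose, ?_⟩
          exact (orderOf_injective (MulAut.conj w).toMonoidHom (MulAut.conj w).injective g).trans hg.2.choose_spec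
      refine ⟨hQmap z hz _ M.2.1, fun N hN hle => ?_⟩
      have h1 := M.2.2 (hQmap z⁻¹ (inv_mem hz) N hN) (fun x hx => ⟨_, hle ⟨x, hx, rfl⟩, by simp [mul_assoc]⟩)
      intro x hx
      exact ⟨z⁻¹ * x * z, h1 ⟨x, hx, by simp⟩, by simp [mul_assoc]⟩
    let orb : Fin p → F := fun k => ⟨_, hQc (y ^ (k : ℕ)) (pow_mem hyL _) M₀⟩
    obtain ⟨My, hMy⟩ := hup (zpowers y) ⟨lt_of_le_of_ne (zpowers_le.2 hyL) fun e => by
        obtain ⟨i, hi⟩ := hcov y hy
        exact hno i (e ▸ zpowers_le.2 hi),
      le_antisymm ((closure_le _).2 fun g hg => hg.1) (zpowers_le.2 (subset_closure ⟨mem_zpowers y, hy⟩))⟩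
    have horb : Function.Injective orb := by
      intro a b e
      by_contra hne'
      wlog hab : (a : ℕ) < b generalizing a b
      · exact this e.symm (Ne.symm hne') (lt_of_le_of_ne (not_lt.1 hab) fun hh => hne' (Fin.ext hh.symm))
      refine hyn (conj_pow_prime_fix hy (d := b - a) (by omega) (by omega) ?_)
      refine Subgroup.mem_normalizer_iff_map_conj_eq.2 ?_
      show Subgroup.map (MulAut.conj (y ^ ((b : ℕ) - a))).toMonoidHom M₀.1 = M₀.1
      refine Subgroup.map_injective (f := (MulAut.conj (y ^ (a : ℕ))).toMonoidHom) (MulAut.conj _).injective ?_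
      rw [Subgroup.map_map]
      have h3 : (MulAut.conj (y ^ (a : ℕ))).toMonoidHom.comp (MulAut.conj (y ^ ((b : ℕ) - a))).toMonoidHom
          = (MulAut.conj (y ^ (b : ℕ))).toMonoidHom := by
        conv_rhs => rw [show (b : ℕ) = a + (b - a) by omega, pow_add, map_mul]
        rfl
      rw [h3]
      exact (congrArg Subtype.val e).symm
    have hnot : ∀ k, orb k ≠ My := by
      intro k e
      have hyMy : y ^ (k : ℕ) ∈ normalizer (My.1 : Set G) := pow_mem (le_normalizer (hMy (mem_zpowers y))) _
      have h1 : M₀.1 = My.1 := Subgroup.map_injective (f := (MulAut.conj (y ^ (k : ℕ))).toMonoidHom)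
        (MulAut.conj _).injective ((congrArg Subtype.val e).trans (Subgroup.mem_normalizer_iff_map_conj_eq.1 hyMy).symm)
      exact hyn (h1 ▸ le_normalizer (hMy (mem_zpowers y)))
    have hbig : p < Fintype.card F := by
      have := Fintype.card_lt_of_injective_not_surjective orb horb fun hs => by
        obtain ⟨k, hk⟩ := hs My
        exact hnot k hk
      rwa [Fintype.card_fin] at this
    have := Fintype.card_le_of_injective f hfinj
    omega

end Cfsg.Lib.SolvStruct.PElementCover
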