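/-
`|P : Φ(P)| < |N|` for a `2`-group `P` acting faithfully on an elementary abelian group `N` of odd order.
-/
import Cfsg.Agent.SolvStruct.TwoGroupLinearRank

set_option autoImplicit false
set_option linter.unusedSectionVars false
set_option linter.style.haveILetI false

namespace Cfsg.Lib.SolvStruct.TwoRank

open Subgroup Module

universe u

theorem base_three {F : Type*} [Field F] [Fintype F] (hF : Fintype.card F = 3) {V : Type u} [AddCommGroup V] [Module F V]
    [FiniteDimensional F V] (hV : finrank F V = 2) {G : Type u} [Group G] [Finite G] (hG : IsPGroup 2 G)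
    (ρ : G →* (V ≃ₗ[F] V)) (hρ : Function.Injective ρ) : (frattini G).index ≤ 4 := by
  classical
  haveI := Fact.mk Nat.prime_two
  let b := Module.finBasisOfFinrankEq F V hV
  let e : (V ≃ₗ[F] V) ≃* GL (Fin 2) F :=
    (LinearMap.GeneralLinearGroup.generalLinearEquiv F V).symm.trans
      (Units.mapEquiv (LinearMap.toMatrixAlgEquiv b).toMulEquiv)
  let f : G →* GL (Fin 2) F := e.toMonoidHom.comp ρ
  have hf : Function.Injective f := e.injective.comp hρ
  have hc : Nat.card (GL (Fin 2) F) = 48 := by
    rw [Matrix.card_GL_field, hF, Fin.prod_univ_two]; rfl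
  obtain ⟨k, hk⟩ := IsPGroup.iff_card.1 hG
  have hfc : Nat.card f.range = 2 ^ k := (Nat.card_congr (MonoidHom.ofInjective hf).toEquiv).symm.trans hk
  have hd : 2 ^ k ∣ 48 := by
    rw [← hc, ← hfc]
    exact card_subgroup_dvd_card _
  have hk4 : k ≤ 4 := by
    by_contra hlt
    have h32 : (2 : ℕ) ^ 5 ∣ 48 := (pow_dvd_pow 2 (by omega)).trans hd
    norm_num at h32
  have hidx := (frattini G).card_mul_index
  rw [hk] at hidx
  by_contra hgt
  obtain ⟨i, -, hi⟩ := (Nat.dvd_prime_pow Nat.prime_two).1 (show (frattini G).index ∣ 2 ^ k from hk ▸ index_dvd_card _)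
  have hi3 : 3 ≤ i := by
    by_contra hlt
    have := Nat.pow_le_pow_right (show 0 < 2 by norm_num) (show i ≤ 2 by omega)
    omega
  have h3F : (3 : F) = 0 := by
    have h0 : ((3 : ℕ) : F) = 0 := by rw [← hF]; exact Nat.cast_card_eq_zero F
    exact_mod_cast h0
  rcases (show k = 3 ∨ k = 4 by
    have := Nat.le_of_dvd (by positivity) (hi ▸ (hk ▸ index_dvd_card (frattini G) : (frattini G).index ∣ 2 ^ k))
    have := (Nat.pow_le_pow_iff_right (by norm_num : 1 < 2)).1 this
    omega) with rfl | rfl
  · have hi' : i = 3 := by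
      have h1 := Nat.le_of_dvd (by norm_num) (hi ▸ (hk ▸ index_dvd_card (frattini G) : (frattini G).index ∣ 2 ^ 3))
      have := (Nat.pow_le_pow_iff_right (by norm_num : 1 < 2)).1 h1
      omega
    subst hi'
    have hbot : frattini G = ⊥ := card_eq_one.1 (by rw [hi] at hidx; omega)
    have hsq : ∀ a : G, a * a = 1 := fun a => by
      have := sq_mem hG a
      rwa [hbot, Subgroup.mem_bot] at this
    let d : G →* Fˣ := (Matrix.GeneralLinearGroup.det).comp f
    have h1 := d.ker.card_mul_index
    rw [index_ker, hk] at h1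
    have h2 : Nat.card d.range ≤ 2 := by
      refine (Nat.card_le_card_of_injective _ Subtype.val_injective).trans (le_of_eq ?_)
      rw [Nat.card_units, Nat.card_eq_fintype_card, hF]
    have h4 : Nat.card d.ker ≤ 2 := by
      have key : ∀ a : d.ker, ∃ c : F, c * c = 1 ∧ ((f a : GL (Fin 2) F) : Matrix (Fin 2) (Fin 2) F) = c • 1 := by
        intro a
        set M := ((f a : GL (Fin 2) F) : Matrix (Fin 2) (Fin 2) F) with hM
        have hdet : M.det = 1 := by
          have := congrArg Units.val (MonoidHom.mem_ker.1 a.2)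
          exact this
        have hMM : M * M = 1 := by
          rw [hM, ← Units.val_mul, ← map_mul, hsq, map_one]; rfl
        have hadj : M = M.adjugate := by
          calc M = M * (M * M.adjugate) := by rw [Matrix.mul_adjugate, hdet, one_smul, Matrix.mul_one]
            _ = M.adjugate := by rw [← Matrix.mul_assoc, hMM, Matrix.one_mul]
        rw [Matrix.adjugate_fin_two] at hadj
        have e00 := congrFun (congrFun hadj 0) 0
        have e01 := congrFun (congrFun hadj 0) 1
        have e10 := congrFun (congrFun hadj 1) 0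
        simp at e00 e01 e10
        have h2ne : (2 : F) ≠ 0 := fun h => by
          have : (1 : F) = 0 := by linear_combination h3F - h
          exact one_ne_zero this
        have z01 : M 0 1 = 0 := by
          have : (2 : F) * M 0 1 = 0 := by linear_combination e01
          exact (mul_eq_zero.1 this).resolve_left h2ne
        have z10 : M 1 0 = 0 := by
          have : (2 : F) * M 1 0 = 0 := by linear_combination e10
          exact (mul_eq_zero.1 this).resolve_left h2ne
        refine ⟨M 0 0, ?_, ?_⟩
        · rw [Matrix.det_fin_two, z01, zero_mul, sub_zero, ← e00] at hdet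
          exact hdet
        · ext i j
          fin_cases i <;> fin_cases j <;> simp [z01, z10, e00]
      choose c hc1 hc2 using key
      refine (Nat.card_le_card_of_injective (fun a => (⟨c a, by
          have : (c a - 1) * (c a + 1) = 0 := by linear_combination hc1 a
          rcases mul_eq_zero.1 this with h | h
          · simp [sub_eq_zero.1 h]
          · simp [eq_neg_of_add_eq_zero_left h]⟩ : ({1, -1} : Finset F))) fun a a' h => ?_).trans ?_
      · refine Subtype.ext (hf (Units.ext ?_))
        rw [hc2, hc2, show c a = c a' from congrArg Subtype.val h]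
      · rw [Nat.card_eq_fintype_card, Fintype.card_coe]
        exact Finset.card_le_two
    nlinarith
  · -- a full Sylow subgroup contains an element of order eight
    have hX : IsUnit (!![(1 : F), 1; 1, 0] : Matrix (Fin 2) (Fin 2) F) := by
      rw [Matrix.isUnit_iff_isUnit_det, Matrix.det_fin_two_of]
      simp
    have hx4 : hX.unit ^ 4 = (-1 : GL (Fin 2) F) := Units.ext (by
      rw [Units.val_pow_eq_pow_val, IsUnit.unit_spec, pow_succ, pow_three]
      ext i j
      fin_cases i <;> fin_cases j <;> simp [Matrix.mul_apply, Fin.sum_univ_two] <;>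
        first
          | linear_combination 2 * h3F
          | linear_combination h3F)
    have hx8 : orderOf hX.unit = 8 := by
      rw [show (8 : ℕ) = 2 ^ (2 + 1) by norm_num]
      refine orderOf_eq_prime_pow ?_ ?_
      · rw [show (2 : ℕ) ^ 2 = 4 by norm_num, hx4]
        intro h
        have h' := congrArg (fun M : GL (Fin 2) F => (M : Matrix (Fin 2) (Fin 2) F) 0 0) h
        simp at h'
        have : (1 : F) = 0 := by linear_combination h3F + h'
        exact one_ne_zero this
      · rw [show (2 : ℕ) ^ (2 + 1) = 4 * 2 by norm_num, pow_mul, hx4]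
        simp
    let T : Sylow 2 (GL (Fin 2) F) := (IsPGroup.of_card (G := f.range) (n := 4) hfc).toSylow (by
      intro h
      have := f.range.card_mul_index
      rw [hfc, hc] at this
      omega)
    obtain ⟨S, hS⟩ := (IsPGroup.of_card (G := zpowers hX.unit) (p := 2) (n := 3) (by rw [Nat.card_zpowers, hx8]; norm_num)).exists_le_sylow
    obtain ⟨c, hc'⟩ := MulAction.exists_smul_eq (GL (Fin 2) F) S T
    have hmem : c * hX.unit * c⁻¹ ∈ f.range := by
      have h1 : c * hX.unit * c⁻¹ ∈ ((c • S : Sylow 2 (GL (Fin 2) F)) : Subgroup (GL (Fin 2) F)) :=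
        ⟨hX.unit, hS (mem_zpowers _), rfl⟩
      rw [hc'] at h1
      exact h1
    obtain ⟨a, ha⟩ := hmem
    have hao : orderOf a = 8 := by
      rw [← orderOf_injective f hf, ha]
      exact (orderOf_injective (MulAut.conj c).toMonoidHom (MulAut.conj c).injective hX.unit).trans hx8
    have h4 : 4 ∣ Nat.card (frattini G) := by
      have h1 := Subgroup.orderOf_dvd_natCard (frattini G) (show a ^ 2 ∈ frattini G by rw [pow_two]; exact sq_mem hG a)
      rwa [orderOf_pow, hao] at h1
    have := Nat.le_of_dvd Nat.card_pos h4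
    rw [hi] at hidx
    have := Nat.pow_le_pow_right (show 0 < 2 by norm_num) hi3
    nlinarith

theorem natCard_zmod_module (r : ℕ) [Fact r.Prime] (V : Type u) [AddCommGroup V] [Module (ZMod r) V] [Finite V] :
    Nat.card V = r ^ finrank (ZMod r) V := by
  haveI : Module.Finite (ZMod r) V := Module.Finite.of_finite
  rw [Module.natCard_eq_pow_finrank (K := ZMod r), Nat.card_zmod]

theorem frattini_bound_module (r : ℕ) [Fact r.Prime] (hr2 : r ≠ 2) (V : Type u) [AddCommGroup V] [Module (ZMod r) V]
    [Finite V] [Nontrivial V] {P : Type u} [Group P] [Finite P] (hP : IsPGroup 2 P) (φ : P → (V ≃+ V))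
    (hmul : ∀ x y v, φ (x * y) v = φ x (φ y v)) (hφ : Function.Injective φ) : (frattini P).index ≤ Nat.card V - 1 := by
  classical
  have hr : r.Prime := Fact.out
  haveI : Module.Finite (ZMod r) V := Module.Finite.of_finite
  let ρ : P →* (V ≃ₗ[ZMod r] V) := MonoidHom.mk'
    (fun x => (φ x).toLinearEquiv fun c v => ZMod.map_smul (φ x).toAddMonoidHom c v)
    fun x y => LinearEquiv.ext fun v => hmul x y v
  have hρ : Function.Injective ρ := fun x y h => hφ (AddEquiv.ext fun v => LinearEquiv.congr_fun h v)
  set k := finrank (ZMod r) (V) with hk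
  have hNc : Nat.card V = r ^ k := by
    exact natCard_zmod_module r V
  have hk1 : 1 ≤ k := by
    rcases Nat.eq_zero_or_pos k with h | h
    · rw [h, pow_zero] at hNc
      exact absurd hNc (Finite.one_lt_card (α := V)).ne'
    · exact h
  have hodd : ¬ 2 ∣ Fintype.card (ZMod r) := by
    rw [ZMod.card]
    exact fun h => hr2 ((Nat.prime_dvd_prime_iff_eq Nat.prime_two hr).1 h).symm
  rw [hNc]
  by_cases h3 : r = 3
  · subst h3
    have hg : Growth (fun m => if m ≤ 1 then m else (3 * m - 2) / 2) := by
      refine ⟨by simp, fun a b ha hb => ?_, fun l hl => ?_, fun m hm => ?_⟩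
      · simp only []; split_ifs <;> omega
      · simp only []; split_ifs <;> omega
      · simp only []; split_ifs <;> omega
    refine (main hodd _ hg (fun _ W _ _ _ hW Q _ _ hQ σ hσ => by
      exact base_three (ZMod.card 3) hW hQ σ hσ) k (V) rfl P hP ρ hρ).trans ?_
    refine Nat.le_sub_one_of_lt (lt_of_pow_lt_pow_left₀ 2 (Nat.zero_le _) ?_)
    rw [← pow_mul]
    calc 2 ^ ((if k ≤ 1 then k else (3 * k - 2) / 2) * 2) ≤ 2 ^ (3 * k) :=
          Nat.pow_le_pow_right two_pos (by split_ifs <;> omega)
      _ = 8 ^ k := by rw [pow_mul]; norm_num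
      _ < 9 ^ k := Nat.pow_lt_pow_left (by norm_num) (by omega)
      _ = (3 ^ k) ^ 2 := by rw [← pow_mul, mul_comm, pow_mul]; norm_num
  · have hr5 : 5 ≤ r := hr.five_le_of_ne_two_of_ne_three hr2 h3
    have hg : Growth (fun m => 2 * m - 1) := by
      refine ⟨rfl, fun a b ha hb => ?_, fun l hl => ?_, fun m hm => ?_⟩ <;> simp only [] <;> omega
    refine (main hodd _ hg (fun h => absurd h (by norm_num)) k (V) rfl P hP ρ hρ).trans ?_
    refine Nat.le_sub_one_of_lt ?_
    calc 2 ^ (2 * k - 1) < 2 ^ (2 * k) := Nat.pow_lt_pow_right (by norm_num) (by omega)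
      _ = 4 ^ k := by rw [pow_mul]; norm_num
      _ ≤ r ^ k := Nat.pow_le_pow_left (by omega) k


theorem frattini_lt {G : Type u} [Group G] [Finite G] (N P : Subgroup G) (hN : N.Normal) (hNab : IsMulCommutative ↥N)
    (hNodd : Odd (Nat.card ↥N)) (hP : IsPGroup 2 ↥P) (hdisj : N ⊓ P = ⊥) (hprod : N ⊔ P = ⊤)
    (hmin : N ≠ ⊥ ∧ ∀ M : Subgroup G, M.Normal → M ≠ ⊥ → N ≤ M) : (frattini ↥P).index ≤ Nat.card ↥N - 1 := by
  classical
  haveI := hN
  obtain ⟨r, hr, hrN⟩ := Nat.exists_prime_and_dvd (show Nat.card N ≠ 1 from fun h => hmin.1 (card_eq_one.1 h))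
  haveI := Fact.mk hr
  have hcomm : ∀ a ∈ N, ∀ b ∈ N, a * b = b * a := fun a ha b hb =>
    congrArg Subtype.val (mul_comm' (⟨a, ha⟩ : N) ⟨b, hb⟩)
  let R : Subgroup G :=
    { carrier := {a | a ∈ N ∧ a ^ r = 1}
      one_mem' := ⟨one_mem _, one_pow _⟩
      mul_mem' := fun {a b} ha hb => ⟨mul_mem ha.1 hb.1, by
        rw [(show Commute a b from hcomm a ha.1 b hb.1).mul_pow, ha.2, hb.2, one_mul]⟩
      inv_mem' := fun {a} ha => ⟨inv_mem ha.1, by rw [inv_pow, ha.2, inv_one]⟩ }
  have hexp : ∀ a ∈ N, a ^ r = 1 := by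
    have hRn : R.Normal := ⟨fun a ha t => ⟨hN.conj_mem a ha.1 t, by rw [conj_pow, ha.2, mul_one, mul_inv_cancel]⟩⟩
    have hRne : R ≠ ⊥ := fun h => by
      obtain ⟨⟨a, ha⟩, hao⟩ := exists_prime_orderOf_dvd_card' r hrN
      rw [Subgroup.orderOf_mk] at hao
      have h1 : a ∈ R := ⟨ha, by rw [← hao, pow_orderOf_eq_one]⟩
      rw [h, Subgroup.mem_bot] at h1
      rw [h1, orderOf_one] at hao
      exact hr.one_lt.ne hao
    exact fun a ha => (hmin.2 R hRn hRne ha).2
  letI : CommGroup N := CommGroup.mk (fun a b => mul_comm' a b)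
  letI : Module (ZMod r) (Additive N) := AddCommGroup.zmodModule fun a => Subtype.ext (by
    show ((Additive.toMul (r • a) : N) : G) = 1
    rw [toMul_nsmul, SubgroupClass.coe_pow]
    exact hexp _ (Additive.toMul a).2)
  let A : P →* MulAut N := MulAut.conjNormal.comp P.subtype
  have hr2 : r ≠ 2 := fun h => by
    have h1 : 2 ∣ Nat.card N := h ▸ hrN
    exact Nat.not_even_iff_odd.2 hNodd (even_iff_two_dvd.2 h1)
  haveI : Nontrivial (Additive N) := (Subgroup.nontrivial_iff_ne_bot N).2 hmin.1
  have hρ : Function.Injective (fun x : P => MulEquiv.toAdditive (A x)) := by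
    suffices h : Function.Injective A by
      intro x y hxy
      exact h (MulEquiv.toAdditive.injective hxy)
    refine (injective_iff_map_eq_one _).2 fun x hx => ?_
    set C := P ⊓ centralizer (N : Set G) with hC
    have hCn : C.Normal := by
      refine normalizer_eq_top_iff.1 (top_le_iff.1 (hprod ▸ sup_le (fun a ha => ?_) (fun y hy => ?_)))
      · refine mem_normalizer_iff.2 fun c => ⟨fun hc => ?_, fun hc => ?_⟩
        · have := mem_centralizer_iff.1 (mem_inf.1 hc).2 a ha
          rw [this, mul_inv_cancel_right]; exact hc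
        · have := mem_centralizer_iff.1 (mem_inf.1 hc).2 a⁻¹ (inv_mem ha)
          have e : a⁻¹ * (a * c * a⁻¹) * a = c := by group
          rw [this, inv_mul_cancel_right] at e
          rwa [e] at hc
      · have key : ∀ z ∈ P, ∀ c ∈ C, z * c * z⁻¹ ∈ C := fun z hz c hc => by
          refine mem_inf.2 ⟨mul_mem (mul_mem hz (mem_inf.1 hc).1) (inv_mem hz), mem_centralizer_iff.2 fun a ha => ?_⟩
          have := mem_centralizer_iff.1 (mem_inf.1 hc).2 (z⁻¹ * a * z) (by
            have := hN.conj_mem a ha z⁻¹; rwa [inv_inv] at this)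
          calc a * (z * c * z⁻¹) = z * ((z⁻¹ * a * z) * c) * z⁻¹ := by group
            _ = z * (c * (z⁻¹ * a * z)) * z⁻¹ := by rw [this]
            _ = z * c * z⁻¹ * a := by group
        refine mem_normalizer_iff.2 fun c => ⟨key y hy c, fun hc => ?_⟩
        have := key y⁻¹ (inv_mem hy) _ hc
        simpa [mul_assoc] using this
    by_contra hx1
    have hxC : (x : G) ∈ C := mem_inf.2 ⟨x.2, mem_centralizer_iff.2 fun a ha => by
      have := congrArg (fun e : MulAut N => ((e ⟨a, ha⟩ : N) : G)) hx
      exact (mul_inv_eq_iff_eq_mul.1 (this : (x : G) * a * (x : G)⁻¹ = a)).symm⟩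
    have hCb : C ≠ ⊥ := fun h => hx1 (Subtype.ext (by rw [h, Subgroup.mem_bot] at hxC; exact hxC))
    have h1 : N ≤ ⊥ := hdisj ▸ le_inf le_rfl ((hmin.2 C hCn hCb).trans inf_le_left)
    exact hmin.1 (le_bot_iff.1 h1)
  exact frattini_bound_module r hr2 (Additive N) hP
    (fun x => MulEquiv.toAdditive (A x)) (fun x y v => by
      show Additive.ofMul (A (x * y) (Additive.toMul v)) = Additive.ofMul (A x (A y (Additive.toMul v)))
      rw [map_mul]; rfl) hρ

end Cfsg.Lib.SolvStruct.TwoRank
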