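/-
P. Hall: the number of Hall subgroups of a soluble group is a product of prime powers congruent to one
dividing orders of chief factors.
-/
import Cfsg.Agent.SolvStruct.SylowNumber
import Cfsg.Agent.Coprime.Sylow

set_option autoImplicit false
set_option linter.style.haveILetI false
set_option linter.unusedSectionVars false

namespace Cfsg.Lib.SolvStruct.HallNumber

open Subgroup Cfsg.Lib.Coprime Cfsg.Lib.SolvStruct.SylowNumber
open scoped Pointwise

universe u

variable {G : Type u} [Group G] [Finite G]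

/-- the index of the fixed points of a coprime soluble group on an `r`-group -/
theorem fixed_index {r : ℕ} (hr : r.Prime) (K : Subgroup G) [K.Normal] {t : ℕ} (hK : Nat.card K = r ^ t)
    [Group.IsSolvable G] :
    ∀ (n : ℕ) (H : Subgroup G), Nat.card H = n → ¬ r ∣ n →
      ∃ l : List ℕ, Nat.card ↥(K ⊓ centralizer (H : Set G)) * l.prod = Nat.card K ∧
        ∀ f ∈ l, (∃ e, f = r ^ e) ∧ ∃ q : ℕ, q.Prime ∧ q ∣ n ∧ f ≡ 1 [MOD q] := by
  intro n
  induction n using Nat.strong_induction_on with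
  | _ n ih =>
  intro H hn hrn
  rcases eq_or_ne H ⊥ with rfl | hne
  · refine ⟨[], ?_, by simp⟩
    rw [List.prod_nil, mul_one, show K ⊓ centralizer ((⊥ : Subgroup G) : Set G) = K from
      inf_eq_left.2 fun x _ => mem_centralizer_iff.2 fun y hy => by
        rw [Subgroup.mem_bot.1 hy, one_mul, mul_one]]
  haveI : Nontrivial H := (Subgroup.nontrivial_iff_ne_bot H).mpr hne
  -- a normal subgroup of prime index
  obtain ⟨M, ⟨hMn, hMt⟩, hMmax⟩ := WellFounded.has_min (wellFounded_gt (α := Subgroup H))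
    {M | M.Normal ∧ M ≠ ⊤} ⟨commutator H, inferInstance,
      (Group.IsSolvable.commutator_lt_top_of_nontrivial H).ne⟩
  haveI := hMn
  haveI : Nontrivial (H ⧸ M) := by
    rw [← Finite.one_lt_card_iff_nontrivial, ← index_eq_card]
    exact Nat.one_lt_iff_ne_zero_and_ne_one.2 ⟨index_ne_zero_of_finite, index_eq_one.not.2 hMt⟩
  haveI : IsSimpleGroup (H ⧸ M) := ⟨fun X hX => by
    rcases eq_or_ne X ⊤ with h | h
    · exact Or.inr h
    refine Or.inl ?_
    haveI := hX
    have h1 : X.comap (QuotientGroup.mk' M) ≠ ⊤ := fun e => h (by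
      rw [← map_comap_eq_self_of_surjective (QuotientGroup.mk'_surjective M) X, e,
        map_top_of_surjective _ (QuotientGroup.mk'_surjective M)])
    have h2 : M = X.comap (QuotientGroup.mk' M) := by
      by_contra e
      refine hMmax _ ⟨inferInstance, h1⟩ (lt_of_le_of_ne ?_ e)
      intro x hx
      rw [mem_comap, show QuotientGroup.mk' M x = 1 from (QuotientGroup.eq_one_iff x).2 hx]
      exact one_mem _
    rw [← map_comap_eq_self_of_surjective (QuotientGroup.mk'_surjective M) X, ← h2,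
      QuotientGroup.map_mk'_self]⟩
  haveI : IsMulCommutative (H ⧸ M) := ⟨⟨fun a b => by
    have h0 := ((inferInstance : IsSimpleGroup (H ⧸ M)).eq_bot_or_eq_top_of_normal _ inferInstance).resolve_right
      (Group.IsSolvable.commutator_lt_top_of_nontrivial (H ⧸ M)).ne
    rw [_root_.commutator_def, commutator_eq_bot_iff_le_centralizer] at h0
    exact (mem_centralizer_iff.1 (h0 (mem_top b)) a (mem_top a))⟩⟩
  letI : CommGroup (H ⧸ M) := { (inferInstance : Group (H ⧸ M)) with mul_comm := mul_comm' }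
  have hq : M.index.Prime := by
    rw [index_eq_card]
    exact IsSimpleGroup.prime_card
  set q := M.index
  haveI := Fact.mk hq
  have hqn : q ∣ n := hn ▸ M.index_dvd_card
  set M' := M.map H.subtype with hM'
  have hM'H : M' ≤ H := map_subtype_le _
  have hM'c : Nat.card M' < n := by
    rw [hM', card_map_of_injective H.subtype_injective, ← hn]
    exact lt_of_le_of_ne (card_le_card_group M) fun e => hMt (eq_top_of_card_eq M e)
  obtain ⟨l, hl, hl'⟩ := ih _ hM'c M' rfl fun h => hrn (hn ▸ h.trans (Subgroup.card_dvd_of_le hM'H))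
  set C := K ⊓ centralizer (M' : Set G) with hC
  set D := K ⊓ centralizer (H : Set G) with hD
  have hDC : D ≤ C := inf_le_inf_left K (centralizer_le hM'H)
  have hHM : H ≤ normalizer (M' : Set G) :=
    (normal_subgroupOf_iff_le_normalizer hM'H).1
      (by rwa [hM', subgroupOf, comap_map_eq_self_of_injective H.subtype_injective])
  -- a `q`-element outside `M`
  obtain ⟨P⟩ := (inferInstance : Nonempty (Sylow q H))
  obtain ⟨x, hxP, hxM⟩ : ∃ x ∈ (P : Subgroup H), x ∉ M := by
    by_contra! hle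
    exact P.not_dvd_index (index_dvd_of_le (H := (P : Subgroup H)) hle)
  set X : Subgroup G := zpowers (x : G)
  have hXp : IsPGroup q X := by
    obtain ⟨j, hj⟩ := IsPGroup.iff_orderOf.1 P.2 ⟨x, hxP⟩
    refine IsPGroup.of_card (n := j) ?_
    rw [Nat.card_zpowers, ← hj]
    simp
  have hXC : X ≤ normalizer (C : Set G) := by
    refine zpowers_le.2 (mem_normalizer_iff.2 fun y => ?_)
    have key : ∀ g ∈ H, ∀ y ∈ C, g * y * g⁻¹ ∈ C := by
      intro g hg y hy
      obtain ⟨hyK, hyM⟩ := Subgroup.mem_inf.1 hy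
      refine Subgroup.mem_inf.2 ⟨(inferInstance : K.Normal).conj_mem y hyK g, mem_centralizer_iff.2 fun m hm => ?_⟩
      have h1 : g⁻¹ * m * g ∈ M' := (mem_normalizer_iff''.1 (hHM hg) m).1 hm
      have h2 : g⁻¹ * m * g * y = y * (g⁻¹ * m * g) := mem_centralizer_iff.1 hyM _ h1
      calc m * (g * y * g⁻¹) = g * (g⁻¹ * m * g * y) * g⁻¹ := by group
        _ = g * (y * (g⁻¹ * m * g)) * g⁻¹ := by rw [h2]
        _ = g * y * g⁻¹ * m := by group
    exact ⟨key _ x.2 y, fun h => by
      have := key _ (inv_mem x.2) _ h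
      simpa [mul_assoc] using this⟩
  letI : MulAction X C := MulAction.compHom C ((C.normalizerMonoidHom).comp (Subgroup.inclusion hXC))
  have hmod := hXp.card_modEq_card_fixedPoints C
  have hfix : Nat.card (MulAction.fixedPoints X C) = Nat.card D := by
    refine Nat.card_congr
      { toFun := fun c => ⟨((c : C) : G), Subgroup.mem_inf.2 ⟨(Subgroup.mem_inf.1 c.1.2).1, ?_⟩⟩
        invFun := fun d => ⟨⟨d, hDC d.2⟩, fun y => Subtype.ext ?_⟩
        left_inv := fun c => rfl
        right_inv := fun d => rfl }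
    · have hc : (x : G) * ((c : C) : G) * (x : G)⁻¹ = ((c : C) : G) :=
        congrArg Subtype.val (c.2 ⟨(x : G), mem_zpowers _⟩)
      have htop : (M ⊔ zpowers x) = ⊤ := by
        by_contra hne'
        refine hMmax (M ⊔ zpowers x) ⟨?_, hne'⟩ (lt_of_le_of_ne le_sup_left fun e => hxM (e.ge (mem_sup_right (mem_zpowers x))))
        refine ⟨fun y hy g => ?_⟩
        have h1 : QuotientGroup.mk' M (g * y * g⁻¹ * y⁻¹) = 1 := by
          rw [map_mul, map_mul, map_mul, map_inv, map_inv, mul_comm (QuotientGroup.mk' M g), mul_inv_cancel_right,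
            mul_inv_cancel]
        have h2 := (QuotientGroup.eq_one_iff _).1 h1
        have := mul_mem (mem_sup_left (T := zpowers x) h2) hy
        simpa using this
      refine mem_centralizer_iff.2 fun h hh => ?_
      have h1 : (⟨h, hh⟩ : H) ∈ M ⊔ zpowers x := htop ▸ mem_top _
      have h2 : M ⊔ zpowers x ≤ (centralizer ({((c : C) : G)} : Set G)).subgroupOf H := by
        refine sup_le (fun m hm => mem_subgroupOf.2 (mem_centralizer_singleton_iff.2 ?_))
          (zpowers_le.2 (mem_subgroupOf.2 (mem_centralizer_singleton_iff.2 (mul_inv_eq_iff_eq_mul.1 hc))))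
        exact mem_centralizer_iff.1 (Subgroup.mem_inf.1 c.1.2).2 (m : G) ⟨m, hm, rfl⟩
      exact mem_centralizer_singleton_iff.1 (mem_subgroupOf.1 (h2 h1))
    · show (y : G) * d * (y : G)⁻¹ = d
      have hyH : (y : G) ∈ H := (zpowers_le.2 x.2) y.2
      rw [mem_centralizer_iff.1 (Subgroup.mem_inf.1 d.2).2 _ hyH, mul_inv_cancel_right]
  obtain ⟨a, -, ha⟩ := (Nat.dvd_prime_pow hr).1 (hK ▸ (Subgroup.card_dvd_of_le (inf_le_left : D ≤ K)))
  have e1 : Nat.card D * D.relIndex C = Nat.card C := by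
    rw [← relIndex_bot_left, relIndex_mul_relIndex _ _ _ bot_le hDC, relIndex_bot_left]
  obtain ⟨b, -, hb⟩ := (Nat.dvd_prime_pow hr).1
    ((show D.relIndex C ∣ Nat.card C from ⟨Nat.card D, by rw [mul_comm]; exact e1.symm⟩).trans
      (hK ▸ Subgroup.card_dvd_of_le (inf_le_left : C ≤ K)))
  refine ⟨D.relIndex C :: l, ?_, fun f hf => ?_⟩
  · rw [List.prod_cons, ← mul_assoc, e1, hl]
  · rcases List.mem_cons.1 hf with rfl | hf
    · refine ⟨⟨b, hb⟩, q, hq, hqn, ?_⟩
      rw [hb]
      refine prime_pow_modEq_one (p := q) (x := Nat.card D) ?_ ?_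
      · rw [ha]
        exact Nat.Coprime.pow_left _ ((Nat.coprime_primes hr hq).2 fun e => hrn (e ▸ hqn))
      · rw [← hb, mul_comm, e1, ← hfix]
        exact hmod
    · obtain ⟨h1, s, hs, hsd, hs'⟩ := hl' f hf
      exact ⟨h1, s, hs, hsd.trans (hn ▸ Subgroup.card_dvd_of_le hM'H), hs'⟩

/-- `f` divides the order of a chief factor -/
def DvdChief (G : Type u) [Group G] (f : ℕ) : Prop :=
  ∃ K L : Subgroup G, K.Normal ∧ L.Normal ∧ K < L ∧
    (∀ M : Subgroup G, M.Normal → K ≤ M → M ≤ L → M = K ∨ M = L) ∧ f ∣ K.relIndex L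

theorem dvdChief_quotient (N : Subgroup G) [N.Normal] {f : ℕ} (h : DvdChief (G ⧸ N) f) : DvdChief G f := by
  obtain ⟨K, L, hK, hL, hKL, hmin, hd⟩ := h
  have hs := QuotientGroup.mk'_surjective N
  haveI := hK
  haveI := hL
  refine ⟨K.comap (QuotientGroup.mk' N), L.comap (QuotientGroup.mk' N), inferInstance, inferInstance,
    (comap_lt_comap_of_surjective hs).2 hKL, fun M hM h1 h2 => ?_, ?_⟩
  · have hNM : (QuotientGroup.mk' N).ker ≤ M := le_trans (MonoidHom.ker_le_comap _ _) h1
    rcases hmin (M.map (QuotientGroup.mk' N)) (hM.map _ hs)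
      (by rw [← map_comap_eq_self_of_surjective hs K]; exact map_mono h1)
      (by rw [← map_comap_eq_self_of_surjective hs L]; exact map_mono h2) with e | e
    · exact Or.inl (by rw [← e, comap_map_eq_self hNM])
    · exact Or.inr (by rw [← e, comap_map_eq_self hNM])
  · rwa [relIndex_comap, map_comap_eq_self_of_surjective hs]

theorem count_aux : ∀ (n : ℕ) (G : Type u) [Group G] [Finite G] [Group.IsSolvable G], Nat.card G = n →
    ∀ H : Subgroup G, (Nat.card H).Coprime H.index →
      ∃ l : List ℕ, l.prod = (normalizer (H : Set G)).index ∧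
        ∀ f ∈ l, (∃ q e : ℕ, q.Prime ∧ f = q ^ e) ∧ DvdChief G f ∧
          ∃ q : ℕ, q.Prime ∧ q ∣ Nat.card H ∧ f ≡ 1 [MOD q] := by
  intro n
  induction n using Nat.strong_induction_on with
  | _ n ih =>
  intro G _ _ _ hn H hH
  rcases subsingleton_or_nontrivial G with h | h
  · exact ⟨[], by rw [List.prod_nil, eq_comm, index_eq_one]; exact Subsingleton.elim _ _, by simp⟩
  obtain ⟨N, -, hNn, hNb, hmin⟩ := exists_minimal_normal (K := (⊤ : Subgroup G)) inferInstance top_ne_bot
  haveI := hNn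
  obtain ⟨-, r, hr, hrN, -⟩ := minimal_normal_solvable (N := N) inferInstance hNb hmin
  haveI := Fact.mk hr
  obtain ⟨t, ht⟩ := IsPGroup.iff_card.1 hrN
  set π := QuotientGroup.mk' N
  have hs : Function.Surjective π := QuotientGroup.mk'_surjective N
  set H' := H.map π
  have hH' : (Nat.card H').Coprime H'.index :=
    (hH.coprime_dvd_left (H.card_map_dvd π)).coprime_dvd_right (H.index_map_dvd hs)
  obtain ⟨l, hl, hl'⟩ := ih _ (hn ▸ card_quotient_lt hNb) (G ⧸ N) rfl H' hH'
  set S := H ⊔ N with hS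
  have hidx : (normalizer (H' : Set (G ⧸ N))).index = (normalizer (S : Set G)).index := by
    rw [← index_comap_of_surjective _ hs, comap_normalizer_eq_of_surjective _ hs, comap_map_eq,
      QuotientGroup.ker_mk']
  have hl'' : ∀ f ∈ l, (∃ q e : ℕ, q.Prime ∧ f = q ^ e) ∧ DvdChief G f ∧
      ∃ q : ℕ, q.Prime ∧ q ∣ Nat.card H ∧ f ≡ 1 [MOD q] := fun f hf => by
    obtain ⟨h1, h2, q, hq, hqd, hq'⟩ := hl' f hf
    exact ⟨h1, dvdChief_quotient N h2, q, hq, hqd.trans (H.card_map_dvd π), hq'⟩
  by_cases hrH : r ∣ Nat.card H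
  · -- then `N ≤ H`
    have hle : N ≤ H := by
      intro x hx
      obtain ⟨j, hj⟩ := IsPGroup.iff_orderOf.1 hrN ⟨x, hx⟩
      rw [← Subgroup.orderOf_coe] at hj
      have hd : H.relIndex N ∣ r ^ t := ht ▸ relIndex_dvd_card H N
      have hd2 : H.relIndex N ∣ H.index := by
        rw [relIndex_eq_sup (le_refl H)]
        exact ⟨_, (relIndex_mul_index le_sup_left).symm⟩
      have h1 := relIndex_eq_one.1 (Nat.eq_one_of_dvd_coprimes
        (Nat.Coprime.pow_left t (hr.coprime_iff_not_dvd.2 fun hi =>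
          hr.ne_one (Nat.eq_one_of_dvd_coprimes hH hrH hi))) hd hd2)
      exact h1 hx
    refine ⟨l, ?_, hl''⟩
    rw [hl, hidx, hS, sup_eq_left.2 hle]
  · have hcopN : (Nat.card N).Coprime (Nat.card H) := ht ▸ Nat.Coprime.pow_left t (hr.coprime_iff_not_dvd.2 hrH)
    obtain ⟨l2, hl2, hl2'⟩ := fixed_index hr N ht _ H rfl hrH
    set W := normalizer (H : Set G)
    have hWN : N ⊓ centralizer (H : Set G) = W ⊓ N := by
      refine le_antisymm (le_inf (inf_le_right.trans (centralizer_le_normalizer _)) inf_le_left) fun y hy => ?_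
      obtain ⟨hyW, hyN⟩ := Subgroup.mem_inf.1 hy
      refine Subgroup.mem_inf.2 ⟨hyN, mem_centralizer_iff.2 fun x hx => ?_⟩
      have h1 : x * y * x⁻¹ * y⁻¹ ∈ H ⊓ N := Subgroup.mem_inf.2 ⟨by
        rw [show x * y * x⁻¹ * y⁻¹ = x * (y * x⁻¹ * y⁻¹) by group]
        exact mul_mem hx ((mem_normalizer_iff.1 hyW _).1 (inv_mem hx)),
        mul_mem ((inferInstance : N.Normal).conj_mem y hyN x) (inv_mem hyN)⟩
      rw [Subgroup.inf_eq_bot_of_coprime hcopN.symm, mem_bot, mul_inv_eq_one] at h1
      exact mul_inv_eq_iff_eq_mul.1 h1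
    have hrel : W.relIndex N = l2.prod := by
      have e : Nat.card ↥(W ⊓ N) * W.relIndex N = Nat.card N := by
        rw [← inf_relIndex_right W N, ← relIndex_bot_left,
          relIndex_mul_relIndex _ _ _ bot_le inf_le_right, relIndex_bot_left]
      rw [← hWN, ← hl2] at e
      exact Nat.eq_of_mul_eq_mul_left Nat.card_pos e
    have hWS : W ≤ normalizer (S : Set G) := fun g hg => by
      rw [hS]
      refine Subgroup.mem_normalizer_iff_map_conj_eq.mpr ?_
      rw [Subgroup.map_sup, Subgroup.mem_normalizer_iff_map_conj_eq.1 hg, map_conj_normal]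
    have hcov : W.relIndex N = W.relIndex (normalizer (S : Set G)) := by
      rw [relIndex_eq_sup (le_normalizer : H ≤ W)]
      refine relIndex_eq_of_covers le_normalizer fun g hg => ?_
      obtain ⟨y, hy, hye⟩ := exists_conj_eq_of_coprime (N := N) (H := H) (K := conjMap g H)
        le_normalizer_of_normal hcopN (Or.inl inferInstance)
        (by
          have h1 := conjMap_mono (g := g) (le_sup_left : H ≤ S)
          rw [conjMap_eq_self hg, hS, sup_comm] at h1
          exact h1)
        (card_conjMap g H)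
      refine ⟨y, mem_sup_right hy, ?_⟩
      show y⁻¹ * g ∈ normalizer (H : Set G)
      rw [← conjMap_eq_self_iff, ← conjMap_mul, hye, conjMap_inv_conjMap]
    refine ⟨l2 ++ l, ?_, fun f hf => ?_⟩
    · rw [List.prod_append, ← hrel, hcov, hl, hidx, relIndex_mul_index hWS]
    rcases List.mem_append.1 hf with h2 | h2
    · obtain ⟨⟨e, he⟩, hq⟩ := hl2' f h2
      refine ⟨⟨r, e, hr, he⟩, ⟨⊥, N, inferInstance, hNn, bot_lt_iff_ne_bot.2 hNb,
        fun M hM _ h => hmin M hM h, ?_⟩, hq⟩
      rw [relIndex_bot_left, ← hl2]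
      exact (List.dvd_prod h2).trans (dvd_mul_left _ _)
    · exact hl'' f h2

theorem card_hall_eq [Group.IsSolvable G] {m n : ℕ} (hG : Nat.card G = m * n) (hmn : m.Coprime n)
    {H : Subgroup G} (hH : Nat.card H = m) :
    Nat.card {X : Subgroup G // Nat.card X = m} = (normalizer (H : Set G)).index := by
  refine (Nat.card_congr (Equiv.ofBijective
    (Quotient.lift (fun g : G => (⟨conjMap g H, by rw [card_conjMap, hH]⟩ : {X : Subgroup G // Nat.card X = m}))
      fun a b hab => ?_) ⟨?_, ?_⟩)).symm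
  · have h := QuotientGroup.leftRel_apply.1 hab
    refine Subtype.ext ?_
    show conjMap a H = conjMap b H
    conv_lhs => rw [← conjMap_eq_self h]
    rw [conjMap_mul, mul_inv_cancel_left]
  · intro x y
    obtain ⟨a, rfl⟩ := QuotientGroup.mk_surjective x
    obtain ⟨b, rfl⟩ := QuotientGroup.mk_surjective y
    intro h
    rw [QuotientGroup.eq, ← conjMap_eq_self_iff, ← conjMap_mul,
      ← show conjMap a H = conjMap b H from congrArg Subtype.val h, conjMap_inv_conjMap]
  · rintro ⟨X, hX⟩
    obtain ⟨g, hg⟩ := piHall_conj (isPiHall_of_card_eq hG hmn hH) (isPiHall_of_card_eq hG hmn hX)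
    exact ⟨QuotientGroup.mk g, Subtype.ext hg.symm⟩

end Cfsg.Lib.SolvStruct.HallNumber
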