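/-
An abelian normal subgroup is complemented iff it is complemented locally at every prime (Gaschütz).
-/
import Cfsg.Agent.SolvStruct.Gaschuetz

set_option linter.style.haveILetI false
set_option linter.unusedSectionVars false

namespace Cfsg.Lib.SolvStruct.GaschuetzLocal

open Subgroup

universe u

variable {G : Type u} [Group G] [Finite G]

/-- A supplement of index the `p`-part, meeting `A` in elements of order prime to `p`. -/
theorem exists_partial (A : Subgroup G) [A.Normal] (hA : IsMulCommutative A) {p : ℕ} (hp : p.Prime)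
    (h : p ∣ A.index → ∃ (S : Sylow p (G ⧸ A)) (K : Subgroup G), K ⊓ A = ⊥ ∧
      K ⊔ A = (S : Subgroup (G ⧸ A)).comap (QuotientGroup.mk' A)) :
    ∃ X : Subgroup G, (∀ x ∈ X, x ∈ A → ¬ p ∣ orderOf x) ∧ X.index ≤ p ^ (Nat.card A).factorization p := by
  haveI := Fact.mk hp
  haveI := hA
  letI : CommGroup A := { (inferInstance : Group A) with mul_comm := fun a b => mul_comm' a b }
  obtain ⟨U, K, hUA, hUi, hKA, hKU⟩ : ∃ U K : Subgroup G, A ≤ U ∧ ¬ p ∣ U.index ∧ K ⊓ A = ⊥ ∧ K ⊔ A = U := by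
    by_cases hd : p ∣ A.index
    · obtain ⟨S, K, h1, h2⟩ := h hd
      refine ⟨_, K, fun a ha => ?_, ?_, h1, h2⟩
      · rw [mem_comap, QuotientGroup.mk'_apply, (QuotientGroup.eq_one_iff a).2 ha]; exact one_mem _
      · rw [index_comap_of_surjective _ (QuotientGroup.mk'_surjective A)]; exact S.not_dvd_index
    · exact ⟨A, ⊥, le_rfl, hd, bot_inf_eq A, bot_sup_eq A⟩
  set v := (Nat.card A).factorization p
  set B := (powMonoidHom (p ^ v) : A →* A).range.map A.subtype with hBdef
  have hBA : B ≤ A := map_subtype_le _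
  have hBord : ∀ x ∈ B, ¬ p ∣ orderOf x := by
    rintro _ ⟨_, ⟨a, rfl⟩, rfl⟩ hd
    rw [orderOf_injective A.subtype A.subtype_injective, powMonoidHom_apply] at hd
    have h1 : orderOf (a ^ p ^ v) ∣ Nat.card A / p ^ v := by
      refine orderOf_dvd_of_pow_eq_one ?_
      rw [← pow_mul, Nat.mul_div_cancel' (Nat.ordProj_dvd _ p), pow_card_eq_one']
    exact Nat.not_dvd_ordCompl hp Nat.card_pos.ne' (hd.trans h1)
  have hBn : B.Normal := by
    refine ⟨fun x hx g => ?_⟩
    obtain ⟨_, ⟨a, rfl⟩, rfl⟩ := hx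
    refine ⟨(⟨g * a * g⁻¹, Normal.conj_mem inferInstance _ a.2 g⟩ : A) ^ p ^ v, ⟨_, rfl⟩, ?_⟩
    show ((⟨g * a * g⁻¹, Normal.conj_mem inferInstance _ a.2 g⟩ : A) ^ p ^ v : A).1 = g * ((a ^ p ^ v : A) : G) * g⁻¹
    rw [SubgroupClass.coe_pow, SubgroupClass.coe_pow, conj_pow]
  have hAB : ∃ j, B.relIndex A = p ^ j ∧ j ≤ v := by
    have h1 : B.relIndex A = Nat.card (powMonoidHom (p ^ v) : A →* A).ker := by
      rw [relIndex, hBdef, ← comap_subtype, comap_map_eq_self_of_injective A.subtype_injective]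
      have e1 := (powMonoidHom (p ^ v) : A →* A).range.card_mul_index
      have e2 := (powMonoidHom (p ^ v) : A →* A).ker.card_mul_index
      rw [index_ker, ← e1, mul_comm (Nat.card _) ((powMonoidHom (p ^ v) : A →* A).range.index)] at e2
      exact (Nat.eq_of_mul_eq_mul_right Nat.card_pos e2).symm
    have hker : IsPGroup p (powMonoidHom (p ^ v) : A →* A).ker := fun a => ⟨v, Subtype.ext a.2⟩
    obtain ⟨j, hj⟩ := IsPGroup.iff_card.1 hker
    refine ⟨j, h1.trans hj, ?_⟩
    exact (Nat.Prime.pow_dvd_iff_le_factorization hp Nat.card_pos.ne').1 (hj ▸ card_subgroup_dvd_card _)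
  obtain ⟨j, hj, hjv⟩ := hAB
  haveI := hBn
  set π := QuotientGroup.mk' B
  have hsur : Function.Surjective π := QuotientGroup.mk'_surjective B
  haveI : (A.map π).Normal := Subgroup.Normal.map inferInstance π hsur
  haveI : IsMulCommutative (A.map π) := ⟨⟨by
    rintro ⟨_, a, ha, rfl⟩ ⟨_, b, hb, rfl⟩
    exact Subtype.ext (by
      show π a * π b = π b * π a
      rw [← map_mul, ← map_mul]
      exact congrArg (fun z : A => π z) (mul_comm (⟨a, ha⟩ : A) ⟨b, hb⟩))⟩⟩
  have hAc : Nat.card (A.map π) = p ^ j := by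
    rw [← hj, ← relIndex_ker, QuotientGroup.ker_mk']
  have hcop : (Nat.card (A.map π)).Coprime (U.map π).index := by
    rw [hAc]
    refine Nat.Coprime.pow_left j (hp.coprime_iff_not_dvd.2 ?_)
    rw [index_map_eq _ hsur (by rw [QuotientGroup.ker_mk']; exact hBA.trans hUA)]
    exact hUi
  obtain ⟨H, hH⟩ := exists_complement_averaging (K := A.map π) (U := U.map π) (map_mono hUA) hcop (K.map π)
    (map_mono (hKU ▸ le_sup_left)) (by
      refine (eq_bot_iff_forall _).2 ?_
      rintro _ hy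
      obtain ⟨⟨k, hk, rfl⟩, a, ha, hak⟩ := Subgroup.mem_inf.1 hy
      have hkA : k ∈ A := by
        have : a⁻¹ * k ∈ B := (QuotientGroup.eq).1 hak
        have h2 := mul_mem ha (hBA this)
        rwa [mul_inv_cancel_left] at h2
      rw [(eq_bot_iff_forall _).1 hKA k (Subgroup.mem_inf.mpr ⟨hk, hkA⟩), map_one])
    (by rw [← Subgroup.map_sup, sup_comm, hKU])
  refine ⟨H.comap π, fun x hx hxA => hBord x ?_, ?_⟩
  · rw [← QuotientGroup.eq_one_iff]
    exact (eq_bot_iff_forall _).1 (disjoint_iff.1 hH.disjoint) _ (Subgroup.mem_inf.mpr ⟨mem_map_of_mem π hxA, hx⟩)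
  · rw [index_comap_of_surjective _ hsur, Subgroup.IsComplement'.index_eq_card hH, hAc]
    exact Nat.pow_le_pow_right hp.pos hjv

theorem complement_iff (A : Subgroup G) [A.Normal] (hA : IsMulCommutative A) :
    (∃ K : Subgroup G, K.IsComplement' A) ↔ ∀ p : ℕ, p.Prime → p ∣ A.index →
      ∃ (S : Sylow p (G ⧸ A)) (K : Subgroup G), K ⊓ A = ⊥ ∧
        K ⊔ A = (S : Subgroup (G ⧸ A)).comap (QuotientGroup.mk' A) := by
  constructor
  · rintro ⟨K, hK⟩ p hp -
    haveI := Fact.mk hp
    obtain ⟨S⟩ : Nonempty (Sylow p (G ⧸ A)) := inferInstance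
    have hAT : A ≤ (S : Subgroup (G ⧸ A)).comap (QuotientGroup.mk' A) := fun a ha => by
      rw [mem_comap, QuotientGroup.mk'_apply, (QuotientGroup.eq_one_iff a).2 ha]; exact one_mem _
    refine ⟨S, K ⊓ (S : Subgroup (G ⧸ A)).comap (QuotientGroup.mk' A), ?_, le_antisymm (sup_le inf_le_right hAT) ?_⟩
    · rw [inf_right_comm, hK.disjoint.eq_bot, bot_inf_eq]
    · intro t ht
      obtain ⟨k, hk, a, ha, rfl⟩ := mem_sup_of_normal_right.1 (hK.sup_eq_top.ge (mem_top t) : t ∈ K ⊔ A)
      exact mul_mem_sup (Subgroup.mem_inf.mpr ⟨hk, (mul_mem_cancel_right (hAT ha)).1 ht⟩) ha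
  · intro h
    classical
    choose! X hX1 hX2 using fun (p : ℕ) (hp : p.Prime) => exists_partial A hA hp (h p hp)
    set S := (Nat.card A).primeFactors
    set Y := ⨅ p : S, X p
    have hdisj : Disjoint Y A := by
      rw [disjoint_iff, eq_bot_iff_forall]
      intro x hx
      obtain ⟨hxY, hxA⟩ := Subgroup.mem_inf.1 hx
      refine orderOf_eq_one_iff.1 (by_contra fun h1 => ?_)
      obtain ⟨p, hp, hpd⟩ := Nat.exists_prime_and_dvd h1
      have hpS : p ∈ S := Nat.mem_primeFactors.2 ⟨hp, hpd.trans (Subgroup.orderOf_dvd_natCard A hxA), Nat.card_pos.ne'⟩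
      exact hX1 p hp x ((iInf_le (fun p : S => X p) ⟨p, hpS⟩) hxY) hxA hpd
    have hidx : Y.index ≤ Nat.card A := by
      refine (Subgroup.index_iInf_le (fun p : S => X p)).trans ?_
      refine (Finset.prod_le_prod' fun (p : S) _ => hX2 p (Nat.prime_of_mem_primeFactors p.2)).trans ?_
      rw [Finset.prod_coe_sort S fun p => p ^ (Nat.card A).factorization p]
      exact le_of_eq (Nat.prod_factorization_pow_eq_self Nat.card_pos.ne')
    refine ⟨Y, Subgroup.isComplement'_of_disjoint_and_mul_eq_univ hdisj ?_⟩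
    rw [← Subgroup.coe_mul_of_left_le_normalizer_right Y A (by rw [normalizer_eq_top]; exact le_top), Set.eq_univ_iff_forall]
    intro g
    have htop : Y ⊔ A = ⊤ := by
      refine eq_top_of_le_card _ ?_
      have e2 := relIndex_mul_relIndex (⊥ : Subgroup G) A (Y ⊔ A) bot_le le_sup_right
      rw [relIndex_bot_left, relIndex_bot_left, relIndex_sup_right, ← inf_relIndex_right, inf_comm,
        disjoint_iff.1 hdisj, relIndex_bot_left] at e2
      rw [← e2, ← Y.card_mul_index, mul_comm (Nat.card A)]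
      exact Nat.mul_le_mul_left _ hidx
    exact htop.ge (mem_top g)

end Cfsg.Lib.SolvStruct.GaschuetzLocal
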