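/-
Jordan's limit of transitivity for degree `kp + r`.
-/
import Cfsg.Agent.PermGen.Jordan
import Cfsg.Agent.Transfer.Basic

set_option linter.style.haveILetI false
set_option linter.unusedSectionVars false

namespace Cfsg.Lib.ManyTransitive

open Equiv Equiv.Perm MulAction Subgroup Cfsg.Lib.PermGen
open scoped commutatorElement

variable {α : Type*} [Fintype α] [DecidableEq α] {G : Subgroup (Perm α)}

theorem primitive (htr : IsMultiplyPretransitive G α 4) (hn : 4 ≤ Fintype.card α) : IsPreprimitive G α := by
  haveI := htr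
  haveI : IsMultiplyPretransitive G α 2 :=
    MulAction.isMultiplyPretransitive_of_le (G := G) (α := α) (n := 4) (by omega) (by simp [hn])
  exact isPreprimitive_of_is_two_pretransitive this

/-- A product of two transpositions in a four times transitive group. -/
theorem of_double_swap (htr : IsMultiplyPretransitive G α 4) (hn : 5 ≤ Fintype.card α) {f : Perm α}
    (hf : f ∈ G) (hf2 : ∀ x, f (f x) = x) (hs : f.support.card = 4) : alternatingGroup α ≤ G := by
  obtain ⟨a, ha⟩ : f.support.Nonempty := Finset.card_pos.1 (by omega)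
  set b := f a with hb
  have hab : a ≠ b := (mem_support.1 ha).symm
  have hbs : b ∈ f.support := apply_mem_support.2 ha
  obtain ⟨c, hc⟩ : (f.support \ {a, b}).Nonempty := by
    refine Finset.card_pos.1 ?_
    have h := Finset.le_card_sdiff ({a, b} : Finset α) f.support
    have h2 : ({a, b} : Finset α).card ≤ 2 := Finset.card_le_two
    omega
  simp only [Finset.mem_sdiff, Finset.mem_insert, Finset.mem_singleton, not_or] at hc
  obtain ⟨hcs, hca, hcb⟩ := hc
  set d := f c with hd
  have hcd : c ≠ d := (mem_support.1 hcs).symm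
  have hds : d ∈ f.support := apply_mem_support.2 hcs
  have hda : d ≠ a := fun e => hcb (by rw [hb, ← e, hd, hf2])
  have hdb : d ≠ b := fun e => hca (f.injective e)
  have hsupp : f.support = {a, b, c, d} := by
    refine (Finset.eq_of_subset_of_card_le ?_ ?_).symm
    · intro x hx
      simp only [Finset.mem_insert, Finset.mem_singleton] at hx
      rcases hx with rfl | rfl | rfl | rfl <;> assumption
    · rw [hs]
      rw [Finset.card_insert_of_notMem (by simp [hab, (Ne.symm hca), hda.symm]),
        Finset.card_insert_of_notMem (by simp [(Ne.symm hcb), hdb.symm]),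
        Finset.card_insert_of_notMem (by simp [hcd]), Finset.card_singleton]
  obtain ⟨e, -, he⟩ := Finset.exists_mem_notMem_of_card_lt_card
    (s := f.support) (t := (Finset.univ : Finset α)) (by rw [Finset.card_univ]; omega)
  have hfe : f e = e := notMem_support.1 he
  rw [hsupp] at he
  simp only [Finset.mem_insert, Finset.mem_singleton, not_or] at he
  obtain ⟨hea, heb, hec, hed⟩ := he
  obtain ⟨s, hs', hseq⟩ := exists_mem_eqOn htr (by omega) {a, b, c, d}
    (Finset.card_le_four) (Equiv.swap d e)
  have hsa : s a = a := by rw [hseq a (by simp), swap_apply_of_ne_of_ne hda.symm (Ne.symm hea)]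
  have hsb : s b = b := by rw [hseq b (by simp), swap_apply_of_ne_of_ne hdb.symm (Ne.symm heb)]
  have hsc : s c = c := by rw [hseq c (by simp), swap_apply_of_ne_of_ne hcd (Ne.symm hec)]
  have hsd : s d = e := by rw [hseq d (by simp), swap_apply_left]
  set h := s * f * s⁻¹ with hh
  have hh' : ∀ x, h (s x) = s (f x) := fun x => by simp [hh]
  have hha : h a = b := by have := hh' a; rwa [hsa, ← hb, hsb] at this
  have hhb : h b = a := by have := hh' b; rw [hsb, hb, hf2, hsa] at this; exact hb ▸ this
  have hhc : h c = e := by have := hh' c; rwa [hsc, ← hd, hsd] at this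
  have hhe : h e = c := by have := hh' d; rwa [hsd, hd, hf2, hsc] at this
  have hfix : ∀ x, x ≠ a → x ≠ b → x ≠ c → x ≠ e → h x = x := by
    intro x hxa hxb hxc hxe
    obtain ⟨y, rfl⟩ := s.surjective x
    rw [hh']
    congr 1
    refine notMem_support.1 ?_
    rw [hsupp]
    simp only [Finset.mem_insert, Finset.mem_singleton, not_or]
    exact ⟨fun e' => hxa (e' ▸ hsa), fun e' => hxb (e' ▸ hsb), fun e' => hxc (e' ▸ hsc),
      fun e' => hxe (e' ▸ hsd)⟩
  have hmem : f * h ∈ G := G.mul_mem hf (G.mul_mem (G.mul_mem hs' hf) (G.inv_mem hs'))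
  have hsup3 : (f * h).support = {c, d, e} := by
    ext x
    rw [mem_support, Perm.mul_apply]
    simp only [Finset.mem_insert, Finset.mem_singleton]
    constructor
    · intro hx
      by_contra hno
      simp only [not_or] at hno
      obtain ⟨hxc, hxd, hxe⟩ := hno
      by_cases hxa : x = a
      · subst hxa; exact hx (by rw [hha, hb, hf2])
      by_cases hxb : x = b
      · exact hx (by rw [hxb, hhb, ← hb])
      refine hx ?_
      rw [hfix x hxa hxb hxc hxe]
      refine notMem_support.1 ?_
      rw [hsupp]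
      simp [hxa, hxb, hxc, hxd]
    · rintro (rfl | rfl | rfl)
      · rw [hhc, hfe]; exact hec
      · rw [hfix d hda hdb hcd.symm (Ne.symm hed), hd, hf2]; exact hcd
      · rw [hhe, ← hd]; exact Ne.symm hed
  refine alternatingGroup_le_of_isPreprimitive_of_isThreeCycle_mem (primitive htr (by omega))
    (card_support_eq_three_iff.1 ?_) hmem
  rw [hsup3, Finset.card_insert_of_notMem (by simp [hcd, Ne.symm hec]),
    Finset.card_insert_of_notMem (by simp [Ne.symm hed]), Finset.card_singleton]

/-- An element of prime order moving few points. -/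
theorem of_small_support (htr : IsMultiplyPretransitive G α 4) (hn : 5 ≤ Fintype.card α) {f : Perm α}
    (hf : f ∈ G) {l : ℕ} (hl : l.Prime) (hlo : orderOf f = l) (hs : f.support.card ≤ 5)
    (hn8 : 8 ≤ Fintype.card α) : alternatingGroup α ≤ G := by
  haveI := Fact.mk hl
  have hprim := primitive htr (by omega)
  have hpow : f ^ l ^ 1 = 1 := by rw [pow_one, ← hlo, pow_orderOf_eq_one]
  have hdvd : l ∣ f.support.card := by
    have h := Equiv.Perm.card_compl_support_modEq (p := l) (n := 1) hpow
    rw [Finset.card_compl] at h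
    exact (Nat.sub_sub_self (Finset.card_le_univ f.support)) ▸
      (Nat.modEq_iff_dvd' (Nat.sub_le _ _)).1 h
  have hf1 : f ≠ 1 := fun e => hl.one_lt.ne (by rw [← hlo, e, orderOf_one])
  have hpos : 0 < f.support.card := Finset.card_pos.2 (Finset.nonempty_of_ne_empty fun e =>
    hf1 (support_eq_empty_iff.1 e))
  obtain ⟨m, hm⟩ := hdvd
  have hl5 : l ≤ 5 := le_trans (Nat.le_of_dvd hpos ⟨m, hm⟩) hs
  have hl2 := hl.two_le
  have hm0 : 0 < m := Nat.pos_of_mul_pos_left (hm ▸ hpos)
  by_cases h2 : l = 2 ∧ m = 2
  · obtain ⟨rfl, rfl⟩ := h2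
    refine of_double_swap htr hn hf (fun x => ?_) hm
    rw [← Perm.mul_apply, ← pow_two]
    rw [pow_one] at hpow
    rw [hpow, Perm.one_apply]
  have hm1 : m = 1 := by
    by_contra hm1
    have hm2 : 2 ≤ m := by omega
    have : l * 2 ≤ l * m := Nat.mul_le_mul_left l hm2
    have hle : l = 2 := by
      by_contra hne
      have h3 : 3 ≤ l := by omega
      omega
    subst hle
    exact h2 ⟨rfl, by omega⟩
  rw [hm1, mul_one] at hm
  by_cases hswap : l = 2
  · subst hswap
    exact (subgroup_eq_top_of_isPreprimitive_of_isSwap_mem hprim f (card_support_eq_two.1 hm) hf).symm ▸ le_top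
  exact alternatingGroup_le_of_prime_cycle hprim (Equiv.Perm.isCycle_of_prime_order (by rw [hlo]; exact hl)
    (by rw [hlo, hm]; omega)) hf (by rwa [hm]) (Or.inr (by rw [hm]; omega))

theorem not_sharp_nine (htr : IsMultiplyPretransitive G α 4) (hn : Fintype.card α = 9) :
    alternatingGroup α ≤ G := by
  classical
  by_cases hsmall : ∀ g ∈ G, g.support.card ≤ 5 → g = 1
  swap
  · push Not at hsmall
    obtain ⟨g, hg, hgs, hg1⟩ := hsmall
    obtain ⟨l, hl, hld⟩ := Nat.exists_prime_and_dvd (show orderOf g ≠ 1 from fun e => hg1 (orderOf_eq_one_iff.1 e))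
    refine of_small_support htr (by omega) (G.pow_mem hg (orderOf g / l)) hl
      (orderOf_pow_orderOf_div (orderOf_pos g).ne' hld)
      ((Finset.card_le_card (support_pow_le g _)).trans hgs) (by omega)
  haveI := htr
  have hidx : ∀ s : Finset α, s.card ≤ 4 →
      (fixingSubgroup G (s : Set α)).index * (Nat.card α - s.card).factorial = (Nat.card α).factorial := by
    intro s hs
    exact IsMultiplyPretransitive.index_of_fixingSubgroup_mul
      (MulAction.isMultiplyPretransitive_of_le (G := G) (α := α) (n := 4) hs (by simp [hn]))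
      (Set.ncard_coe_finset s)
  have hcardα : Nat.card α = 9 := by rw [Nat.card_eq_fintype_card, hn]
  -- four points have trivial stabiliser
  obtain ⟨F4, hF4⟩ : ∃ s : Finset α, s.card = 4 := by
    obtain ⟨s, -, hs⟩ := Finset.exists_subset_card_eq (s := (Finset.univ : Finset α)) (n := 4)
      (by rw [Finset.card_univ]; omega)
    exact ⟨s, hs⟩
  have h4 : fixingSubgroup G (F4 : Set α) = ⊥ := by
    rw [eq_bot_iff]
    intro g hg
    rw [Subgroup.mem_bot]
    refine Subtype.ext (hsmall g g.2 ?_)
    have hd : Disjoint (g : Perm α).support F4 := by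
      rw [Finset.disjoint_left]
      intro x hx hxF
      exact mem_support.1 hx ((mem_fixingSubgroup_iff _).1 hg x hxF)
    have := Finset.card_union_of_disjoint hd
    have := Finset.card_le_univ ((g : Perm α).support ∪ F4)
    omega
  have hG : Nat.card G = 3024 := by
    have h := hidx F4 hF4.le
    rw [h4, Subgroup.index_bot, hF4, hcardα, show Nat.factorial (9 - 4) = 120 from rfl,
      show Nat.factorial 9 = 362880 from rfl] at h
    omega
  -- two points
  obtain ⟨a, b, hab⟩ : ∃ a b : α, a ≠ b := Fintype.exists_pair_of_one_lt_card (by omega)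
  have h2c : ({a, b} : Finset α).card = 2 := Finset.card_pair hab
  let H : Subgroup G := fixingSubgroup G (({a, b} : Finset α) : Set α)
  have hH : ∀ g : G, g ∈ H ↔ (g : Perm α) a = a ∧ (g : Perm α) b = b := by
    intro g
    show g ∈ fixingSubgroup G _ ↔ _
    rw [mem_fixingSubgroup_iff]
    refine ⟨fun h => ⟨h a (by simp), h b (by simp)⟩, fun h x hx => ?_⟩
    simp only [Finset.coe_insert, Finset.coe_singleton, Set.mem_insert_iff, Set.mem_singleton_iff] at hx
    rcases hx with rfl | rfl
    · exact h.1
    · exact h.2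
  have hHc : Nat.card H = 42 := by
    have h := hidx {a, b} (by omega)
    rw [h2c, hcardα, show Nat.factorial (9 - 2) = 5040 from rfl, show Nat.factorial 9 = 362880 from rfl] at h
    have h' : H.index = 72 := by change (fixingSubgroup G _).index = 72; omega
    have h'' := H.card_mul_index
    rw [h', hG] at h''
    omega
  haveI := Fact.mk (show Nat.Prime 7 by norm_num)
  obtain ⟨S⟩ : Nonempty (Sylow 7 H) := inferInstance
  have hSc : Nat.card S = 7 := by
    rw [S.card_eq_multiplicity, hHc]
    simp only [show (42 : ℕ) = 7 * 6 from rfl]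
    rw [Nat.factorization_mul (by norm_num) (by norm_num)]
    simp [Nat.Prime.factorization_self (show Nat.Prime 7 by norm_num),
      Nat.factorization_eq_zero_of_not_dvd (show ¬ 7 ∣ 6 by norm_num)]
  have hSn : (S : Subgroup H).Normal := by
    have hdvd : Nat.card (Sylow 7 H) ∣ 6 := by
      have h := S.card_dvd_index
      have h2 := (S : Subgroup H).card_mul_index
      rw [show Nat.card (S : Subgroup H) = 7 from hSc, hHc] at h2
      rwa [show (S : Subgroup H).index = 6 by omega] at h
    have hmod := card_sylow_modEq_one 7 H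
    have hle := Nat.le_of_dvd (by norm_num) hdvd
    have h1 : Nat.card (Sylow 7 H) = 1 := by
      unfold Nat.ModEq at hmod
      omega
    haveI : Subsingleton (Sylow 7 H) := (Nat.card_eq_one_iff_unique.1 h1).1
    exact S.normal_of_subsingleton
  obtain ⟨c0, hc0⟩ := exists_prime_orderOf_dvd_card' (G := (S : Subgroup H)) 7 (by rw [hSc])
  set c : Perm α := (((c0 : H) : G) : Perm α) with hc
  have hco : orderOf c = 7 := by rw [hc, Subgroup.orderOf_coe, Subgroup.orderOf_coe, Subgroup.orderOf_coe, hc0]
  obtain ⟨hca, hcb⟩ := (hH (c0 : H)).1 (c0 : H).2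
  -- `c` is a seven cycle on the other points
  have hcs : c.support = ({a, b} : Finset α)ᶜ := by
    have hle : c.support ⊆ ({a, b} : Finset α)ᶜ := fun x hx => by
      rw [Finset.mem_compl, Finset.mem_insert, Finset.mem_singleton]
      rintro (rfl | rfl)
      · exact mem_support.1 hx hca
      · exact mem_support.1 hx hcb
    refine Finset.eq_of_subset_of_card_le hle ?_
    have hpow : c ^ 7 ^ 1 = 1 := by rw [pow_one, ← hco, pow_orderOf_eq_one]
    have h := Equiv.Perm.card_compl_support_modEq (p := 7) (n := 1) hpow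
    rw [Finset.card_compl, hn] at h
    have hle' := Finset.card_le_card hle
    rw [Finset.card_compl, h2c, hn] at hle'
    have hpos : 0 < c.support.card := Finset.card_pos.2 (Finset.nonempty_of_ne_empty fun e => by
      rw [support_eq_empty_iff.1 e, orderOf_one] at hco; omega)
    unfold Nat.ModEq at h
    rw [Finset.card_compl, h2c, hn]
    omega
  have hcyc : c.IsCycle := isCycle_of_prime_order (by rw [hco]; norm_num) (by
    rw [hco, hcs, Finset.card_compl, h2c, hn]; norm_num)
  -- the setwise stabiliser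
  obtain ⟨w, hw, hweq⟩ := exists_mem_eqOn htr (by omega) {a, b} (by omega) (Equiv.swap a b)
  have hwa : w a = b := by rw [hweq a (by simp), swap_apply_left]
  have hwb : w b = a := by rw [hweq b (by simp), swap_apply_right]
  -- some element swapping the two points centralises `c`
  let f : {g : G // g ∈ H ∨ ((g : Perm α) a = b ∧ (g : Perm α) b = a)} → Perm α := fun g => g.1 * c * (g.1 : Perm α)⁻¹
  have himg : ∀ g, f g ∈ Finset.image (fun i => c ^ i) ((Finset.range 7).erase 0) := by
    rintro ⟨g, hg⟩
    have hpres : (g : Perm α) * c * (g : Perm α)⁻¹ ∈ zpowers c := by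
      have hgN : g * (c0 : H) * g⁻¹ ∈ H := by
        rw [hH]
        have key : ∀ x, ((g * ((c0 : H) : G) * g⁻¹ : G) : Perm α) ((g : Perm α) x) = (g : Perm α) (c x) := fun x => by
          simp [hc]
        rcases hg with hg | ⟨hga, hgb⟩
        · obtain ⟨hga, hgb⟩ := (hH g).1 hg
          exact ⟨by have := key a; rwa [hga, hca, hga] at this, by have := key b; rwa [hgb, hcb, hgb] at this⟩
        · exact ⟨by have := key b; rwa [hgb, hcb, hgb] at this, by have := key a; rwa [hga, hca, hga] at this⟩
      have hS' : (⟨g * (c0 : H) * g⁻¹, hgN⟩ : H) ∈ (S : Subgroup H) := by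
        haveI := hSn
        haveI := Sylow.unique_of_normal S hSn
        obtain ⟨T, hT⟩ := (IsPGroup.of_card (n := 1) (by
          rw [Nat.card_zpowers, Subgroup.orderOf_mk, ← Subgroup.orderOf_coe, pow_one]
          refine Eq.trans ?_ hco
          exact orderOf_injective (MulAut.conj (g : Perm α)).toMonoidHom (MulAut.conj _).injective c) :
            IsPGroup 7 (zpowers (⟨g * (c0 : H) * g⁻¹, hgN⟩ : H))).exists_le_sylow
        exact (congrArg (fun U : Sylow 7 H => (U : Subgroup H)) (Subsingleton.elim T S)).le (hT (mem_zpowers _))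
      have hz : zpowers c0 = ⊤ := eq_top_of_card_eq _ (by rw [Nat.card_zpowers, hc0, hSc])
      obtain ⟨i, hi⟩ := mem_zpowers_iff.1 (hz.ge (mem_top (⟨_, hS'⟩ : (S : Subgroup H))))
      refine mem_zpowers_iff.2 ⟨i, ?_⟩
      have := congrArg (fun z : (S : Subgroup H) => (((z : H) : G) : Perm α)) hi
      simpa [hc] using this
    obtain ⟨i, hi, hieq⟩ : ∃ i < 7, c ^ i = (g : Perm α) * c * (g : Perm α)⁻¹ := by
      obtain ⟨i, hi⟩ := (mem_powers_iff_mem_zpowers).2 hpres
      exact ⟨i % 7, Nat.mod_lt _ (by norm_num), by rw [← hco, pow_mod_orderOf]; exact hi⟩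
    refine Finset.mem_image.2 ⟨i, Finset.mem_erase.2 ⟨fun h0 => ?_, Finset.mem_range.2 hi⟩, hieq⟩
    subst h0
    have h1 : c = 1 := by
      have := hieq.symm
      rw [pow_zero, mul_inv_eq_one, mul_eq_left] at this
      exact this
    rw [h1, orderOf_one] at hco; omega
  -- pigeonhole: two elements on different sides act alike
  obtain ⟨g₁, hg₁, g₂, hg₂, heq⟩ : ∃ g₁ : G, g₁ ∈ H ∧ ∃ g₂ : G, ((g₂ : Perm α) a = b ∧ (g₂ : Perm α) b = a) ∧
      (g₁ : Perm α) * c * (g₁ : Perm α)⁻¹ = (g₂ : Perm α) * c * (g₂ : Perm α)⁻¹ := by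
    -- `H` realises all six automorphisms
    let T := (Finset.range 7).erase 0 |>.image (fun i => c ^ i)
    have hT : T.card ≤ 6 := Finset.card_image_le.trans (by simp)
    let fH : H → T := fun g => ⟨(g : G) * c * ((g : G) : Perm α)⁻¹, himg ⟨g, Or.inl g.2⟩⟩
    have hker : ∀ g g' : H, fH g = fH g' → g⁻¹ * g' ∈ zpowers (c0 : H) := by
      intro g g' h
      have h' := congrArg Subtype.val h
      simp only [fH] at h'
      set z : Perm α := (((g⁻¹ * g' : H) : G) : Perm α) with hz
      have hzc : Commute z c := by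
        have e : z = ((g : G) : Perm α)⁻¹ * ((g' : G) : Perm α) := by simp [hz]
        show z * c = c * z
        rw [e]
        calc ((g : G) : Perm α)⁻¹ * ((g' : G) : Perm α) * c
            = ((g : G) : Perm α)⁻¹ * (((g' : G) : Perm α) * c * ((g' : G) : Perm α)⁻¹) * ((g' : G) : Perm α) := by group
          _ = ((g : G) : Perm α)⁻¹ * (((g : G) : Perm α) * c * ((g : G) : Perm α)⁻¹) * ((g' : G) : Perm α) := by rw [← h']
          _ = _ := by group
      obtain ⟨hza, hzb⟩ := (hH _).1 (g⁻¹ * g' : H).2
      obtain ⟨x, hx⟩ : c.support.Nonempty := Finset.card_pos.1 (by rw [hcs, Finset.card_compl, h2c, hn]; norm_num)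
      have hzx : z x ∈ c.support := by
        rw [mem_support]
        intro e
        refine mem_support.1 hx (z.injective ?_)
        calc z (c x) = c (z x) := congrArg (fun s : Perm α => s x) hzc.eq
          _ = z x := e
      obtain ⟨i, hi⟩ := hcyc.sameCycle (mem_support.1 hx) (mem_support.1 hzx)
      refine mem_zpowers_iff.2 ⟨i, Subtype.ext (Subtype.ext ?_)⟩
      rw [Subgroup.coe_zpow, Subgroup.coe_zpow]
      show c ^ i = z
      refine Equiv.ext fun y => ?_
      by_cases hy : y ∈ c.support
      · obtain ⟨j, rfl⟩ := hcyc.sameCycle (mem_support.1 hx) (mem_support.1 hy)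
        calc (c ^ i) ((c ^ j) x) = (c ^ j) ((c ^ i) x) := by rw [← Perm.mul_apply, ← zpow_add, add_comm, zpow_add, Perm.mul_apply]
          _ = (c ^ j) (z x) := by rw [hi]
          _ = z ((c ^ j) x) := congrArg (fun s : Perm α => s x) ((hzc.zpow_right j).eq.symm)
      · rw [show (c ^ i) y = y from zpow_apply_eq_self_of_apply_eq_self (notMem_support.1 hy) i]
        rw [hcs, Finset.mem_compl, not_not, Finset.mem_insert, Finset.mem_singleton] at hy
        rcases hy with rfl | rfl
        · exact hza.symm
        · exact hzb.symm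
    have hsurj : Function.Surjective fH := by
      by_contra hns
      obtain ⟨t, ht⟩ := not_forall.1 hns
      push Not at ht
      have hle : Nat.card H ≤ Nat.card ({t' : T // t' ≠ t} × zpowers (c0 : H)) := by
        let sec : {t' : T // t' ≠ t} → H := fun t' =>
          if h : ∃ g, fH g = t'.1 then h.choose else 1
        refine Nat.card_le_card_of_injective (fun g => (⟨fH g, ht g⟩, ⟨(sec ⟨fH g, ht g⟩)⁻¹ * g, ?_⟩)) ?_
        · refine hker _ _ ?_
          have h : ∃ g', fH g' = fH g := ⟨g, rfl⟩
          simp only [sec, dif_pos h]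
          exact h.choose_spec
        · intro g g' h
          simp only [Prod.mk.injEq, Subtype.mk.injEq] at h
          obtain ⟨h1, h2⟩ := h
          simp only [h1] at h2
          exact mul_left_cancel h2
      have hc7 : Nat.card (zpowers (c0 : H)) = 7 := by rw [Nat.card_zpowers, Subgroup.orderOf_coe, hc0]
      rw [hHc, Nat.card_prod, hc7, Nat.card_eq_fintype_card, Fintype.card_subtype_compl,
        Fintype.card_subtype_eq, Fintype.card_coe] at hle
      omega
    obtain ⟨g₁, hg₁⟩ := hsurj ⟨(⟨w, hw⟩ : G) * c * ((⟨w, hw⟩ : G) : Perm α)⁻¹, himg ⟨⟨w, hw⟩, Or.inr ⟨hwa, hwb⟩⟩⟩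
    exact ⟨g₁, g₁.2, ⟨w, hw⟩, ⟨hwa, hwb⟩, congrArg Subtype.val hg₁⟩
  -- the transposition
  set z : Perm α := (g₁ : Perm α)⁻¹ * (g₂ : Perm α) with hz
  have hzc : Commute z c := by
    show z * c = c * z
    rw [hz]
    calc (g₁ : Perm α)⁻¹ * (g₂ : Perm α) * c
        = (g₁ : Perm α)⁻¹ * ((g₂ : Perm α) * c * (g₂ : Perm α)⁻¹) * (g₂ : Perm α) := by group
      _ = (g₁ : Perm α)⁻¹ * ((g₁ : Perm α) * c * (g₁ : Perm α)⁻¹) * (g₂ : Perm α) := by rw [heq]
      _ = _ := by group
  obtain ⟨h1a, h1b⟩ := (hH g₁).1 hg₁
  have hza : z a = b := by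
    rw [hz, Perm.mul_apply, hg₂.1, Perm.inv_eq_iff_eq, h1b]
  have hzb : z b = a := by
    rw [hz, Perm.mul_apply, hg₂.2, Perm.inv_eq_iff_eq, h1a]
  obtain ⟨x, hx⟩ : c.support.Nonempty := Finset.card_pos.1 (by rw [hcs, Finset.card_compl, h2c, hn]; norm_num)
  have hzpow : ∀ y ∈ c.support, ∀ i : ℤ, z x = (c ^ i) x → z y = (c ^ i) y := by
    intro y hy i hi
    obtain ⟨j, rfl⟩ := hcyc.sameCycle (mem_support.1 hx) (mem_support.1 hy)
    calc z ((c ^ j) x) = (c ^ j) (z x) := congrArg (fun s : Perm α => s x) (hzc.zpow_right j).eq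
      _ = (c ^ i) ((c ^ j) x) := by rw [hi, ← Perm.mul_apply, ← zpow_add, add_comm, zpow_add, Perm.mul_apply]
  have hzx : z x ∈ c.support := by
    rw [mem_support]
    intro e
    refine mem_support.1 hx (z.injective ?_)
    calc z (c x) = c (z x) := congrArg (fun s : Perm α => s x) hzc.eq
      _ = z x := e
  obtain ⟨i, hi⟩ := hcyc.sameCycle (mem_support.1 hx) (mem_support.1 hzx)
  have hzG : z ∈ G := G.mul_mem (G.inv_mem g₁.2) g₂.2
  have hoff : ∀ y, y ∈ c.support → (z ^ 7) y = y := by
    intro y hy
    have hk : ∀ k : ℕ, (z ^ k) y = (c ^ (i * k)) y := by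
      intro k
      induction k with
      | zero => simp
      | succ k ih =>
        have hmem : (c ^ (i * k)) y ∈ c.support := Equiv.Perm.zpow_apply_mem_support.2 hy
        rw [pow_succ', Perm.mul_apply, ih, hzpow _ hmem i hi.symm, ← Perm.mul_apply, ← zpow_add]
        congr 2
        push_cast; ring
    rw [hk 7, zpow_mul', zpow_natCast, ← hco, pow_orderOf_eq_one, one_zpow, Perm.one_apply]
  have h7 : (z ^ 7) a = b := by
    simp only [pow_succ, pow_zero, one_mul, Perm.mul_apply, hza, hzb]
  have hsw : (z ^ 7).IsSwap := by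
    refine ⟨a, b, hab, Equiv.ext fun y => ?_⟩
    by_cases hy : y ∈ c.support
    · rw [hoff y hy, swap_apply_of_ne_of_ne]
      · intro e; subst e; exact mem_support.1 hy hca
      · intro e; subst e; exact mem_support.1 hy hcb
    · rw [hcs, Finset.mem_compl, not_not, Finset.mem_insert, Finset.mem_singleton] at hy
      rcases hy with rfl | rfl
      · rw [h7, swap_apply_left]
      · rw [swap_apply_right]
        simp only [pow_succ, pow_zero, one_mul, Perm.mul_apply, hza, hzb]
  exact (subgroup_eq_top_of_isPreprimitive_of_isSwap_mem (primitive htr (by omega)) _ hsw (G.pow_mem hzG 7)).symm ▸ le_top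

end Cfsg.Lib.ManyTransitive
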