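/-
An `(r+1)`-fold transitive group of degree `kp + r` contains the alternating group.
-/
import Cfsg.Agent.SolvStruct.ManyTransitive

set_option linter.style.haveILetI false
set_option linter.unusedSectionVars false

namespace Cfsg.Lib.ManyTransitive

open Equiv Equiv.Perm MulAction Subgroup Cfsg.Lib.PermGen
open scoped commutatorElement

theorem three_commutator : ∀ v : Perm (Fin 3), v ≠ 1 → ∃ τ : Perm (Fin 3),
    (τ * v * τ⁻¹ * v⁻¹).support.card = 3 := by decide

set_option maxRecDepth 100000 in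
set_option maxHeartbeats 4000000 in
theorem four_commutator : ∀ v : Perm (Fin 4), v ≠ 1 → ∃ τ : Perm (Fin 4),
    (τ * v * τ⁻¹ * v⁻¹).support.card = 4 ∧ (τ * v * τ⁻¹ * v⁻¹) ^ 2 = 1 := by decide

variable {α : Type*} [Fintype α] [DecidableEq α]

/-- The permutations preserving a set. -/
def keep (O : Set α) : Subgroup (Perm α) where
  carrier := {x | ∀ b, x b ∈ O ↔ b ∈ O}
  one_mem' := fun b => by simp
  mul_mem' := fun {x y} hx hy b => by rw [Perm.mul_apply, hx, hy]
  inv_mem' := fun {x} hx b => by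
    have h := hx (x⁻¹ b)
    rw [← Perm.mul_apply, mul_inv_cancel, Perm.one_apply] at h
    exact h.symm

/-- Restriction to a preserved set. -/
def restrictTo (O : Set α) : keep O →* Perm O :=
  MonoidHom.mk' (fun x => (x : Perm α).subtypePerm x.2) fun _ _ => Equiv.ext fun _ => rfl

@[simp] theorem restrictTo_apply (O : Set α) (x : keep O) (b : O) :
    ((restrictTo O x b : O) : α) = (x : Perm α) b := rfl

theorem main (G : Subgroup (Perm α)) {k p r : ℕ} (hp : p.Prime) (hn : Fintype.card α = k * p + r)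
    (hk : 1 ≤ k) (hpk : k < p) (hrk : k < r) (hex : ¬ (k = 1 ∧ r = 2))
    (hG : IsMultiplyPretransitive G α (r + 1)) : alternatingGroup α ≤ G := by
  classical
  haveI := Fact.mk hp
  have hr3 : 3 ≤ r := by omega
  have hkp : 2 ≤ k * p := le_trans hp.two_le (Nat.le_mul_of_pos_left p hk)
  have hr1 : r + 1 ≤ Fintype.card α := by omega
  haveI := hG
  have h4 : IsMultiplyPretransitive G α 4 :=
    MulAction.isMultiplyPretransitive_of_le (G := G) (α := α) (n := r + 1) (by omega) (by simp [hr1])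
  have hprim := primitive h4 (by omega)
  obtain ⟨e⟩ : Nonempty (Fin r ↪ α) := Function.Embedding.nonempty_of_card_le (by simp; omega)
  set D : Finset α := Finset.univ.map e with hD
  have hDc : D.card = r := by simp [hD]
  have hDe : ∀ i, e i ∈ D := fun i => Finset.mem_map_of_mem e (Finset.mem_univ i)
  have hDex : ∀ d ∈ D, ∃ i, e i = d := fun d hd => by
    obtain ⟨i, -, hi⟩ := Finset.mem_map.1 hd
    exact ⟨i, hi⟩
  -- the pointwise stabiliser and a Sylow subgroup
  set Q : Subgroup (Perm α) := G ⊓ fixingSubgroup (Perm α) (D : Set α) with hQ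
  have hQD : ∀ x ∈ Q, ∀ d ∈ D, x d = d := fun x hx d hd => (mem_fixingSubgroup_iff _).1 hx.2 d hd
  obtain ⟨S⟩ : Nonempty (Sylow p Q) := inferInstance
  set P : Subgroup (Perm α) := (S : Subgroup Q).map Q.subtype with hP
  have hPQ : P ≤ Q := map_subtype_le _
  have hPp : IsPGroup p P := S.2.map _
  have hPD : ∀ π ∈ P, ∀ d ∈ D, π d = d := fun π hπ => hQD π (hPQ hπ)
  have hmove : ∀ a, a ∉ D → ∃ π ∈ P, π a ≠ a := by
    intro a ha
    by_contra hfix
    push Not at hfix
    have horb : orbit Q a = (↑(Dᶜ) : Set α) := by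
      ext b
      rw [Finset.mem_coe, Finset.mem_compl, mem_orbit_iff]
      constructor
      · rintro ⟨⟨x, hx⟩, rfl⟩ hb
        have h : x (x a) = x a := hQD x hx _ hb
        exact ha ((x.injective h) ▸ hb)
      · intro hb
        obtain ⟨g, hg, hgeq⟩ := exists_mem_eqOn hG hr1 (insert a D)
          ((Finset.card_insert_le _ _).trans (by omega)) (Equiv.swap a b)
        refine ⟨⟨g, hg, (mem_fixingSubgroup_iff _).2 fun d hd => ?_⟩, ?_⟩
        · show g d = d
          rw [hgeq d (Finset.mem_insert_of_mem hd),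
            swap_apply_of_ne_of_ne (by rintro rfl; exact ha hd) (by rintro rfl; exact hb hd)]
        · show g a = b
          rw [hgeq a (Finset.mem_insert_self _ _), swap_apply_left]
    have hidx : (stabilizer Q a).index = k * p := by
      rw [index_stabilizer, horb, Set.ncard_coe_finset, Finset.card_compl, hn, hDc]; omega
    have hle : (S : Subgroup Q) ≤ stabilizer Q a := fun x hx => hfix x ⟨x, hx, rfl⟩
    exact S.not_dvd_index ((hidx ▸ dvd_mul_left p k).trans (index_dvd_of_le hle))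
  -- orbits
  have horbD : ∀ a, a ∉ D → ∀ b ∈ orbit P a, b ∉ D := by
    rintro a ha _ ⟨π, rfl⟩ hb
    have h : (π : Perm α) ((π : Perm α) a) = (π : Perm α) a := hPD π π.2 _ hb
    exact ha (((π : Perm α).injective h) ▸ hb)
  have horbp : ∀ a, a ∉ D → Nat.card (orbit P a) = p := by
    intro a ha
    obtain ⟨j, hj⟩ := hPp.card_orbit a
    obtain ⟨π, hπ, hπa⟩ := hmove a ha
    have h2 : 2 ≤ Nat.card (orbit P a) := by
      rw [Nat.card_coe_set_eq]
      have hsub : ({a, π a} : Set α) ⊆ orbit P a := by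
        rintro x (rfl | rfl)
        · exact mem_orbit_self _
        · exact ⟨⟨π, hπ⟩, rfl⟩
      have h := Set.ncard_le_ncard hsub (Set.toFinite _)
      rwa [Set.ncard_pair (Ne.symm hπa)] at h
    have hle : Nat.card (orbit P a) ≤ k * p := by
      rw [Nat.card_coe_set_eq]
      have h := Set.ncard_le_ncard (show orbit P a ⊆ (↑(Dᶜ) : Set α) from fun b hb => by
        rw [Finset.mem_coe, Finset.mem_compl]; exact horbD a ha b hb) (Set.toFinite _)
      rw [Set.ncard_coe_finset, Finset.card_compl, hn, hDc] at h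
      omega
    rw [hj] at h2 hle ⊢
    have hlt : p ^ j < p ^ 2 := lt_of_le_of_lt hle (by rw [pow_two]; exact Nat.mul_lt_mul_of_pos_right hpk hp.pos)
    have hj2 := (Nat.pow_lt_pow_iff_right hp.one_lt).1 hlt
    interval_cases j
    · simp at h2
    · exact pow_one p
  have hkeep : ∀ a : α, P ≤ keep (orbit P a) := by
    intro a π hπ b
    constructor
    · intro hb
      have h : orbit P (π b) = orbit P b := orbit_smul (⟨π, hπ⟩ : P) b
      exact mem_orbit_symm.1 ((orbit_eq_iff.1 ((h.symm.trans (orbit_eq_iff.2 hb)).symm)))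
    · intro hb
      have h : orbit P (π b) = orbit P b := orbit_smul (⟨π, hπ⟩ : P) b
      exact orbit_eq_iff.1 (h.trans (orbit_eq_iff.2 hb))
  have hindex : ∀ a, a ∉ D → (stabilizer P a).index = p := fun a ha => by
    rw [index_stabilizer, ← Nat.card_coe_set_eq]; exact horbp a ha
  have hstabn : ∀ a, a ∉ D → (stabilizer P a).Normal := by
    intro a ha
    refine Subgroup.normal_of_index_eq_minFac_card ?_
    rw [hindex a ha]
    obtain ⟨n, hn'⟩ := hPp.exists_card_eq
    have hn0 : n ≠ 0 := fun h0 => by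
      have h := (stabilizer P a).index_dvd_card
      rw [hindex a ha, hn', h0, pow_zero] at h
      exact hp.not_dvd_one h
    rw [hn', Nat.pow_minFac hn0, hp.minFac_eq]
  have hstab : ∀ a, a ∉ D → ∀ σ ∈ P, σ a = a → ∀ b ∈ orbit P a, σ b = b := by
    rintro a ha σ hσ hσa _ ⟨τ, rfl⟩
    have h := (hstabn a ha).conj_mem (⟨σ, hσ⟩ : P) hσa τ⁻¹
    have h' : ((τ : Perm α)⁻¹ * σ * (τ : Perm α)) a = a := by
      simpa [mem_stabilizer_iff, Subgroup.smul_def] using h
    show σ ((τ : Perm α) a) = (τ : Perm α) a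
    have h'' := congrArg (τ : Perm α) h'
    simpa [Perm.mul_apply] using h''
  have hexp : ∀ π ∈ P, π ^ p = 1 := by
    intro π hπ
    refine Equiv.ext fun a => ?_
    rw [Perm.one_apply]
    by_cases ha : a ∈ D
    · exact hPD _ (P.pow_mem hπ p) a ha
    · haveI := hstabn a ha
      have h := (stabilizer P a).pow_index_mem (⟨π, hπ⟩ : P)
      rw [hindex a ha] at h
      exact h
  -- restriction to an orbit
  let R : ∀ a : α, keep (orbit P a) →* Perm (orbit P a) := fun a => restrictTo _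
  have hagree : ∀ a, a ∉ D → ∀ π ρ : Perm α, ∀ (hπ : π ∈ P) (hρ : ρ ∈ P), π a ≠ a →
      ∃ i : ℤ, R a ⟨ρ, hkeep a hρ⟩ = R a ⟨π, hkeep a hπ⟩ ^ i := by
    intro a ha π ρ hπ hρ hπa
    obtain ⟨i, hi⟩ : ∃ i : ℤ, ρ a = (π ^ i) a := by
      have hsub : orbit (zpowers π) a ⊆ orbit P a := by
        rintro _ ⟨z, rfl⟩
        exact ⟨⟨z, zpowers_le.2 hπ z.2⟩, rfl⟩
      obtain ⟨j, hj⟩ := (hPp.to_le (zpowers_le.2 hπ)).card_orbit a
      have h2 : 2 ≤ Nat.card (orbit (zpowers π) a) := by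
        rw [Nat.card_coe_set_eq]
        have hsub' : ({a, π a} : Set α) ⊆ orbit (zpowers π) a := by
          rintro x (rfl | rfl)
          · exact mem_orbit_self _
          · exact ⟨⟨π, mem_zpowers π⟩, rfl⟩
        have h := Set.ncard_le_ncard hsub' (Set.toFinite _)
        rwa [Set.ncard_pair (Ne.symm hπa)] at h
      have hpe : p ≤ Nat.card (orbit (zpowers π) a) := by
        rw [hj] at h2 ⊢
        rcases Nat.eq_zero_or_pos j with rfl | hj0
        · simp at h2
        · exact Nat.le_self_pow hj0.ne' p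
      have heq := Set.eq_of_subset_of_ncard_le hsub (by
        rw [← Nat.card_coe_set_eq, ← Nat.card_coe_set_eq, horbp a ha]; exact hpe) (Set.toFinite _)
      obtain ⟨⟨z, hz⟩, hza⟩ : ρ a ∈ orbit (zpowers π) a := by rw [heq]; exact ⟨⟨ρ, hρ⟩, rfl⟩
      obtain ⟨i, rfl⟩ := mem_zpowers_iff.1 hz
      exact ⟨i, hza.symm⟩
    refine ⟨i, ?_⟩
    rw [← map_zpow]
    refine Equiv.ext fun b => Subtype.ext ?_
    have hσ : π ^ (-i) * ρ ∈ P := P.mul_mem (P.zpow_mem hπ _) hρ
    have h := hstab a ha _ hσ (by rw [Perm.mul_apply, hi, ← Perm.mul_apply, ← zpow_add, neg_add_cancel, zpow_zero, Perm.one_apply]) b b.2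
    rw [Perm.mul_apply] at h
    have h' := congrArg (π ^ i) h
    rw [← Perm.mul_apply, ← zpow_add, add_neg_cancel, zpow_zero, Perm.one_apply] at h'
    rw [restrictTo_apply, restrictTo_apply]
    simpa using h'
  have hcentral : ∀ a, a ∉ D → ∀ π, ∀ (hπ : π ∈ P), π a ≠ a → ∀ z : Perm (orbit P a),
      Commute z (R a ⟨π, hkeep a hπ⟩) → ∃ j : ℤ, z = R a ⟨π, hkeep a hπ⟩ ^ j := by
    intro a ha π hπ hπa z hz
    let a' : orbit P a := ⟨a, mem_orbit_self _⟩
    obtain ⟨τ, hτ⟩ : ∃ τ : P, (τ : Perm α) a = (z a' : α) := (z a').2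
    obtain ⟨j, hj⟩ := hagree a ha π τ hπ τ.2 hπa
    refine ⟨j, Equiv.ext fun b => ?_⟩
    obtain ⟨σ, hσ⟩ : ∃ σ : P, (σ : Perm α) a = (b : α) := b.2
    obtain ⟨i, hi⟩ := hagree a ha π σ hπ σ.2 hπa
    set c := R a ⟨π, hkeep a hπ⟩ with hc
    have hb : b = (c ^ i) a' := by
      rw [← hi]; exact Subtype.ext hσ.symm
    have hza : z a' = (c ^ j) a' := by
      rw [← hj]; exact Subtype.ext hτ.symm
    rw [hb]
    calc z ((c ^ i) a') = (c ^ i) (z a') := congrArg (fun s : Perm (orbit P a) => s a') (hz.zpow_right i).eq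
      _ = (c ^ i) ((c ^ j) a') := by rw [hza]
      _ = (c ^ j) ((c ^ i) a') := by rw [← Perm.mul_apply, ← zpow_add, add_comm, zpow_add, Perm.mul_apply]
  -- the normaliser
  set N : Subgroup (Perm α) := G ⊓ normalizer (P : Set (Perm α)) with hN
  have hNP : ∀ x ∈ N, ∀ π ∈ P, x * π * x⁻¹ ∈ P := fun x hx π hπ =>
    (mem_normalizer_iff.1 hx.2 π).1 hπ
  have hNP' : ∀ x ∈ N, ∀ π ∈ P, x⁻¹ * π * x ∈ P := fun x hx π hπ => by
    have h := hNP _ (N.inv_mem hx) π hπ
    rwa [inv_inv] at h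
  have hND : ∀ x ∈ N, ∀ d ∈ D, x d ∈ D := by
    intro x hx d hd
    by_contra h
    obtain ⟨π, hπ, hne⟩ := hmove _ h
    refine hne ?_
    have h1 := hPD _ (hNP' x hx π hπ) d hd
    have h2 := congrArg x h1
    simpa [Perm.mul_apply] using h2
  have hNe : ∀ x : N, ∀ i, ∃ j, e j = (x : Perm α) (e i) := fun x i => hDex _ (hND x x.2 _ (hDe i))
  choose f hf using hNe
  have hfbij : ∀ x, Function.Bijective (f x) := fun x => by
    refine (Finite.injective_iff_bijective).1 fun i j h => ?_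
    have := congrArg e h
    rw [hf, hf] at this
    exact e.injective ((x : Perm α).injective this)
  let res : N →* Perm (Fin r) := MonoidHom.mk' (fun x => Equiv.ofBijective _ (hfbij x)) fun x y => by
    refine Equiv.ext fun i => e.injective ?_
    show e (f (x * y) i) = e (f x (f y i))
    rw [hf, hf, hf]
    rfl
  have hres : ∀ x i, e (res x i) = (x : Perm α) (e i) := fun x i => hf x i
  have hsurj : Function.Surjective res := by
    intro σ
    obtain ⟨g, hg, hgeq⟩ := exists_mem_eqOn hG hr1 D (by omega) (σ.viaEmbedding e)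
    have hgD : ∀ d ∈ D, g d ∈ D := fun d hd => by
      obtain ⟨i, rfl⟩ := hDex d hd
      rw [hgeq _ hd, viaEmbedding_apply]; exact hDe _
    have hgD' : ∀ d ∈ D, g⁻¹ d ∈ D := fun d hd => by
      obtain ⟨i, rfl⟩ := hDex d hd
      have h : g (e (σ⁻¹ i)) = e i := by rw [hgeq _ (hDe _), viaEmbedding_apply]; simp
      rw [← h]; simp [hDe]
    have hgQ : ∀ q ∈ Q, g * q * g⁻¹ ∈ Q := fun q hq => by
      refine ⟨G.mul_mem (G.mul_mem hg hq.1) (G.inv_mem hg), (mem_fixingSubgroup_iff _).2 fun d hd => ?_⟩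
      show g (q (g⁻¹ d)) = d
      rw [hQD q hq _ (hgD' d hd)]; simp
    have hle : P.map (MulAut.conj g).toMonoidHom ≤ Q := by
      rintro _ ⟨π, hπ, rfl⟩
      exact hgQ π (hPQ hπ)
    let T : Sylow p Q := Sylow.ofCard ((P.map (MulAut.conj g).toMonoidHom).subgroupOf Q) (by
      rw [Nat.card_congr (subgroupOfEquivOfLe hle).toEquiv,
        Subgroup.card_map_of_injective (MulAut.conj g).injective, hP,
        Subgroup.card_map_of_injective Q.subtype_injective, S.card_eq_multiplicity])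
    obtain ⟨h, hh⟩ := MulAction.exists_smul_eq Q T S
    refine ⟨⟨(h : Perm α) * g, G.mul_mem h.2.1 hg, mem_normalizer_fintype fun π hπ => ?_⟩, ?_⟩
    · have h1 : (⟨g * π * g⁻¹, hgQ π (hPQ hπ)⟩ : Q) ∈ (T : Subgroup Q) := ⟨π, hπ, rfl⟩
      have h2 : h * ⟨g * π * g⁻¹, hgQ π (hPQ hπ)⟩ * h⁻¹ ∈ (S : Subgroup Q) := by
        rw [← hh, Cfsg.Lib.Transfer.sylow_smul_coe]
        exact ⟨_, h1, rfl⟩
      refine ⟨_, h2, ?_⟩
      show (h : Perm α) * (g * π * g⁻¹) * (h : Perm α)⁻¹ = _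
      group
    · refine Equiv.ext fun i => e.injective ?_
      rw [hres]
      show (h : Perm α) (g (e i)) = _
      rw [hQD _ h.2 _ (hgD _ (hDe i)), hgeq _ (hDe i), viaEmbedding_apply]
  -- the orbit space
  let O : Type _ := {s : Set α // ∃ a, a ∉ D ∧ s = orbit P a}
  have hximg : ∀ x ∈ N, ∀ a : α, x '' orbit P a = orbit P (x a) := by
    intro x hx a
    ext b
    constructor
    · rintro ⟨_, ⟨π, rfl⟩, rfl⟩
      refine ⟨⟨x * π * x⁻¹, hNP x hx _ π.2⟩, ?_⟩
      show (x * (π : Perm α) * x⁻¹) (x a) = x ((π : Perm α) a)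
      simp [Perm.mul_apply]
    · rintro ⟨π, rfl⟩
      refine ⟨(x⁻¹ * (π : Perm α) * x) a, ⟨⟨_, hNP' x hx _ π.2⟩, rfl⟩, ?_⟩
      show x ((x⁻¹ * (π : Perm α) * x) a) = (π : Perm α) (x a)
      simp [Perm.mul_apply]
  have hxO : ∀ x ∈ N, ∀ a, a ∉ D → x a ∉ D := fun x hx a ha h => ha (by
    have h' := hND _ (N.inv_mem hx) _ h
    simpa using h')
  let act : N → O → O := fun x s => ⟨(x : Perm α) '' s.1, by
    obtain ⟨a, ha, hs⟩ := s.2
    exact ⟨(x : Perm α) a, hxO x x.2 a ha, by rw [hs, hximg x x.2]⟩⟩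
  have hact1 : ∀ s, act 1 s = s := fun s => Subtype.ext (by simp [act])
  have hactm : ∀ x y s, act (x * y) s = act x (act y s) := fun x y s => Subtype.ext (by
    simp only [act, Subgroup.coe_mul, Perm.coe_mul, Set.image_comp])
  let Ψ : N →* Perm O := MonoidHom.mk' (fun x =>
    { toFun := act x
      invFun := act x⁻¹
      left_inv := fun s => by rw [← hactm, inv_mul_cancel, hact1]
      right_inv := fun s => by rw [← hactm, mul_inv_cancel, hact1] }) fun x y => Equiv.ext (hactm x y)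
  set K0 := Ψ.ker with hK0
  have hK0keep : ∀ x ∈ K0, ∀ a, a ∉ D → (x : Perm α) ∈ keep (orbit P a) := by
    intro x hx a ha b
    have h : act x ⟨orbit P a, a, ha, rfl⟩ = ⟨orbit P a, a, ha, rfl⟩ :=
      Equiv.congr_fun (show Ψ x = 1 from hx) _
    have h' : (x : Perm α) '' orbit P a = orbit P a := congrArg Subtype.val h
    conv_lhs => rw [← h']
    exact (x : Perm α).injective.mem_set_image
  have hOcard : Nat.card O = k := by
    let f0 : {a : α // a ∉ D} → O := fun a => ⟨orbit P a.1, a.1, a.2, rfl⟩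
    have hfib : ∀ s : O, Nat.card {a // f0 a = s} = p := by
      rintro ⟨_, b, hb, rfl⟩
      rw [← horbp b hb]
      refine Nat.card_congr ⟨fun a => ⟨a.1.1, orbit_eq_iff.1 (congrArg Subtype.val a.2)⟩,
        fun c => ⟨⟨c.1, horbD b hb c c.2⟩, Subtype.ext (orbit_eq_iff.2 c.2)⟩, fun a => rfl, fun c => rfl⟩
    haveI : Finite O := Subtype.finite
    haveI := Fintype.ofFinite O
    have h := Nat.card_congr (Equiv.sigmaFiberEquiv f0)
    rw [Nat.card_sigma] at h
    simp only [hfib, Finset.sum_const, smul_eq_mul, Finset.card_univ] at h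
    rw [Nat.card_eq_fintype_card (α := {a : α // a ∉ D}), Fintype.card_subtype_compl, Fintype.card_coe,
      hn, hDc] at h
    rw [Nat.card_eq_fintype_card]
    exact Nat.eq_of_mul_eq_mul_right hp.pos (h.trans (by omega))
  haveI hKn : (K0.map res).Normal := (MonoidHom.normal_ker Ψ).map res hsurj
  have hKidx : (K0.map res).index ≤ k.factorial := by
    haveI : Finite O := Subtype.finite
    refine le_trans (Nat.le_of_dvd (Nat.pos_of_ne_zero index_ne_zero_of_finite) (index_map_dvd K0 hsurj)) ?_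
    rw [hK0, index_ker]
    refine le_trans (Nat.le_of_dvd Nat.card_pos (Subgroup.card_subgroup_dvd_card _)) ?_
    rw [Nat.card_perm, hOcard]
  -- pure elements
  have hpure : ∀ g : N, (∀ a, a ∉ D → (g : Perm α) a = a) → (g : Perm α).support.card = (res g).support.card := by
    intro g hg
    have hsup : (g : Perm α).support = (res g).support.map e := by
      ext a
      rw [mem_support, Finset.mem_map]
      constructor
      · intro ha
        obtain ⟨i, rfl⟩ := hDex a (by by_contra h; exact ha (hg a h))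
        refine ⟨i, mem_support.2 fun h => ha ?_, rfl⟩
        rw [← hres, h]
      · rintro ⟨i, hi, rfl⟩ ha
        rw [← hres] at ha
        exact mem_support.1 hi (e.injective ha)
    rw [hsup, Finset.card_map]
  by_cases hcyc : ∃ π ∈ P, ∃ a, π a ≠ a ∧ ∀ b, π b ≠ b → b ∈ orbit P a
  · obtain ⟨π, hπ, a, hπa, hall⟩ := hcyc
    have haD : a ∉ D := fun h => hπa (hPD π hπ a h)
    have hord : orderOf π = p := orderOf_eq_prime (hexp π hπ) fun h => hπa (by rw [h]; rfl)
    have hle : π.support.card ≤ p := by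
      rw [← horbp a haD, Nat.card_coe_set_eq, ← Set.ncard_coe_finset]
      exact Set.ncard_le_ncard (fun b hb => hall b (mem_support.1 hb)) (Set.toFinite _)
    have hlt : π.support.card < 2 * orderOf π := by rw [hord]; have := hp.pos; omega
    have hcy : π.IsCycle := isCycle_of_prime_order (hord ▸ hp) hlt
    have hcard : π.support.card = p := by rw [← hcy.orderOf, hord]
    have hpkp : p ≤ k * p := Nat.le_mul_of_pos_left p hk
    exact alternatingGroup_le_of_prime_cycle hprim hcy (hPQ hπ).1 (by rwa [hcard]) (Or.inr (by omega))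
  push Not at hcyc
  by_cases hr5 : 5 ≤ r
  · -- the second derived subgroup of the kernel
    have hcomm : ∀ a (ha : a ∉ D), ∃ C : Subgroup (Perm (orbit P a)), (∀ u ∈ C, ∀ v ∈ C, Commute u v) ∧
        ∀ g (hg : g ∈ ⁅K0, K0⁆), R a ⟨(g : Perm α), hK0keep g (commutator_le_left K0 K0 hg) a ha⟩ ∈ C := by
      intro a ha
      obtain ⟨π, hπ, hπa⟩ := hmove a ha
      set c := R a ⟨π, hkeep a hπ⟩ with hc
      refine ⟨zpowers c, fun u hu v hv => ?_, ?_⟩
      · obtain ⟨i, rfl⟩ := mem_zpowers_iff.1 hu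
        obtain ⟨j, rfl⟩ := mem_zpowers_iff.1 hv
        exact (Commute.refl c).zpow_zpow i j
      let F : K0 →* Perm (orbit P a) := (R a).comp
        (MonoidHom.mk' (fun x : K0 => (⟨((x : N) : Perm α), hK0keep x x.2 a ha⟩ : keep (orbit P a))) fun _ _ => rfl)
      have hFc : ∀ x : K0, ∃ m : ℤ, F x * c * (F x)⁻¹ = c ^ m := by
        intro x
        obtain ⟨m, hm⟩ := hagree a ha π _ hπ (hNP _ (x : N).2 π hπ) hπa
        refine ⟨m, ?_⟩
        rw [← hm]
        show R a _ * R a _ * (R a _)⁻¹ = _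
        rw [← map_inv, ← map_mul, ← map_mul]
        rfl
      have hC : ∀ x y : K0, F ⁅x, y⁆ ∈ zpowers c := by
        intro x y
        obtain ⟨m, hm⟩ := hFc x
        obtain ⟨l, hl⟩ := hFc y
        have hconj : ∀ (z : Perm (orbit P a)) (i : ℤ), z * c ^ i * z⁻¹ = (z * c * z⁻¹) ^ i := fun z i => by
          rw [← MulAut.conj_apply, map_zpow, MulAut.conj_apply]
        have e1 : F x * F y * c * (F x * F y)⁻¹ = c ^ (l * m) := by
          rw [show F x * F y * c * (F x * F y)⁻¹ = F x * (F y * c * (F y)⁻¹) * (F x)⁻¹ by group,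
            hl, hconj, hm, ← zpow_mul, mul_comm]
        have e2 : F y * F x * c * (F y * F x)⁻¹ = c ^ (l * m) := by
          rw [show F y * F x * c * (F y * F x)⁻¹ = F y * (F x * c * (F x)⁻¹) * (F y)⁻¹ by group,
            hm, hconj, hl, ← zpow_mul]
        obtain ⟨j, hj⟩ := hcentral a ha π hπ hπa (F ⁅x, y⁆) (by
          show Commute (F ⁅x, y⁆) c
          have h : Commute (F ⁅x, y⁆) (c ^ (l * m)) := by
            rw [map_commutatorElement, commutatorElement_def]
            refine mul_inv_eq_iff_eq_mul.1 ?_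
            calc F x * F y * (F x)⁻¹ * (F y)⁻¹ * c ^ (l * m) * (F x * F y * (F x)⁻¹ * (F y)⁻¹)⁻¹
                = F x * F y * (F x)⁻¹ * (F y)⁻¹ * (F y * F x * c * (F y * F x)⁻¹) *
                    (F x * F y * (F x)⁻¹ * (F y)⁻¹)⁻¹ := by rw [e2]
              _ = F x * F y * c * (F x * F y)⁻¹ := by group
              _ = c ^ (l * m) := e1
          have hgen : zpowers (c ^ (l * m)) = zpowers c := by
            refine Subgroup.eq_of_le_of_card_ge (zpowers_le.2 (zpow_mem (mem_zpowers c) _)) (le_of_eq ?_)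
            rw [Nat.card_zpowers, Nat.card_zpowers, ← e2, ← MulAut.conj_apply]
            exact (orderOf_injective (MulAut.conj (F y * F x)).toMonoidHom (MulAut.conj _).injective c).symm
          obtain ⟨i, hi⟩ := mem_zpowers_iff.1 (hgen.ge (mem_zpowers c))
          rw [← hi]
          exact h.zpow_right i)
        exact mem_zpowers_iff.2 ⟨j, hj.symm⟩
      intro g hg
      have hle : ⁅K0, K0⁆ ≤ ((zpowers c).comap F).map K0.subtype := by
        rw [Subgroup.commutator_le]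
        intro x hx y hy
        exact ⟨⁅(⟨x, hx⟩ : K0), ⟨y, hy⟩⁆, hC _ _, rfl⟩
      obtain ⟨g', hg', rfl⟩ := hle hg
      exact hg'
    have hfix : ∀ g ∈ ⁅⁅K0, K0⁆, ⁅K0, K0⁆⁆, ∀ a, a ∉ D → (g : Perm α) a = a := by
      intro g hg a ha
      obtain ⟨C, hC1, hC2⟩ := hcomm a ha
      have hle : ⁅⁅K0, K0⁆, ⁅K0, K0⁆⁆ ≤ (stabilizer (Perm α) a).comap N.subtype := by
        rw [Subgroup.commutator_le]
        intro x hx y hy
        show ((⁅x, y⁆ : N) : Perm α) a = a
        have h := (hC1 _ (hC2 x hx) _ (hC2 y hy)).eq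
        rw [← commutatorElement_eq_one_iff_mul_comm, ← map_commutatorElement] at h
        exact congrArg Subtype.val (Equiv.congr_fun h ⟨a, mem_orbit_self a⟩)
      exact hle hg
    haveI : Nontrivial (K0.map res) := by
      rw [nontrivial_iff_ne_bot]
      intro h
      have h' := hKidx
      rw [h, Subgroup.index_bot, Nat.card_perm, Nat.card_fin] at h'
      exact absurd h' (not_le.2 ((Nat.factorial_lt (by omega)).2 hrk))
    have hA : alternatingGroup (Fin r) ≤ K0.map res :=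
      Equiv.Perm.alternatingGroup_le_of_normal (by rw [Nat.card_fin]; exact hr5) ‹_›
    have hAA : ⁅alternatingGroup (Fin r), alternatingGroup (Fin r)⁆ = alternatingGroup (Fin r) :=
      commutator_alternatingGroup_eq_self (by rw [Nat.card_fin]; exact hr5)
    have h3 : (alternatingGroup (Fin r)) ≤ (⁅⁅K0, K0⁆, ⁅K0, K0⁆⁆).map res := by
      rw [map_commutator, map_commutator]
      calc alternatingGroup (Fin r)
          = ⁅⁅alternatingGroup (Fin r), alternatingGroup (Fin r)⁆, ⁅alternatingGroup (Fin r), alternatingGroup (Fin r)⁆⁆ := by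
            rw [hAA, hAA]
        _ ≤ _ := commutator_mono (commutator_mono hA hA) (commutator_mono hA hA)
    obtain ⟨σ, hσ⟩ : ∃ σ : Perm (Fin r), σ.IsThreeCycle := ⟨_, Equiv.Perm.isThreeCycle_swap_mul_swap_same
      (a := (⟨0, by omega⟩ : Fin r)) (b := ⟨1, by omega⟩) (c := ⟨2, by omega⟩)
      (by simp) (by simp) (by simp)⟩
    obtain ⟨g, hg, hgσ⟩ := h3 hσ.mem_alternatingGroup
    refine alternatingGroup_le_of_isPreprimitive_of_isThreeCycle_mem hprim (card_support_eq_three_iff.1 ?_) g.2.1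
    rw [hpure g (hfix g hg), hgσ]
    exact hσ.card_support
  -- at most four points in `D`
  have hk3 : k ≤ 3 := by omega
  have htwo : ∀ ρ ∈ P, ∀ a b, a ∉ D → b ∉ D → ρ a = a → ρ b = b → orbit P a ≠ orbit P b → ρ = 1 := by
    intro ρ hρ a b ha hb hρa hρb hab
    by_contra h1
    obtain ⟨c, hc⟩ : ∃ c, ρ c ≠ c := by
      by_contra h; push Not at h; exact h1 (Equiv.ext h)
    obtain ⟨d, hd, hdc⟩ := hcyc ρ hρ c hc
    have hcD : c ∉ D := fun h => hc (hPD ρ hρ c h)
    have hdD : d ∉ D := fun h => hd (hPD ρ hρ d h)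
    let f4 : Fin 4 → O := ![⟨_, a, ha, rfl⟩, ⟨_, b, hb, rfl⟩, ⟨_, c, hcD, rfl⟩, ⟨_, d, hdD, rfl⟩]
    have hne : ∀ {u v : α}, u ∉ D → ρ u = u → ρ v ≠ v → orbit P u ≠ orbit P v := fun {u v} hu hρu hρv h =>
      hρv (hstab u hu ρ hρ hρu v (h ▸ mem_orbit_self v))
    have hinj : Function.Injective f4 := by
      intro i j h
      have h' := congrArg Subtype.val h
      have e1 := hne ha hρa hc
      have e2 := hne ha hρa hd
      have e3 := hne hb hρb hc
      have e4 := hne hb hρb hd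
      have e5 : orbit P c ≠ orbit P d := fun h => hdc (h ▸ mem_orbit_self d)
      fin_cases i <;> fin_cases j <;> simp [f4] at h' ⊢ <;>
        first
          | exact hab h' | exact hab h'.symm | exact e1 h' | exact e1 h'.symm | exact e2 h' | exact e2 h'.symm
          | exact e3 h' | exact e3 h'.symm | exact e4 h' | exact e4 h'.symm | exact e5 h' | exact e5 h'.symm
    haveI : Finite O := Subtype.finite
    have := Nat.card_le_card_of_injective f4 hinj
    rw [Nat.card_fin, hOcard] at this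
    omega
  have hmult : ∀ x ∈ K0, ∃ m : ℤ, ∀ π ∈ P, (x : Perm α) * π * (x : Perm α)⁻¹ = π ^ m := by
    intro x hx
    by_cases hcy : ∃ π₀ ∈ P, ∀ π ∈ P, π ∈ zpowers π₀
    · obtain ⟨π₀, hπ₀, hall⟩ := hcy
      obtain ⟨m, hm⟩ := mem_zpowers_iff.1 (hall _ (hNP x (x : N).2 π₀ hπ₀))
      refine ⟨m, fun π hπ => ?_⟩
      obtain ⟨i, rfl⟩ := mem_zpowers_iff.1 (hall π hπ)
      rw [← MulAut.conj_apply, map_zpow, MulAut.conj_apply, ← hm, ← zpow_mul, ← zpow_mul, mul_comm]
    push Not at hcy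
    -- every orbit has a nontrivial element fixing it
    have hfixer : ∀ a, a ∉ D → ∃ ρ ∈ P, ρ ≠ 1 ∧ ρ a = a := by
      intro a ha
      obtain ⟨π, hπ, hπa⟩ := hmove a ha
      obtain ⟨σ, hσ, hσn⟩ := hcy π hπ
      obtain ⟨i, hi⟩ := hagree a ha π σ hπ hσ hπa
      refine ⟨π ^ (-i) * σ, P.mul_mem (P.zpow_mem hπ _) hσ, fun h => hσn (mem_zpowers_iff.2 ⟨i, ?_⟩), ?_⟩
      · rw [zpow_neg, inv_mul_eq_one] at h
        exact h
      · rw [← map_zpow] at hi
        have h := congrArg Subtype.val (Equiv.congr_fun hi ⟨a, mem_orbit_self a⟩)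
        rw [restrictTo_apply, restrictTo_apply] at h
        rw [Perm.mul_apply, show σ a = (π ^ i) a by simpa using h, ← Perm.mul_apply, ← zpow_add,
          neg_add_cancel, zpow_zero, Perm.one_apply]
    -- an element fixing one orbit is scaled
    have hscale : ∀ ρ ∈ P, ∀ a b, a ∉ D → b ∉ D → ρ a = a → orbit P a ≠ orbit P b → ρ b ≠ b →
        ∃ m : ℤ, (x : Perm α) * ρ * (x : Perm α)⁻¹ = ρ ^ m := by
      intro ρ hρ a b ha hb hρa hab hρb
      obtain ⟨m, hm⟩ := hagree b hb ρ _ hρ (hNP x (x : N).2 ρ hρ) hρb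
      refine ⟨m, mul_inv_eq_one.1 (htwo _ (P.mul_mem (hNP x (x : N).2 ρ hρ) (P.inv_mem (P.zpow_mem hρ m)))
        a b ha hb ?_ ?_ hab)⟩
      · have h1 : (ρ ^ m)⁻¹ a = a := by
          rw [← zpow_neg]; exact zpow_apply_eq_self_of_apply_eq_self hρa _
        rw [Perm.mul_apply, h1, Perm.mul_apply, Perm.mul_apply,
          hstab a ha ρ hρ hρa _ ((((keep (orbit P a)).inv_mem (hK0keep x hx a ha)) a).2 (mem_orbit_self a))]
        simp
      · have hs : ∀ c ∈ orbit P b, ((x : Perm α) * ρ * (x : Perm α)⁻¹) c = (ρ ^ m) c := fun c hc => by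
          rw [← map_zpow] at hm
          have h := congrArg Subtype.val (Equiv.congr_fun hm ⟨c, hc⟩)
          exact h
        rw [Perm.mul_apply, hs _ ((((keep (orbit P b)).inv_mem ((keep (orbit P b)).zpow_mem (hkeep b hρ) m)) b).2
          (mem_orbit_self b))]
        simp
    obtain ⟨a₁, ha₁⟩ : ∃ a, a ∉ D := by
      obtain ⟨a, -, ha⟩ := Finset.exists_mem_notMem_of_card_lt_card
        (s := D) (t := (Finset.univ : Finset α)) (by rw [Finset.card_univ, hDc]; omega)
      exact ⟨a, ha⟩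
    obtain ⟨ρ₁, hρ₁, hρ₁1, hρ₁a⟩ := hfixer a₁ ha₁
    obtain ⟨a₂, ha₂⟩ : ∃ b, ρ₁ b ≠ b := by
      by_contra h; push Not at h; exact hρ₁1 (Equiv.ext h)
    have ha₂D : a₂ ∉ D := fun h => ha₂ (hPD ρ₁ hρ₁ _ h)
    have h12 : orbit P a₁ ≠ orbit P a₂ := fun h =>
      ha₂ (hstab a₁ ha₁ ρ₁ hρ₁ hρ₁a a₂ (h ▸ mem_orbit_self a₂))
    obtain ⟨m, hm⟩ := hscale ρ₁ hρ₁ a₁ a₂ ha₁ ha₂D hρ₁a h12 ha₂
    obtain ⟨ρ₂, hρ₂, hρ₂1, hρ₂a⟩ := hfixer a₂ ha₂D
    have hρ₂a1 : ρ₂ a₁ ≠ a₁ := fun h => hρ₂1 (htwo ρ₂ hρ₂ a₁ a₂ ha₁ ha₂D h hρ₂a h12)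
    obtain ⟨m₂, hm₂⟩ := hscale ρ₂ hρ₂ a₂ a₁ ha₂D ha₁ hρ₂a h12.symm hρ₂a1
    obtain ⟨a₃, ha₃, ha₃n⟩ := hcyc ρ₂ hρ₂ a₁ hρ₂a1
    have ha₃D : a₃ ∉ D := fun h => ha₃ (hPD ρ₂ hρ₂ _ h)
    have h23 : orbit P a₂ ≠ orbit P a₃ := fun h =>
      ha₃ (hstab a₂ ha₂D ρ₂ hρ₂ hρ₂a a₃ (h ▸ mem_orbit_self a₃))
    have h13 : orbit P a₁ ≠ orbit P a₃ := fun h => ha₃n (h ▸ mem_orbit_self a₃)
    have hρ₁a3 : ρ₁ a₃ ≠ a₃ := fun h => hρ₁1 (htwo ρ₁ hρ₁ a₁ a₃ ha₁ ha₃D hρ₁a h h13)
    -- on an orbit where a scaled element moves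
    have hprop : ∀ ρ ∈ P, (x : Perm α) * ρ * (x : Perm α)⁻¹ = ρ ^ m → ∀ b, b ∉ D → ρ b ≠ b → ∀ π ∈ P,
        ((x : Perm α) * π * (x : Perm α)⁻¹) b = (π ^ m) b := by
      intro ρ hρ hρm b hb hρb π hπ
      obtain ⟨l, hl⟩ := hagree b hb ρ π hρ hπ hρb
      have hxk := hK0keep x hx b hb
      have h1 : R b ⟨_, hkeep b (hNP x (x : N).2 π hπ)⟩ = R b ⟨π ^ m, hkeep b (P.zpow_mem hπ m)⟩ := by
        have e1 : R b ⟨_, hkeep b (hNP x (x : N).2 π hπ)⟩ =
            R b ⟨_, hxk⟩ * R b ⟨π, hkeep b hπ⟩ * (R b ⟨_, hxk⟩)⁻¹ := by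
          rw [← map_inv, ← map_mul, ← map_mul]; rfl
        have e2 : R b ⟨ρ, hkeep b hρ⟩ ^ m = R b ⟨_, hxk⟩ * R b ⟨ρ, hkeep b hρ⟩ * (R b ⟨_, hxk⟩)⁻¹ := by
          rw [← map_inv, ← map_mul, ← map_mul, ← map_zpow]
          congr 1
          exact Subtype.ext hρm.symm
        have e3 : R b ⟨π ^ m, hkeep b (P.zpow_mem hπ m)⟩ = R b ⟨π, hkeep b hπ⟩ ^ m := by
          rw [← map_zpow]; rfl
        rw [e1, e3, hl, ← MulAut.conj_apply, map_zpow, MulAut.conj_apply, ← e2, ← zpow_mul, ← zpow_mul, mul_comm]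
      exact congrArg Subtype.val (Equiv.congr_fun h1 ⟨b, mem_orbit_self b⟩)
    have hm2 : (x : Perm α) * ρ₂ * (x : Perm α)⁻¹ = ρ₂ ^ m := by
      rw [hm₂]
      have h3 := hprop ρ₁ hρ₁ hm a₃ ha₃D hρ₁a3 ρ₂ hρ₂
      rw [hm₂] at h3
      refine mul_inv_eq_one.1 (htwo (ρ₂ ^ m₂ * (ρ₂ ^ m)⁻¹) (P.mul_mem (P.zpow_mem hρ₂ _) (P.inv_mem (P.zpow_mem hρ₂ _)))
        a₂ a₃ ha₂D ha₃D ?_ ?_ h23)
      · rw [← zpow_neg, ← zpow_add]; exact zpow_apply_eq_self_of_apply_eq_self hρ₂a _
      · rw [← zpow_neg, ← zpow_add, add_comm, zpow_add, Perm.mul_apply, h3, ← Perm.mul_apply, ← zpow_add,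
          neg_add_cancel, zpow_zero, Perm.one_apply]
    refine ⟨m, fun π hπ => Equiv.ext fun b => ?_⟩
    by_cases hb : b ∈ D
    · rw [hPD _ (hNP x (x : N).2 π hπ) b hb, hPD _ (P.zpow_mem hπ m) b hb]
    by_cases h1 : ρ₁ b = b
    · refine hprop ρ₂ hρ₂ hm2 b hb (fun h2 => ?_) π hπ
      by_cases he : orbit P a₁ = orbit P b
      · exact hρ₂a1 (hstab b hb ρ₂ hρ₂ h2 a₁ (he ▸ mem_orbit_self a₁))
      · exact hρ₁1 (htwo ρ₁ hρ₁ a₁ b ha₁ hb hρ₁a h1 he)
    · exact hprop ρ₁ hρ₁ hm b hb h1 π hπ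
  -- the pure element
  obtain ⟨v, hv, hv1⟩ : ∃ v ∈ K0.map res, v ≠ 1 := by
    by_contra h
    push Not at h
    have h' := hKidx
    rw [show K0.map res = ⊥ from eq_bot_iff.2 fun v hv => Subgroup.mem_bot.2 (h v hv),
      Subgroup.index_bot, Nat.card_perm, Nat.card_fin] at h'
    exact absurd h' (not_le.2 ((Nat.factorial_lt (by omega)).2 hrk))
  obtain ⟨x, hx, rfl⟩ := hv
  obtain ⟨m, hm⟩ := hmult x hx
  have hy : ∀ t : N, ∀ a, a ∉ D → (((t * x * t⁻¹ * x⁻¹ : N) : Perm α) ^ p) a = a := by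
    intro t a ha
    set y := t * x * t⁻¹ * x⁻¹ with hydef
    have hyK : y ∈ K0 := K0.mul_mem ((MonoidHom.normal_ker Ψ).conj_mem x hx t) (K0.inv_mem hx)
    obtain ⟨π, hπ, hπa⟩ := hmove a ha
    have hxinv : (x : Perm α)⁻¹ * π ^ m * x = π := by rw [← hm π hπ]; group
    have hycom : Commute (y : Perm α) π := by
      have h1 := hm _ (hNP' t t.2 π hπ)
      have h2 : ((t : Perm α)⁻¹ * π * t) ^ m = (t : Perm α)⁻¹ * π ^ m * t := by
        have h := map_zpow (MulAut.conj (t : Perm α)⁻¹) π m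
        simp only [MulAut.conj_apply, inv_inv] at h
        exact h.symm
      rw [h2] at h1
      have h3 : (t : Perm α) * x * (t : Perm α)⁻¹ * π * ((t : Perm α) * x * (t : Perm α)⁻¹)⁻¹ = π ^ m := by
        calc _ = (t : Perm α) * (x * ((t : Perm α)⁻¹ * π * t) * (x : Perm α)⁻¹) * (t : Perm α)⁻¹ := by group
          _ = _ := by rw [h1]; group
      have h4 : (y : Perm α) * π ^ m * (y : Perm α)⁻¹ = π ^ m := by
        calc (y : Perm α) * π ^ m * (y : Perm α)⁻¹
            = (t : Perm α) * x * (t : Perm α)⁻¹ * ((x : Perm α)⁻¹ * π ^ m * x) * ((t : Perm α) * x * (t : Perm α)⁻¹)⁻¹ := by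
              simp only [hydef, Subgroup.coe_mul, Subgroup.coe_inv]; group
          _ = _ := by rw [hxinv, h3]
      -- the multiplier is invertible
      have hm0 : ¬ (p : ℤ) ∣ m := by
        rintro ⟨l, rfl⟩
        have h5 := hm π hπ
        rw [zpow_mul, zpow_natCast, hexp π hπ, one_zpow] at h5
        exact hπa (by
          have : π = 1 := by
            calc π = (x : Perm α)⁻¹ * ((x : Perm α) * π * (x : Perm α)⁻¹) * x := by group
              _ = 1 := by rw [h5]; group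
          rw [this, Perm.one_apply])
      obtain ⟨u, w, huw⟩ := ((Nat.prime_iff_prime_int.1 hp).coprime_iff_not_dvd.2 hm0)
      have h6 : π = (π ^ m) ^ w := by
        rw [← zpow_mul]
        conv_lhs => rw [← zpow_one π, ← huw, zpow_add, mul_comm u, zpow_mul π (p : ℤ) u, zpow_natCast,
          hexp π hπ, one_zpow, one_mul, mul_comm w]
      rw [h6]
      exact Commute.zpow_right (mul_inv_eq_iff_eq_mul.1 h4) w
    obtain ⟨j, hj⟩ := hcentral a ha π hπ hπa (R a ⟨_, hK0keep y hyK a ha⟩) (by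
      show R a _ * R a _ = R a _ * R a _
      rw [← map_mul, ← map_mul]
      exact congrArg (R a) (Subtype.ext hycom.eq))
    have h7 : R a ⟨_, hK0keep y hyK a ha⟩ ^ p = 1 := by
      have h8 : R a ⟨π, hkeep a hπ⟩ ^ p = 1 := by
        rw [← map_pow, show (⟨π, hkeep a hπ⟩ : keep (orbit P a)) ^ p = 1 from Subtype.ext (hexp π hπ), map_one]
      rw [hj, ← zpow_natCast, ← zpow_mul, mul_comm, zpow_mul, zpow_natCast, h8, one_zpow]
    rw [← map_pow] at h7
    exact congrArg Subtype.val (Equiv.congr_fun h7 ⟨a, mem_orbit_self a⟩)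
  have hr4 : r = 3 ∨ r = 4 := by omega
  rcases hr4 with rfl | rfl
  · by_cases hp3 : p = 3
    · subst hp3
      by_cases hk2 : k = 2
      · subst hk2; exact not_sharp_nine h4 (by omega)
      obtain rfl : k = 1 := by omega
      obtain ⟨a, -, ha⟩ := Finset.exists_mem_notMem_of_card_lt_card
        (s := D) (t := (Finset.univ : Finset α)) (by rw [Finset.card_univ, hDc]; omega)
      obtain ⟨π, hπ, hπa⟩ := hmove a ha
      obtain ⟨b, hb, hbn⟩ := hcyc π hπ a hπa
      exfalso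
      haveI : Finite O := Subtype.finite
      have : Function.Injective (![⟨_, a, ha, rfl⟩, ⟨_, b, fun h => hb (hPD π hπ b h), rfl⟩] : Fin 2 → O) := by
        intro i j h
        have h' := congrArg Subtype.val h
        have e5 : orbit P a ≠ orbit P b := fun h => hbn (h ▸ mem_orbit_self b)
        fin_cases i <;> fin_cases j <;> simp at h' ⊢ <;> first | exact e5 h' | exact e5 h'.symm
      have := Nat.card_le_card_of_injective _ this
      rw [Nat.card_fin, hOcard] at this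
      omega
    obtain ⟨τ, hτ⟩ := three_commutator (res x) hv1
    obtain ⟨t, rfl⟩ := hsurj τ
    refine alternatingGroup_le_of_isPreprimitive_of_isThreeCycle_mem hprim (card_support_eq_three_iff.1 ?_)
      (G.pow_mem (t * x * t⁻¹ * x⁻¹ : N).2.1 p)
    have h := hpure ((t * x * t⁻¹ * x⁻¹) ^ p) (by intro a ha; exact hy t a ha)
    rw [Subgroup.coe_pow] at h
    rw [h, map_pow, map_mul, map_mul, map_mul, map_inv, map_inv]
    exact (isThreeCycle_pow (card_support_eq_three_iff.1 hτ)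
      fun h => hp3 ((Nat.prime_dvd_prime_iff_eq hp Nat.prime_three).1
        (by rw [(Nat.prime_dvd_prime_iff_eq Nat.prime_three hp).1 h]))).card_support
  · obtain ⟨τ, hτ, hτ2⟩ := four_commutator (res x) hv1
    obtain ⟨t, rfl⟩ := hsurj τ
    have hk1 : p ≠ 2 := by
      intro hp2
      subst hp2
      obtain rfl : k = 1 := by omega
      obtain ⟨a, -, ha⟩ := Finset.exists_mem_notMem_of_card_lt_card
        (s := D) (t := (Finset.univ : Finset α)) (by rw [Finset.card_univ, hDc]; omega)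
      obtain ⟨π, hπ, hπa⟩ := hmove a ha
      obtain ⟨b, hb, hbn⟩ := hcyc π hπ a hπa
      haveI : Finite O := Subtype.finite
      have : Function.Injective (![⟨_, a, ha, rfl⟩, ⟨_, b, fun h => hb (hPD π hπ b h), rfl⟩] : Fin 2 → O) := by
        intro i j h
        have h' := congrArg Subtype.val h
        have e5 : orbit P a ≠ orbit P b := fun h => hbn (h ▸ mem_orbit_self b)
        fin_cases i <;> fin_cases j <;> simp at h' ⊢ <;> first | exact e5 h' | exact e5 h'.symm
      have := Nat.card_le_card_of_injective _ this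
      rw [Nat.card_fin, hOcard] at this
      omega
    obtain ⟨s, hs⟩ := hp.odd_of_ne_two hk1
    set z : N := (t * x * t⁻¹ * x⁻¹) ^ p with hz
    have hzD : ∀ a, a ∉ D → (z : Perm α) a = a := by
      intro a ha; rw [hz, Subgroup.coe_pow]; exact hy t a ha
    have hzres : res z = res t * res x * (res t)⁻¹ * (res x)⁻¹ := by
      rw [hz, map_pow, map_mul, map_mul, map_mul, map_inv, map_inv, hs, pow_add, pow_one, pow_mul, hτ2,
        one_pow, one_mul]
    refine of_double_swap h4 (by omega) z.2.1 (fun a => ?_) (by rw [hpure z hzD, hzres, hτ])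
    by_cases ha : a ∈ D
    · obtain ⟨i, rfl⟩ := hDex a ha
      rw [← hres, ← hres, ← Perm.mul_apply, ← pow_two, hzres, hτ2, Perm.one_apply]
    · rw [hzD a ha, hzD a ha]

end Cfsg.Lib.ManyTransitive
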