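/-
The Krull-Schmidt theorem for finite groups.
-/
import Mathlib.Algebra.Group.Pi.Lemmas
import Mathlib.Algebra.Group.Subgroup.Basic
import Mathlib.Data.Fintype.BigOperators
import Mathlib.Data.Fin.Tuple.Basic
import Mathlib.GroupTheory.QuotientGroup.Basic
import Mathlib.SetTheory.Cardinal.Finite
import Mathlib.Dynamics.PeriodicPts.Defs
import Mathlib.Tactic

set_option linter.style.haveILetI false
set_option linter.unusedSectionVars false

universe u v

namespace Cfsg.Lib.SolvStruct.KrullSchmidt

open Subgroup

def Indec (A : Type u) [Group A] : Prop :=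
  Nontrivial A ∧ ∀ H K : Subgroup A, H.Normal → K.Normal → H ⊓ K = ⊥ → H ⊔ K = ⊤ → H = ⊥ ∨ K = ⊥

def IsNormalEnd {A : Type u} [Group A] (f : A →* A) : Prop := ∀ a x : A, f (a * x * a⁻¹) = a * f x * a⁻¹

variable {A : Type u} [Group A] [Finite A]

theorem injective_or_nilpotent (hA : Indec A) (f : A →* A) (hf : IsNormalEnd f) :
    Function.Injective f ∨ ∃ k : ℕ, ∀ x, (⇑f)^[k] x = 1 := by
  obtain ⟨m, n, hne, heq⟩ := Finite.exists_ne_map_eq_of_infinite (fun i : ℕ => (⇑f)^[i])
  wlog hmn : m < n generalizing m n
  · exact this n m hne.symm heq.symm (by omega)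
  -- an idempotent iterate
  obtain ⟨d, rfl⟩ : ∃ d, n = m + d + 1 := ⟨n - m - 1, by omega⟩
  have hper : ∀ j, m ≤ j → ∀ t : ℕ, (⇑f)^[j + t * (d + 1)] = (⇑f)^[j] := by
    intro j hj t
    induction t with
    | zero => simp
    | succ t ih =>
      obtain ⟨i, rfl⟩ := Nat.exists_eq_add_of_le hj
      rw [show m + i + (t + 1) * (d + 1) = (i + t * (d + 1)) + (m + d + 1) by ring, Function.iterate_add, ← heq,
        ← Function.iterate_add, show i + t * (d + 1) + m = m + i + t * (d + 1) by ring, ih]
  set k := (m + 1) * (d + 1) with hk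
  have hk0 : 0 < k := by positivity
  have hidem : ∀ x, (⇑f)^[k] ((⇑f)^[k] x) = (⇑f)^[k] x := fun x => by
    rw [← Function.iterate_add_apply]
    exact congrFun (hper k ((Nat.le_succ m).trans (Nat.le_mul_of_pos_right _ d.succ_pos)) (m + 1)) x
  let E : A →* A := MonoidHom.mk' ((⇑f)^[k]) (fun a b => iterate_map_mul f k a b)
  have hE : IsNormalEnd E := by
    intro a x
    show (⇑f)^[k] _ = a * (⇑f)^[k] x * a⁻¹
    generalize k = j
    induction j with
    | zero => rfl
    | succ j ih => rw [Function.iterate_succ_apply', Function.iterate_succ_apply', ih, hf]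
  have hrn : E.range.Normal := ⟨by rintro _ ⟨y, rfl⟩ a; exact ⟨a * y * a⁻¹, hE a y⟩⟩
  rcases hA.2 E.ker E.range inferInstance hrn
    (by
      rw [eq_bot_iff_forall]
      intro x hx
      obtain ⟨h1, y, rfl⟩ := Subgroup.mem_inf.1 hx
      exact (hidem y).symm.trans h1)
    (by
      rw [eq_top_iff]
      intro x _
      rw [show x = x * (E x)⁻¹ * E x by group]
      refine mul_mem_sup ?_ ⟨x, rfl⟩
      rw [MonoidHom.mem_ker, map_mul, map_inv, show E (E x) = E x from hidem x, mul_inv_cancel]) with h | h
  · left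
    intro a b hab
    refine (MonoidHom.ker_eq_bot_iff E).1 h ?_
    show (⇑f)^[k] a = (⇑f)^[k] b
    rw [show k = (k - 1) + 1 by omega, Function.iterate_succ_apply, Function.iterate_succ_apply, hab]
  · exact Or.inr ⟨k, fun x => (mem_bot.1 (h ▸ (⟨x, rfl⟩ : E x ∈ E.range)))⟩

theorem one_bijective (hA : Indec A) {f g : A →* A} (hf : IsNormalEnd f) (hg : IsNormalEnd g)
    (h : ∀ x, f x * g x = x) : Function.Injective f ∨ Function.Injective g := by
  by_contra! hno
  obtain ⟨k, hk⟩ := (injective_or_nilpotent hA g hg).resolve_left hno.2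
  obtain ⟨x, hx, hx1⟩ := (f.ker.bot_or_exists_ne_one).resolve_left fun e => hno.1 ((MonoidHom.ker_eq_bot_iff f).1 e)
  have hgx : g x = x := by simpa [(MonoidHom.mem_ker).1 hx] using h x
  exact hx1 (by rw [← hk x, Function.iterate_fixed hgx k])

variable {n : ℕ} {B : Fin n → Type v} [∀ j, Group (B j)] {X : Type*} [Group X]

/-- the part of the identity of `A` passing through the factors in `S` -/
def part (e : (A × X) ≃* ((j : Fin n) → B j)) (S : Finset (Fin n)) : A →* A where
  toFun a := (e.symm fun j => if j ∈ S then e (a, 1) j else 1).1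
  map_one' := by
    rw [show (fun j => if j ∈ S then e ((1 : A), (1 : X)) j else 1) = (1 : (j : Fin n) → B j) by
      funext j; split_ifs
      · rw [show ((1 : A), (1 : X)) = 1 from rfl, map_one]
      · rfl, map_one]
    rfl
  map_mul' a b := by
    rw [← Prod.fst_mul, ← map_mul]
    congr 2
    funext j
    simp only [Pi.mul_apply]
    split_ifs
    · rw [← Pi.mul_apply, ← map_mul, Prod.mk_mul_mk, one_mul]
    · rw [one_mul]

theorem part_normal (e : (A × X) ≃* ((j : Fin n) → B j)) (S : Finset (Fin n)) : IsNormalEnd (part e S) := by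
  intro a x
  show (e.symm fun j => if j ∈ S then e (a * x * a⁻¹, 1) j else 1).1 = a * (e.symm fun j => if j ∈ S then e (x, 1) j else 1).1 * a⁻¹
  have : (fun j => if j ∈ S then e (a * x * a⁻¹, (1 : X)) j else 1) =
      e (a, 1) * (fun j => if j ∈ S then e (x, (1 : X)) j else 1) * (e (a, 1))⁻¹ := by
    funext j
    simp only [Pi.mul_apply, Pi.inv_apply]
    split_ifs
    · rw [← Pi.inv_apply, ← map_inv, ← Pi.mul_apply, ← map_mul, ← Pi.mul_apply, ← map_mul]
      simp
    · rw [mul_one, mul_inv_cancel]
  rw [this, map_mul, map_mul, map_inv, MulEquiv.symm_apply_apply]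
  rfl

theorem exists_single (hA : Indec A) (e : (A × X) ≃* ((j : Fin n) → B j)) (S : Finset (Fin n)) :
    Function.Injective (part e S) → ∃ j, Function.Injective (part e {j}) := by
  classical
  induction S using Finset.induction with
  | empty =>
    intro h
    exfalso
    obtain ⟨x, hx⟩ := @exists_ne A hA.1 1
    refine hx (h ?_)
    show (e.symm fun j => if j ∈ (∅ : Finset (Fin n)) then e (x, 1) j else 1).1 = (e.symm fun j => if j ∈ (∅ : Finset (Fin n)) then e ((1 : A), (1 : X)) j else 1).1
    simp
  | insert j S hj ih =>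
    intro h
    have hsum : ∀ x, part e {j} x * part e S x = part e (insert j S) x := by
      intro x
      show (e.symm _).1 * (e.symm _).1 = (e.symm _).1
      rw [← Prod.fst_mul, ← map_mul]
      congr 2
      funext i
      simp only [Pi.mul_apply, Finset.mem_insert, Finset.mem_singleton]
      by_cases hi : i = j
      · subst hi; simp [hj]
      · simp [hi]
    let u : A ≃* A := MulEquiv.ofBijective _ (Finite.injective_iff_bijective.1 h)
    have hu : ∀ a y : A, u.symm (a * y * a⁻¹) = a * u.symm y * a⁻¹ := fun a y => by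
      apply u.injective
      rw [MulEquiv.apply_symm_apply]
      exact (show u (a * u.symm y * a⁻¹) = a * y * a⁻¹ by
        rw [show u (a * u.symm y * a⁻¹) = a * u (u.symm y) * a⁻¹ from part_normal e _ a _, MulEquiv.apply_symm_apply]).symm
    rcases one_bijective hA (f := u.symm.toMonoidHom.comp (part e {j})) (g := u.symm.toMonoidHom.comp (part e S))
        (fun a x => by simp [part_normal e _ a x, hu]) (fun a x => by simp [part_normal e _ a x, hu])
        (fun x => by
          show u.symm (part e {j} x) * u.symm (part e S x) = x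
          rw [← map_mul, hsum]
          exact u.symm_apply_apply x) with h1 | h1
    · exact ⟨j, Function.Injective.of_comp (f := u.symm) h1⟩
    · exact ih (Function.Injective.of_comp (f := u.symm) h1)

theorem main : ∀ (m n : ℕ) {A : Fin m → Type u} {B : Fin n → Type v} [∀ i, Group (A i)] [∀ j, Group (B j)]
    [∀ i, Finite (A i)] [∀ j, Finite (B j)] (_ : ∀ i, Indec (A i)) (_ : ∀ j, Indec (B j))
    (_ : ((i : Fin m) → A i) ≃* ((j : Fin n) → B j)), ∃ σ : Fin m ≃ Fin n, ∀ i, Nonempty (A i ≃* B (σ i)) := by
  classical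
  intro m
  induction m with
  | zero =>
    intro n A B _ _ _ _ _ hB e
    cases n with
    | zero => exact ⟨Equiv.refl _, fun i => i.elim0⟩
    | succ n =>
      exfalso
      obtain ⟨b, hb⟩ := @exists_ne (B 0) (hB 0).1 1
      refine hb ?_
      have : Function.update (1 : (j : Fin (n + 1)) → B j) 0 b = 1 :=
        e.symm.injective (Subsingleton.elim _ _)
      simpa using congrFun this 0
  | succ m ih =>
    intro n A B _ _ _ _ hA hB e
    let e0 : (A 0 × ((i : Fin m) → A i.succ)) ≃* ((j : Fin n) → B j) :=
      { (Fin.consEquiv A).trans e.toEquiv with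
        map_mul' := fun x y => by
          show e (Fin.cons (x * y).1 (x * y).2) = e (Fin.cons x.1 x.2) * e (Fin.cons y.1 y.2)
          rw [← map_mul]
          congr 1
          funext i
          refine Fin.cases ?_ (fun i => ?_) i <;> simp }
    have hfull : Function.Injective (part e0 Finset.univ) := by
      intro a b h
      have h' : (e0.symm fun j => if j ∈ (Finset.univ : Finset (Fin n)) then e0 (a, 1) j else 1).1 =
        (e0.symm fun j => if j ∈ (Finset.univ : Finset (Fin n)) then e0 (b, 1) j else 1).1 := h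
      simpa using h'
    obtain ⟨j, hj⟩ := exists_single (hA 0) e0 Finset.univ hfull
    cases n with
    | zero => exact j.elim0
    | succ n =>
    let β : A 0 →* B j := ((Pi.evalMonoidHom B j).comp e0.toMonoidHom).comp (MonoidHom.inl _ _)
    let α : B j →* A 0 := ((MonoidHom.fst _ _).comp e0.symm.toMonoidHom).comp (MonoidHom.mulSingle B j)
    have hαβ : ∀ a, α (β a) = part e0 {j} a := by
      intro a
      show (e0.symm (Pi.mulSingle j (e0 (a, 1) j))).1 = (e0.symm fun i => if i ∈ ({j} : Finset _) then e0 (a, 1) i else 1).1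
      congr 2
      funext i
      by_cases hi : i = j
      · subst hi; simp
      · simp [hi]
    have hbij := Finite.injective_iff_bijective.1 hj
    have hβi : Function.Injective β := fun a b h => hj (by rw [← hαβ, ← hαβ, h])
    haveI hβn : β.range.Normal := ⟨by
      rintro _ ⟨a, rfl⟩ g
      obtain ⟨q, hq⟩ := e0.surjective (Pi.mulSingle j g)
      refine ⟨q.1 * a * q.1⁻¹, ?_⟩
      show e0 (q.1 * a * q.1⁻¹, 1) j = g * e0 (a, 1) j * g⁻¹
      rw [show ((q.1 * a * q.1⁻¹, 1) : A 0 × ((i : Fin m) → A i.succ)) = q * (a, 1) * q⁻¹ by ext <;> simp,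
        map_mul, map_mul, map_inv, hq]
      simp⟩
    have hαi : Function.Injective α ∧ Function.Surjective β := by
      have hinf : α.ker ⊓ β.range = ⊥ := by
        rw [eq_bot_iff_forall]
        intro x hx
        obtain ⟨h1, a, rfl⟩ := Subgroup.mem_inf.1 hx
        rw [MonoidHom.mem_ker, hαβ] at h1
        rw [hj (h1.trans (map_one _).symm), map_one]
      have hsup : α.ker ⊔ β.range = ⊤ := by
        rw [eq_top_iff]
        intro x _
        obtain ⟨a, ha⟩ := hbij.2 (α x)
        rw [show x = x * (β a)⁻¹ * β a by group]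
        refine mul_mem_sup ?_ ⟨a, rfl⟩
        rw [MonoidHom.mem_ker, map_mul, map_inv, hαβ, ha, mul_inv_cancel]
      rcases (hB j).2 α.ker β.range inferInstance hβn hinf hsup with h | h
      · refine ⟨(MonoidHom.ker_eq_bot_iff α).1 h, ?_⟩
        rw [h, bot_sup_eq] at hsup
        exact MonoidHom.range_eq_top.1 hsup
      · exfalso
        obtain ⟨a, ha⟩ := @exists_ne (A 0) (hA 0).1 1
        exact ha (hβi (((mem_bot).1 (h ▸ (⟨a, rfl⟩ : β a ∈ β.range))).trans (map_one β).symm))
    let E0 : A 0 ≃* B j := MulEquiv.ofBijective β ⟨hβi, hαi.2⟩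
    -- cancel the first factor
    let γ : ((i : Fin m) → A i.succ) →* ((i : Fin n) → B (j.succAbove i)) :=
      MonoidHom.mk' (fun x i => e0 (1, x) (j.succAbove i)) (fun x y => by
        funext i
        show e0 (1, x * y) _ = _
        rw [show ((1 : A 0), x * y) = (1, x) * (1, y) by ext <;> simp, map_mul]
        rfl)
    have hγ : Function.Injective γ := by
      rw [← MonoidHom.ker_eq_bot_iff, eq_bot_iff_forall]
      intro x hx
      have h1 : e0 (1, x) = Pi.mulSingle j (e0 (1, x) j) := by
        funext i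
        by_cases hi : i = j
        · subst hi; simp
        · obtain ⟨i', rfl⟩ := Fin.exists_succAbove_eq hi
          rw [Pi.mulSingle_eq_of_ne hi]
          exact congrFun (MonoidHom.mem_ker.1 hx) i'
      have h2 : α (e0 (1, x) j) = 1 := by
        show (e0.symm (Pi.mulSingle j (e0 (1, x) j))).1 = 1
        rw [← h1, MulEquiv.symm_apply_apply]
      rw [hαi.1 (h2.trans (map_one α).symm), Pi.mulSingle_one] at h1
      exact congrArg Prod.snd (e0.injective (h1.trans (map_one e0).symm))
    have hcard : Nat.card ((i : Fin m) → A i.succ) = Nat.card ((i : Fin n) → B (j.succAbove i)) := by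
      have h1 := Nat.card_congr e0.toEquiv
      rw [Nat.card_prod, ← Nat.card_congr (Fin.insertNthEquiv B j), Nat.card_prod, Nat.card_congr E0.toEquiv] at h1
      exact Nat.eq_of_mul_eq_mul_left Nat.card_pos h1
    let γe : ((i : Fin m) → A i.succ) ≃* ((i : Fin n) → B (j.succAbove i)) :=
      MulEquiv.ofBijective γ ((Nat.bijective_iff_injective_and_card γ).2 ⟨hγ, hcard⟩)
    obtain ⟨σ, hσ⟩ := ih n (fun i => hA i.succ) (fun i => hB (j.succAbove i)) γe
    refine ⟨((finSuccEquiv m).trans σ.optionCongr).trans (finSuccEquiv' j).symm, fun i => ?_⟩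
    refine Fin.cases ?_ (fun i => ?_) i
    · simp only [Equiv.trans_apply, finSuccEquiv_zero, Equiv.optionCongr_apply, Option.map_none, finSuccEquiv'_symm_none]
      exact ⟨E0⟩
    · simp only [Equiv.trans_apply, finSuccEquiv_succ, Equiv.optionCongr_apply, Option.map_some, finSuccEquiv'_symm_some]
      exact hσ i

end Cfsg.Lib.SolvStruct.KrullSchmidt
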