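/-
Finite groups of exponent dividing six have `2`-length and `3`-length at most one.
-/
import Cfsg.Agent.OddLocal.CommutatorPLength
import Cfsg.Agent.PLocal.StableClosureApps
import Cfsg.Agent.Coprime.SolvableBasics
import Cfsg.Agent.Coprime.Sylow
import Cfsg.Agent.Chars.Burnside
import Cfsg.Agent.Blocks.ItoDegrees
import Cfsg.Agent.PGroups.Basic

set_option autoImplicit false
set_option linter.unusedSectionVars false
set_option linter.style.haveILetI false

namespace Cfsg.Lib.SolvStruct.ExpSix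

open Subgroup
open scoped commutatorElement

universe u

/-- a four-group permuted by an element of order three with vanishing norm acts trivially -/
theorem four_trivial {M : Type*} [CommGroup M] (a b s : M →* M) (ha : ∀ m, a (a m) = m)
    (hb : ∀ m, b (b m) = m) (hab : ∀ m, a (b m) = b (a m))
    (hsa : ∀ m, s (a m) = b (s m)) (hsb : ∀ m, s (b m) = a (b (s m)))
    (hs : ∀ m, s m = 1 → m = 1) (hN : ∀ m, m * s m * s (s m) = 1) (h3 : ∀ m : M, m ^ 3 = 1) :
    ∀ m, a m = m := by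
  have sq : ∀ m : M, m * m = 1 → m = 1 := fun m h => by
    have := h3 m
    rwa [pow_succ, pow_two, h, one_mul] at this
  have e1 : ∀ m, a m = m⁻¹ → b m = m → m = 1 := by
    intro m h1 h2
    have f1 : b (s m) = (s m)⁻¹ := by rw [← hsa, h1, map_inv]
    have f2 : a (s m) = (s m)⁻¹ := by
      have e : a (b (s m)) = s m := by rw [← hsb, h2]
      rw [f1, map_inv, inv_eq_iff_eq_inv] at e
      exact e
    have f3 : b (s (s m)) = (s (s m))⁻¹ := by rw [← hsa, f2, map_inv]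
    have f4 : a (s (s m)) = s (s m) := by
      have e : a (b (s (s m))) = (s (s m))⁻¹ := by rw [← hsb, f1, map_inv]
      rw [f3, map_inv, inv_inj] at e
      exact e
    have e := congrArg a (hN m)
    rw [map_mul, map_mul, map_one, h1, f2, f4, ← mul_inv, inv_mul_eq_one] at e
    have g := hN m
    rw [e] at g
    exact hs _ (hs _ (sq _ g))
  have e2 : ∀ m, a m = m⁻¹ → b m = m⁻¹ → m = 1 := by
    intro m h1 h2
    have f1 : b (s m) = (s m)⁻¹ := by rw [← hsa, h1, map_inv]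
    have f2 : a (s m) = s m := by
      have e : a (b (s m)) = (s m)⁻¹ := by rw [← hsb, h2, map_inv]
      rw [f1, map_inv, inv_inj] at e
      exact e
    have f3 : b (s (s m)) = s (s m) := by rw [← hsa, f2]
    have f4 : a (s (s m)) = (s (s m))⁻¹ := by
      have e : a (b (s (s m))) = (s (s m))⁻¹ := by rw [← hsb, f1, map_inv]
      rwa [f3] at e
    exact hs _ (hs _ (e1 _ f4 f3))
  intro m
  set m1 := a m * m⁻¹ with hm1
  have g1 : a m1 = m1⁻¹ := by
    rw [hm1, map_mul, map_inv, ha, mul_inv, inv_inv, mul_comm]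
  have g2 : a (m1 * b m1) = (m1 * b m1)⁻¹ := by
    rw [map_mul, hab, g1, map_inv]
    exact (mul_inv _ _).symm
  have g3 : b (m1 * b m1) = m1 * b m1 := by
    rw [map_mul, hb, mul_comm]
  have g4 : b m1 = m1⁻¹ := eq_inv_of_mul_eq_one_right (e1 _ g2 g3)
  have g5 := e2 _ g1 g4
  rwa [hm1, mul_inv_eq_one] at g5

variable {G : Type u} [Group G] [Finite G]

theorem isSolvable_of_exp (h6 : ∀ x : G, x ^ 6 = 1) : Group.IsSolvable G := by
  have hpr : ∀ q : ℕ, q.Prime → q ∣ Nat.card G → q = 2 ∨ q = 3 := fun q hq hd => by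
    haveI := Fact.mk hq
    obtain ⟨x, hx⟩ := exists_prime_orderOf_dvd_card' q hd
    have h1 : q ∣ 2 * 3 := hx ▸ orderOf_dvd_of_pow_eq_one (h6 x)
    rcases hq.dvd_mul.1 h1 with h | h
    · exact Or.inl ((Nat.prime_dvd_prime_iff_eq hq Nat.prime_two).1 h)
    · exact Or.inr ((Nat.prime_dvd_prime_iff_eq hq Nat.prime_three).1 h)
  obtain ⟨a, m, hm, he⟩ := Nat.exists_eq_pow_mul_and_not_dvd (Nat.card_pos (α := G)).ne' 2 (by norm_num)
  have hm0 : m ≠ 0 := fun h => hm (h ▸ dvd_zero 2)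
  refine Cfsg.Lib.Chars.burnside_isSolvable 2 3 Nat.prime_two Nat.prime_three G
    ⟨a, m.primeFactorsList.length, he.trans (congrArg (2 ^ a * ·) ?_)⟩
  refine Nat.eq_prime_pow_of_unique_prime_dvd hm0 fun {q} hq hd => ?_
  rcases hpr q hq (he ▸ Dvd.dvd.mul_left hd _) with rfl | rfl
  · exact absurd hd hm
  · rfl

theorem pLength_two (h6 : ∀ x : G, x ^ 6 = 1) : Cfsg.PLengthLE 2 1 G := by
  haveI := Fact.mk Nat.prime_two
  haveI := isSolvable_of_exp h6
  obtain ⟨P⟩ := (inferInstance : Nonempty (Sylow 2 G))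
  have hsq : ∀ x : (P : Subgroup G), x * x = 1 := fun x => by
    obtain ⟨k, hk⟩ := P.2 x
    have h2 : x ^ 6 = 1 := Subtype.ext (by rw [SubgroupClass.coe_pow]; exact h6 _)
    have hd : orderOf x ∣ 2 := by
      refine Nat.Coprime.dvd_of_dvd_mul_right (n := 3) ?_ (orderOf_dvd_of_pow_eq_one h2)
      exact Nat.Coprime.coprime_dvd_left (orderOf_dvd_of_pow_eq_one hk) (Nat.Coprime.pow_left k (by norm_num))
    rw [← pow_two]
    exact orderOf_dvd_iff_pow_eq_one.1 hd
  have hP : IsMulCommutative (P : Subgroup G) := ⟨⟨fun a b => by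
    have e : ∀ x : (P : Subgroup G), x⁻¹ = x := fun x => inv_eq_of_mul_eq_one_right (hsq x)
    calc a * b = (a * b)⁻¹ := (e _).symm
      _ = b⁻¹ * a⁻¹ := mul_inv_rev a b
      _ = b * a := by rw [e, e]⟩⟩
  haveI := Cfsg.Lib.Coprime.abelian_sylow_sup_core_normal P hP
  set B := (P : Subgroup G) ⊔ Cfsg.pPrimeCore 2 G
  refine Cfsg.Lib.OddP.pLengthLE_one_iff.2 (Nat.Coprime.coprime_dvd_left (index_dvd_of_le
    (show B ≤ Cfsg.pPrimePCore 2 G from ?_))
    ((Nat.Coprime.coprime_dvd_left (index_dvd_of_le le_sup_left)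
      (Nat.prime_two.coprime_iff_not_dvd.2 P.not_dvd_index).symm)))
  haveI : (B.map (QuotientGroup.mk' (Cfsg.pPrimeCore 2 G))).Normal :=
    Subgroup.Normal.map inferInstance _ (QuotientGroup.mk'_surjective _)
  refine map_le_iff_le_comap.mp (Cfsg.Lib.Components.le_pCore ?_)
  rw [Subgroup.map_sup, QuotientGroup.map_mk'_self, sup_bot_eq]
  exact P.2.map _

theorem core_index (h6 : ∀ x : G, x ^ 6 = 1) (hO : Cfsg.pPrimeCore 3 G = ⊥) :
    ¬ 3 ∣ (Cfsg.pCore 3 G).index := by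
  haveI := Fact.mk Nat.prime_two
  haveI := Fact.mk Nat.prime_three
  haveI hsolG := isSolvable_of_exp h6
  set Q := Cfsg.pCore 3 G with hQdef
  haveI hQn : Q.Normal := Cfsg.Lib.Components.pCore_normal' 3
  have hQp : IsPGroup 3 Q := Cfsg.Lib.Components.isPGroup_pCore 3
  have hCQ : centralizer (Q : Set G) ≤ Q :=
    Cfsg.Lib.StableClosure.centralizer_pCore_le_of_pSolvable (Cfsg.Lib.Blocks.isPSolvable_of_solvable hsolG) hO
  intro h3
  rw [index_eq_card] at h3
  set π := QuotientGroup.mk' Q with hπ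
  have hπs : Function.Surjective π := QuotientGroup.mk'_surjective Q
  have h6H : ∀ y : G ⧸ Q, y ^ 6 = 1 := fun y => by
    obtain ⟨y, rfl⟩ := hπs y
    rw [← map_pow, h6, map_one]
  have hsolH := isSolvable_of_exp h6H
  have hO3 : Cfsg.pCore 3 (G ⧸ Q) = ⊥ := by
    haveI : (Cfsg.pCore 3 (G ⧸ Q)).Normal := Cfsg.Lib.Components.pCore_normal' 3
    have h1 : (Cfsg.pCore 3 (G ⧸ Q)).comap π ≤ Q :=
      Cfsg.Lib.Components.le_pCore ((Cfsg.Lib.Components.isPGroup_pCore 3).comap_of_ker_isPGroup π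
        (by rw [hπ, QuotientGroup.ker_mk']; exact hQp))
    refine (eq_bot_iff_forall _).2 fun y hy => ?_
    obtain ⟨y, rfl⟩ := hπs y
    exact (QuotientGroup.eq_one_iff y).2 (h1 hy)
  have hO2 : Cfsg.pPrimeCore 2 (G ⧸ Q) = ⊥ := by
    haveI : (Cfsg.pPrimeCore 2 (G ⧸ Q)).Normal := Cfsg.Lib.Components.pPrimeCore_normal' 2
    refine le_bot_iff.1 (hO3 ▸ Cfsg.Lib.Components.le_pCore (fun y => ⟨1, ?_⟩))
    have hd : orderOf y ∣ 3 := by
      refine Nat.Coprime.dvd_of_dvd_mul_left (m := 2) ?_ (orderOf_dvd_of_pow_eq_one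
        (Subtype.ext (by rw [SubgroupClass.coe_pow]; exact h6H _) : y ^ 6 = 1))
      exact Nat.Coprime.coprime_dvd_left (orderOf_dvd_natCard y) (Cfsg.Lib.Components.coprime_card_pPrimeCore 2)
    rw [pow_one]
    exact orderOf_dvd_iff_pow_eq_one.1 hd
  set V := Cfsg.pCore 2 (G ⧸ Q) with hVdef
  haveI hVn : V.Normal := Cfsg.Lib.Components.pCore_normal' 2
  have hVp : IsPGroup 2 V := Cfsg.Lib.Components.isPGroup_pCore 2
  have hCV : centralizer (V : Set (G ⧸ Q)) ≤ V :=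
    Cfsg.Lib.StableClosure.centralizer_pCore_le_of_pSolvable (Cfsg.Lib.Blocks.isPSolvable_of_solvable hsolH) hO2
  have hV2 : ∀ v ∈ V, v * v = 1 := fun v hv => by
    obtain ⟨k, hk⟩ := hVp ⟨v, hv⟩
    have hd : orderOf v ∣ 2 := by
      refine Nat.Coprime.dvd_of_dvd_mul_right (n := 3) ?_ (orderOf_dvd_of_pow_eq_one (h6H v))
      refine Nat.Coprime.coprime_dvd_left (orderOf_dvd_of_pow_eq_one ?_) (Nat.Coprime.pow_left k (by norm_num : Nat.Coprime 2 3))
      exact congrArg Subtype.val hk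
    rw [← pow_two]
    exact orderOf_dvd_iff_pow_eq_one.1 hd
  have hVc : ∀ v ∈ V, ∀ w ∈ V, v * w = w * v := fun v hv w hw => by
    have e : ∀ z ∈ V, z⁻¹ = z := fun z hz => inv_eq_of_mul_eq_one_right (hV2 z hz)
    rw [← e _ (mul_mem hv hw), mul_inv_rev, e _ hv, e _ hw]
  obtain ⟨x, hx⟩ := exists_prime_orderOf_dvd_card' 3 h3
  have hx3 : x * x * x = 1 := by rw [← pow_three', ← hx, pow_orderOf_eq_one]
  obtain ⟨v, hv, hvx⟩ : ∃ v ∈ V, x * v ≠ v * x := by
    by_contra! hall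
    have h1 : x ∈ V := hCV (mem_centralizer_iff.2 fun v hv => (hall v hv).symm)
    obtain ⟨k, hk⟩ := hVp ⟨x, h1⟩
    have h2 : (3 : ℕ) ∣ 2 ^ k := hx ▸ orderOf_dvd_of_pow_eq_one (congrArg Subtype.val hk)
    have h4 := (Nat.prime_dvd_prime_iff_eq Nat.prime_three Nat.prime_two).1 (Nat.prime_three.dvd_of_dvd_pow h2)
    omega
  set w := v⁻¹ * (x * v * x⁻¹) with hw
  have hwV : w ∈ V := mul_mem (inv_mem hv) (hVn.conj_mem v hv x)
  set w' := x * w * x⁻¹ with hw'
  have hw'V : w' ∈ V := hVn.conj_mem w hwV x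
  set w'' := x * w' * x⁻¹ with hw''
  have hw1 : w ≠ 1 := fun h => hvx (by
    have h' := inv_mul_eq_one.1 h
    calc x * v = x * v * x⁻¹ * x := by group
      _ = v * x := by rw [← h'])
  have hprod : w'' = w * w' := by
    have e : w * w' * w'' = v⁻¹ * (x * x * x) * v * (x * x * x)⁻¹ := by
      simp only [hw'', hw', hw]; group
    rw [hx3, mul_one, inv_one, mul_one, inv_mul_cancel, ← eq_inv_iff_mul_eq_one] at e
    rw [← inv_inj, ← e]
    exact (inv_eq_of_mul_eq_one_right (hV2 _ (mul_mem hwV hw'V))).symm ▸ rfl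
  -- lifts
  obtain ⟨X, hX, hX3⟩ : ∃ X : G, π X = x ∧ X * X * X = 1 := by
    obtain ⟨X, hX⟩ := hπs x
    refine ⟨X ^ 4, ?_, ?_⟩
    · rw [map_pow, hX, pow_succ, pow_three', hx3, one_mul]
    · rw [← pow_three', ← pow_mul, show 4 * 3 = 6 * 2 from rfl, pow_mul, h6, one_pow]
  obtain ⟨t, ht, ht2⟩ : ∃ t : G, π t = w ∧ t * t = 1 := by
    obtain ⟨t, ht⟩ := hπs w
    refine ⟨t ^ 3, ?_, ?_⟩
    · rw [map_pow, ht, pow_three', hV2 _ hwV, one_mul]
    · rw [← pow_add, h6]
  set s := X * t * X⁻¹ with hs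
  have hsπ : π s = w' := by rw [hs, map_mul, map_mul, map_inv, hX, ht]
  have hs2 : s * s = 1 := by
    rw [hs, show X * t * X⁻¹ * (X * t * X⁻¹) = X * (t * t) * X⁻¹ by group, ht2, mul_one, mul_inv_cancel]
  clear_value s
  -- the Frattini factor of `Q`
  set F := (frattini Q).map Q.subtype with hF
  haveI hFn : F.Normal := inferInstance
  set ρ := QuotientGroup.mk' F with hρ
  have hρs : Function.Surjective ρ := QuotientGroup.mk'_surjective F
  set M := Q.map ρ with hMdef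
  haveI hMn : M.Normal := hQn.map ρ hρs
  have hMc : ∀ a ∈ M, ∀ b ∈ M, a * b = b * a := by
    rintro _ ⟨a, ha, rfl⟩ _ ⟨b, hb, rfl⟩
    rw [← commutatorElement_eq_one_iff_mul_comm, ← map_commutatorElement]
    refine (QuotientGroup.eq_one_iff _).2 ⟨⁅(⟨a, ha⟩ : Q), ⟨b, hb⟩⁆, ?_, map_commutatorElement Q.subtype _ _⟩
    exact Cfsg.Lib.PGroups.commutator_le_frattini hQp (commutator_mem_commutator (mem_top _) (mem_top _))
  have hM3 : ∀ a ∈ M, a * a * a = 1 := by
    rintro _ ⟨a, ha, rfl⟩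
    rw [← map_mul, ← map_mul, ← pow_three']
    exact (QuotientGroup.eq_one_iff _).2 ⟨(⟨a, ha⟩ : Q) ^ 3, Cfsg.Lib.PGroups.pow_mem_frattini hQp _,
      map_pow Q.subtype _ _⟩
  letI : CommGroup M := { (inferInstance : Group M) with
    mul_comm := fun a b => Subtype.ext (hMc a a.2 b b.2) }
  let act : G → (M →* M) := fun g =>
    { toFun := fun m => ⟨ρ g * m * (ρ g)⁻¹, hMn.conj_mem m m.2 (ρ g)⟩
      map_one' := Subtype.ext (by simp)
      map_mul' := fun m n => Subtype.ext (by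
        show ρ g * ((m : G ⧸ F) * n) * (ρ g)⁻¹ = (ρ g * m * (ρ g)⁻¹) * (ρ g * n * (ρ g)⁻¹)
        group) }
  have act_mul : ∀ (g h : G) (m : M), act g (act h m) = act (g * h) m := fun g h m => Subtype.ext (by
    show ρ g * (ρ h * (m : G ⧸ F) * (ρ h)⁻¹) * (ρ g)⁻¹ = ρ (g * h) * m * (ρ (g * h))⁻¹
    rw [map_mul]; group)
  have act_one : ∀ m : M, act 1 m = m := fun m => Subtype.ext (by
    show ρ 1 * (m : G ⧸ F) * (ρ 1)⁻¹ = m
    simp)
  have act_Q : ∀ q ∈ Q, ∀ m : M, act q m = m := fun q hq m => Subtype.ext (by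
    show ρ q * (m : G ⧸ F) * (ρ q)⁻¹ = m
    rw [hMc _ (mem_map_of_mem ρ hq) _ m.2, mul_inv_cancel_right])
  have act_congr : ∀ g h : G, π g = π h → ∀ m : M, act g m = act h m := fun g h e m => by
    have hq : h⁻¹ * g ∈ Q := QuotientGroup.eq.1 e.symm
    conv_lhs => rw [show g = h * (h⁻¹ * g) by group, ← act_mul, act_Q _ hq]
  have key : ∀ m : M, act t m = m := by
    refine four_trivial (act t) (act s) (act X) ?_ ?_ ?_ ?_ ?_ ?_ ?_ ?_
    · intro m; rw [act_mul, ht2, act_one]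
    · intro m; rw [act_mul, hs2, act_one]
    · intro m
      rw [act_mul, act_mul]
      exact act_congr _ _ (by rw [map_mul, map_mul, ht, hsπ]; exact hVc _ hwV _ hw'V) m
    · intro m
      rw [act_mul, act_mul]
      exact act_congr _ _ (by rw [hs]; group) m
    · intro m
      rw [act_mul, act_mul, act_mul]
      refine act_congr _ _ ?_ m
      rw [map_mul, map_mul, map_mul, hX, hsπ, ht, ← mul_assoc, ← hprod, hw'']
      simp only [hw']
      group
    · intro m hm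
      have h1 := congrArg (act (X * X)) hm
      rw [act_mul, hX3, act_one, map_one] at h1
      exact h1
    · intro m
      obtain ⟨a, ha, hae⟩ := m.2
      refine Subtype.ext ?_
      show (m : G ⧸ F) * (ρ X * m * (ρ X)⁻¹) * (ρ X * (ρ X * m * (ρ X)⁻¹) * (ρ X)⁻¹) = 1
      obtain ⟨hXa, -⟩ : (a * X) ^ 6 = 1 ∧ True := ⟨h6 _, trivial⟩
      have hY : ρ X * ρ X * ρ X = 1 := by rw [← map_mul, ← map_mul, hX3, map_one]
      have hn : ρ ((a * X) ^ 3) ∈ M := by
        refine mem_map_of_mem ρ ((QuotientGroup.eq_one_iff (N := Q) _).1 ?_)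
        show π ((a * X) ^ 3) = 1
        rw [map_pow, map_mul, show π a = 1 from (QuotientGroup.eq_one_iff a).2 ha, one_mul, hX, pow_three', hx3]
      have h9 : ρ ((a * X) ^ 3) = 1 := by
        have e1 := hM3 _ hn
        rw [← map_mul, ← map_mul, ← pow_three', ← pow_mul, show 3 * 3 = 6 + 3 from rfl, pow_add, h6, one_mul] at e1
        exact e1
      rw [map_pow, map_mul, hae, pow_three'] at h9
      calc (m : G ⧸ F) * (ρ X * m * (ρ X)⁻¹) * (ρ X * (ρ X * m * (ρ X)⁻¹) * (ρ X)⁻¹)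
          = ((m : G ⧸ F) * ρ X * ((m : G ⧸ F) * ρ X) * ((m : G ⧸ F) * ρ X)) * (ρ X * ρ X * ρ X)⁻¹ := by group
        _ = 1 := by rw [h9, hY, inv_one, one_mul]
    · intro m
      refine Subtype.ext ?_
      rw [SubgroupClass.coe_pow, pow_three']
      exact hM3 _ m.2
  have htC : zpowers t ≤ centralizer (Q : Set G) := by
    refine Cfsg.Lib.Coprime.le_centralizer_of_frattini le_normalizer_of_normal ?_ ?_
    · obtain ⟨k, hk⟩ := IsPGroup.iff_card.1 (hQp.to_subgroup (frattini Q))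
      rw [hk, Nat.card_zpowers]
      exact (Nat.Coprime.pow_right k (by norm_num : Nat.Coprime 2 3)).coprime_dvd_left
        (orderOf_dvd_of_pow_eq_one (by rw [pow_two, ht2]))
    · intro a ha q hq
      obtain ⟨i, rfl⟩ := mem_zpowers_iff.1 ha
      refine (QuotientGroup.eq_one_iff _).1 ?_
      show ρ (t ^ i * q * (t ^ i)⁻¹ * q⁻¹) = 1
      have hc : Commute (ρ t) (ρ q) := by
        have := congrArg Subtype.val (key ⟨ρ q, mem_map_of_mem ρ hq⟩)
        exact mul_inv_eq_iff_eq_mul.1 this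
      rw [map_mul, map_mul, map_mul, map_inv, map_inv, map_zpow, (hc.zpow_left i).eq, mul_inv_cancel_right, mul_inv_cancel]
  refine hw1 ?_
  rw [← ht]
  exact (QuotientGroup.eq_one_iff t).2 (hCQ (htC (mem_zpowers t)))

theorem pLength_three (h6 : ∀ x : G, x ^ 6 = 1) : Cfsg.PLengthLE 3 1 G := by
  haveI := Fact.mk Nat.prime_three
  refine Cfsg.Lib.OddP.pLengthLE_one_iff.2 ?_
  rw [Nat.coprime_comm, Nat.prime_three.coprime_iff_not_dvd, Cfsg.pPrimePCore,
    index_comap_of_surjective _ (QuotientGroup.mk'_surjective _)]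
  refine core_index (fun y => ?_) Cfsg.Lib.Components.pPrimeCore_quotient_eq_bot
  obtain ⟨y, rfl⟩ := QuotientGroup.mk'_surjective _ y
  rw [← map_pow, h6, map_one]

end Cfsg.Lib.SolvStruct.ExpSix
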