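/-
No finite group has exactly 35 Sylow 17-subgroups.

The image of such a group on its Sylow subgroups has a 17-subgroup fixing one point.  If it
has order larger than 17, counting subgroups with 18 fixed points gives a contradiction;
otherwise the even permutations have a cyclic Sylow 2-subgroup, hence a normal subgroup of
order 595, in which the 17-subgroup centralizes an element of order 5.
-/
import Cfsg.Agent.Coprime.Basic
import Mathlib

set_option autoImplicit false
set_option linter.style.haveILetI false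
set_option linter.unusedSectionVars false
set_option maxHeartbeats 800000

namespace Cfsg.Lib.SolvStruct.ThirtyFive

open Subgroup

universe u

variable {Ω : Type u}

/-- The data of the configuration. -/
structure Config (X P : Subgroup (Equiv.Perm Ω)) (a : Ω) : Prop where
  le : P ≤ X
  pgroup : IsPGroup 17 P
  trans : ∀ b : Ω, ∃ x ∈ X, x a = b
  fix : ∀ g ∈ P, g a = a
  moves : ∀ q : Ω, q ≠ a → ∃ g ∈ P, g q ≠ q
  norm : ∀ x ∈ X, x a = a → ∀ g ∈ P, x * g * x⁻¹ ∈ P
  sylow : ∀ x ∈ X, x a = a → ∀ k : ℕ, x ^ 17 ^ k = 1 → x ∈ P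

variable {X P : Subgroup (Equiv.Perm Ω)} {a : Ω}

/-- The stabilizer of `q` in `P`. -/
def stab (P : Subgroup (Equiv.Perm Ω)) (q : Ω) : Subgroup (Equiv.Perm Ω) :=
  P ⊓ MulAction.stabilizer (Equiv.Perm Ω) q

lemma mem_stab {P : Subgroup (Equiv.Perm Ω)} {q : Ω} {g : Equiv.Perm Ω} :
    g ∈ stab P q ↔ g ∈ P ∧ g q = q := Iff.rfl

lemma orbit_card [Finite Ω] (h : Config X P a) (hΩ : Nat.card Ω = 35) {q : Ω} (hq : q ≠ a) :
    Nat.card (MulAction.orbit P q) = 17 := by
  haveI : Fact (Nat.Prime 17) := ⟨by norm_num⟩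
  obtain ⟨n, hn⟩ := h.pgroup.card_orbit q
  have hle : Nat.card (MulAction.orbit P q) ≤ 35 :=
    hΩ ▸ Nat.card_le_card_of_injective _ Subtype.val_injective
  rw [hn] at hle ⊢
  rcases n with _ | _ | n
  · exfalso
    obtain ⟨g, hg, hgq⟩ := h.moves q hq
    have h1 : Nat.card (MulAction.orbit P q) = 1 := by simpa using hn
    haveI := (Nat.card_eq_one_iff_unique.1 h1).1
    exact hgq (congrArg Subtype.val (Subsingleton.elim
      (⟨(⟨g, hg⟩ : P) • q, MulAction.mem_orbit q _⟩ : MulAction.orbit P q)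
      ⟨q, MulAction.mem_orbit_self q⟩))
  · simp
  · exfalso
    have : 17 ^ 2 ≤ 17 ^ (n + 1 + 1) := Nat.pow_le_pow_right (by norm_num) (by omega)
    omega

lemma stab_relIndex [Finite Ω] (h : Config X P a) (hΩ : Nat.card Ω = 35) {q : Ω} (hq : q ≠ a) :
    (stab P q).relIndex P = 17 := by
  haveI : Finite (Equiv.Perm Ω) := inferInstance
  have h1 : (stab P q).subgroupOf P = MulAction.stabilizer P q := by
    ext g
    exact ⟨fun hg => hg.2, fun hg => ⟨g.2, hg⟩⟩
  rw [relIndex, h1, MulAction.index_stabilizer, ← Nat.card_coe_set_eq]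
  exact orbit_card h hΩ hq

lemma stab_fix_orbit [Finite Ω] (h : Config X P a) (hΩ : Nat.card Ω = 35) {q : Ω} (hq : q ≠ a)
    {g k : Equiv.Perm Ω} (hg : g ∈ P) (hk : k ∈ stab P q) : k (g q) = g q := by
  haveI : Fact (Nat.Prime 17) := ⟨by norm_num⟩
  have hn : ((stab P q).subgroupOf P).Normal := by
    refine normal_of_index_eq_minFac_card ?_
    obtain ⟨m, hm⟩ := IsPGroup.iff_card.mp h.pgroup
    have hi : ((stab P q).subgroupOf P).index = 17 := stab_relIndex h hΩ hq
    rcases m.eq_zero_or_pos with h0 | h0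
    · have := ((stab P q).subgroupOf P).index_dvd_card
      rw [hm, h0, hi] at this
      norm_num at this
    · rw [hi, hm, Nat.pow_minFac h0.ne', (by norm_num : Nat.Prime 17).minFac_eq]
  have h1 := hn.conj_mem ⟨k, hk.1⟩ hk ⟨g⁻¹, P.inv_mem hg⟩
  have h2 : (g⁻¹ * k * g⁻¹⁻¹ : Equiv.Perm Ω) q = q := h1.2
  rw [inv_inv, Equiv.Perm.mul_apply, Equiv.Perm.mul_apply, Equiv.Perm.inv_eq_iff_eq] at h2
  exact h2

lemma two_orbits [Finite Ω] (h : Config X P a) (hΩ : Nat.card Ω = 35) :
    ∃ q₁ q₂ : Ω, q₁ ≠ a ∧ q₂ ≠ a ∧ q₂ ∉ MulAction.orbit P q₁ ∧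
      ∀ q, q ≠ a → q ∈ MulAction.orbit P q₁ ∨ q ∈ MulAction.orbit P q₂ := by
  classical
  haveI := Fintype.ofFinite Ω
  have hne : ∀ q, q ≠ a → a ∉ MulAction.orbit P q := by
    rintro q hq ⟨g, hg⟩
    exact hq (Equiv.injective (g : Equiv.Perm Ω) (hg.trans (h.fix _ g.2).symm))
  obtain ⟨q₁, hq₁⟩ : ∃ q, q ≠ a := by
    by_contra hc
    push Not at hc
    haveI : Subsingleton Ω := ⟨fun x y => (hc x).trans (hc y).symm⟩
    have : Nat.card Ω ≤ 1 := Finite.card_le_one_iff_subsingleton.2 inferInstance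
    omega
  have hc : ∀ q, q ≠ a → (MulAction.orbit P q).ncard = 17 := fun q hq => by
    rw [← Nat.card_coe_set_eq]; exact orbit_card h hΩ hq
  obtain ⟨q₂, hq₂, hq₂'⟩ : ∃ q, q ≠ a ∧ q ∉ MulAction.orbit P q₁ := by
    by_contra hcon
    push Not at hcon
    have h1 : (Set.univ : Set Ω) ⊆ insert a (MulAction.orbit P q₁) := fun x _ => by
      by_cases hx : x = a
      · exact Or.inl hx
      · exact Or.inr (hcon x hx)
    have h2 := (Set.ncard_le_ncard h1).trans (Set.ncard_insert_le _ _)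
    rw [Set.ncard_univ, hΩ, hc q₁ hq₁] at h2
    omega
  refine ⟨q₁, q₂, hq₁, hq₂, hq₂', fun q hq => ?_⟩
  by_contra hcon
  push Not at hcon
  have hd : Disjoint (MulAction.orbit P q₁) (MulAction.orbit P q₂) := by
    rw [Set.disjoint_left]
    intro x hx hx'
    apply hq₂'
    rw [← MulAction.orbit_eq_iff.2 hx, MulAction.orbit_eq_iff.2 hx']
    exact MulAction.mem_orbit_self _
  have h1 : (insert q (insert a (MulAction.orbit P q₁ ∪ MulAction.orbit P q₂))).ncard = 36 := by
    rw [Set.ncard_insert_of_notMem, Set.ncard_insert_of_notMem, Set.ncard_union_eq hd, hc q₁ hq₁,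
      hc q₂ hq₂]
    · rintro (hx | hx)
      exacts [hne q₁ hq₁ hx, hne q₂ hq₂ hx]
    · rintro (hx | hx | hx)
      exacts [hq hx, hcon.1 hx, hcon.2 hx]
  have h2 := Set.ncard_le_ncard
    (Set.subset_univ (insert q (insert a (MulAction.orbit P q₁ ∪ MulAction.orbit P q₂))))
  rw [h1, Set.ncard_univ, hΩ] at h2
  omega

lemma two_orbits_disjoint {q₁ q₂ x : Ω} (hq₂' : q₂ ∉ MulAction.orbit P q₁)
    (hx : x ∈ MulAction.orbit P q₁) : x ∉ MulAction.orbit P q₂ := fun hx' => by
  apply hq₂'
  rw [← MulAction.orbit_eq_iff.2 hx, MulAction.orbit_eq_iff.2 hx']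
  exact MulAction.mem_orbit_self _

lemma stab_inf_eq_bot [Finite Ω] (h : Config X P a) (hΩ : Nat.card Ω = 35) {q₁ q₂ : Ω}
    (h₁ : q₁ ≠ a) (h₂ : q₂ ≠ a)
    (hall : ∀ q, q ≠ a → q ∈ MulAction.orbit P q₁ ∨ q ∈ MulAction.orbit P q₂)
    {g : Equiv.Perm Ω} (hg₁ : g ∈ stab P q₁) (hg₂ : g ∈ stab P q₂) : g = 1 := by
  ext x
  rw [Equiv.Perm.one_apply]
  by_cases hx : x = a
  · rw [hx]; exact h.fix _ hg₁.1
  · rcases hall x hx with ⟨k, rfl⟩ | ⟨k, rfl⟩
    exacts [stab_fix_orbit h hΩ h₁ k.2 hg₁, stab_fix_orbit h hΩ h₂ k.2 hg₂]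

/-- The set of common fixed points. -/
def fixSet (H : Subgroup (Equiv.Perm Ω)) : Set Ω := {x | ∀ g ∈ H, g x = x}

lemma fixSet_map (H : Subgroup (Equiv.Perm Ω)) (x : Equiv.Perm Ω) :
    fixSet (H.map (MulAut.conj x).toMonoidHom) = x '' fixSet H := by
  ext y
  constructor
  · intro hy
    refine ⟨x⁻¹ y, fun g hg => ?_, by simp⟩
    have h1 := hy _ (mem_map_of_mem (MulAut.conj x).toMonoidHom hg)
    simp only [MulEquiv.coe_toMonoidHom, MulAut.conj_apply, Equiv.Perm.mul_apply] at h1
    exact x.injective (h1.trans (by simp))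
  · rintro ⟨z, hz, rfl⟩ _ ⟨g, hg, rfl⟩
    simp only [MulEquiv.coe_toMonoidHom, MulAut.conj_apply, Equiv.Perm.mul_apply]
    simp [hz g hg]

/-- The 17-subgroup has order 17. -/
theorem card_eq [Finite Ω] (h : Config X P a) (hΩ : Nat.card Ω = 35) : Nat.card P = 17 := by
  classical
  haveI : Fact (Nat.Prime 17) := ⟨by norm_num⟩
  haveI := Fintype.ofFinite Ω
  haveI := Fintype.ofFinite (Subgroup (Equiv.Perm Ω))
  obtain ⟨q₁, q₂, h₁, h₂, h12, hall⟩ := two_orbits h hΩ
  by_contra hne
  have hmul : ∀ q, q ≠ a → Nat.card ↥(stab P q) * 17 = Nat.card P := fun q hq => by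
    have h2 := relIndex_mul_relIndex (⊥ : Subgroup (Equiv.Perm Ω)) (stab P q) P bot_le inf_le_left
    rwa [relIndex_bot_left, relIndex_bot_left, stab_relIndex h hΩ hq] at h2
  have hnb : ∀ q, q ≠ a → stab P q ≠ ⊥ := fun q hq hb => hne (by
    rw [← hmul q hq, hb, card_bot])
  have hfix : ∀ q, q ≠ a → fixSet (stab P q) = insert a (MulAction.orbit P q) := by
    intro q hq
    ext x
    constructor
    · intro hx
      by_contra hcon
      rw [Set.mem_insert_iff, not_or] at hcon
      apply hnb q hq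
      rw [eq_bot_iff]
      intro g hg
      rw [mem_bot]
      have hgx : g ∈ stab P x := ⟨hg.1, hx g hg⟩
      ext y
      rw [Equiv.Perm.one_apply]
      by_cases hy : y = a
      · rw [hy]; exact h.fix _ hg.1
      · have hy' : y ∈ MulAction.orbit P q ∨ y ∈ MulAction.orbit P x := by
          have hxq : MulAction.orbit P x ≠ MulAction.orbit P q := fun e =>
            hcon.2 (e ▸ MulAction.mem_orbit_self x)
          have e : ∀ z, z ≠ a → MulAction.orbit P z = MulAction.orbit P q₁ ∨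
              MulAction.orbit P z = MulAction.orbit P q₂ :=
            fun z hz => (hall z hz).imp MulAction.orbit_eq_iff.2 MulAction.orbit_eq_iff.2
          have hyy := MulAction.mem_orbit_self (M := P) y
          rcases e q hq with eq | eq <;> rcases e x hcon.1 with ex | ex <;>
            rcases e y hy with ey | ey <;> rw [ey] at hyy <;>
            first
              | exact Or.inl (eq.symm ▸ hyy)
              | exact Or.inr (ex.symm ▸ hyy)
              | exact absurd (ex.trans eq.symm) hxq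
        rcases hy' with ⟨k, rfl⟩ | ⟨k, rfl⟩
        exacts [stab_fix_orbit h hΩ hq k.2 hg, stab_fix_orbit h hΩ hcon.1 k.2 hgx]
    · rintro (rfl | ⟨k, rfl⟩) g hg
      exacts [h.fix _ hg.1, stab_fix_orbit h hΩ hq k.2 hg]
  have hfc : ∀ q, q ≠ a → (fixSet (stab P q)).ncard = 18 := fun q hq => by
    rw [hfix q hq, Set.ncard_insert_of_notMem, ← Nat.card_coe_set_eq, orbit_card h hΩ hq]
    rintro ⟨g, hg⟩
    exact hq (Equiv.injective (g : Equiv.Perm Ω) (hg.trans (h.fix _ g.2).symm))
  set S : Finset (Subgroup (Equiv.Perm Ω)) := Finset.univ.filter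
    (fun H => H ≤ X ∧ IsPGroup 17 H ∧ Nat.card H * 17 = Nat.card P ∧ (fixSet H).ncard = 18) with hS
  have hmemS : ∀ q, q ≠ a → stab P q ∈ S := fun q hq => by
    rw [hS, Finset.mem_filter]
    exact ⟨Finset.mem_univ _, inf_le_left.trans h.le, h.pgroup.to_le inf_le_left, hmul q hq, hfc q hq⟩
  have ha2 : (S.filter (fun H => a ∈ fixSet H)) = {stab P q₁, stab P q₂} := by
    ext H
    simp only [Finset.mem_filter, Finset.mem_insert, Finset.mem_singleton]
    constructor
    · rintro ⟨hH, haH⟩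
      rw [hS, Finset.mem_filter] at hH
      obtain ⟨-, hHX, hHp, hHc, hHf⟩ := hH
      have hHP : H ≤ P := fun g hg => by
        obtain ⟨k, hk⟩ := hHp ⟨g, hg⟩
        exact h.sylow g (hHX hg) (haH g hg) k (congrArg Subtype.val hk)
      obtain ⟨x, hx, hxa⟩ := Set.exists_ne_of_one_lt_ncard (s := fixSet H) (by omega) a
      have hle : H ≤ stab P x := fun g hg => ⟨hHP hg, hx g hg⟩
      have heq : H = stab P x := Cfsg.Lib.Coprime.eq_of_le_of_card_eq hle (by
        have := hmul x hxa
        omega)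
      have hst : ∀ q, q ≠ a → x ∈ MulAction.orbit P q → stab P x = stab P q := by
        rintro q hq ⟨k, rfl⟩
        have hqx : stab P q ≤ stab P (k • q) := fun g hg => ⟨hg.1, stab_fix_orbit h hΩ hq k.2 hg⟩
        refine (Cfsg.Lib.Coprime.eq_of_le_of_card_eq hqx ?_).symm
        have := hmul q hq
        have := hmul (k • q) hxa
        omega
      rw [heq]
      exact (hall x hxa).imp (hst q₁ h₁) (hst q₂ h₂)
    · rintro (rfl | rfl)
      exacts [⟨hmemS _ h₁, fun g hg => h.fix g hg.1⟩, ⟨hmemS _ h₂, fun g hg => h.fix g hg.1⟩]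
  have hab : stab P q₁ ≠ stab P q₂ := fun e => hnb q₁ h₁ (eq_bot_iff.2 fun g hg =>
    mem_bot.2 (stab_inf_eq_bot h hΩ h₁ h₂ hall hg (e ▸ hg)))
  have hb2 : ∀ b : Ω, (S.filter (fun H => b ∈ fixSet H)).card = 2 := by
    intro b
    obtain ⟨x, hx, rfl⟩ := h.trans b
    rw [← Finset.card_pair hab, ← ha2]
    refine Finset.card_bij' (fun H _ => H.map (MulAut.conj x⁻¹).toMonoidHom)
      (fun H _ => H.map (MulAut.conj x).toMonoidHom) ?_ ?_ ?_ ?_
    all_goals intro H hH
    all_goals rw [Finset.mem_filter, hS, Finset.mem_filter] at hH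
    · rw [Finset.mem_filter, hS, Finset.mem_filter, fixSet_map,
        card_map_of_injective (MulAut.conj x⁻¹).injective, Set.ncard_image_of_injective _ (Equiv.injective _)]
      refine ⟨⟨Finset.mem_univ _, ?_, hH.1.2.2.1.map _, hH.1.2.2.2.1, hH.1.2.2.2.2⟩,
        ⟨x a, hH.2, by simp⟩⟩
      rintro _ ⟨g, hg, rfl⟩
      exact X.mul_mem (X.mul_mem (X.inv_mem hx) (hH.1.2.1 hg)) (X.inv_mem (X.inv_mem hx))
    · rw [Finset.mem_filter, hS, Finset.mem_filter, fixSet_map,
        card_map_of_injective (MulAut.conj x).injective, Set.ncard_image_of_injective _ (Equiv.injective _)]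
      refine ⟨⟨Finset.mem_univ _, ?_, hH.1.2.2.1.map _, hH.1.2.2.2.1, hH.1.2.2.2.2⟩,
        ⟨a, hH.2, rfl⟩⟩
      rintro _ ⟨g, hg, rfl⟩
      exact X.mul_mem (X.mul_mem hx (hH.1.2.1 hg)) (X.inv_mem hx)
    · rw [Subgroup.map_map]
      convert Subgroup.map_id H using 2
      ext g
      simp [mul_assoc]
    · rw [Subgroup.map_map]
      convert Subgroup.map_id H using 2
      ext g
      simp [mul_assoc]
  have hsum : ∑ H ∈ S, (Finset.univ.filter (fun b => b ∈ fixSet H)).card =
      ∑ b : Ω, (S.filter (fun H => b ∈ fixSet H)).card :=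
    Finset.sum_card_bipartiteAbove_eq_sum_card_bipartiteBelow (fun H b => b ∈ fixSet H)
  have hL : ∀ H ∈ S, (Finset.univ.filter (fun b => b ∈ fixSet H)).card = 18 := by
    intro H hH
    rw [hS, Finset.mem_filter] at hH
    rw [← hH.2.2.2.2, Set.ncard_eq_toFinset_card']
    congr 1
    ext b
    simp
  rw [Finset.sum_congr rfl hL, Finset.sum_congr rfl (fun b _ => hb2 b), Finset.sum_const,
    Finset.sum_const, Finset.card_univ, smul_eq_mul, smul_eq_mul, ← Nat.card_eq_fintype_card, hΩ]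
    at hsum
  omega

variable [Fintype Ω] [DecidableEq Ω]

lemma sign_eq_one {g : Equiv.Perm Ω} (hg : g ^ 17 = 1) : Equiv.Perm.sign g = 1 := by
  have h1 := congrArg Equiv.Perm.sign hg
  rw [map_pow, map_one] at h1
  rcases Int.units_eq_one_or (Equiv.Perm.sign g) with h2 | h2
  · exact h2
  · rw [h2] at h1
    exact absurd h1 (by decide)

/-- Even permutations commuting with `P` lie in `P`. -/
theorem mem_of_commute (h : Config X P a) (hΩ : Nat.card Ω = 35) {c : Equiv.Perm Ω}
    (hc : c ∈ X) (hsign : Equiv.Perm.sign c = 1) (hcomm : ∀ g ∈ P, g * c = c * g) : c ∈ P := by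
  have hP := card_eq h hΩ
  obtain ⟨q₁, q₂, h₁, h₂, h12, hall⟩ := two_orbits h hΩ
  have happ : ∀ c : Equiv.Perm Ω, (∀ g ∈ P, g * c = c * g) → ∀ g ∈ P, ∀ x, c (g x) = g (c x) :=
    fun c hc g hg x => by
      rw [← Equiv.Perm.mul_apply, ← hc g hg, Equiv.Perm.mul_apply]
  have hfa : ∀ c : Equiv.Perm Ω, (∀ g ∈ P, g * c = c * g) → c a = a := by
    intro c hc
    by_contra hne
    obtain ⟨g, hg, hgq⟩ := h.moves _ hne
    rw [← happ c hc g hg, h.fix g hg] at hgq
    exact hgq rfl
  have hbot : ∀ g ∈ P, ∀ q, q ≠ a → g q = q → g = 1 := by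
    intro g hg q hq hgq
    have hb : stab P q = ⊥ := by
      apply eq_bot_of_card_eq
      have h2 := relIndex_mul_relIndex (⊥ : Subgroup (Equiv.Perm Ω)) (stab P q) P bot_le inf_le_left
      rw [relIndex_bot_left, relIndex_bot_left, stab_relIndex h hΩ hq, hP] at h2
      omega
    exact mem_bot.1 (hb ▸ (⟨hg, hgq⟩ : g ∈ stab P q))
  have key : ∀ c : Equiv.Perm Ω, c ∈ X → (∀ g ∈ P, g * c = c * g) →
      c q₁ ∈ MulAction.orbit P q₁ → c ∈ P := by
    rintro c hc hcomm ⟨⟨g, hg⟩, hgq⟩
    change g q₁ = c q₁ at hgq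
    set d := g⁻¹ * c with hd
    have hdc : ∀ k ∈ P, k * d = d * k := by
      intro k hk
      have e : k * g⁻¹ = g⁻¹ * k := by
        haveI : Fact (Nat.Prime 17) := ⟨by norm_num⟩
        haveI : IsCyclic P := isCyclic_of_prime_card hP
        exact congrArg Subtype.val
          ((IsCyclic.isMulCommutative (α := P)).is_comm.comm (⟨k, hk⟩ : P) ⟨g⁻¹, P.inv_mem hg⟩)
      rw [hd, ← mul_assoc, e, mul_assoc, hcomm k hk, mul_assoc]
    have hd1 : d q₁ = q₁ := by
      rw [hd, Equiv.Perm.mul_apply, Equiv.Perm.inv_eq_iff_eq, hgq]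
    have hdO : ∀ x ∈ MulAction.orbit P q₁, d x = x := by
      rintro _ ⟨⟨k, hk⟩, rfl⟩
      show d (k q₁) = k q₁
      rw [happ d hdc k hk, hd1]
    have hd2 : d q₂ ∈ MulAction.orbit P q₂ := by
      have hne : d q₂ ≠ a := fun e => h₂ (d.injective (e.trans (hfa d hdc).symm))
      rcases hall _ hne with hx | hx
      · exact absurd (d.injective (hdO _ hx) ▸ hx) h12
      · exact hx
    obtain ⟨⟨k, hk⟩, hkq⟩ := hd2
    change k q₂ = d q₂ at hkq
    have hd17 : d ^ 17 = 1 := by
      ext x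
      rw [Equiv.Perm.one_apply]
      have hfix : ∀ y, d y = y → (d ^ 17) y = y := fun y hy => by
        have := Equiv.Perm.pow_apply_eq_self_of_apply_eq_self hy 17
        exact this
      by_cases hx : x = a
      · rw [hx]; exact hfix a (hfa d hdc)
      rcases hall x hx with hx1 | hx2
      · exact hfix x (hdO x hx1)
      · obtain ⟨⟨l, hl⟩, rfl⟩ := hx2
        show (d ^ 17) (l q₂) = l q₂
        have hn : ∀ n : ℕ, (d ^ n) (l q₂) = l ((k ^ n) q₂) := by
          intro n
          induction n with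
          | zero => simp
          | succ n ih =>
            rw [pow_succ', Equiv.Perm.mul_apply, ih, happ d hdc l hl,
              happ d hdc _ (P.pow_mem hk n), ← hkq, ← Equiv.Perm.mul_apply (k ^ n), ← pow_succ]
        rw [hn, show k ^ 17 = 1 by
          have := pow_card_eq_one' (x := (⟨k, hk⟩ : P))
          rw [hP] at this
          exact congrArg Subtype.val this, Equiv.Perm.one_apply]
    have hdP : d ∈ P := h.sylow d (X.mul_mem (X.inv_mem (h.le hg)) hc) (hfa d hdc) 1
      (by rwa [pow_one])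
    have : d = 1 := hbot d hdP q₁ h₁ hd1
    rw [hd, inv_mul_eq_one] at this
    exact this ▸ hg
  by_cases hcq : c q₁ ∈ MulAction.orbit P q₁
  · exact key c hc hcomm hcq
  exfalso
  have hca := hfa c hcomm
  have hO₁ : ∀ x ∈ MulAction.orbit P q₁, c x ∈ MulAction.orbit P q₂ := by
    have h1 : c q₁ ∈ MulAction.orbit P q₂ :=
      (hall _ fun e => h₁ (c.injective (e.trans hca.symm))).resolve_left hcq
    rintro _ ⟨⟨k, hk⟩, rfl⟩
    show c (k q₁) ∈ _
    rw [happ c hcomm k hk]
    exact MulAction.mem_orbit_of_mem_orbit (⟨k, hk⟩ : P) h1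
  have hO₂ : ∀ x ∈ MulAction.orbit P q₂, c x ∈ MulAction.orbit P q₁ := by
    intro x hx
    have hxa : x ≠ a := by
      rintro rfl
      obtain ⟨g, hg⟩ := hx
      exact h₂ (Equiv.injective (g : Equiv.Perm Ω) (hg.trans (h.fix _ g.2).symm))
    rcases hall (c x) fun e => hxa (c.injective (e.trans hca.symm)) with hy | hy
    · exact hy
    exfalso
    -- `c` maps the first orbit onto the second one
    have hinj : (c '' MulAction.orbit P q₁) = MulAction.orbit P q₂ := by
      refine Set.eq_of_subset_of_ncard_le (Set.image_subset_iff.2 hO₁) ?_ (Set.toFinite _)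
      rw [Set.ncard_image_of_injective _ c.injective, ← Nat.card_coe_set_eq, ← Nat.card_coe_set_eq,
        orbit_card h hΩ h₂, orbit_card h hΩ h₁]
    obtain ⟨z, hz, hzc⟩ := hinj.ge hy
    exact two_orbits_disjoint h12 hz (c.injective hzc ▸ hx)
  have hc2 : c ^ 2 ∈ P := by
    refine key (c ^ 2) (X.pow_mem hc 2) (fun g hg => ?_) ?_
    · exact (show Commute g c from hcomm g hg).pow_right 2
    · rw [pow_two, Equiv.Perm.mul_apply]
      exact hO₂ _ (hO₁ _ (MulAction.mem_orbit_self _))
  have h34 : (c ^ 17) ^ 2 = 1 := by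
    have := pow_card_eq_one' (x := (⟨c ^ 2, hc2⟩ : P))
    rw [hP] at this
    have h' : (c ^ 2) ^ 17 = 1 := congrArg Subtype.val this
    rw [← pow_mul] at h' ⊢
    exact h'
  have hsupp : ∀ x, (c ^ 17) x = x → x = a := by
    intro x hx
    by_contra hxa
    have e : (c ^ 17) x = c (((c ^ 2) ^ 8) x) := by
      rw [← pow_mul, ← Equiv.Perm.mul_apply, ← pow_succ']
    rw [e] at hx
    rcases hall x hxa with h' | h'
    · have h8 : ((c ^ 2) ^ 8) x ∈ MulAction.orbit P q₁ :=
        MulAction.mem_orbit_of_mem_orbit (⟨_, P.pow_mem hc2 8⟩ : P) h'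
      exact two_orbits_disjoint h12 h' (hx ▸ hO₁ _ h8)
    · have h8 : ((c ^ 2) ^ 8) x ∈ MulAction.orbit P q₂ :=
        MulAction.mem_orbit_of_mem_orbit (⟨_, P.pow_mem hc2 8⟩ : P) h'
      exact two_orbits_disjoint h12 (hx ▸ hO₂ _ h8) h'
  have hne : c ^ 17 ≠ 1 := fun e => h₁ (hsupp q₁ (by rw [e]; rfl))
  have ho : orderOf (c ^ 17) = 2 := orderOf_eq_prime h34 hne
  obtain ⟨n, hn⟩ := Equiv.Perm.cycleType_prime_order (σ := c ^ 17) (by rw [ho]; exact Nat.prime_two)
  rw [ho] at hn
  have hsum := Equiv.Perm.sum_cycleType (c ^ 17)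
  have hcard : (c ^ 17).support.card = 34 := by
    have : (c ^ 17).support = Finset.univ.erase a := by
      ext x
      rw [Equiv.Perm.mem_support, Finset.mem_erase]
      refine ⟨fun hx => ⟨?_, Finset.mem_univ _⟩, fun hx e => hx.1 (hsupp x e)⟩
      rintro rfl
      exact hx (Equiv.Perm.pow_apply_eq_self_of_apply_eq_self hca 17)
    rw [this, Finset.card_erase_of_mem (Finset.mem_univ a), Finset.card_univ,
      ← Nat.card_eq_fintype_card, hΩ]
  rw [hcard, hn, Multiset.sum_replicate, smul_eq_mul] at hsum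
  have hs := Equiv.Perm.sign_of_cycleType (c ^ 17)
  rw [hn, Multiset.sum_replicate, Multiset.card_replicate, show n + 1 = 17 by omega, map_pow, hsign,
    one_pow] at hs
  exact absurd hs (by decide)

/-- There is no such configuration. -/
theorem false_of_config (h : Config X P a) (hΩ : Nat.card Ω = 35) : False := by
  classical
  haveI h17 : Fact (Nat.Prime 17) := ⟨by norm_num⟩
  haveI : Fact (Nat.Prime 2) := ⟨Nat.prime_two⟩
  haveI : Fact (Nat.Prime 5) := ⟨by norm_num⟩
  have hP := card_eq h hΩ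
  haveI hPc : IsCyclic P := isCyclic_of_prime_card hP
  set Y := X ⊓ alternatingGroup Ω with hY
  have hpow : ∀ g ∈ P, g ^ 17 = 1 := fun g hg => by
    have := pow_card_eq_one' (x := (⟨g, hg⟩ : P))
    rw [hP] at this
    exact congrArg Subtype.val this
  have hPY : P ≤ Y := fun g hg =>
    ⟨h.le hg, Equiv.Perm.mem_alternatingGroup.2 (sign_eq_one (hpow g hg))⟩
  set N := X ⊓ MulAction.stabilizer (Equiv.Perm Ω) a with hN
  have hNn : N ≤ normalizer (P : Set (Equiv.Perm Ω)) := by
    intro x hx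
    apply mem_normalizer_fintype
    intro g hg
    exact h.norm x hx.1 hx.2 g hg
  have hX35 : N.relIndex X = 35 := by
    have h1 : N.subgroupOf X = MulAction.stabilizer X a := by
      ext g
      exact ⟨fun hg => hg.2, fun hg => ⟨g.2, hg⟩⟩
    rw [relIndex, h1, MulAction.index_stabilizer]
    have : MulAction.orbit X a = Set.univ := Set.eq_univ_of_forall fun b => by
      obtain ⟨x, hx, hxa⟩ := h.trans b
      exact ⟨⟨x, hx⟩, hxa⟩
    rw [this, Set.ncard_univ, hΩ]
  -- the order of the stabilizer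
  have hNcard : Nat.card N ∣ 2 * 17 * 16 := by
    set f : N →* MulAut P := (normalizerMonoidHom P).comp (inclusion hNn) with hf
    have hk : Nat.card f.ker ∣ 2 * 17 := by
      set s : f.ker →* ℤˣ := Equiv.Perm.sign.comp (N.subtype.comp f.ker.subtype) with hs
      have hinj : ∀ x : s.ker, (((x : f.ker) : N) : Equiv.Perm Ω) ∈ P := by
        rintro ⟨⟨⟨x, hxX, hxa⟩, hxk⟩, hxs⟩
        refine mem_of_commute h hΩ hxX hxs fun g hg => ?_
        have h1 := MonoidHom.mem_ker.1 hxk
        have h2 := congrArg Subtype.val (DFunLike.congr_fun h1 (⟨g, hg⟩ : P))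
        have h3 : x * g * x⁻¹ = g := h2
        calc g * x = (x * g * x⁻¹) * x := by rw [h3]
          _ = x * g := by group
      let j : s.ker →* P :=
        MonoidHom.mk' (fun x => ⟨(((x : f.ker) : N) : Equiv.Perm Ω), hinj x⟩) fun _ _ => rfl
      have hj : Nat.card s.ker ∣ 17 := hP ▸ card_dvd_of_injective j
        (fun x y e => Subtype.ext (Subtype.ext (Subtype.ext (congrArg Subtype.val e : _))))
      have hr : Nat.card s.range ∣ 2 := by
        have := card_subgroup_dvd_card s.range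
        simpa [Nat.card_eq_fintype_card] using this
      rw [← index_mul_card s.ker, index_ker]
      exact Nat.mul_dvd_mul hr hj
    have hr : Nat.card f.range ∣ 16 := by
      have := card_subgroup_dvd_card f.range
      rwa [IsCyclic.card_mulAut, hP, Nat.totient_prime h17.out] at this
    rw [← index_mul_card f.ker, index_ker, mul_comm]
    exact Nat.mul_dvd_mul hk hr
  have hXcard : Nat.card X = Nat.card N * 35 := by
    have h2 := relIndex_mul_relIndex (⊥ : Subgroup (Equiv.Perm Ω)) N X bot_le inf_le_left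
    rw [relIndex_bot_left, relIndex_bot_left, hX35] at h2
    exact h2.symm
  have hYX : Nat.card X ∣ 2 * Nat.card Y := by
    set s : X →* ℤˣ := Equiv.Perm.sign.comp X.subtype
    have hk : s.ker.map X.subtype = Y := by
      ext x
      constructor
      · rintro ⟨⟨y, hy⟩, hys, rfl⟩; exact ⟨hy, Equiv.Perm.mem_alternatingGroup.2 hys⟩
      · intro hx; exact ⟨⟨x, hx.1⟩, Equiv.Perm.mem_alternatingGroup.1 hx.2, rfl⟩
    rw [← index_mul_card s.ker, index_ker, ← hk, card_map_of_injective X.subtype_injective]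
    refine Nat.mul_dvd_mul_right ?_ _
    have := card_subgroup_dvd_card s.range
    simpa [Nat.card_eq_fintype_card] using this
  -- the Sylow 2-subgroups of `Y` are cyclic
  have hTc : ∀ T : Sylow 2 Y, IsCyclic (T : Subgroup Y) := by
    intro T
    set T' := (T : Subgroup Y).map Y.subtype with hT'
    have hT'p : IsPGroup 2 T' := T.2.map _
    obtain ⟨b, hb⟩ := hT'p.nonempty_fixed_point_of_prime_not_dvd_card (p := 2) Ω (by rw [hΩ]; norm_num)
    obtain ⟨x, hx, rfl⟩ := h.trans b
    set V := T'.map (MulAut.conj x⁻¹).toMonoidHom with hV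
    have hVN : V ≤ N := by
      rintro _ ⟨y, hy, rfl⟩
      refine ⟨X.mul_mem (X.mul_mem (X.inv_mem hx) ?_) (X.inv_mem (X.inv_mem hx)), ?_⟩
      · obtain ⟨z, -, rfl⟩ := hy; exact z.2.1
      · show (x⁻¹ * y * x⁻¹⁻¹) a = a
        have hyx : y (x a) = x a := hb ⟨y, hy⟩
        simp [hyx]
    set f : V →* MulAut P := (normalizerMonoidHom P).comp (inclusion (hVN.trans hNn)) with hf
    have hfi : Function.Injective f := by
      rw [injective_iff_map_eq_one]
      rintro ⟨v, hv⟩ hv1
      apply Subtype.ext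
      have hvP : v ∈ P := by
        refine mem_of_commute h hΩ (hVN hv).1 ?_ fun g hg => ?_
        · obtain ⟨y, hy, rfl⟩ := hv
          obtain ⟨z, -, rfl⟩ := hy
          have hz := Equiv.Perm.mem_alternatingGroup.1 z.2.2
          simp [hz]
        · have h3 : v * g * v⁻¹ = g := congrArg Subtype.val (DFunLike.congr_fun hv1 (⟨g, hg⟩ : P))
          calc g * v = (v * g * v⁻¹) * v := by rw [h3]
            _ = v * g := by group
      obtain ⟨k, hk⟩ := (hT'p.map (MulAut.conj x⁻¹).toMonoidHom) ⟨v, hv⟩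
      have h2 : orderOf v ∣ 2 ^ k := orderOf_dvd_of_pow_eq_one (congrArg Subtype.val hk)
      have h3 : orderOf v ∣ 17 := orderOf_dvd_of_pow_eq_one (hpow v hvP)
      have hcop : Nat.Coprime (2 ^ k) 17 := Nat.Coprime.pow_left _ (by norm_num)
      exact orderOf_eq_one_iff.1 (Nat.eq_one_of_dvd_coprimes hcop h2 h3)
    haveI : IsCyclic (MulAut P) := by
      haveI : IsCyclic (ZMod (Nat.card P))ˣ := by rw [hP]; infer_instance
      exact (IsCyclic.mulAutMulEquiv P).isCyclic.2 inferInstance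
    haveI : IsCyclic V := isCyclic_of_injective f hfi
    haveI : IsCyclic T' := ((T'.equivMapOfInjective (MulAut.conj x⁻¹).toMonoidHom
      (MulAut.conj x⁻¹).injective).isCyclic).2 ‹_›
    exact (((T : Subgroup Y).equivMapOfInjective Y.subtype Y.subtype_injective).isCyclic).2 ‹_›
  obtain ⟨T⟩ : Nonempty (Sylow 2 Y) := inferInstance
  have h35Y : 35 ∣ Nat.card Y := by
    have h1 : 35 ∣ 2 * Nat.card Y := (Dvd.intro_left _ hXcard.symm).trans hYX
    exact (Nat.Coprime.dvd_mul_left (by norm_num)).1 h1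
  have h595 : 595 ∣ Nat.card Y :=
    (Nat.Coprime.mul_dvd_of_dvd_of_dvd (by norm_num) h35Y (hP ▸ card_dvd_of_le hPY) :)
  have h2Y : 2 ∣ Nat.card Y → (Nat.card Y).minFac = 2 := fun h => (Nat.minFac_eq_two_iff _).2 h
  -- a normal subgroup of order 595
  obtain ⟨O, hOn, hOodd, hOcard, hPO⟩ : ∃ O : Subgroup Y, O.Normal ∧ ¬ 2 ∣ Nat.card O ∧
      595 ∣ Nat.card O ∧ P.subgroupOf Y ≤ O := by
    by_cases h2 : 2 ∣ Nat.card Y
    · haveI := hTc T
      have hcomp := (hTc T).isComplement' (P := T) (h2Y h2)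
      set O := (MonoidHom.transferSylow T ((hTc T).normalizer_le_centralizer (h2Y h2))).ker with hO
      obtain ⟨k, hk⟩ := IsPGroup.iff_card.mp T.2
      have hcm : Nat.card O * Nat.card (T : Subgroup Y) = Nat.card Y := hcomp.card_mul
      have hidx : O.index = Nat.card (T : Subgroup Y) := hcomp.symm.index_eq_card
      refine ⟨O, MonoidHom.normal_ker _, fun h2' => ?_, ?_, fun g hg => ?_⟩
      · refine T.not_dvd_index ?_
        rwa [hcomp.index_eq_card]
      · rw [← hcm, hk] at h595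
        exact (Nat.Coprime.dvd_mul_right (Nat.Coprime.pow_right _ (by norm_num))).1 h595
      · rw [hO, MonoidHom.mem_ker]
        set t := MonoidHom.transferSylow T ((hTc T).normalizer_le_centralizer (h2Y h2)) g with ht
        have h2 : orderOf t ∣ 2 ^ k := hk ▸ orderOf_dvd_natCard t
        have h3 : orderOf t ∣ 17 := by
          refine (orderOf_map_dvd _ g).trans (orderOf_dvd_of_pow_eq_one (Subtype.ext ?_))
          exact hpow _ hg
        have hcop : Nat.Coprime (2 ^ k) 17 := Nat.Coprime.pow_left _ (by norm_num)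
        exact orderOf_eq_one_iff.1 (Nat.eq_one_of_dvd_coprimes hcop h2 h3)
    · exact ⟨⊤, inferInstance, by rwa [card_top], by rwa [card_top], le_top⟩
  have hO595 : Nat.card O = 595 := by
    have h1 : Nat.card O ∣ 2 * 17 * 16 * 35 := by
      have h2 : Nat.card Y ∣ Nat.card X := card_dvd_of_le inf_le_left
      exact (card_subgroup_dvd_card O).trans (h2.trans (hXcard ▸ Nat.mul_dvd_mul_right hNcard 35))
    have h2 : Nat.card O ∣ 595 := by
      rw [show 2 * 17 * 16 * 35 = 2 ^ 5 * 595 by norm_num] at h1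
      exact (Nat.Coprime.dvd_mul_left (Nat.Coprime.pow_right _
        (((Nat.prime_two.coprime_iff_not_dvd).2 hOodd).symm))).1 h1
    exact Nat.dvd_antisymm h2 hOcard
  obtain ⟨R⟩ : Nonempty (Sylow 5 O) := inferInstance
  have hRc : Nat.card (R : Subgroup O) = 5 := by
    rw [R.card_eq_multiplicity, hO595]
    have : Nat.factorization 595 5 = 1 := by
      rw [show (595 : ℕ) = 5 ^ 1 * 119 by norm_num,
        Nat.factorization_mul (by norm_num) (by norm_num), Finsupp.add_apply,
        Nat.Prime.factorization_pow (by norm_num), Finsupp.single_eq_same,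
        Nat.factorization_eq_zero_of_not_dvd (by norm_num : ¬ 5 ∣ 119)]
    rw [this, pow_one]
  have hR1 : Nat.card (Sylow 5 O) = 1 := by
    have hd : Nat.card (Sylow 5 O) ∣ 119 := by
      have h1 : (R : Subgroup O).index = 119 := by
        have := (R : Subgroup O).index_mul_card
        rw [hRc, hO595] at this
        omega
      exact h1 ▸ R.card_dvd_index
    have hm := card_sylow_modEq_one 5 O
    have : Nat.card (Sylow 5 O) ∈ Nat.divisors 119 := Nat.mem_divisors.2 ⟨hd, by norm_num⟩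
    have hdiv : Nat.divisors 119 = {1, 7, 17, 119} := by decide +kernel
    rw [hdiv] at this
    simp only [Finset.mem_insert, Finset.mem_singleton] at this
    unfold Nat.ModEq at hm
    omega
  haveI : Subsingleton (Sylow 5 O) := (Nat.card_eq_one_iff_unique.1 hR1).1
  haveI : (R : Subgroup O).Normal := R.normal_of_subsingleton
  haveI : IsCyclic (R : Subgroup O) := isCyclic_of_prime_card hRc
  -- the element of order 5 commutes with `P`
  haveI : Nontrivial (R : Subgroup O) := Finite.one_lt_card_iff_nontrivial.1 (by omega)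
  obtain ⟨r, hr⟩ := exists_ne (1 : (R : Subgroup O))
  set v : Equiv.Perm Ω := (((r : O) : Y) : Equiv.Perm Ω) with hv
  have hvc : ∀ g ∈ P, g * v = v * g := by
    intro g hg
    set e : O := ⟨⟨g, hPY hg⟩, hPO hg⟩ with he
    set φ : MulAut (R : Subgroup O) := MulAut.conjNormal e with hφ
    have h1 : orderOf φ ∣ 17 := by
      refine (orderOf_map_dvd _ e).trans (orderOf_dvd_of_pow_eq_one ?_)
      exact Subtype.ext (Subtype.ext (hpow g hg))
    have h2 : orderOf φ ∣ 4 := by
      have := orderOf_dvd_natCard φ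
      rwa [IsCyclic.card_mulAut, hRc, Nat.totient_prime (by norm_num : Nat.Prime 5)] at this
    have h3 : φ = 1 := orderOf_eq_one_iff.1 (Nat.eq_one_of_dvd_coprimes (by norm_num) h1 h2)
    have h4 : e * (r : O) * e⁻¹ = r := by
      rw [← MulAut.conjNormal_apply, ← hφ, h3]; rfl
    have h5 : g * v * g⁻¹ = v := congrArg (fun z : O => (((z : Y)) : Equiv.Perm Ω)) h4
    calc g * v = (g * v * g⁻¹) * g := by group
      _ = v * g := by rw [h5]
  have hvP : v ∈ P := mem_of_commute h hΩ ((r : O) : Y).2.1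
    (Equiv.Perm.mem_alternatingGroup.1 ((r : O) : Y).2.2) hvc
  have h5 : v ^ 5 = 1 := by
    have := pow_card_eq_one' (x := r)
    rw [hRc] at this
    exact congrArg (fun z : (R : Subgroup O) => (((z : O) : Y) : Equiv.Perm Ω)) this
  apply hr
  have : v = 1 := orderOf_eq_one_iff.1 (Nat.eq_one_of_dvd_coprimes (by norm_num : Nat.Coprime 5 17)
    (orderOf_dvd_of_pow_eq_one h5) (orderOf_dvd_of_pow_eq_one (hpow v hvP)))
  exact Subtype.ext (Subtype.ext (Subtype.ext this))

omit [Fintype Ω] [DecidableEq Ω] in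
/-- No finite group has exactly 35 Sylow 17-subgroups. -/
theorem card_sylow_ne {G : Type u} [Group G] [Finite G] : Nat.card (Sylow 17 G) ≠ 35 := by
  classical
  intro h35
  haveI : Fact (Nat.Prime 17) := ⟨by norm_num⟩
  haveI := Fintype.ofFinite (Sylow 17 G)
  obtain ⟨S⟩ : Nonempty (Sylow 17 G) := inferInstance
  set φ := MulAction.toPermHom G (Sylow 17 G) with hφ
  have happ : ∀ (g : G) (Q : Sylow 17 G), φ g Q = g • Q := fun _ _ => rfl
  refine false_of_config (X := φ.range) (P := (S : Subgroup G).map φ) (a := S) ?_ h35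
  constructor
  · exact map_le_range _ _
  · exact S.2.map _
  · intro Q
    obtain ⟨g, hg⟩ := MulAction.exists_smul_eq G S Q
    exact ⟨φ g, ⟨g, rfl⟩, hg⟩
  · rintro _ ⟨g, hg, rfl⟩
    exact (happ g S).trans (Sylow.smul_eq_iff_mem_normalizer.2 (le_normalizer hg))
  · intro Q hQ
    by_contra hc
    push Not at hc
    apply hQ
    have h1 : (S : Subgroup G) ≤ normalizer ((Q : Subgroup G) : Set G) := fun g hg =>
      Sylow.smul_eq_iff_mem_normalizer.1 ((happ g Q).symm.trans (hc _ (mem_map_of_mem φ hg)))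
    have h2 := IsPGroup.inf_normalizer_sylow S.2 Q
    have h4 : ((S : Subgroup G)) ⊓ normalizer ((Q : Subgroup G) : Set G) = S := inf_eq_left.2 h1
    have h5 : (S : Subgroup G) = (S : Subgroup G) ⊓ (Q : Subgroup G) := h4.symm.trans h2
    clear h2
    have h2 := h5
    exact Sylow.ext (S.3 Q.2 (h2.le.trans inf_le_right))
  · rintro _ ⟨g, rfl⟩ hga _ ⟨s, hs, rfl⟩
    rw [← map_inv, ← map_mul, ← map_mul]
    exact mem_map_of_mem φ
      ((mem_normalizer_iff.1 (Sylow.smul_eq_iff_mem_normalizer.1 ((happ g S).symm.trans hga)) s).1 hs)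
  · rintro _ ⟨g, rfl⟩ hga k hk
    set N := normalizer ((S : Subgroup G) : Set G) with hN
    have hgN : g ∈ N := Sylow.smul_eq_iff_mem_normalizer.1 ((happ g S).symm.trans hga)
    set m := (S : Subgroup G).relIndex N with hm
    haveI : ((S : Subgroup G).subgroupOf N).Normal :=
      (normal_subgroupOf_iff_le_normalizer le_normalizer).2 le_rfl
    have h1 : g ^ m ∈ (S : Subgroup G) := by
      have := ((S : Subgroup G).subgroupOf N).pow_index_mem ⟨g, hgN⟩
      exact this
    have h2 : ¬ 17 ∣ m := fun h => S.not_dvd_index (h.trans (by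
      rw [← relIndex_mul_index (le_normalizer : (S : Subgroup G) ≤ N)]
      exact Dvd.intro _ rfl))
    have hcop : Nat.Coprime m (17 ^ k) :=
      Nat.Coprime.pow_right _ ((Nat.Prime.coprime_iff_not_dvd Fact.out).2 h2).symm
    have h3 : φ g ^ m ∈ (S : Subgroup G).map φ := by
      rw [← map_pow]; exact mem_map_of_mem φ h1
    set x : Equiv.Perm (Sylow 17 G) := φ g with hx
    rw [show x = (x ^ m) ^ Nat.gcdA m (17 ^ k) * (x ^ (17 ^ k)) ^ Nat.gcdB m (17 ^ k) by
      rw [← zpow_natCast, ← zpow_natCast, ← zpow_mul, ← zpow_mul, ← zpow_add, ← Nat.gcd_eq_gcd_ab,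
        hcop, Nat.cast_one, zpow_one]]
    rw [hk, one_zpow, mul_one]
    exact Subgroup.zpow_mem _ h3 _

end Cfsg.Lib.SolvStruct.ThirtyFive
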