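/-
A criterion for normal p-complements through exponents of sections.
-/
import Cfsg.Agent.SolvStruct.Schmidt
import Cfsg.Agent.Coprime.SolvableBasics

set_option linter.style.haveILetI false
set_option linter.unusedSectionVars false

namespace Cfsg.Lib.Schmidt

open Subgroup Cfsg.Lib.Transfer
open scoped commutatorElement

universe u

variable {G : Type u} [Group G] [Finite G] {p : ℕ} [hp : Fact p.Prime]

theorem section_exponent_of_complement (h : Cfsg.HasNormalPComplement p G) (H : Subgroup G)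
    (N : Subgroup H) [N.Normal] (hcore : Cfsg.pPrimeCore p (H ⧸ N) = ⊥) :
    ∃ k : H ⧸ N, orderOf k = Monoid.exponent (H ⧸ N) := by
  have h1 := hasNormalPComplement_of_surjective (QuotientGroup.mk' N) (QuotientGroup.mk'_surjective N)
    (hasNormalPComplement_subgroup h H)
  obtain ⟨M, hM, hc, k, hk⟩ := hasNormalPComplement_iff.1 h1
  haveI := hM
  have hMb : M = ⊥ := le_bot_iff.1 (hcore ▸ Cfsg.Lib.Components.le_pPrimeCore hc)
  have hp' : IsPGroup p (H ⧸ N) := IsPGroup.of_card (n := k) (by rw [← hk, hMb, index_bot])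
  obtain ⟨g, hg⟩ := Finite.exists_max fun x : H ⧸ N => orderOf x
  refine ⟨g, Nat.dvd_antisymm (Monoid.order_dvd_exponent g)
    (Monoid.exponent_dvd_of_forall_pow_eq_one fun x => orderOf_dvd_iff_pow_eq_one.1 ?_)⟩
  obtain ⟨i, hi⟩ := IsPGroup.iff_orderOf.1 hp' x
  obtain ⟨j, hj⟩ := IsPGroup.iff_orderOf.1 hp' g
  rw [hi, hj]
  exact Nat.pow_dvd_pow p ((Nat.pow_le_pow_iff_right hp.out.one_lt).1 (hi ▸ hj ▸ hg x))

theorem section_exponent_aux (h1 : ¬ Cfsg.HasNormalPComplement p G)
    (h2 : ∀ H : Subgroup G, H ≠ ⊤ → Cfsg.HasNormalPComplement p H) :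
    ∃ (N : Subgroup G) (_ : N.Normal), Cfsg.pPrimeCore p (G ⧸ N) = ⊥ ∧
      ∀ k : G ⧸ N, orderOf k ≠ Monoid.exponent (G ⧸ N) := by
  obtain ⟨P, g, q, k, hPn, hq, hqp, hgo, hgc, htop⟩ := exists_structure h1 h2
  haveI := hPn
  haveI := Fact.mk hq
  set Z := zpowers (g ^ q)
  set F := (frattini (P : Subgroup G)).map (P : Subgroup G).subtype
  haveI hFn : F.Normal := inferInstance
  have hk0 : k ≠ 0 := fun e => hgc (by
    rw [e, pow_zero, orderOf_eq_one_iff] at hgo
    rw [hgo]; exact one_mem _)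
  have hgg : IsPGroup q (zpowers g) := IsPGroup.of_card ((Nat.card_zpowers g).trans hgo)
  have hdis : (P : Subgroup G) ⊓ zpowers g = ⊥ :=
    (IsPGroup.disjoint_of_ne p q (Ne.symm hqp) _ _ P.2 hgg).eq_bot
  -- `g`-invariant proper subgroups of `P` are centralised
  have hinv : ∀ R : Subgroup G, R < (P : Subgroup G) → g ∈ normalizer (R : Set G) →
      g ∈ centralizer (R : Set G) := by
    intro R hR hgR
    have hne : R ⊔ zpowers g ≠ ⊤ := by
      intro e
      refine hR.not_ge fun x hx => ?_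
      obtain ⟨r, hr, z, hz, rfl⟩ := (Cfsg.Lib.Coprime.mem_sup_of_le_normalizer (zpowers_le.2 hgR)).1 (e.ge (mem_top x))
      have hz0 : z ∈ (P : Subgroup G) := by simpa using mul_mem (inv_mem (hR.le hr)) hx
      have hz1 : z ∈ (P : Subgroup G) ⊓ zpowers g := ⟨hz0, hz⟩
      rw [hdis, mem_bot] at hz1
      rw [hz1, mul_one]; exact hr
    intro x hx
    have hcop : (orderOf g).Coprime p := by
      rw [hgo]; exact Nat.Coprime.pow_left k ((Nat.coprime_primes hq hp.out).2 hqp)
    have := centralize_of_hasNormalPComplement (h2 _ hne) (R.subgroupOf (R ⊔ zpowers g))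
      (P.2.to_le hR.le).comap_subtype ⟨g, mem_sup_right (mem_zpowers g)⟩ ?_ (by rwa [Subgroup.orderOf_mk])
    · exact congrArg Subtype.val (this ⟨x, mem_sup_left hx⟩ hx)
    · rw [Subgroup.mem_normalizer_iff]
      intro y
      exact Subgroup.mem_normalizer_iff.1 hgR y
  -- a proper subgroup of `g ^ q` centralises `P`
  have hgq : g ^ q ∈ centralizer ((P : Subgroup G) : Set G) := by
    have hne : (P : Subgroup G) ⊔ Z ≠ ⊤ := by
      intro e
      obtain ⟨x, hx, z, hz, hxz⟩ := mem_sup_of_normal_left.1 (e.ge (mem_top g))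
      have hz' : z ∈ zpowers g := (zpowers_le.2 (pow_mem (mem_zpowers g) q)) hz
      have hx' : x ∈ (P : Subgroup G) ⊓ zpowers g := Subgroup.mem_inf.2
        ⟨hx, by rw [show x = g * z⁻¹ by rw [← hxz, mul_inv_cancel_right]];
                exact mul_mem (mem_zpowers g) (inv_mem hz')⟩
      rw [hdis, mem_bot] at hx'
      rw [hx', one_mul] at hxz
      have hgz : g ∈ Z := by rwa [hxz] at hz
      have h5 : orderOf g ∣ orderOf (g ^ q) := orderOf_dvd_of_mem_zpowers hgz
      rw [orderOf_pow_of_dvd hq.ne_zero (hgo ▸ dvd_pow_self q hk0), hgo] at h5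
      obtain ⟨k', rfl⟩ := Nat.exists_eq_succ_of_ne_zero hk0
      rw [pow_succ, Nat.mul_div_cancel _ hq.pos] at h5
      exact absurd (Nat.le_of_dvd (pow_pos hq.pos _) h5)
        (not_le.2 (by nlinarith [hq.two_le, pow_pos hq.pos k']))
    intro x hx
    have hcop : (orderOf (g ^ q)).Coprime p :=
      Nat.Coprime.coprime_dvd_left (orderOf_pow_dvd q) (by
        rw [hgo]; exact Nat.Coprime.pow_left k ((Nat.coprime_primes hq hp.out).2 hqp))
    have := centralize_of_hasNormalPComplement (h2 _ hne) ((P : Subgroup G).subgroupOf ((P : Subgroup G) ⊔ Z))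
      P.2.comap_subtype ⟨g ^ q, mem_sup_right (mem_zpowers _)⟩ ?_ (by rwa [Subgroup.orderOf_mk])
    · exact congrArg Subtype.val (this ⟨x, mem_sup_left hx⟩ hx)
    · exact le_normalizer_of_normal (mem_top _)
  haveI hZn : Z.Normal := by
    refine normalizer_eq_top_iff.1 (top_le_iff.1 (htop.ge.trans (sup_le ?_ (zpowers_le.2 ?_))))
    · intro x hx
      refine mem_normalizer_iff.2 fun y => ?_
      constructor
      · intro hy
        have h6 : x * y = y * x := (zpowers_le.2 hgq) hy x hx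
        rwa [h6, mul_inv_cancel_right]
      · intro hy
        have h6 : x⁻¹ * (x * y * x⁻¹) = (x * y * x⁻¹) * x⁻¹ := (zpowers_le.2 hgq) hy x⁻¹ (inv_mem hx)
        have h7 : y = x * y * x⁻¹ := by
          calc y = x⁻¹ * (x * y * x⁻¹) * x := by group
            _ = (x * y * x⁻¹) * x⁻¹ * x := by rw [h6]
            _ = _ := by group
        rwa [h7]
    · refine mem_normalizer_iff.2 fun y => ?_
      constructor
      · intro hy
        obtain ⟨i, rfl⟩ := mem_zpowers_iff.1 hy
        rw [← zpow_natCast g q, ← zpow_mul, (Commute.zpow_right (Commute.refl g) _).eq, mul_inv_cancel_right,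
          zpow_mul, zpow_natCast]
        exact hy
      · intro hy
        have h6 : Commute g (g * y * g⁻¹) := by
          obtain ⟨i, hi⟩ := mem_zpowers_iff.1 hy
          rw [← hi]
          exact ((Commute.refl g).pow_right q).zpow_right i
        have h7 : y = g * y * g⁻¹ := by
          calc y = g⁻¹ * ((g * y * g⁻¹) * g) := by group
            _ = g⁻¹ * (g * (g * y * g⁻¹)) := by rw [h6.eq]
            _ = _ := by group
        rwa [h7]
  set N := F ⊔ Z
  haveI hNn : N.Normal := Subgroup.sup_normal _ _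
  set f := QuotientGroup.mk' N
  have hf := QuotientGroup.mk'_surjective N
  set Pb := (P : Subgroup G).map f
  haveI hPbn : Pb.Normal := hPn.map f hf
  have hPbp : IsPGroup p Pb := P.2.map f
  have hgq1 : f g ^ q = 1 := by
    rw [← map_pow]; exact (QuotientGroup.eq_one_iff _).2 (mem_sup_right (mem_zpowers _))
  have hKsup : Pb ⊔ zpowers (f g) = ⊤ := by
    rw [← MonoidHom.map_zpowers, ← Subgroup.map_sup, htop, map_top_of_surjective f hf]
  have hfF : ∀ x ∈ F, f x = 1 := fun x hx => (QuotientGroup.eq_one_iff _).2 (mem_sup_left hx)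
  have hcomm : ∀ x ∈ (P : Subgroup G), ∀ y ∈ (P : Subgroup G), f x * f y = f y * f x := by
    intro x hx y hy
    rw [← commutatorElement_eq_one_iff_mul_comm, ← map_commutatorElement]
    exact hfF _ ⟨_, Cfsg.Lib.PGroups.commutator_le_frattini P.2
      (commutator_mem_commutator (mem_top (⟨x, hx⟩ : (P : Subgroup G))) (mem_top ⟨y, hy⟩)), rfl⟩
  have habP : ∀ u ∈ Pb, ∀ v ∈ Pb, u * v = v * u := by
    rintro _ ⟨x, hx, rfl⟩ _ ⟨y, hy, rfl⟩
    exact hcomm x hx y hy
  -- `f g` has no fixed points on `Pb`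
  have hfix : ∀ z ∈ Pb, Commute (f g) z → z = 1 := by
    let ψ : Pb →* Pb :=
      { toFun := fun x => ⟨⁅f g, (x : G ⧸ N)⁆, by
          rw [commutatorElement_def]; exact mul_mem (hPbn.conj_mem x x.2 _) (inv_mem x.2)⟩
        map_one' := Subtype.ext (by simp)
        map_mul' := fun x y => Subtype.ext (by
          have hy' : ⁅f g, (y : G ⧸ N)⁆ ∈ Pb := by
            rw [commutatorElement_def]; exact mul_mem (hPbn.conj_mem y y.2 _) (inv_mem y.2)
          push_cast
          rw [show ⁅f g, (x : G ⧸ N) * y⁆ = ⁅f g, (x : G ⧸ N)⁆ * ((x : G ⧸ N) * ⁅f g, (y : G ⧸ N)⁆ * (x : G ⧸ N)⁻¹) by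
            simp only [commutatorElement_def]; group, habP x x.2 _ hy', mul_inv_cancel_right]) }
    suffices hsurj : Function.Surjective ψ by
      intro z hz hzc
      have h8 := (Finite.injective_iff_surjective.2 hsurj) (a₁ := ⟨z, hz⟩) (a₂ := 1) (Subtype.ext (by
        show ⁅f g, z⁆ = ((ψ 1 : Pb) : G ⧸ N)
        rw [map_one, OneMemClass.coe_one]
        exact commutatorElement_eq_one_iff_mul_comm.2 hzc))
      exact congrArg Subtype.val h8
    rw [← MonoidHom.range_eq_top]
    by_contra hne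
    set T := (ψ.range.map Pb.subtype).comap f ⊓ (P : Subgroup G)
    have hT : ∀ x ∈ (P : Subgroup G), ⁅g, x⁆ ∈ T := fun x hx => Subgroup.mem_inf.2
      ⟨⟨ψ ⟨f x, x, hx, rfl⟩, ⟨_, rfl⟩, (map_commutatorElement f g x).symm⟩, by
        rw [commutatorElement_def]; exact mul_mem (hPn.conj_mem x hx g) (inv_mem hx)⟩
    have hTP : T < (P : Subgroup G) := inf_le_right.lt_of_ne fun e => hne (by
      rw [eq_top_iff]
      rintro ⟨_, x, hx, rfl⟩ -
      obtain ⟨w, hw, hwx⟩ := (e.ge hx).1
      exact (Subtype.ext hwx : w = ⟨f x, x, hx, rfl⟩) ▸ hw)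
    have hgT : g ∈ normalizer (T : Set G) := by
      rw [← map_conj_eq_self_iff]
      refine eq_of_le_of_card_ge ?_ (card_map_conj T g).ge
      rintro _ ⟨t, ⟨⟨w, ⟨⟨u, hu⟩, rfl⟩, hwt⟩, htP⟩, rfl⟩
      refine Subgroup.mem_inf.2 ⟨⟨ψ ⟨f g * u * (f g)⁻¹, hPbn.conj_mem u hu _⟩, ⟨_, rfl⟩, ?_⟩, hPn.conj_mem t htP g⟩
      show ⁅f g, f g * u * (f g)⁻¹⁆ = f (g * t * g⁻¹)
      rw [map_mul, map_mul, map_inv, ← (show ⁅f g, u⁆ = f t from hwt)]
      simp only [commutatorElement_def]; group
    have hc := hinv T hTP hgT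
    refine hgc fun x hx => ?_
    set w := ⁅g, x⁆ with hw
    have hwg : Commute w g := hc w (hT x hx)
    have hiter : ∀ j : ℕ, g ^ j * x * (g ^ j)⁻¹ = w ^ j * x := by
      intro j
      induction j with
      | zero => simp
      | succ j ihj =>
        rw [show g ^ (j + 1) * x * (g ^ (j + 1))⁻¹ = g * (g ^ j * x * (g ^ j)⁻¹) * g⁻¹ by rw [pow_succ']; group,
          ihj, show g * (w ^ j * x) * g⁻¹ = (g * w ^ j) * x * g⁻¹ by group, ← (hwg.pow_left j).eq,
          show w ^ j * g * x * g⁻¹ = w ^ j * ⁅g, x⁆ * x by rw [commutatorElement_def]; group, ← hw, ← pow_succ]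
    have h10 := hiter (orderOf g)
    rw [pow_orderOf_eq_one, one_mul, inv_one, mul_one, eq_comm, mul_eq_right] at h10
    have hw1 : w = 1 := by
      obtain ⟨i, hi⟩ := IsPGroup.iff_orderOf.1 P.2 ⟨w, (Subgroup.mem_inf.1 (hT x hx)).2⟩
      rw [Subgroup.orderOf_mk] at hi
      rw [← orderOf_eq_one_iff]
      refine Nat.eq_one_of_dvd_coprimes ?_ (orderOf_dvd_of_pow_eq_one h10) hi.dvd
      rw [hgo]
      exact Nat.Coprime.pow k i ((Nat.coprime_primes hq hp.out).2 hqp)
    exact (commutatorElement_eq_one_iff_mul_comm.1 hw1).symm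
  -- `Pb` is nontrivial
  have hPb1 : Pb ≠ ⊥ := by
    intro e
    refine hgc (Cfsg.Lib.Coprime.le_centralizer_of_frattini (K := (P : Subgroup G)) (A := zpowers g)
      le_normalizer_of_normal ?_ (fun a _ x hx => ?_) (mem_zpowers g))
    · rw [Nat.card_zpowers, hgo]
      obtain ⟨j, hj⟩ := (P.2.to_subgroup (frattini (P : Subgroup G))).exists_card_eq
      rw [hj]
      exact Nat.Coprime.pow _ _ ((Nat.coprime_primes hq hp.out).2 hqp)
    · show a * x * a⁻¹ * x⁻¹ ∈ F
      have hb : a * x * a⁻¹ * x⁻¹ ∈ (P : Subgroup G) := mul_mem (hPn.conj_mem x hx a) (inv_mem hx)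
      have h1 : f (a * x * a⁻¹ * x⁻¹) = 1 := by
        have : f (a * x * a⁻¹ * x⁻¹) ∈ Pb := ⟨_, hb, rfl⟩
        rwa [e, mem_bot] at this
      obtain ⟨u, hu, z, hz, huz⟩ := mem_sup_of_normal_left.1 ((QuotientGroup.eq_one_iff _).1 h1)
      have hz0 : z ∈ (P : Subgroup G) := by
        have h2 : z = u⁻¹ * (a * x * a⁻¹ * x⁻¹) := by rw [← huz, inv_mul_cancel_left]
        rw [h2]
        exact mul_mem (inv_mem (map_subtype_le _ hu)) hb
      have hz1 : z ∈ (P : Subgroup G) ⊓ zpowers g :=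
        ⟨hz0, (zpowers_le.2 (pow_mem (mem_zpowers g) q)) hz⟩
      rw [hdis, mem_bot] at hz1
      rw [← huz, hz1, mul_one]; exact hu
  have hfg : orderOf (f g) = q := by
    refine orderOf_eq_prime hgq1 fun e => ?_
    obtain ⟨z, hz, hz1⟩ := (Pb.bot_or_exists_ne_one).resolve_left hPb1
    exact hz1 (hfix z hz (by rw [e]; exact Commute.one_left z))
  refine ⟨N, hNn, ?_, fun c hc => ?_⟩
  · -- the core is trivial
    set M := Cfsg.pPrimeCore p (G ⧸ N)
    by_contra hM
    have hMc := Cfsg.Lib.Components.coprime_card_pPrimeCore (G := G ⧸ N) p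
    obtain ⟨m, hm, hm1⟩ := (M.bot_or_exists_ne_one).resolve_left hM
    obtain ⟨x, hx, y, hy, hxy⟩ := mem_sup_of_normal_left.1 (hKsup.ge (mem_top m))
    obtain ⟨i, rfl⟩ := mem_zpowers_iff.1 hy
    obtain ⟨z, hz, hz1⟩ := (Pb.bot_or_exists_ne_one).resolve_left hPb1
    have hdisM : Disjoint Pb M := by
      rw [disjoint_iff]
      refine Cfsg.Lib.Coprime.inf_eq_bot_of_coprime ?_
      obtain ⟨j, hj⟩ := hPbp.exists_card_eq
      rw [hj]
      exact Nat.Coprime.pow_left j hMc.symm
    have hmz : Commute z m := Subgroup.commute_of_normal_of_disjoint _ _ hPbn inferInstance hdisM z m hz hm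
    have hxz : Commute z x := habP z hz x hx
    have hiz : Commute z (f g ^ i) := by
      have := hxz.inv_right.mul_right hmz
      rwa [← hxy, inv_mul_cancel_left] at this
    by_cases hqi : (q : ℤ) ∣ i
    · obtain ⟨j, rfl⟩ := hqi
      rw [zpow_mul, zpow_natCast, hgq1, one_zpow, mul_one] at hxy
      have : m ∈ Pb ⊓ M := ⟨hxy ▸ hx, hm⟩
      rw [hdisM.eq_bot, mem_bot] at this
      exact hm1 this
    · obtain ⟨u, v, huv⟩ := ((Nat.prime_iff_prime_int.1 hq).coprime_iff_not_dvd.2 hqi).symm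
      have h9 : (f g ^ i) ^ u = f g := by
        rw [← zpow_mul, show i * u = 1 + (q : ℤ) * (-v) by linarith, zpow_add, zpow_one, zpow_mul,
          zpow_natCast, hgq1, one_zpow, mul_one]
      exact hz1 (hfix z hz (h9 ▸ hiz.zpow_right u).symm)
  · -- no element of order the exponent
    have hpexp : p ∣ orderOf c := by
      rw [hc]
      haveI := (nontrivial_iff_ne_bot _).2 hPb1
      obtain ⟨z, hz⟩ := exists_prime_orderOf_dvd_card' p (G := Pb)
        ((hPbp.card_eq_or_dvd).resolve_left (Finite.one_lt_card (α := Pb)).ne')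
      rw [← hz, ← Subgroup.orderOf_coe]
      exact Monoid.order_dvd_exponent _
    have hqexp : q ∣ orderOf c := by
      rw [hc, ← hfg]; exact Monoid.order_dvd_exponent _
    have ha : orderOf (c ^ (orderOf c / p)) = p := orderOf_pow_orderOf_div (orderOf_pos c).ne' hpexp
    have hb : orderOf (c ^ (orderOf c / q)) = q := orderOf_pow_orderOf_div (orderOf_pos c).ne' hqexp
    set a := c ^ (orderOf c / p)
    set b := c ^ (orderOf c / q)
    have hab : Commute a b := Commute.pow_pow (Commute.refl c) _ _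
    have hPbq : IsPGroup q ((G ⧸ N) ⧸ Pb) := by
      have h6 : Pb.index ∣ q := by
        rw [← hfg, ← Nat.card_zpowers, ← relIndex_top_right, ← hKsup, sup_comm, relIndex_sup_right]
        exact relIndex_dvd_card _ _
      obtain ⟨j, -, hj⟩ := (Nat.dvd_prime_pow hq).1 (h6.trans (pow_one q).symm.dvd)
      exact isPGroup_quotient_of_index Pb hj
    have haP : a ∈ Pb := mem_of_isPGroup_quotient_of_coprime Pb hPbq
      (by rw [ha]; exact (Nat.coprime_primes hp.out hq).2 (Ne.symm hqp))
    obtain ⟨x, hx, y, hy, hxy⟩ := mem_sup_of_normal_left.1 (hKsup.ge (mem_top b))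
    obtain ⟨i, rfl⟩ := mem_zpowers_iff.1 hy
    by_cases hqi : (q : ℤ) ∣ i
    · obtain ⟨j, rfl⟩ := hqi
      rw [zpow_mul, zpow_natCast, hgq1, one_zpow, mul_one] at hxy
      obtain ⟨t, ht⟩ := IsPGroup.iff_orderOf.1 hPbp ⟨x, hx⟩
      rw [Subgroup.orderOf_mk, hxy, hb] at ht
      exact hqp ((Nat.prime_dvd_prime_iff_eq hq hp.out).1 (hq.dvd_of_dvd_pow ht.dvd))
    · have hiz : Commute a (f g ^ i) := by
        have := (show Commute a x from habP a haP x hx).inv_right.mul_right hab
        rwa [← hxy, inv_mul_cancel_left] at this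
      obtain ⟨u, v, huv⟩ := ((Nat.prime_iff_prime_int.1 hq).coprime_iff_not_dvd.2 hqi).symm
      have h9 : (f g ^ i) ^ u = f g := by
        rw [← zpow_mul, show i * u = 1 + (q : ℤ) * (-v) by linarith, zpow_add, zpow_one, zpow_mul,
          zpow_natCast, hgq1, one_zpow, mul_one]
      have := hfix a haP (h9 ▸ hiz.zpow_right u).symm
      rw [this, orderOf_one] at ha
      exact hp.out.ne_one ha.symm

theorem normalPComplement_iff_section_exponent :
    Cfsg.HasNormalPComplement p G ↔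
      ∀ (H : Subgroup G) (N : Subgroup H) [N.Normal], Cfsg.pPrimeCore p (H ⧸ N) = ⊥ →
        ∃ k : H ⧸ N, orderOf k = Monoid.exponent (H ⧸ N) := by
  refine ⟨fun h H N _ hc => section_exponent_of_complement h H N hc, fun h => ?_⟩
  by_contra hne
  -- a minimal subgroup without a normal complement
  obtain ⟨H, hH, hmin⟩ := WellFounded.has_min (wellFounded_lt (α := Subgroup G))
    {H : Subgroup G | ¬ Cfsg.HasNormalPComplement p H}
    ⟨⊤, fun h' => hne ((hasNormalPComplement_congr Subgroup.topEquiv).1 h')⟩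
  obtain ⟨N, hN, hcore, hk⟩ := section_exponent_aux (G := H) hH fun K hK => by
    by_contra hK'
    refine hmin (K.map H.subtype) (fun h' => hK' ?_) ?_
    · exact (hasNormalPComplement_congr (K.equivMapOfInjective H.subtype H.subtype_injective)).2 h'
    · refine lt_of_le_of_ne (map_subtype_le K) fun e => hK ?_
      rw [← comap_map_eq_self_of_injective H.subtype_injective K, e]
      exact eq_top_iff.2 fun x _ => x.2
  haveI := hN
  obtain ⟨c, hc⟩ := h H N hcore
  exact hk c hc

end Cfsg.Lib.Schmidt
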