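/-
A connected graph on the primes dividing class sizes has diameter at most three.
-/
import Cfsg.Agent.SolvStruct.PrimeClasses
import Cfsg.Agent.SolvStruct.Schmidt
import Cfsg.Agent.Components.Cores

set_option linter.style.haveILetI false
set_option linter.unusedSectionVars false

namespace Cfsg.Lib.ClassPrimeGraph

open Subgroup MulAction Cfsg.Lib.SolvStruct.PrimeClasses
open scoped Pointwise

universe u

variable {G : Type u} [Group G]

/-- The class size of `g`. -/
noncomputable def isz (g : G) : ℕ := (centralizer ({g} : Set G)).index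

/-- Two primes (possibly equal) occur in one class size. -/
def Meet (G : Type u) [Group G] (s t : ℕ) : Prop :=
  s.Prime ∧ t.Prime ∧ ∃ g : G, s ∣ isz g ∧ t ∣ isz g

theorem Meet.symm {s t : ℕ} (h : Meet G s t) : Meet G t s :=
  let ⟨h1, h2, g, h3, h4⟩ := h
  ⟨h2, h1, g, h4, h3⟩

theorem mem_c {g h : G} : h ∈ centralizer ({g} : Set G) ↔ Commute h g :=
  mem_centralizer_singleton_iff

theorem isz_pos [Finite G] (g : G) : 0 < isz g := Nat.pos_of_ne_zero index_ne_zero_of_finite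

theorem isz_conj [Finite G] (g x : G) : isz (g * x * g⁻¹) = isz x := by
  have h : cls (g * x * g⁻¹) = cls x := by
    ext z
    constructor
    · rintro ⟨k, rfl⟩; exact ⟨k * g, by group⟩
    · rintro ⟨k, rfl⟩; exact ⟨k * g⁻¹, by group⟩
  unfold isz
  rw [← card_cls, ← card_cls, h]

theorem isz_dvd_of_forall {x y : G} (h : ∀ k : G, Commute k x → Commute k y) : isz y ∣ isz x :=
  index_dvd_of_le fun k hk => mem_c.2 (h k (mem_c.1 hk))

theorem isz_dvd_zpowers {x y : G} (h : y ∈ zpowers x) : isz y ∣ isz x := by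
  obtain ⟨i, rfl⟩ := mem_zpowers_iff.1 h
  exact isz_dvd_of_forall fun k hk => hk.zpow_right i

theorem commute_left_of_coprime [Finite G] {a b k : G} (hab : Commute a b)
    (hco : (orderOf a).Coprime (orderOf b)) (hk : Commute k (a * b)) : Commute k a := by
  have h1 : Commute k ((a * b) ^ orderOf b) := hk.pow_right _
  rw [hab.mul_pow, pow_orderOf_eq_one, mul_one] at h1
  obtain ⟨m, hm⟩ : ∃ m, (a ^ orderOf b) ^ m = a := exists_pow_eq_self_of_coprime hco.symm
  rw [← hm]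
  exact h1.pow_right m

theorem isz_dvd_mul [Finite G] {a b : G} (hab : Commute a b) (hco : (orderOf a).Coprime (orderOf b)) :
    isz a ∣ isz (a * b) ∧ isz b ∣ isz (a * b) :=
  ⟨isz_dvd_of_forall fun k hk => commute_left_of_coprime hab hco hk,
    isz_dvd_of_forall fun k hk => commute_left_of_coprime hab.symm hco.symm (by rwa [← hab.eq])⟩

variable [Finite G]

/-- When no class size meets both of two coprime class sizes, the smaller class moves inside a normal
subgroup whose order divides the larger and which centralises it. -/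
theorem exists_normal {v w : G} (hcop : (isz v).Coprime (isz w))
    (hno : ∀ (g : G) (s t : ℕ), s.Prime → t.Prime → s ∣ isz v → t ∣ isz w → s ∣ isz g → t ∣ isz g → False)
    (hlt : isz v < isz w) :
    ∃ H : Subgroup G, H.Normal ∧ Nat.card H ∣ isz w ∧ (∀ h ∈ H, Commute h v) ∧
      ∀ g, g * v * g⁻¹ * v⁻¹ ∈ H := by
  have hcov := cover (A := centralizer ({v} : Set G)) (B := centralizer ({w} : Set G)) hcop
  have hsub : cls v * cls w ⊆ cls (v * w) := by
    rintro _ ⟨_, ⟨i, rfl⟩, _, ⟨j, rfl⟩, rfl⟩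
    obtain ⟨c, hc, d, hd, hcd⟩ := hcov (i⁻¹ * j)
    refine ⟨i * c, ?_⟩
    rw [mem_centralizer_singleton_iff] at hc hd
    have hj : j = i * c * d := by rw [mul_assoc, ← hcd]; group
    have hw' : j * w * j⁻¹ = i * c * w * (i * c)⁻¹ := by rw [hj, mul_assoc (i * c) d w, hd]; group
    have hv' : i * v * i⁻¹ = i * c * v * (i * c)⁻¹ := by rw [mul_assoc i c v, hc]; group
    show i * c * (v * w) * (i * c)⁻¹ = i * v * i⁻¹ * (j * w * j⁻¹)
    rw [hv', hw']; group
  have hle : ∀ k ∈ cls v, k • cls w ⊆ cls (v * w) := fun k hk => by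
    rintro _ ⟨z, hz, rfl⟩
    exact hsub ⟨k, hk, z, hz, rfl⟩
  have hcard : ∀ k : G, (k • cls w).ncard = isz w := fun k => by
    rw [Set.ncard_smul_set, ← Nat.card_coe_set_eq, card_cls]; rfl
  have hv1 : v ∈ cls v := ⟨1, by simp⟩
  have hge : isz w ≤ (cls (v * w)).ncard := hcard v ▸ Set.ncard_le_ncard (hle v hv1) (Set.toFinite _)
  rw [← Nat.card_coe_set_eq, card_cls] at hge
  change isz w ≤ isz (v * w) at hge
  have hdvd : isz (v * w) ∣ isz v * isz w := by
    have hinf : centralizer ({v} : Set G) ⊓ centralizer ({w} : Set G) ≤ centralizer ({v * w} : Set G) :=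
      fun k hk => mem_c.2 ((mem_c.1 hk.1).mul_right (mem_c.1 hk.2))
    refine (index_dvd_of_le hinf).trans ?_
    rw [le_antisymm (index_inf_le (H := centralizer ({v} : Set G)) (K := centralizer ({w} : Set G)))
      (Nat.le_of_dvd (Nat.pos_of_ne_zero index_ne_zero_of_finite)
        (hcop.mul_dvd_of_dvd_of_dvd (index_dvd_of_le inf_le_left) (index_dvd_of_le inf_le_right)))]
    rfl
  have heq : isz (v * w) = isz w := by
    by_cases h1 : (isz (v * w)).Coprime (isz v)
    · exact le_antisymm (Nat.le_of_dvd (isz_pos w) (h1.dvd_of_dvd_mul_left hdvd)) hge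
    · obtain ⟨s, hs, hs1, hs2⟩ := Nat.Prime.not_coprime_iff_dvd.1 h1
      exfalso
      by_cases h2 : (isz (v * w)).Coprime (isz w)
      · exact absurd (hge.trans (Nat.le_of_dvd (isz_pos v) (h2.dvd_of_dvd_mul_right hdvd))) (not_le.2 hlt)
      · obtain ⟨t, ht, ht1, ht2⟩ := Nat.Prime.not_coprime_iff_dvd.1 h2
        exact hno _ s t hs ht hs2 ht2 hs1 ht1
  have hall : ∀ k ∈ cls v, k • cls w = cls (v * w) := fun k hk =>
    Set.eq_of_subset_of_ncard_le (hle k hk) (by rw [hcard, ← Nat.card_coe_set_eq, card_cls, ← heq]; rfl)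
      (Set.toFinite _)
  have hmove : ∀ g, g * v * g⁻¹ * v⁻¹ ∈ stab w := fun g => by
    have e2 := hall v hv1
    have e1 := hall _ (⟨g, rfl⟩ : g * v * g⁻¹ ∈ cls v)
    have h5 : v⁻¹ * (g * v * g⁻¹) ∈ stab w := by
      rw [mem_stab, mul_smul, e1, ← e2, inv_smul_smul]
    have h6 := (stab_normal w).conj_mem _ h5 v
    rwa [show v * (v⁻¹ * (g * v * g⁻¹)) * v⁻¹ = g * v * g⁻¹ * v⁻¹ by group] at h6
  refine ⟨stab w, stab_normal w, card_stab_dvd w, fun h hh => ?_, hmove⟩
  set S := stab w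
  set C := centralizer ({v} : Set G) with hC
  have h2 : C.relIndex S * S.relIndex (C ⊔ S) = C.relIndex (C ⊔ S) * S.relIndex (C ⊔ S) := by
    rw [← inf_relIndex_right C S, relIndex_mul_relIndex _ _ _ inf_le_right le_sup_right,
      ← relIndex_mul_relIndex (C ⊓ S) C (C ⊔ S) inf_le_left le_sup_left, inf_relIndex_left,
      relIndex_sup_right, mul_comm]
  have h3 : C.relIndex S ∣ isz v := by
    rw [Nat.eq_of_mul_eq_mul_right (Nat.pos_of_ne_zero fun e => index_ne_zero_of_finite (H := S)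
      (by rw [← relIndex_mul_index (le_sup_right : S ≤ C ⊔ S), e, zero_mul])) h2]
    exact Dvd.intro _ (relIndex_mul_index le_sup_left)
  have h4 : C.relIndex S ∣ isz w := (relIndex_dvd_card C S).trans (card_stab_dvd w)
  have h5 := Nat.eq_one_of_dvd_coprimes hcop h3 h4
  exact mem_c.1 ((relIndex_eq_one.1 h5) hh)

/-- Powers prime to the larger class size are central. -/
theorem central_of_coprime {v : G} {N : ℕ} {H : Subgroup G} (hcard : Nat.card H ∣ N)
    (hcen : ∀ h ∈ H, Commute h v) (hmove : ∀ g, g * v * g⁻¹ * v⁻¹ ∈ H) {z : G} (hz : z ∈ zpowers v)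
    (hco : (orderOf z).Coprime N) (g : G) : Commute g z := by
  obtain ⟨i, rfl⟩ := mem_zpowers_iff.1 hz
  set t := g * v * g⁻¹ * v⁻¹ with ht
  have hct : Commute t v := hcen t (hmove g)
  have e : g * v ^ i * g⁻¹ = t ^ i * v ^ i := by
    rw [← MulAut.conj_apply, map_zpow, MulAut.conj_apply, show g * v * g⁻¹ = t * v by rw [ht, inv_mul_cancel_right],
      hct.mul_zpow]
  have h1 : (t ^ i) ^ orderOf (v ^ i) = 1 := by
    have h : (g * v ^ i * g⁻¹) ^ orderOf (v ^ i) = 1 := by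
      rw [conj_pow, pow_orderOf_eq_one, mul_one, mul_inv_cancel]
    rwa [e, (hct.zpow_zpow i i).mul_pow, pow_orderOf_eq_one, mul_one] at h
  have h2 : (t ^ i) ^ N = 1 := by
    obtain ⟨c, rfl⟩ := hcard
    rw [pow_mul, show (t ^ i) ^ Nat.card H = 1 from ?_, one_pow]
    exact congrArg Subtype.val (pow_card_eq_one' (x := (⟨t ^ i, H.zpow_mem (hmove g) i⟩ : H)))
  have h3 : t ^ i = 1 := by
    have h := pow_gcd_eq_one.2 ⟨h1, h2⟩
    rwa [hco.gcd_eq_one, pow_one] at h
  rw [h3, one_mul] at e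
  exact mul_inv_eq_iff_eq_mul.1 e

theorem isz_eq_one {z : G} (h : ∀ g, Commute g z) : isz z = 1 := by
  unfold isz
  rw [index_eq_one, eq_top_iff]
  exact fun g _ => mem_c.2 (h g)

theorem exists_conj_mem {p : ℕ} [hp : Fact p.Prime] {a y : G} {k : ℕ} (ha : orderOf a = p ^ k)
    (hy : ¬ p ∣ isz y) : ∃ c : G, Commute a (c * y * c⁻¹) := by
  obtain ⟨Q⟩ : Nonempty (Sylow p (centralizer ({y} : Set G))) := inferInstance
  have hQi : ¬ p ∣ ((Q : Subgroup _).map (centralizer ({y} : Set G)).subtype).index := by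
    rw [index_map_subtype]
    exact hp.out.not_dvd_mul Q.not_dvd_index hy
  let R := (Q.2.map (centralizer ({y} : Set G)).subtype).toSylow hQi
  obtain ⟨S, hS⟩ := (IsPGroup.of_card (n := k) (by rw [Nat.card_zpowers, ha]) : IsPGroup p (zpowers a)).exists_le_sylow
  obtain ⟨c, hc⟩ := MulAction.exists_smul_eq G R S
  have h := hS (mem_zpowers a)
  rw [← hc] at h
  change a ∈ ((c • R : Sylow p G) : Subgroup G) at h
  rw [Sylow.coe_subgroup_smul, mem_pointwise_smul_iff_inv_smul_mem] at h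
  obtain ⟨b, -, hb⟩ : c⁻¹ * a * c ∈ (Q : Subgroup _).map (centralizer ({y} : Set G)).subtype := by
    have h' : (MulAut.conj c)⁻¹ • a ∈ (R : Subgroup G) := h
    rw [show (MulAut.conj c)⁻¹ • a = c⁻¹ * a * c by simp [MulAut.smul_def, mul_assoc]] at h'
    exact h'
  refine ⟨c, ?_⟩
  have h2 : Commute (c⁻¹ * a * c) y := by rw [← hb]; exact mem_c.1 b.2
  have h3 := congrArg (fun z => c * z * c⁻¹) h2.eq
  show a * (c * y * c⁻¹) = c * y * c⁻¹ * a
  simpa [mul_assoc] using h3

/-- No two primes are four apart. -/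
theorem key (hconn : ∀ S : Set ℕ, (∃ p ∈ S, p.Prime ∧ ∃ g : G, p ∣ isz g) →
      (∃ q ∉ S, q.Prime ∧ ∃ g : G, q ∣ isz g) → ∃ a b : ℕ, a ∈ S ∧ b ∉ S ∧ Meet G a b)
    {p q : ℕ} (hp : p.Prime) (hq : q.Prime) {x y : G} (hx : p ∣ isz x) (hy : q ∣ isz y)
    (hlt : isz x < isz y) : ∃ r s, Meet G p r ∧ Meet G r s ∧ Meet G s q := by
  by_contra hno
  push Not at hno
  haveI := Fact.mk hp
  -- the two regions
  let N1 : ℕ → Prop := fun t => Meet G p t
  let Far : ℕ → Prop := fun s => s.Prime ∧ ∀ r, Meet G p r → ¬ Meet G r s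
  have hN1 : ∀ {z : G}, p ∣ isz z → ∀ {t : ℕ}, t.Prime → t ∣ isz z → N1 t :=
    fun {z} hz {t} ht htz => ⟨hp, ht, z, hz, htz⟩
  have hFar : ∀ {s : ℕ}, s.Prime → s ∣ isz y → Far s := fun {s} hs hsy =>
    ⟨hs, fun r h1 h2 => hno r s h1 h2 ⟨hs, hq, y, hsy, hy⟩⟩
  have hsep : ∀ (g : G) (t s : ℕ), N1 t → Far s → t ∣ isz g → s ∣ isz g → False :=
    fun g t s ht hs h1 h2 => hs.2 t ht ⟨ht.2.1, hs.1, g, h1, h2⟩
  have hcop : ∀ {u : G}, (∀ t, t.Prime → t ∣ isz u → N1 t) → (isz u).Coprime (isz y) := fun {u} hu =>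
    Nat.coprime_of_dvd fun k hk h1 h2 => hsep y k k (hu k hk h1) (hFar hk h2) h2 h2
  have hnoxy : ∀ {u : G}, (∀ t, t.Prime → t ∣ isz u → N1 t) →
      ∀ (g : G) (s t : ℕ), s.Prime → t.Prime → s ∣ isz u → t ∣ isz y → s ∣ isz g → t ∣ isz g → False :=
    fun {u} hu g s t hs ht h1 h2 h3 h4 => hsep g s t (hu s hs h1) (hFar ht h2) h3 h4
  have hxN : ∀ t, t.Prime → t ∣ isz x → N1 t := fun t ht htx => hN1 hx ht htx
  obtain ⟨H, hHn, hHc, hHx, hHm⟩ := exists_normal (hcop hxN) (hnoxy hxN) hlt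
  have hpy : ¬ p ∣ isz y := fun h => hsep y p p ⟨hp, hp, x, hx, hx⟩ (hFar hp h) h h
  -- the class of `x` generates an abelian normal subgroup
  have hHk : ∀ g : G, ∀ h ∈ H, Commute h (g * x * g⁻¹) := fun g h hh => by
    have h1 := hHx _ (hHn.conj_mem h hh g⁻¹)
    have h2 := congrArg (fun z => g * z * g⁻¹) h1.eq
    show h * (g * x * g⁻¹) = g * x * g⁻¹ * h
    simpa [mul_assoc] using h2
  have hcls : ∀ g g' : G, Commute (g * x * g⁻¹) (g' * x * g'⁻¹) := fun g g' => by
    rw [show g * x * g⁻¹ = (g * x * g⁻¹ * x⁻¹) * x by group]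
    refine (hHk g' _ (hHm g)).mul_left ?_
    rw [show g' * x * g'⁻¹ = (g' * x * g'⁻¹ * x⁻¹) * x by group]
    exact ((hHx _ (hHm g')).symm).mul_right (Commute.refl x)
  set A := closure (cls x) with hA
  haveI hAn : A.Normal := ⟨fun a ha g => by
    have h : A ≤ A.comap (MulAut.conj g).toMonoidHom := (closure_le _).2 fun z hz =>
      subset_closure (cls_conj x g z hz)
    exact h ha⟩
  have hAc : ∀ a ∈ A, ∀ b ∈ A, Commute a b := by
    have h1 : A ≤ centralizer (cls x) := (closure_le _).2 fun z ⟨g, hg⟩ w ⟨g', hg'⟩ => by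
      rw [← hg, ← hg']; exact (hcls g' g).eq
    have h2 : A ≤ centralizer (A : Set G) := by
      rw [hA, centralizer_closure]
      exact h1
    exact fun a ha b hb => ((mem_centralizer_iff.1 (h2 ha)) b hb).symm
  set C := centralizer (A : Set G) with hC
  haveI : C.Normal := inferInstance
  have hCx : C ≤ centralizer ({x} : Set G) :=
    centralizer_le (Set.singleton_subset_iff.2 (subset_closure ⟨1, by simp⟩))
  -- outside `C` a far prime occurs
  have hout : ∀ g, g ∉ C → ∃ s, Far s ∧ s ∣ isz g := by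
    intro g hg
    obtain ⟨k, hk, hgk⟩ : ∃ k ∈ cls x, ¬ Commute k g := by
      by_contra hall
      push Not at hall
      refine hg ?_
      rw [hC, hA, centralizer_closure]
      exact fun k hk => (hall k hk).eq
    obtain ⟨z, hzk, hzg, s, j, hs, hzo⟩ :=
      Cfsg.Lib.Schmidt.exists_prime_power_mem k (centralizer ({g} : Set G)) fun h => hgk (mem_c.1 h)
    obtain ⟨i, hi⟩ := mem_zpowers_iff.1 hzk
    have hsy : s ∣ isz y := by
      by_contra hns
      obtain ⟨a, ha⟩ := hk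
      replace ha : a * x * a⁻¹ = k := ha
      have hcen : ∀ h, Commute h z := by
        have h0 : ∀ h, Commute h (x ^ i) := central_of_coprime hHc hHx hHm (zpow_mem (mem_zpowers x) i) (by
          have e : orderOf (x ^ i) = orderOf z := by
            rw [← hi, ← ha, ← MulAut.conj_apply, ← map_zpow]
            exact (orderOf_injective (MulAut.conj a).toMonoidHom (MulAut.conj a).injective _).symm
          rw [e, hzo]
          exact Nat.Coprime.pow_left j ((hs.coprime_iff_not_dvd).2 hns))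
        intro h
        rw [← hi, ← ha, ← MulAut.conj_apply, ← map_zpow, MulAut.conj_apply, (h0 a).eq, mul_inv_cancel_right]
        exact h0 h
      exact hzg (mem_c.2 (hcen g).symm)
    haveI := Fact.mk hs
    refine ⟨s, hFar hs hsy, ?_⟩
    by_contra hsg
    obtain ⟨Q⟩ : Nonempty (Sylow s (centralizer ({g} : Set G))) := inferInstance
    have hQi : ¬ s ∣ ((Q : Subgroup _).map (centralizer ({g} : Set G)).subtype).index := by
      rw [index_map_subtype]
      exact hs.not_dvd_mul Q.not_dvd_index hsg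
    -- the `s`-torsion of `A` is normal
    let T : Subgroup G :=
      { carrier := {a | a ∈ A ∧ ∃ n, a ^ s ^ n = 1}
        one_mem' := ⟨A.one_mem, 0, by simp⟩
        mul_mem' := by
          rintro a b ⟨ha, n, hn⟩ ⟨hb, m, hm⟩
          refine ⟨A.mul_mem ha hb, n + m, ?_⟩
          rw [(hAc a ha b hb).mul_pow, pow_add, pow_mul, hn, one_pow, one_mul, mul_comm, pow_mul, hm, one_pow]
        inv_mem' := by
          rintro a ⟨ha, n, hn⟩
          exact ⟨A.inv_mem ha, n, by rw [inv_pow, hn, inv_one]⟩ }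
    haveI : T.Normal := ⟨fun a ⟨ha, n, hn⟩ h => ⟨hAn.conj_mem a ha h, n, by
      rw [conj_pow, hn, mul_one, mul_inv_cancel]⟩⟩
    have hT : IsPGroup s T := fun a => by
      obtain ⟨n, hn⟩ := a.2.2
      exact ⟨n, Subtype.ext hn⟩
    have hzT : z ∈ T := by
      refine ⟨?_, j, by rw [← hzo, pow_orderOf_eq_one]⟩
      obtain ⟨a, ha⟩ := hk
      exact zpowers_le.2 (show k ∈ A from subset_closure ⟨a, ha⟩) hzk
    have h := hT.le_sylow_of_normal ((Q.2.map _).toSylow hQi) hzT
    obtain ⟨b, -, hb⟩ := h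
    exact hzg (hb ▸ b.2)
  have hout1 : ∀ g, g ∉ C → ∀ t, N1 t → ¬ t ∣ isz g := fun g hg t ht htg => by
    obtain ⟨s, hs, hsg⟩ := hout g hg
    exact hsep g t s ht hs htg hsg
  -- an edge leaving the first region
  obtain ⟨a, b, ha, hb, hab⟩ := hconn {t | N1 t} ⟨p, ⟨hp, hp, x, hx, hx⟩, hp, x, hx⟩
    ⟨q, fun h => hno q q h ⟨hq, hq, y, hy, hy⟩ ⟨hq, hq, y, hy, hy⟩, hq, y, hy⟩
  obtain ⟨-, hbp, z, haz, hbz⟩ := hab
  have hpz : ¬ p ∣ isz z := fun h => hb (hN1 h hbp hbz)
  have hzC : z ∈ C := by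
    by_contra h
    exact hout1 z h a ha haz
  obtain ⟨zp, zw, hzp, hzw, hzeq, ⟨k, hzpo⟩, hzwo⟩ := Cfsg.Lib.Transfer.exists_pPart p z
  have hco : (orderOf zp).Coprime (orderOf zw) := by
    rw [hzpo]; exact Nat.Coprime.pow_left k hzwo.symm
  have hzpC : zp ∈ C := zpowers_le.2 hzC hzp
  have hzwC : zw ∈ C := zpowers_le.2 hzC hzw
  -- a `p`-element outside `C` commuting with `z`
  obtain ⟨u, huz, huC, m, huo⟩ : ∃ u, Commute u z ∧ u ∉ C ∧ ∃ m, orderOf u = p ^ m := by
    obtain ⟨Q⟩ : Nonempty (Sylow p (centralizer ({z} : Set G))) := inferInstance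
    by_contra hall
    push Not at hall
    have hle : (Q : Subgroup _).map (centralizer ({z} : Set G)).subtype ≤ C := by
      rintro _ ⟨w, hw, rfl⟩
      obtain ⟨m, hm⟩ := IsPGroup.iff_orderOf.1 Q.2 ⟨w, hw⟩
      by_contra hwC
      exact hall w (mem_c.1 w.2) hwC m (by
        rw [← hm, Subgroup.orderOf_mk]
        exact orderOf_injective (centralizer ({z} : Set G)).subtype Subtype.val_injective w)
    have h1 := hx.trans (index_dvd_of_le (hle.trans hCx))
    rw [index_map_subtype] at h1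
    exact hp.not_dvd_mul Q.not_dvd_index hpz h1
  have hw1 : ∀ t, N1 t → ¬ t ∣ isz zw := by
    intro t ht htw
    have hc : Commute zw u := by
      obtain ⟨i, rfl⟩ := mem_zpowers_iff.1 hzw
      exact (huz.zpow_right i).symm
    refine hout1 (zw * u) (fun h => huC ?_) t ht
      (htw.trans (isz_dvd_mul hc (by rw [huo]; exact Nat.Coprime.pow_right m hzwo)).1)
    exact (Subgroup.mul_mem_cancel_left C hzwC).1 h
  have hzpN : ∀ t, t.Prime → t ∣ isz zp → N1 t := by
    intro t ht htp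
    obtain ⟨xp, xw, hxp, hxw, hxeq, ⟨l, hxpo⟩, hxwo⟩ := Cfsg.Lib.Transfer.exists_pPart p x
    have hxpc : ∀ g, Commute g xp := central_of_coprime hHc hHx hHm hxp (by
      rw [hxpo]; exact Nat.Coprime.pow_left l (hp.coprime_iff_not_dvd.2 hpy))
    have hxw1 : isz x ∣ isz xw :=
      isz_dvd_of_forall fun g hg => by rw [← hxeq]; exact (hxpc g).mul_right hg
    have hc : Commute zp xw := by
      obtain ⟨i, rfl⟩ := mem_zpowers_iff.1 hxw
      exact (mem_c.1 (hCx hzpC)).zpow_right i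
    have h := isz_dvd_mul hc (by rw [hzpo]; exact Nat.Coprime.pow_left k hxwo.symm)
    exact hN1 ((hx.trans hxw1).trans h.2) ht (htp.trans h.1)
  have hzp1 : isz zp ≠ 1 := fun h => by
    have h' : ∀ g, Commute g zp := fun g => by
      have : centralizer ({zp} : Set G) = ⊤ := index_eq_one.1 h
      exact mem_c.1 (this.ge (mem_top g))
    exact hw1 a ha (haz.trans (isz_dvd_of_forall fun g hg => by rw [← hzeq]; exact (h' g).mul_right hg))
  have hzpdvd : isz zp ∣ isz z := isz_dvd_zpowers hzp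
  have hpzp : ¬ p ∣ isz zp := fun h => hpz (h.trans hzpdvd)
  -- `y` is a `p`-element up to the centre
  obtain ⟨c, hc⟩ := exists_conj_mem hzpo hpy
  obtain ⟨yp, yw, hyp, hyw, hyeq, ⟨l, hypo⟩, hywo⟩ := Cfsg.Lib.Transfer.exists_pPart p (c * y * c⁻¹)
  have hyI : isz (c * y * c⁻¹) = isz y := isz_conj c y
  have hywc : isz yw = 1 := by
    by_contra hne
    obtain ⟨s, hs, hsd⟩ := Nat.exists_prime_and_dvd hne
    obtain ⟨t, ht, htd⟩ := Nat.exists_prime_and_dvd hzp1
    have hcc : Commute zp yw := by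
      obtain ⟨i, rfl⟩ := mem_zpowers_iff.1 hyw
      exact hc.zpow_right i
    have h := isz_dvd_mul hcc (by rw [hzpo]; exact Nat.Coprime.pow_left k hywo.symm)
    exact hsep _ t s (hzpN t ht htd) (hFar hs (hyI ▸ hsd.trans (isz_dvd_zpowers hyw))) (htd.trans h.1)
      (hsd.trans h.2)
  have hyp1 : isz yp = isz y := by
    rw [← hyI]
    refine Nat.dvd_antisymm (isz_dvd_zpowers hyp) (isz_dvd_of_forall fun g hg => ?_)
    have : centralizer ({yw} : Set G) = ⊤ := index_eq_one.1 hywc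
    rw [← hyeq]
    exact hg.mul_right (mem_c.1 (this.ge (mem_top g)))
  have hcopz : (isz zp).Coprime (isz yp) := hyp1 ▸ hcop hzpN
  rcases lt_trichotomy (isz zp) (isz yp) with h | h | h
  · obtain ⟨K, -, hKc, hKz, hKm⟩ := exists_normal hcopz (hyp1 ▸ hnoxy hzpN) h
    exact hzp1 (isz_eq_one (central_of_coprime hKc hKz hKm (mem_zpowers zp)
      (by rw [hzpo]; exact Nat.Coprime.pow_left k (hp.coprime_iff_not_dvd.2 (hyp1 ▸ hpy)))))
  · rw [h] at hcopz
    exact hzp1 (by rw [h]; exact Nat.coprime_self _ |>.1 hcopz)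
  · obtain ⟨K, -, hKc, hKz, hKm⟩ := exists_normal hcopz.symm
      (fun g s t hs ht h1 h2 h3 h4 => hnoxy hzpN g t s ht hs h2 (hyp1 ▸ h1) h4 h3) h
    have h1 := isz_eq_one (central_of_coprime hKc hKz hKm (mem_zpowers yp)
      (by rw [hypo]; exact Nat.Coprime.pow_left l (hp.coprime_iff_not_dvd.2 hpzp)))
    rw [hyp1] at h1
    exact hq.not_dvd_one (h1 ▸ hy)

/-- The diameter bound, with repetitions allowed. -/
theorem main (hconn : ∀ S : Set ℕ, (∃ p ∈ S, p.Prime ∧ ∃ g : G, p ∣ isz g) →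
      (∃ q ∉ S, q.Prime ∧ ∃ g : G, q ∣ isz g) → ∃ a b : ℕ, a ∈ S ∧ b ∉ S ∧ Meet G a b)
    {p q : ℕ} (hp : p.Prime) (hq : q.Prime) {x y : G} (hx : p ∣ isz x) (hy : q ∣ isz y) :
    ∃ r s, Meet G p r ∧ Meet G r s ∧ Meet G s q := by
  rcases lt_trichotomy (isz x) (isz y) with h | h | h
  · exact key hconn hp hq hx hy h
  · exact ⟨p, q, ⟨hp, hp, x, hx, hx⟩, ⟨hp, hq, x, hx, h ▸ hy⟩, ⟨hq, hq, y, hy, hy⟩⟩
  · obtain ⟨r, s, h1, h2, h3⟩ := key hconn hq hp hy hx h
    exact ⟨s, r, h3.symm, h2.symm, h1.symm⟩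

end Cfsg.Lib.ClassPrimeGraph
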