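/-
A disconnected graph on the primes dividing class sizes: the group is quasi-Frobenius with abelian
kernel and complement.
-/
import Cfsg.Agent.SolvStruct.ClassPrimeGraph
import Cfsg.Agent.SolvStruct.DisconnectedGraph
import Cfsg.Agent.Coprime.Sylow
import Cfsg.Agent.PGroups.Basic

set_option linter.style.haveILetI false
set_option linter.unusedSectionVars false

namespace Cfsg.Lib.ClassGraphDisconnected

open Subgroup MulAction Cfsg.Lib.SolvStruct.PrimeClasses Cfsg.Lib.ClassPrimeGraph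
open scoped Pointwise commutatorElement

universe u

variable {G : Type u} [Group G] [Finite G]

/-- A subgroup meeting every class of `G` is everything. -/
theorem eq_top_of_cover (M : Subgroup G) (h : ∀ g : G, ∃ c : G, c⁻¹ * g * c ∈ M) : M = ⊤ := by
  by_contra hne
  obtain ⟨g, hg⟩ := Cfsg.Lib.SolvStruct.exists_not_mem_conj M hne
  obtain ⟨c, hc⟩ := h g
  exact hg c hc

theorem commute_of_isz_one {z : G} (h : isz z = 1) (g : G) : Commute g z := by
  have : centralizer ({z} : Set G) = ⊤ := index_eq_one.1 h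
  exact mem_c.1 (this.ge (mem_top g))

/-- An element whose class size is prime to `t` centralises a Sylow `t`-subgroup. -/
theorem exists_sylow_centralising {t : ℕ} [ht : Fact t.Prime] {g : G} (h : ¬ t ∣ isz g) :
    ∃ P : Sylow t G, ∀ a ∈ (P : Subgroup G), Commute a g := by
  obtain ⟨Q⟩ : Nonempty (Sylow t (centralizer ({g} : Set G))) := inferInstance
  have hQi : ¬ t ∣ ((Q : Subgroup _).map (centralizer ({g} : Set G)).subtype).index := by
    rw [index_map_subtype]
    exact ht.out.not_dvd_mul Q.not_dvd_index h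
  refine ⟨(Q.2.map _).toSylow hQi, ?_⟩
  rintro _ ⟨b, -, rfl⟩
  exact mem_c.1 b.2

theorem exists_conj_centralising {t : ℕ} [ht : Fact t.Prime] {g : G} (h : ¬ t ∣ isz g) (P : Sylow t G) :
    ∃ c : G, ∀ a ∈ (P : Subgroup G), Commute a (c⁻¹ * g * c) := by
  obtain ⟨R, hR⟩ := exists_sylow_centralising h
  obtain ⟨c, hc⟩ := MulAction.exists_smul_eq G P R
  refine ⟨c, fun a ha => ?_⟩
  have h1 : c * a * c⁻¹ ∈ (R : Subgroup G) := by
    rw [← hc, Cfsg.Lib.Transfer.sylow_smul_coe]
    exact ⟨a, ha, rfl⟩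
  have h2 := congrArg (fun z => c⁻¹ * z * c) (hR _ h1).eq
  show a * (c⁻¹ * g * c) = c⁻¹ * g * c * a
  simpa [mul_assoc] using h2

/-- A prime dividing no class size has its Sylow subgroups central. -/
theorem sylow_central {t : ℕ} [ht : Fact t.Prime] (h : ∀ g : G, ¬ t ∣ isz g) (P : Sylow t G) :
    (P : Subgroup G) ≤ center G := by
  have hcov : centralizer ((P : Subgroup G) : Set G) = ⊤ := eq_top_of_cover _ fun g => by
    obtain ⟨c, hc⟩ := exists_conj_centralising (h g) P
    exact ⟨c, mem_centralizer_iff.2 fun a ha => (hc a ha).eq⟩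
  exact centralizer_eq_top_iff_subset.1 hcov

theorem eq_top_of_forall_sylow (M : Subgroup G)
    (h : ∀ t, t.Prime → t ∣ M.index → ∃ P : Subgroup G, ¬ t ∣ P.index ∧ P ≤ M) : M = ⊤ := by
  by_contra hne
  obtain ⟨t, ht, htd⟩ := Nat.exists_prime_and_dvd (mt index_eq_one.1 hne)
  obtain ⟨P, hP, hPM⟩ := h t ht htd
  exact hP (htd.trans (index_dvd_of_le hPM))

/-- Primes on one side. -/
def On (S : Set ℕ) (k : ℕ) : Prop := ∀ r, r.Prime → r ∣ k → r ∈ S

theorem On.mono {S : Set ℕ} {j k : ℕ} (h : On S k) (hjk : j ∣ k) : On S j :=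
  fun r hr hrj => h r hr (hrj.trans hjk)

theorem On.eq_one {S : Set ℕ} {j : ℕ} (h : On S j) (h' : On Sᶜ j) : j = 1 := by
  by_contra hj
  obtain ⟨r, hr, hrj⟩ := Nat.exists_prime_and_dvd hj
  exact h' r hr hrj (h r hr hrj)

theorem main (S : Set ℕ) (hdich : ∀ g : G, On S (isz g) ∨ On Sᶜ (isz g)) {x y : G} {s a : ℕ}
    (hs : s.Prime) (hxo : orderOf x = s ^ a) (hxS : On S (isz x)) (hx1 : isz x ≠ 1)
    (hyS : On Sᶜ (isz y)) (hlt : isz x < isz y) :
    ∃ H : Subgroup (G ⧸ center G), Cfsg.IsFrobeniusComplement H ∧ IsMulCommutative H ∧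
      ∀ u ∈ Cfsg.frobeniusKernel H, ∀ v ∈ Cfsg.frobeniusKernel H, u * v = v * u := by
  haveI := Fact.mk hs
  have hcop : (isz x).Coprime (isz y) :=
    Nat.coprime_of_dvd fun k hk h1 h2 => hyS k hk h2 (hxS k hk h1)
  obtain ⟨H, hHn, hHc, hHx, hHm⟩ := exists_normal hcop (fun g k l hk hl h1 h2 h3 h4 => by
    rcases hdich g with h | h
    · exact hyS l hl h2 (h l hl h4)
    · exact h k hk h3 (hxS k hk h1)) hlt
  have hsy : s ∣ isz y := by
    by_contra hns
    exact hx1 (isz_eq_one (central_of_coprime hHc hHx hHm (mem_zpowers x)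
      (by rw [hxo]; exact Nat.Coprime.pow_left a (hs.coprime_iff_not_dvd.2 hns))))
  have hsS : s ∉ S := hyS s hs hsy
  have hsx : ¬ s ∣ isz x := fun h => hsS (hxS s hs h)
  -- the class of `x`
  have hHk : ∀ g : G, ∀ h ∈ H, Commute h (g * x * g⁻¹) := fun g h hh => by
    have h1 := hHx _ (hHn.conj_mem h hh g⁻¹)
    have h2 := congrArg (fun z => g * z * g⁻¹) h1.eq
    show h * (g * x * g⁻¹) = g * x * g⁻¹ * h
    simpa [mul_assoc] using h2
  have hcls : ∀ g g' : G, Commute (g * x * g⁻¹) (g' * x * g'⁻¹) := fun g g' => by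
    rw [show g * x * g⁻¹ = (g * x * g⁻¹ * x⁻¹) * x by group]
    refine (hHk g' _ (hHm g)).mul_left ?_
    rw [show g' * x * g'⁻¹ = (g' * x * g'⁻¹ * x⁻¹) * x by group]
    exact ((hHx _ (hHm g')).symm).mul_right (Commute.refl x)
  set C := centralizer (cls x) with hC
  haveI hCn : C.Normal := ⟨fun c hc g => mem_centralizer_iff.2 fun k hk => by
    have h1 := mem_centralizer_iff.1 hc (g⁻¹ * k * g) (by simpa using cls_conj x g⁻¹ k hk)
    have h2 := congrArg (fun z => g * z * g⁻¹) h1
    simpa [mul_assoc] using h2⟩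
  have hCx : C ≤ centralizer ({x} : Set G) :=
    centralizer_le (Set.singleton_subset_iff.2 ⟨1, by simp⟩)
  have hxC : x ∈ C := mem_centralizer_iff.2 fun k ⟨g, hg⟩ => by
    rw [← hg]
    simpa using (hcls g 1).eq
  -- outside `C`
  have hout : ∀ g, g ∉ C → On Sᶜ (isz g) := by
    intro g hg
    obtain ⟨k, hk, hgk⟩ : ∃ k ∈ cls x, ¬ Commute g k := by
      by_contra hall
      push Not at hall
      exact hg (mem_centralizer_iff.2 fun k hk => (hall k hk).eq.symm)
    refine (hdich g).resolve_left fun hgS => ?_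
    obtain ⟨P, hP⟩ := exists_sylow_centralising (t := s) (g := g) fun h => hsS (hgS s hs h)
    let A : Subgroup G := closure (cls x)
    haveI : A.Normal := ⟨fun b hb g => by
      have h : A ≤ A.comap (MulAut.conj g).toMonoidHom := (closure_le _).2 fun z hz =>
        subset_closure (cls_conj x g z hz)
      exact h hb⟩
    have hA : A ≤ (P : Subgroup G) := by
      refine (closure_le _).2 ?_
      rintro _ ⟨c, rfl⟩
      have hAs : IsPGroup s A := by
        have hAle : A ≤ centralizer (A : Set G) := by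
          show closure (cls x) ≤ centralizer (closure (cls x) : Set G)
          rw [centralizer_closure]
          refine (closure_le _).2 fun z ⟨i, hi⟩ w ⟨j, hj⟩ => ?_
          rw [← hi, ← hj]; exact (hcls j i).eq
        intro b
        refine ⟨a, Subtype.ext ?_⟩
        show (b : G) ^ s ^ a = 1
        suffices ∀ b ∈ A, b ∈ A ∧ b ^ s ^ a = 1 from (this _ b.2).2
        intro b hb
        refine closure_induction (fun z ⟨i, hi⟩ => ⟨subset_closure ⟨i, hi⟩, ?_⟩) ⟨A.one_mem, one_pow _⟩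
          (fun u v _ _ hu hv => ⟨A.mul_mem hu.1 hv.1, ?_⟩)
          (fun u _ hu => ⟨A.inv_mem hu.1, by rw [inv_pow, hu.2, inv_one]⟩) hb
        · rw [← hi, conj_pow, ← hxo, pow_orderOf_eq_one, mul_one, mul_inv_cancel]
        · rw [(show Commute u v from (mem_centralizer_iff.1 (hAle hv.1) u hu.1)).mul_pow, hu.2, hv.2,
            one_mul]
      exact hAs.le_sylow_of_normal P (subset_closure ⟨c, rfl⟩)
    exact hgk (hP k (hA (subset_closure hk))).symm
  have hnd : ∀ {g : G} {t : ℕ}, g ∉ C → t.Prime → t ∈ S → ¬ t ∣ isz g :=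
    fun {g t} hg ht htS h => hout g hg t ht h htS
  -- `G/C` and `C(x) = C`
  have hcen : ∀ {t : ℕ} [Fact t.Prime], t ∈ S → ∀ P : Sylow t G, ∀ u ∈ (P : Subgroup G), ∀ g : G,
      g * u * g⁻¹ * u⁻¹ ∈ C := by
    intro t _ htS P
    let M : Subgroup G :=
      { carrier := {g | ∀ u ∈ (P : Subgroup G), g * u * g⁻¹ * u⁻¹ ∈ C}
        one_mem' := fun u _ => by simp
        mul_mem' := fun {g h} hg hh u hu => by
          rw [show g * h * u * (g * h)⁻¹ * u⁻¹ = g * (h * u * h⁻¹ * u⁻¹) * g⁻¹ * (g * u * g⁻¹ * u⁻¹) by group]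
          exact C.mul_mem (hCn.conj_mem _ (hh u hu) g) (hg u hu)
        inv_mem' := fun {g} hg u hu => by
          rw [show g⁻¹ * u * g⁻¹⁻¹ * u⁻¹ = g⁻¹ * (g * u * g⁻¹ * u⁻¹)⁻¹ * g⁻¹⁻¹ by group]
          exact hCn.conj_mem _ (C.inv_mem (hg u hu)) _ }
    have hM : M = ⊤ := eq_top_of_cover M fun g => by
      by_cases hgC : g ∈ C
      · refine ⟨1, fun u _ => ?_⟩
        rw [show 1⁻¹ * g * 1 * u * (1⁻¹ * g * 1)⁻¹ * u⁻¹ = g * (u * g⁻¹ * u⁻¹) by group]
        exact C.mul_mem hgC (hCn.conj_mem _ (C.inv_mem hgC) u)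
      · obtain ⟨c, hc⟩ := exists_conj_centralising (hnd hgC Fact.out htS) P
        refine ⟨c, fun u hu => ?_⟩
        rw [← (hc u hu).eq, mul_inv_cancel_right, mul_inv_cancel]
        exact C.one_mem
    exact fun u hu g => hM.ge (mem_top g) u hu
  have hCxC : centralizer ({x} : Set G) = C := by
    refine le_antisymm ?_ hCx
    have hN : normalizer (centralizer ({x} : Set G) : Set G) = ⊤ := eq_top_of_forall_sylow _ fun t ht htd => by
      haveI := Fact.mk ht
      obtain ⟨P⟩ : Nonempty (Sylow t G) := inferInstance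
      refine ⟨P, P.not_dvd_index, fun u hu => mem_normalizer_fintype fun z hz => ?_⟩
      have htS : t ∈ S := hxS t ht (htd.trans (index_dvd_of_le le_normalizer))
      have h := hcen htS P u hu z
      have h' : u * z * u⁻¹ = (z * u * z⁻¹ * u⁻¹)⁻¹ * z := by group
      rw [h']
      exact Subgroup.mul_mem _ (hCx (C.inv_mem h)) hz
    intro z hz
    haveI : (centralizer ({x} : Set G)).Normal := normalizer_eq_top_iff.1 hN
    refine mem_centralizer_iff.2 ?_
    rintro _ ⟨g, rfl⟩
    have h1 := mem_c.1 (Subgroup.Normal.conj_mem inferInstance z hz g⁻¹)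
    have h2 := congrArg (fun w => g * w * g⁻¹) h1.eq
    show g * x * g⁻¹ * z = z * (g * x * g⁻¹)
    simpa [mul_assoc] using h2.symm
  have hCi : C.index = isz x := by rw [← hCxC]; rfl
  have hCS : ∀ {r : ℕ}, r.Prime → r ∣ C.index → r ∈ S := fun {r} hr h => hxS r hr (hCi ▸ h)
  have hsylC : ∀ {r : ℕ} [Fact r.Prime], r ∉ S → ∀ P : Sylow r G, (P : Subgroup G) ≤ C := by
    intro r _ hrS P u hu
    have hr : r.Prime := Fact.out
    obtain ⟨k, hk⟩ := IsPGroup.iff_orderOf.mp P.2 ⟨u, hu⟩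
    rw [Subgroup.orderOf_mk] at hk
    rw [← QuotientGroup.eq_one_iff, ← orderOf_eq_one_iff]
    refine Nat.eq_one_of_dvd_coprimes (Nat.Coprime.pow_left k (hr.coprime_iff_not_dvd.2 fun h => hrS (hCS hr h)))
      (hk ▸ orderOf_map_dvd (QuotientGroup.mk' C) u) ?_
    rw [index_eq_card]; exact orderOf_dvd_natCard _
  -- derived from coprime orders
  have hpart : ∀ {w u : G}, w ∈ C → u ∉ C → Commute w u → (orderOf w).Coprime (orderOf u) →
      On Sᶜ (isz w) := fun {w u} hw hu hc ho =>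
    (hout (w * u) fun h => hu ((Subgroup.mul_mem_cancel_left C hw).1 h)).mono (isz_dvd_mul hc ho).1
  -- conjugating a centralised Sylow subgroup inside `C`
  have hconjC : ∀ {r : ℕ} [Fact r.Prime], r ∉ S → ∀ (R : Sylow r G) (w : C), ¬ r ∣ isz (w : G) →
      ∃ c : C, c⁻¹ * w * c ∈ centralizer ((R : Subgroup G).subgroupOf C : Set C) := by
    intro r _ hrS R w hr
    obtain ⟨P, hP⟩ := exists_sylow_centralising (t := r) (g := (w : G)) hr
    obtain ⟨c, hc⟩ := MulAction.exists_smul_eq C (R.subtype (hsylC hrS R)) (P.subtype (hsylC hrS P))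
    refine ⟨c, mem_centralizer_iff.2 fun b hb => ?_⟩
    have h1 : c * b * c⁻¹ ∈ ((P.subtype (hsylC hrS P) : Sylow r C) : Subgroup C) := by
      rw [← hc, Cfsg.Lib.Transfer.sylow_smul_coe]
      exact ⟨b, hb, rfl⟩
    have h2 : c * b * c⁻¹ * w = w * (c * b * c⁻¹) := Subtype.ext (hP _ h1).eq
    have h3 := congrArg (fun z => c⁻¹ * z * c) h2
    simpa [mul_assoc] using h3
  -- an element of `C` with class size off `S` is central
  have hstep3 : ∀ w ∈ C, On Sᶜ (isz w) → ∀ g, Commute g w := by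
    obtain ⟨Q⟩ : Nonempty (Sylow s G) := inferInstance
    have hQC : (Q : Subgroup G) ≤ C := hsylC hsS Q
    have hred : ∀ w ∈ C, On Sᶜ (isz w) →
        ∃ ws, ws ∈ zpowers w ∧ (∃ k, orderOf ws = s ^ k) ∧ ∀ g, Commute g (ws⁻¹ * w) := by
      intro w hw hwN
      obtain ⟨ws, ww, hws, hww, hweq, hwso, hwwo⟩ := Cfsg.Lib.Transfer.exists_pPart s w
      have hwwC : ww ∈ C := zpowers_le.2 hw hww
      have hone : isz ww = 1 := by
        refine On.eq_one (S := S) ?_ (hwN.mono (isz_dvd_zpowers hww))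
        have hc : Commute x ww := (mem_c.1 (hCx hwwC)).symm
        have hd := isz_dvd_mul hc (by rw [hxo]; exact Nat.Coprime.pow_left a hwwo.symm)
        rcases hdich (x * ww) with h | h
        · exact h.mono hd.2
        · exact absurd (On.eq_one hxS (h.mono hd.1)) hx1
      refine ⟨ws, hws, hwso, fun g => ?_⟩
      rw [← hweq, inv_mul_cancel_left]
      exact commute_of_isz_one hone g
    let Q0 : Subgroup C := (Q : Subgroup G).subgroupOf C
    have hQtop : Q0 ⊔ centralizer (Q0 : Set C) = ⊤ := by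
      refine eq_top_of_cover _ fun w => ?_
      rcases hdich (w : G) with hwS | hwN
      · obtain ⟨c, hc⟩ := hconjC hsS Q w fun h => hsS (hwS s hs h)
        exact ⟨c, mem_sup_right hc⟩
      · obtain ⟨ws, hws, ⟨k, hk⟩, hcen'⟩ := hred _ w.2 hwN
        have hwsC : ws ∈ C := zpowers_le.2 w.2 hws
        obtain ⟨P', hP'⟩ := (IsPGroup.of_card (n := k) (by
          rw [Nat.card_zpowers, Subgroup.orderOf_mk, hk]) : IsPGroup s (zpowers (⟨ws, hwsC⟩ : C))).exists_le_sylow
        obtain ⟨c, hc⟩ := MulAction.exists_smul_eq C (Q.subtype hQC) P'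
        refine ⟨c, ?_⟩
        have h1 := hP' (mem_zpowers _)
        rw [← hc, Cfsg.Lib.Transfer.sylow_smul_coe] at h1
        obtain ⟨b, hb, hbw⟩ := h1
        rw [show c⁻¹ * w * c = b * (c⁻¹ * (⟨ws, hwsC⟩⁻¹ * w) * c) by
          rw [← hbw]
          show c⁻¹ * w * c = b * (c⁻¹ * ((c * b * c⁻¹)⁻¹ * w) * c)
          group]
        refine Subgroup.mul_mem _ (mem_sup_left hb) (mem_sup_right (mem_centralizer_iff.2 fun z _ => ?_))
        apply Subtype.ext
        have h4 := (hcen' ((c : G) * z * (c : G)⁻¹)).eq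
        have h5 := congrArg (fun v => (c : G)⁻¹ * v * c) h4
        simpa [mul_assoc] using h5
    haveI hQn : (Q : Subgroup G).Normal := by
      have h1 : C ≤ normalizer ((Q : Subgroup G) : Set G) := by
        have h : (Q0 ⊔ centralizer (Q0 : Set C)).map C.subtype ≤ normalizer ((Q : Subgroup G) : Set G) := by
          rw [Subgroup.map_sup, sup_le_iff]
          refine ⟨?_, ?_⟩
          · rintro _ ⟨b, hb, rfl⟩
            exact le_normalizer hb
          · rintro _ ⟨b, hb, rfl⟩
            refine mem_normalizer_fintype fun z hz => ?_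
            have h2 : (b : G) * z = z * b :=
              (congrArg Subtype.val (mem_centralizer_iff.1 hb ⟨z, hQC hz⟩ hz)).symm
            show (b : G) * z * (b : G)⁻¹ ∈ _
            rw [h2, mul_inv_cancel_right]
            exact hz
        rwa [hQtop, ← MonoidHom.range_eq_map, C.range_subtype] at h
      have h2 := Sylow.normalizer_sup_eq_top (Q.subtype hQC)
      rw [Sylow.coe_subtype, subgroupOf_map_subtype, inf_eq_left.2 hQC, sup_eq_left.2 h1] at h2
      exact normalizer_eq_top_iff.1 h2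
    have huniq : ∀ P : Sylow s G, (P : Subgroup G) = (Q : Subgroup G) := fun P => by
      haveI := Sylow.unique_of_normal Q ‹_›
      rw [Subsingleton.elim P Q]
    have hxQ : x ∈ (Q : Subgroup G) := by
      obtain ⟨P, hP⟩ := (IsPGroup.of_card (n := a) (by rw [Nat.card_zpowers, hxo]) :
        IsPGroup s (zpowers x)).exists_le_sylow
      rw [← huniq P]
      exact hP (mem_zpowers x)
    have hinner : ∀ z ∈ C, ∃ b ∈ (Q : Subgroup G), ∀ q ∈ (Q : Subgroup G), z * q * z⁻¹ = b * q * b⁻¹ := by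
      intro z hz
      haveI : Q0.Normal := by show ((Q : Subgroup G).subgroupOf C).Normal; infer_instance
      have h : (⟨z, hz⟩ : C) ∈ ((Q0 ⊔ centralizer (Q0 : Set C) : Subgroup C) : Set C) := by
        rw [hQtop]; exact mem_top _
      rw [Subgroup.normal_mul] at h
      obtain ⟨b, hb, d, hd, hbd⟩ := Set.mem_mul.1 h
      refine ⟨b, hb, fun q hq => ?_⟩
      have hdq : (d : G) * q = q * d := (congrArg Subtype.val (mem_centralizer_iff.1 hd ⟨q, hQC hq⟩ hq)).symm
      rw [show z = (b : G) * d from (congrArg Subtype.val hbd).symm]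
      calc (b : G) * d * q * ((b : G) * d)⁻¹ = b * ((d : G) * q * (d : G)⁻¹) * (b : G)⁻¹ := by group
        _ = b * q * (b : G)⁻¹ := by rw [hdq, mul_inv_cancel_right]
    have hQab : ∀ b ∈ (Q : Subgroup G), ∀ q ∈ (Q : Subgroup G), Commute b q := by
      by_contra hna
      obtain ⟨t, ht, htd⟩ := Nat.exists_prime_and_dvd (show C.index ≠ 1 by rw [hCi]; exact hx1)
      haveI := Fact.mk ht
      obtain ⟨P⟩ : Nonempty (Sylow t G) := inferInstance
      have htS : t ∈ S := hCS ht htd
      refine P.not_dvd_index (htd.trans (index_dvd_of_le ?_))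
      rw [← hCxC]
      suffices h : (P : Subgroup G) ≤ centralizer ((Q : Subgroup G) : Set G) from
        h.trans (centralizer_le (Set.singleton_subset_iff.2 hxQ))
      refine Cfsg.Lib.Coprime.le_centralizer_of_frattini
        ((Subgroup.normalizer_eq_top_iff.2 hQn).ge.trans' le_top) ?_ fun τ hτ q hq => ?_
      · obtain ⟨i, hi⟩ := P.2.exists_card_eq
        obtain ⟨j, hj⟩ := (Q.2.to_subgroup (frattini (Q : Subgroup G))).exists_card_eq
        rw [hi, hj]
        exact Nat.Coprime.pow i j ((Nat.coprime_primes ht hs).2 fun e => hsS (e ▸ htS))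
      · let cτ : (Q : Subgroup G) →* (Q : Subgroup G) ⧸ frattini (Q : Subgroup G) :=
          (QuotientGroup.mk' _).comp (MulAut.conjNormal τ).toMonoidHom
        let L : Subgroup (Q : Subgroup G) := cτ.eqLocus (QuotientGroup.mk' _)
        have hmove : ∀ k : (Q : Subgroup G), ¬ (∀ b : (Q : Subgroup G), Commute b k) → k ∈ L := by
          intro k hk
          have hkN : On Sᶜ (isz (k : G)) := (hdich k).resolve_left fun hkS => hk fun b => by
            obtain ⟨R, hR⟩ := exists_sylow_centralising (t := s) (g := (k : G)) fun h => hsS (hkS s hs h)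
            exact Subtype.ext (hR b ((huniq R).ge b.2)).eq
          obtain ⟨c, hc⟩ := exists_conj_centralising (t := t) (g := (k : G))
            (fun h => hkN t ht h htS) P
          have hz := hcen htS P τ hτ c
          obtain ⟨b, hb, hbq⟩ := hinner _ (C.inv_mem hz)
          have h1 : τ * (k : G) * τ⁻¹ = b * k * b⁻¹ := by
            rw [← hbq _ k.2]
            have h2 := congrArg (fun v => c * v * c⁻¹) (hc τ hτ).eq
            have h3 : c * τ * c⁻¹ * k = k * (c * τ * c⁻¹) := by simpa [mul_assoc] using h2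
            calc τ * (k : G) * τ⁻¹
                = τ * (c * τ * c⁻¹)⁻¹ * (c * τ * c⁻¹ * k) * τ⁻¹ := by group
              _ = τ * (c * τ * c⁻¹)⁻¹ * (k * (c * τ * c⁻¹)) * τ⁻¹ := by rw [h3]
              _ = _ := by group
          show QuotientGroup.mk' _ (MulAut.conjNormal τ k) = QuotientGroup.mk' _ k
          rw [QuotientGroup.mk'_eq_mk']
          refine ⟨(⟨b, hb⟩ * k * ⟨b, hb⟩⁻¹)⁻¹ * k, Cfsg.Lib.PGroups.commutator_le_frattini Q.2 ?_, ?_⟩
          · rw [show (⟨b, hb⟩ * k * ⟨b, hb⟩⁻¹)⁻¹ * k = ⁅(⟨b, hb⟩ : (Q : Subgroup G)), k⁻¹⁆ by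
              rw [commutatorElement_def]; group]
            exact commutator_mem_commutator (mem_top _) (mem_top _)
          · refine Subtype.ext ?_
            rw [Subgroup.coe_mul, MulAut.conjNormal_apply, h1]
            simp only [Subgroup.coe_mul, Subgroup.coe_inv]
            group
        obtain ⟨k₀, hk₀⟩ : ∃ k₀ : (Q : Subgroup G), ¬ ∀ b : (Q : Subgroup G), Commute b k₀ := by
          by_contra hno
          push Not at hno
          exact hna fun b hb q hq => congrArg Subtype.val (hno ⟨q, hq⟩ ⟨b, hb⟩).eq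
        have hL : (⟨q, hq⟩ : (Q : Subgroup G)) ∈ L := by
          by_cases hk : ∀ b : (Q : Subgroup G), Commute b (⟨q, hq⟩ : (Q : Subgroup G))
          · have h2 : (⟨q, hq⟩ : (Q : Subgroup G)) * k₀ ∈ L := hmove _ fun hall => hk₀ fun b => by
              have h := (hk b).inv_right.mul_right (hall b)
              rwa [inv_mul_cancel_left] at h
            exact (Subgroup.mul_mem_cancel_right L (hmove _ hk₀)).1 h2
          · exact hmove _ hk
        refine ⟨MulAut.conjNormal τ (⟨q, hq⟩ : (Q : Subgroup G)) * (⟨q, hq⟩)⁻¹, ?_, ?_⟩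
        · rw [SetLike.mem_coe, ← QuotientGroup.eq_one_iff]
          have hL' : QuotientGroup.mk' _ (MulAut.conjNormal τ (⟨q, hq⟩ : (Q : Subgroup G))) =
              QuotientGroup.mk' (frattini (Q : Subgroup G)) ⟨q, hq⟩ := hL
          simp only [QuotientGroup.mk'_apply] at hL'
          rw [QuotientGroup.mk_mul, hL', QuotientGroup.mk_inv, mul_inv_cancel]
        · show ((MulAut.conjNormal τ (⟨q, hq⟩ : (Q : Subgroup G)) * (⟨q, hq⟩)⁻¹ : (Q : Subgroup G)) : G) = _
          rw [Subgroup.coe_mul, MulAut.conjNormal_apply, Subgroup.coe_inv]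
    intro w hw hwN g
    obtain ⟨ws, hws, ⟨k, hk⟩, hcen'⟩ := hred w hw hwN
    have hwsQ : ws ∈ (Q : Subgroup G) := by
      obtain ⟨P, hP⟩ := (IsPGroup.of_card (n := k) (by rw [Nat.card_zpowers, hk]) :
        IsPGroup s (zpowers ws)).exists_le_sylow
      rw [← huniq P]
      exact hP (mem_zpowers ws)
    have hone : isz ws = 1 := by
      refine On.eq_one (S := S) (fun r hr hrd => hCS hr (hrd.trans (index_dvd_of_le fun z hz => ?_)))
        (hwN.mono (isz_dvd_zpowers hws))
      obtain ⟨b, hb, hbq⟩ := hinner z hz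
      have h := hbq ws hwsQ
      rw [(hQab b hb ws hwsQ).eq, mul_inv_cancel_right] at h
      exact mem_c.2 (mul_inv_eq_iff_eq_mul.1 h)
    have h := (commute_of_isz_one hone g).mul_right (hcen' g)
    rwa [mul_inv_cancel_left] at h
  -- the Sylow subgroups of `C`
  have hoff : ∀ {r : ℕ} [Fact r.Prime], r ∉ S → ∀ R : Sylow r G, ∀ u ∈ (R : Subgroup G), ∀ z ∈ C, Commute u z := by
    intro r _ hrS R u hu z hz
    have htop : centralizer ((R : Subgroup G).subgroupOf C : Set C) = ⊤ := by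
      refine eq_top_of_cover _ fun w => hconjC hrS R w ?_
      rcases hdich (w : G) with h | h
      · exact fun hd => hrS (h r Fact.out hd)
      · rw [isz_eq_one (hstep3 _ w.2 h)]
        exact (Fact.out : r.Prime).not_dvd_one
    exact congrArg Subtype.val (mem_centralizer_iff.1 (htop.ge (mem_top ⟨z, hz⟩)) ⟨u, hsylC hrS R hu⟩ hu)
  have hS1 : ∀ w ∈ C, On Sᶜ (isz w) → isz w = 1 := fun w hw h => isz_eq_one (hstep3 w hw h)
  have hcaseA : ∀ {t : ℕ}, t.Prime → t ∈ S → ∀ r, r.Prime → r ∣ C.index → r ≠ t →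
      ∀ w ∈ C, (∃ i, orderOf w = t ^ i) → isz w = 1 := by
    intro t ht htS r hr hrd hrt w hw ⟨i, hi⟩
    haveI := Fact.mk ht
    haveI := Fact.mk hr
    obtain ⟨R⟩ : Nonempty (Sylow r G) := inferInstance
    obtain ⟨τ, hτ, hτC⟩ := SetLike.not_le_iff_exists.1 fun hle : (R : Subgroup G) ≤ C =>
      R.not_dvd_index (hrd.trans (index_dvd_of_le hle))
    obtain ⟨P, hP⟩ := (IsPGroup.of_card (n := i) (by rw [Nat.card_zpowers, hi]) :
      IsPGroup t (zpowers w)).exists_le_sylow
    obtain ⟨c, hc⟩ := exists_conj_centralising (hnd hτC ht htS) P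
    obtain ⟨j, hj⟩ := IsPGroup.iff_orderOf.mp R.2 ⟨τ, hτ⟩
    rw [Subgroup.orderOf_mk] at hj
    refine hS1 w hw (hpart hw (u := c⁻¹ * τ * c) (fun h => hτC ?_) (hc w (hP (mem_zpowers w))) ?_)
    · simpa [mul_assoc] using hCn.conj_mem _ h c
    · rw [hi, show c⁻¹ * τ * c = MulAut.conj c⁻¹ τ by rw [MulAut.conj_apply, inv_inv],
        show orderOf (MulAut.conj c⁻¹ τ) = orderOf τ from
          orderOf_injective (MulAut.conj c⁻¹).toMonoidHom (MulAut.conj c⁻¹).injective τ, hj]
      exact Nat.Coprime.pow i j ((Nat.coprime_primes ht hr).2 hrt.symm)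
  have hSel : ∀ {t : ℕ}, t.Prime → t ∈ S → ∀ w ∈ C, (∃ i, orderOf w = t ^ i) → isz w = 1 := by
    intro t ht htS
    by_cases hex : ∃ r, r.Prime ∧ r ∣ C.index ∧ r ≠ t
    · obtain ⟨r, hr, hrd, hrt⟩ := hex
      exact hcaseA ht htS r hr hrd hrt
    push Not at hex
    haveI := Fact.mk ht
    have htd : t ∣ C.index := by
      obtain ⟨r, hr, hrd⟩ := Nat.exists_prime_and_dvd (show C.index ≠ 1 by rw [hCi]; exact hx1)
      exact hex r hr hrd ▸ hrd
    -- the other Sylow subgroups of `C` are central in it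
    have hothers : ∀ {r : ℕ} [Fact r.Prime], r ≠ t → ∀ P : Sylow r C, (P : Subgroup C) ≤ center C := by
      intro r _ hrt P u hu
      obtain ⟨i, hi⟩ := IsPGroup.iff_orderOf.mp P.2 ⟨u, hu⟩
      rw [Subgroup.orderOf_mk, ← Subgroup.orderOf_coe] at hi
      refine mem_center_iff.2 fun z => Subtype.ext ?_
      by_cases hrS : r ∈ S
      · exact (commute_of_isz_one (hcaseA Fact.out hrS t ht htd hrt.symm _ u.2 ⟨i, hi⟩) z).eq
      · obtain ⟨R, hR⟩ := (IsPGroup.of_card (n := i) (by rw [Nat.card_zpowers, hi]) :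
          IsPGroup r (zpowers (u : G))).exists_le_sylow
        exact (hoff hrS R _ (hR (mem_zpowers _)) z z.2).eq.symm
    obtain ⟨T0⟩ : Nonempty (Sylow t C) := inferInstance
    haveI hT0n : ((T0 : Subgroup C).map C.subtype).Normal := by
      have h1 : normalizer ((T0 : Subgroup C) : Set C) = ⊤ := eq_top_of_forall_sylow _ fun r hr hrd => by
        haveI := Fact.mk hr
        by_cases hrt : r = t
        · subst hrt
          exact ⟨T0, T0.not_dvd_index, le_normalizer⟩
        · obtain ⟨P⟩ : Nonempty (Sylow r C) := inferInstance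
          exact ⟨P, P.not_dvd_index, (hothers hrt P).trans (Subgroup.center_le_normalizer _)⟩
      have h2 := Sylow.normalizer_sup_eq_top T0
      have h3 : C ≤ normalizer (((T0 : Subgroup C).map C.subtype : Subgroup G) : Set G) := by
        intro z hz
        refine mem_normalizer_fintype ?_
        rintro _ ⟨v, hv, rfl⟩
        exact ⟨⟨z, hz⟩ * v * ⟨z, hz⟩⁻¹,
          (mem_normalizer_iff.1 (h1.ge (mem_top ⟨z, hz⟩)) v).1 hv, rfl⟩
      rw [sup_eq_left.2 h3] at h2
      exact normalizer_eq_top_iff.1 h2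
    obtain ⟨T, hT⟩ := (T0.2.map C.subtype).exists_le_sylow
    obtain ⟨u₀, hu₀, hu₀C⟩ := SetLike.not_le_iff_exists.1 fun hle : (T : Subgroup G) ≤ C =>
      T.not_dvd_index (htd.trans (index_dvd_of_le hle))
    have hcomm : ∀ u ∈ (T : Subgroup G), u ∉ C → ∀ v ∈ (T0 : Subgroup C), Commute u (v : G) := by
      intro u _ huC v hv
      obtain ⟨P, hP⟩ := exists_sylow_centralising (hnd huC ht htS)
      exact (hP _ ((T0.2.map C.subtype).le_sylow_of_normal P ⟨v, hv, rfl⟩)).symm
    have hT0c : ∀ u ∈ (T : Subgroup G), ∀ v ∈ (T0 : Subgroup C), Commute u (v : G) := by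
      intro u hu v hv
      by_cases huC : u ∈ C
      · have h1 := hcomm (u₀ * u) ((T : Subgroup G).mul_mem hu₀ hu)
          (fun h => hu₀C ((Subgroup.mul_mem_cancel_right C huC).1 h)) v hv
        have h2 := (hcomm u₀ hu₀ hu₀C v hv).inv_left.mul_left h1
        rwa [inv_mul_cancel_left] at h2
      · exact hcomm u hu huC v hv
    intro w hw ⟨i, hi⟩
    have hwT : (⟨w, hw⟩ : C) ∈ (T0 : Subgroup C) := by
      have hn : (T0 : Subgroup C).Normal := by
        have := hT0n.comap C.subtype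
        rwa [comap_map_eq_self_of_injective C.subtype_injective] at this
      haveI := Sylow.unique_of_normal T0 hn
      obtain ⟨P, hP⟩ := (IsPGroup.of_card (n := i) (by rw [Nat.card_zpowers, Subgroup.orderOf_mk, hi]) :
        IsPGroup t (zpowers (⟨w, hw⟩ : C))).exists_le_sylow
      rw [← Subsingleton.elim P T0]
      exact hP (mem_zpowers _)
    have hwT' : ∀ u ∈ (T : Subgroup G), Commute u w := fun u hu => hT0c u hu _ hwT
    have hCw : C ≤ centralizer ({w} : Set G) := by
      have h1 : centralizer ({(⟨w, hw⟩ : C)} : Set C) = ⊤ := eq_top_of_forall_sylow _ fun r hr hrd => by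
        haveI := Fact.mk hr
        by_cases hrt : r = t
        · subst hrt
          exact ⟨T0, T0.not_dvd_index, fun v hv => mem_centralizer_singleton_iff.2
            (Subtype.ext (hwT' _ (hT ⟨v, hv, rfl⟩)).eq)⟩
        · obtain ⟨P⟩ : Nonempty (Sylow r C) := inferInstance
          exact ⟨P, P.not_dvd_index, (hothers hrt P).trans (center_le_centralizer _)⟩
      intro z hz
      exact mem_c.2 (congrArg Subtype.val (mem_centralizer_singleton_iff.1 (h1.ge (mem_top (⟨z, hz⟩ : C)))) : z * w = w * z)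
    by_contra hne
    obtain ⟨r, hr, hrd⟩ := Nat.exists_prime_and_dvd hne
    have hrt := hex r hr (hrd.trans (index_dvd_of_le hCw))
    subst hrt
    exact T.not_dvd_index (hrd.trans (index_dvd_of_le fun u hu => mem_c.2 (hwT' u hu)))
  -- `C` is abelian
  have hCab : ∀ u ∈ C, ∀ v ∈ C, Commute u v := by
    have h1 : center C = ⊤ := eq_top_of_forall_sylow _ fun r hr hrd => by
      haveI := Fact.mk hr
      obtain ⟨P⟩ : Nonempty (Sylow r C) := inferInstance
      refine ⟨P, P.not_dvd_index, fun u hu => mem_center_iff.2 fun z => Subtype.ext ?_⟩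
      obtain ⟨i, hi⟩ := IsPGroup.iff_orderOf.mp P.2 ⟨u, hu⟩
      rw [Subgroup.orderOf_mk, ← Subgroup.orderOf_coe] at hi
      by_cases hrS : r ∈ S
      · exact (commute_of_isz_one (hSel hr hrS _ u.2 ⟨i, hi⟩) z).eq
      · obtain ⟨R, hR⟩ := (IsPGroup.of_card (n := i) (by rw [Nat.card_zpowers, hi]) :
          IsPGroup r (zpowers (u : G))).exists_le_sylow
        exact (hoff hrS R _ (hR (mem_zpowers _)) z z.2).eq.symm
    exact fun u hu v hv => (congrArg Subtype.val
      (mem_center_iff.1 (h1.ge (mem_top (⟨v, hv⟩ : C))) ⟨u, hu⟩) : u * v = v * u)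
  -- noncentral elements of `C` have centraliser `C`
  have hCw : ∀ w ∈ C, isz w ≠ 1 → ∀ g, Commute g w → g ∈ C := by
    intro w hw hw1 g hg
    by_contra hgC
    obtain ⟨u, hug, huC, r, j, hr, hj⟩ := Cfsg.Lib.Schmidt.exists_prime_power_mem g C hgC
    haveI := Fact.mk hr
    have hrS : r ∈ S := by
      by_contra hrS
      obtain ⟨R, hR⟩ := (IsPGroup.of_card (n := j) (by rw [Nat.card_zpowers, hj]) :
        IsPGroup r (zpowers u)).exists_le_sylow
      exact huC (hsylC hrS R (hR (mem_zpowers u)))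
    obtain ⟨wr, ww, hwr, hww, hweq, hwro, hwwo⟩ := Cfsg.Lib.Transfer.exists_pPart r w
    have h1 := commute_of_isz_one (hSel hr hrS wr (zpowers_le.2 hw hwr) hwro)
    have huw : Commute u ww := by
      obtain ⟨i, rfl⟩ := mem_zpowers_iff.1 hug
      obtain ⟨l, rfl⟩ := mem_zpowers_iff.1 hww
      exact hg.zpow_zpow i l
    have h2 := hstep3 ww (zpowers_le.2 hw hww) (hpart (zpowers_le.2 hw hww) huC huw.symm
      (by rw [hj]; exact Nat.Coprime.pow_right j hwwo))
    exact hw1 (isz_eq_one fun h => hweq ▸ (h1 h).mul_right (h2 h))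
  have hSpow : ∀ w ∈ C, ∀ b, b.Prime → b ∈ S → w ^ b ∈ center G → w ∈ center G := by
    intro w hw b hb hbS hwb
    haveI := Fact.mk hb
    obtain ⟨wb, ww, hwb', hww, hweq, hwbo, hwwo⟩ := Cfsg.Lib.Transfer.exists_pPart b w
    have h1 : wb ∈ center G := mem_center_iff.2 fun g =>
      (commute_of_isz_one (hSel hb hbS wb (zpowers_le.2 hw hwb') hwbo) g).eq
    have h2 : ww ^ b ∈ center G := by
      have hc : Commute wb ww := by
        obtain ⟨i, rfl⟩ := mem_zpowers_iff.1 hwb'
        obtain ⟨l, rfl⟩ := mem_zpowers_iff.1 hww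
        exact (Commute.refl w).zpow_zpow i l
      have : ww ^ b = (wb ^ b)⁻¹ * w ^ b := by rw [← hweq, hc.mul_pow, inv_mul_cancel_left]
      rw [this]
      exact Subgroup.mul_mem _ (Subgroup.inv_mem _ (Subgroup.pow_mem _ h1 b)) hwb
    obtain ⟨m, hm⟩ : ∃ m, (ww ^ b) ^ m = ww := exists_pow_eq_self_of_coprime hwwo.symm
    rw [← hweq]
    exact Subgroup.mul_mem _ h1 (hm ▸ Subgroup.pow_mem _ h2 m)
  -- the quotient
  have hab : ∀ g h : G, g * h * g⁻¹ * h⁻¹ ∈ C := by
    let M : Subgroup G :=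
      { carrier := {h | ∀ g, g * h * g⁻¹ * h⁻¹ ∈ C}
        one_mem' := fun g => by simp
        mul_mem' := fun {u v} hu hv g => by
          rw [show g * (u * v) * g⁻¹ * (u * v)⁻¹ = g * u * g⁻¹ * u⁻¹ * (u * (g * v * g⁻¹ * v⁻¹) * u⁻¹) by group]
          exact C.mul_mem (hu g) (hCn.conj_mem _ (hv g) u)
        inv_mem' := fun {u} hu g => by
          rw [show g * u⁻¹ * g⁻¹ * u⁻¹⁻¹ = u⁻¹ * (g * u * g⁻¹ * u⁻¹)⁻¹ * u⁻¹⁻¹ by group]
          exact hCn.conj_mem _ (C.inv_mem (hu g)) _ }
    have hM : M = ⊤ := eq_top_of_forall_sylow M fun t ht htd => by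
      haveI := Fact.mk ht
      obtain ⟨P⟩ : Nonempty (Sylow t G) := inferInstance
      have hCM : C ≤ M := fun c hc g => C.mul_mem (hCn.conj_mem c hc g) (C.inv_mem hc)
      exact ⟨P, P.not_dvd_index, fun u hu g => hcen (hCS ht (htd.trans (index_dvd_of_le hCM))) P u hu g⟩
    exact fun g h => hM.ge (mem_top h) g
  set Z := center G with hZ
  have hZC : Z ≤ C := fun z hz => mem_centralizer_iff.2 fun k _ => mem_center_iff.1 hz k
  let mk := QuotientGroup.mk' Z
  haveI : (C.map mk).Normal := hCn.map _ (QuotientGroup.mk'_surjective Z)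
  have hmem : ∀ {g : G}, mk g ∈ C.map mk → g ∈ C := fun {g} ⟨c, hc, hcg⟩ => by
    have h : c⁻¹ * g ∈ Z := QuotientGroup.eq.1 hcg
    have h2 := C.mul_mem hc (hZC h)
    rwa [mul_inv_cancel_left] at h2
  have hFi : (C.map mk).index = C.index :=
    index_map_eq _ (QuotientGroup.mk'_surjective Z) (by rw [QuotientGroup.ker_mk']; exact hZC)
  have hFS : ∀ r, r.Prime → r ∣ Nat.card (C.map mk) → r ∉ S := by
    intro r hr hd hrS
    haveI := Fact.mk hr
    obtain ⟨e, he⟩ := exists_prime_orderOf_dvd_card' r hd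
    obtain ⟨w, hw, hwe⟩ := e.2
    have h1 : w ^ r ∈ Z := by
      rw [← QuotientGroup.eq_one_iff]
      show mk (w ^ r) = 1
      rw [map_pow, hwe, ← Subgroup.coe_pow, ← he, pow_orderOf_eq_one, Subgroup.coe_one]
    have h2 : mk w = 1 := (QuotientGroup.eq_one_iff w).2 (hSpow w hw r hr hrS h1)
    have h3 : e = 1 := Subtype.ext (hwe.symm.trans h2)
    rw [h3, orderOf_one] at he
    exact hr.one_lt.ne he
  have hsep : Cfsg.Lib.DisconnectedGraph.Sep (fun r => r ∉ S) (G ⧸ Z) := by
    intro a' b' ha hb haS hbS g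
    induction g using QuotientGroup.induction_on with
    | _ g =>
      intro hord
      have hbS' : b' ∈ S := not_not.1 hbS
      have hpa : orderOf (mk g ^ b') = a' := by
        rw [orderOf_pow' _ hb.ne_zero]
        show orderOf (g : G ⧸ Z) / Nat.gcd (orderOf (g : G ⧸ Z)) b' = a'
        rw [hord, Nat.gcd_eq_right (dvd_mul_left b' a'), Nat.mul_div_cancel _ hb.pos]
      have hpb : orderOf (mk g ^ a') = b' := by
        rw [orderOf_pow' _ ha.ne_zero]
        show orderOf (g : G ⧸ Z) / Nat.gcd (orderOf (g : G ⧸ Z)) a' = b'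
        rw [hord, Nat.gcd_eq_right (dvd_mul_right a' b'), Nat.mul_div_cancel_left _ ha.pos]
      have hC1 : g ^ b' ∈ C := by
        rw [← QuotientGroup.eq_one_iff, ← orderOf_eq_one_iff]
        refine Nat.eq_one_of_dvd_coprimes (ha.coprime_iff_not_dvd.2 fun h => haS (hCS ha h)) ?_
          (by rw [index_eq_card]; exact orderOf_dvd_natCard _)
        refine hpa ▸ ?_
        have h := orderOf_map_dvd (QuotientGroup.map Z C (MonoidHom.id G) hZC) (mk (g ^ b'))
        rw [map_pow mk] at h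
        exact h
      have hnc : ∀ k : ℕ, orderOf (mk g ^ k) ≠ 1 → g ^ k ∉ Z := fun k hk h => hk (by
        rw [orderOf_eq_one_iff, ← map_pow]; exact (QuotientGroup.eq_one_iff _).2 h)
      have h1 : isz (g ^ b') ≠ 1 := fun h => hnc b' (hpa ▸ ha.one_lt.ne') (mem_center_iff.2 fun k =>
        (commute_of_isz_one h k).eq)
      have hC2 : g ^ a' ∈ C := hCw _ hC1 h1 _ ((Commute.refl g).pow_pow a' b')
      refine hnc a' (hpb ▸ hb.one_lt.ne') (hSpow _ hC2 b' hb hbS' ?_)
      rw [← pow_mul, ← QuotientGroup.eq_one_iff]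
      show ((g ^ (a' * b') : G) : G ⧸ Z) = 1
      rw [QuotientGroup.mk_pow, ← hord, pow_orderOf_eq_one]
  obtain ⟨B, hB, hker, hBc, -⟩ := Cfsg.Lib.DisconnectedGraph.exists_frobenius hsep (C.map mk)
    (fun h => hx1 (isz_eq_one fun g => by
      have hx' : mk x ∈ C.map mk := ⟨x, hxC, rfl⟩
      rw [h, mem_bot] at hx'
      exact mem_center_iff.1 ((QuotientGroup.eq_one_iff x).1 hx') g))
    (fun h => hx1 (by rw [← hCi, ← hFi, h, index_top]))
    hFS (fun r hr hd => not_not.2 (hCS hr (hFi ▸ hd)))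
  refine ⟨B, hB, ⟨⟨fun u v => Subtype.ext ?_⟩⟩, fun u hu v hv => ?_⟩
  · have hd : Disjoint B (C.map mk) := by
      rw [disjoint_iff]
      refine disjoint_iff.1 (Subgroup.disjoint_of_coprime_natCard ?_)
      rw [hBc]
      exact (Cfsg.Lib.DisconnectedGraph.coprime_card_index (P := fun r => r ∉ S) hFS
        fun r hr hd => not_not.2 (hCS hr (hFi ▸ hd))).symm
    obtain ⟨g, hg⟩ := QuotientGroup.mk'_surjective Z (u : G ⧸ Z)
    obtain ⟨h, hh⟩ := QuotientGroup.mk'_surjective Z (v : G ⧸ Z)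
    have h1 : (u : G ⧸ Z) * v * (u : G ⧸ Z)⁻¹ * (v : G ⧸ Z)⁻¹ = 1 := by
      refine disjoint_def.1 hd (B.mul_mem (B.mul_mem (B.mul_mem u.2 v.2) (B.inv_mem u.2)) (B.inv_mem v.2)) ?_
      rw [← hg, ← hh]
      exact ⟨_, hab g h, by simp only [map_mul, map_inv]; rfl⟩
    show (u : G ⧸ Z) * v = v * u
    rw [← mul_inv_eq_iff_eq_mul, mul_inv_eq_one.1 h1]
  · rw [hker] at hu hv
    obtain ⟨g, hg, rfl⟩ := hu
    obtain ⟨h, hh, rfl⟩ := hv
    rw [← map_mul, ← map_mul, (hCab g hg h hh).eq]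

end Cfsg.Lib.ClassGraphDisconnected
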