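/-
Pronormal supplements of an abelian normal subgroup.
-/
import Mathlib
import Cfsg.Prelude

set_option linter.style.haveILetI false
set_option linter.unusedSectionVars false

namespace Cfsg.Lib.SolvStruct.Pronormal

open Subgroup
open scoped commutatorElement

variable {G : Type*} [Group G]

theorem map_conj_mul (H : Subgroup G) (a b : G) :
    H.map (MulAut.conj (a * b)).toMonoidHom = (H.map (MulAut.conj b).toMonoidHom).map (MulAut.conj a).toMonoidHom := by
  rw [Subgroup.map_map]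
  congr 1
  ext z
  show a * b * z * (a * b)⁻¹ = a * (b * z * b⁻¹) * a⁻¹
  group

theorem map_conj_of_mem {H : Subgroup G} {g : G} (hg : g ∈ normalizer (H : Set G)) :
    H.map (MulAut.conj g).toMonoidHom = H :=
  Subgroup.mem_normalizer_iff_map_conj_eq.1 hg

theorem iff_supplement (V : Subgroup G) [V.Normal] (hV : IsMulCommutative V) (H : Subgroup G) (hHV : H ⊔ V = ⊤) :
    Cfsg.IsPronormal H ↔
      ∀ U : Subgroup G, U ≤ V → (∀ h ∈ H, U.map (MulAut.conj h).toMonoidHom = U) →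
        U = (U ⊓ normalizer (H : Set G)) ⊔ ⁅H, U⁆ := by
  haveI := hV
  have hVc : ∀ a ∈ V, ∀ b ∈ V, a * b = b * a := fun a ha b hb =>
    congrArg Subtype.val (mul_comm' (⟨a, ha⟩ : V) ⟨b, hb⟩)
  have hHU : ∀ U : Subgroup G, (∀ h ∈ H, U.map (MulAut.conj h).toMonoidHom = U) →
      ∀ h ∈ H, ∀ u ∈ U, h * u * h⁻¹ ∈ U := fun U hU h hh u hu => (hU h hh).le ⟨u, hu, rfl⟩
  constructor
  · intro hpro U hUV hU
    have hc := hHU U hU
    refine le_antisymm (fun u hu => ?_) (sup_le inf_le_left ?_)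
    · obtain ⟨j, hj, hje⟩ := hpro u
      have hJ : H ⊔ H.map (MulAut.conj u).toMonoidHom ≤ ⁅H, U⁆ ⊔ H := by
        refine sup_le le_sup_right ?_
        rintro _ ⟨h, hh, rfl⟩
        have e : u * h * u⁻¹ = ⁅h, u⁆⁻¹ * h := by simp only [commutatorElement_def]; group
        show u * h * u⁻¹ ∈ _
        rw [e]
        exact mul_mem (mem_sup_left (inv_mem (commutator_mem_commutator hh hu))) (mem_sup_right hh)
      have hnorm : H ≤ normalizer ((⁅H, U⁆ : Subgroup G) : Set G) := fun k hk => by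
        refine Subgroup.mem_normalizer_iff_map_conj_eq.2 ?_
        show Subgroup.map (MulAut.conj k).toMonoidHom ⁅H, U⁆ = ⁅H, U⁆
        rw [Subgroup.map_commutator, hU k hk, map_conj_of_mem (le_normalizer hk)]
      obtain ⟨w, hw, h, hh, rfl⟩ := (Subgroup.coe_mul_of_right_le_normalizer_left ⁅H, U⁆ H hnorm).le (hJ hj)
      rw [map_conj_mul _ w h, map_conj_of_mem (le_normalizer hh)] at hje
      have hwU : w ∈ U := by
        refine (commutator_le.2 fun a ha b hb => ?_ : ⁅H, U⁆ ≤ U) hw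
        rw [commutatorElement_def]
        exact mul_mem (hc a ha b hb) (inv_mem hb)
      have hn : w⁻¹ * u ∈ normalizer (H : Set G) := by
        refine Subgroup.mem_normalizer_iff_map_conj_eq.2 ?_
        show Subgroup.map (MulAut.conj (w⁻¹ * u)).toMonoidHom H = H
        rw [map_conj_mul, hje, ← map_conj_mul, inv_mul_cancel, map_conj_of_mem (one_mem _)]
      have e : u = (w⁻¹ * u) * w := by
        rw [mul_assoc, hVc u (hUV hu) w (hUV hwU), ← mul_assoc, inv_mul_cancel, one_mul]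
      rw [e]
      exact mul_mem (mem_sup_left (Subgroup.mem_inf.mpr ⟨mul_mem (inv_mem hwU) hu, hn⟩)) (mem_sup_right hw)
    · rw [commutator_le]
      intro a ha b hb
      rw [commutatorElement_def]
      exact mul_mem (hc a ha b hb) (inv_mem hb)
  · intro hsup g
    obtain ⟨v, hv, k, hk, rfl⟩ : ∃ v ∈ V, ∃ k ∈ H, v * k = g := by
      have := Subgroup.mem_sup_of_normal_left.1 ((sup_comm H V ▸ hHV).ge (mem_top g) : g ∈ V ⊔ H)
      exact this
    rw [map_conj_mul, map_conj_of_mem (le_normalizer hk)]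
    set J := H ⊔ H.map (MulAut.conj v).toMonoidHom
    let U : Subgroup G :=
      { carrier := {u | u ∈ V ∧ ∀ h ∈ H, ⁅h, u⁆ ∈ J}
        one_mem' := ⟨one_mem V, fun h _ => by rw [commutatorElement_one_right]; exact one_mem J⟩
        mul_mem' := fun {a b} ha hb => ⟨mul_mem ha.1 hb.1, fun h hh => by
          have hb' : ⁅h, b⁆ ∈ V := by
            rw [commutatorElement_def]; exact mul_mem (Normal.conj_mem inferInstance b hb.1 h) (inv_mem hb.1)
          have e : ⁅h, a * b⁆ = ⁅h, a⁆ * ⁅h, b⁆ := by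
            calc ⁅h, a * b⁆ = ⁅h, a⁆ * (a * ⁅h, b⁆ * a⁻¹) := by simp only [commutatorElement_def]; group
              _ = ⁅h, a⁆ * ⁅h, b⁆ := by rw [hVc a ha.1 _ hb', mul_inv_cancel_right]
          rw [e]; exact mul_mem (ha.2 h hh) (hb.2 h hh)⟩
        inv_mem' := fun {a} ha => ⟨inv_mem ha.1, fun h hh => by
          have ha' : ⁅h, a⁆ ∈ V := by
            rw [commutatorElement_def]; exact mul_mem (Normal.conj_mem inferInstance a ha.1 h) (inv_mem ha.1)
          have e : ⁅h, a⁻¹⁆ = ⁅h, a⁆⁻¹ := by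
            calc ⁅h, a⁻¹⁆ = a⁻¹ * ⁅h, a⁆⁻¹ * a := by simp only [commutatorElement_def]; group
              _ = ⁅h, a⁆⁻¹ := by rw [mul_assoc, ← hVc a ha.1 _ (inv_mem ha'), inv_mul_cancel_left]
          rw [e]; exact inv_mem (ha.2 h hh)⟩ }
    have hU : ∀ h ∈ H, ∀ u ∈ U, h * u * h⁻¹ ∈ U := fun h hh u hu =>
      ⟨Normal.conj_mem inferInstance u hu.1 h, fun h' hh' => by
        have e : ⁅h', h * u * h⁻¹⁆ = h * ⁅h⁻¹ * h' * h, u⁆ * h⁻¹ := by simp only [commutatorElement_def]; group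
        rw [e]
        exact mul_mem (mul_mem (mem_sup_left hh) (hu.2 _ (mul_mem (mul_mem (inv_mem hh) hh') hh)))
          (inv_mem (mem_sup_left hh))⟩
    have hU' : ∀ h ∈ H, U.map (MulAut.conj h).toMonoidHom = U := by
      intro h hh
      refine le_antisymm ?_ fun u hu => ⟨h⁻¹ * u * h, by simpa using hU h⁻¹ (inv_mem hh) u hu, by
        show h * (h⁻¹ * u * h) * h⁻¹ = u; group⟩
      rintro _ ⟨u, hu, rfl⟩
      exact hU h hh u hu
    have hvU : v ∈ U := ⟨hv, fun h hh => by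
      rw [commutatorElement_def, mul_assoc, mul_assoc]
      refine mul_mem (mem_sup_left hh) (mem_sup_right ?_)
      refine ⟨h⁻¹, inv_mem hh, ?_⟩
      show v * h⁻¹ * v⁻¹ = _
      rw [mul_assoc]⟩
    have hUV : U ≤ V := fun u hu => hu.1
    have hcomm : ⁅H, U⁆ ≤ V ⊓ J := commutator_le.2 fun a ha b hb => by
      refine Subgroup.mem_inf.mpr ⟨?_, hb.2 a ha⟩
      rw [commutatorElement_def]
      exact mul_mem (Normal.conj_mem inferInstance b hb.1 a) (inv_mem hb.1)
    obtain ⟨n, hn, w, hw, hnw⟩ : ∃ n ∈ U ⊓ normalizer (H : Set G), ∃ w ∈ ⁅H, U⁆, w * n = v := by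
      have h1 := (hsup U hUV hU').le hvU
      have hle : U ⊓ normalizer (H : Set G) ≤ normalizer ((⁅H, U⁆ : Subgroup G) : Set G) := by
        intro t ht
        obtain ⟨htU, htH⟩ := Subgroup.mem_inf.1 ht
        refine Subgroup.mem_normalizer_iff_map_conj_eq.2 ?_
        show Subgroup.map (MulAut.conj t).toMonoidHom ⁅H, U⁆ = ⁅H, U⁆
        rw [Subgroup.map_commutator, map_conj_of_mem htH, map_conj_of_mem (le_normalizer htU)]
      rw [sup_comm] at h1
      obtain ⟨w, hw, t, ht, e⟩ := (Subgroup.coe_mul_of_right_le_normalizer_left ⁅H, U⁆ _ hle).le h1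
      exact ⟨t, ht, w, hw, e⟩
    refine ⟨w, (Subgroup.mem_inf.1 (hcomm hw)).2, ?_⟩
    rw [← hnw, map_conj_mul, map_conj_of_mem (Subgroup.mem_inf.1 hn).2]

end Cfsg.Lib.SolvStruct.Pronormal
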