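import Mathlib

/-! Odd-order automorphisms of doubly transitive groups: a twisted incidence matrix. -/

set_option autoImplicit false
set_option linter.unusedSectionVars false

namespace Cfsg.Lib.DoublyTransitiveAut

open Matrix MulAction

variable {Ω G : Type*} [Group G] [MulAction G Ω] [Fintype Ω]

/-- intertwining relation -/
def Tw (φ : G → G) (M : Matrix Ω Ω ℤ) : Prop := ∀ g x y, M (g • x) (φ g • y) = M x y

theorem tw_mul {φ ψ : G → G} {M N : Matrix Ω Ω ℤ} (hM : Tw φ M) (hN : Tw ψ N) :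
    Tw (ψ ∘ φ) (M * N) := by
  intro g x y
  simp only [Matrix.mul_apply, Function.comp_apply]
  exact Fintype.sum_equiv (MulAction.toPerm (φ g)⁻¹) _ _ fun z => by
    conv_lhs => rw [← smul_inv_smul (φ g) z, hM, hN]
    rfl

theorem exists_eq_of_commutant [DecidableEq Ω] (h2 : IsMultiplyPretransitive G Ω 2) {o z : Ω} (hoz : o ≠ z)
    {M : Matrix Ω Ω ℤ} (hM : Tw (id : G → G) M) :
    M = (M o o - M o z) • (1 : Matrix Ω Ω ℤ) + M o z • (Matrix.of fun _ _ : Ω => (1 : ℤ)) := by
  haveI := isPretransitive_of_is_two_pretransitive (h2 := h2)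
  ext x y
  simp only [Matrix.add_apply, Matrix.smul_apply, Matrix.of_apply, Matrix.one_apply, smul_eq_mul]
  rcases eq_or_ne x y with rfl | hxy
  · obtain ⟨g, rfl⟩ := MulAction.exists_smul_eq G o x
    have := hM g o o
    simp only [id] at this
    rw [this, if_pos rfl]; ring
  · obtain ⟨g, hgx, hgy⟩ := (is_two_pretransitive_iff.1 h2) hoz hxy
    have := hM g o z
    simp only [id, hgx, hgy] at this
    rw [this, if_neg hxy]; ring

theorem arith {n k d s b m a : ℤ} {j : ℕ} (hn : 2 ≤ n) (hk : 1 ≤ k) (hkn : k < n) (hcop : IsCoprime k n)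
    (hd : d = k - m) (hm0 : 0 ≤ m) (hm : m * (n - 1) = k * (k - 1)) (hds : d = s ^ 2) (hs : 0 ≤ s)
    (hb : b = s ^ (2 * j + 1) ∨ b = -s ^ (2 * j + 1)) (hrow : k ^ (2 * j + 1) = a * n + b) :
    k = 1 ∨ k = n - 1 := by
  have hdn : d * (n - 1) = k * (n - k) := by rw [hd]; linear_combination -hm
  have hsq : n ∣ s ^ 2 - k ^ 2 := ⟨s ^ 2 - k, by rw [hds] at hdn; linear_combination -hdn⟩
  have hpow : n ∣ (s ^ 2) ^ j - (k ^ 2) ^ j := hsq.trans (sub_dvd_pow_sub_pow _ _ _)
  have hcj : IsCoprime n ((k ^ 2) ^ j) := (hcop.symm.pow_right).pow_right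
  have hd1 : (0 : ℤ) < d := by nlinarith
  have hs1 : 0 < s := lt_of_le_of_ne hs fun e => by rw [← e] at hds; omega
  have hsk : s ≤ k := by nlinarith
  rcases hb with rfl | rfl
  · have h1 : n ∣ (k ^ 2) ^ j * (k - s) := by
      have h2 : (k ^ 2) ^ j * (k - s) = a * n + ((s ^ 2) ^ j - (k ^ 2) ^ j) * s := by
        rw [← pow_mul, ← pow_mul]; linear_combination hrow
      rw [h2]; exact dvd_add (dvd_mul_left n a) (hpow.mul_right s)
    have h3 := Int.eq_zero_of_dvd_of_nonneg_of_lt (by linarith) (by linarith) (hcj.dvd_of_dvd_mul_left h1)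
    left
    nlinarith
  · have h1 : n ∣ (k ^ 2) ^ j * (k + s) := by
      have h2 : (k ^ 2) ^ j * (k + s) = a * n - ((s ^ 2) ^ j - (k ^ 2) ^ j) * s := by
        rw [← pow_mul, ← pow_mul]; linear_combination hrow
      rw [h2]; exact dvd_sub (dvd_mul_left n a) (hpow.mul_right s)
    obtain ⟨c, hc⟩ := hcj.dvd_of_dvd_mul_left h1
    have hc1 : 1 ≤ c := by nlinarith
    have hc2 : c ≤ 1 := by nlinarith
    obtain rfl : c = 1 := le_antisymm hc2 hc1
    right
    have : s = n - k := by linarith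
    subst this
    have e : (n - k) * (n - 1) = k := by
      have h4 : (n - k) * ((n - k) * (n - 1) - k) = 0 := by rw [hds] at hdn; linear_combination hdn
      rcases mul_eq_zero.1 h4 with h5 | h5 <;> linarith
    nlinarith

theorem orbit_card (h2 : IsMultiplyPretransitive G Ω 2) (o ω : Ω) (α : MulAut G) (hα : Odd (orderOf α))
    (hk : (Nat.card (orbit ((stabilizer G o).map α.toMonoidHom) ω)).Coprime (Fintype.card Ω)) :
    Nat.card (orbit ((stabilizer G o).map α.toMonoidHom) ω) = 1 ∨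
      Nat.card (orbit ((stabilizer G o).map α.toMonoidHom) ω) = Fintype.card Ω - 1 := by
  classical
  set H' := (stabilizer G o).map α.toMonoidHom
  set k := Nat.card (orbit H' ω) with hkdef
  set n := Fintype.card Ω
  haveI : Nonempty (orbit H' ω) := ⟨⟨ω, mem_orbit_self ω⟩⟩
  have hk1 : 1 ≤ k := Nat.card_pos
  have hkn : k ≤ n := by show _ ≤ Fintype.card Ω; rw [hkdef, ← Nat.card_eq_fintype_card (α := Ω)]; exact Nat.card_le_card_of_injective _ Subtype.val_injective
  rcases Nat.lt_or_ge n 2 with hn | hn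
  · left; omega
  have hklt : k < n := lt_of_le_of_ne hkn fun e => by rw [e, Nat.coprime_self] at hk; omega
  obtain ⟨z, hoz⟩ : ∃ z, o ≠ z := by
    haveI : Nontrivial Ω := Fintype.one_lt_card_iff_nontrivial.1 hn
    exact (exists_ne o).imp fun z h => h.symm
  haveI := isPretransitive_of_is_two_pretransitive (h2 := h2)
  set B : Matrix Ω Ω ℤ := Matrix.of fun x y => if ∃ g : G, g • o = x ∧ α g • ω = y then 1 else 0
  have hB : Tw (α : G → G) B := by
    intro g x y
    simp only [B, Matrix.of_apply]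
    refine if_congr ⟨?_, ?_⟩ rfl rfl
    · rintro ⟨h, h1, h2⟩
      exact ⟨g⁻¹ * h, by rw [mul_smul, h1, inv_smul_smul], by rw [map_mul, map_inv, mul_smul, h2, inv_smul_smul]⟩
    · rintro ⟨h, rfl, rfl⟩
      exact ⟨g * h, by rw [mul_smul], by rw [map_mul, mul_smul]⟩
  -- sums
  have hmem : ∀ y, (∃ g : G, g • o = o ∧ α g • ω = y) ↔ y ∈ orbit H' ω := by
    intro y
    constructor
    · rintro ⟨g, hg, rfl⟩; exact ⟨⟨α g, g, hg, rfl⟩, rfl⟩
    · rintro ⟨⟨_, g, hg, rfl⟩, rfl⟩; exact ⟨g, hg, rfl⟩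
  have hrow0 : ∀ y, B o y = if y ∈ orbit H' ω then 1 else 0 := fun y => if_congr (hmem y) rfl rfl
  have hrowo : ∑ y, B o y = k := by
    rw [hkdef, Finset.sum_congr rfl fun y _ => hrow0 y, Finset.sum_boole, Nat.card_eq_fintype_card,
      Fintype.card_subtype]
  have hrow : ∀ x, ∑ y, B x y = k := by
    intro x
    obtain ⟨g, rfl⟩ := MulAction.exists_smul_eq G o x
    rw [← hrowo]
    exact Fintype.sum_equiv (MulAction.toPerm (α g)⁻¹) _ _ fun y => by
      conv_lhs => rw [← smul_inv_smul (α g) y, hB]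
      rfl
  have hcol : ∀ y, ∑ x, B x y = k := by
    have hcolω : ∀ y, ∑ x, B x y = ∑ x, B x ω := by
      intro y
      obtain ⟨g, rfl⟩ := MulAction.exists_smul_eq G ω y
      obtain ⟨h, rfl⟩ := α.surjective g
      exact Fintype.sum_equiv (MulAction.toPerm h⁻¹) _ _ fun x => by
        conv_lhs => rw [← smul_inv_smul h x, hB]
        rfl
    have e : (n : ℤ) * ∑ x, B x ω = n * k := by
      have e1 : ∑ y, ∑ x, B x y = n * ∑ x, B x ω := by
        rw [Finset.sum_congr rfl fun y _ => hcolω y, Finset.sum_const, Finset.card_univ, nsmul_eq_mul]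
      rw [← e1, Finset.sum_comm, Finset.sum_congr rfl fun x _ => hrow x, Finset.sum_const, Finset.card_univ, nsmul_eq_mul]
    intro y
    rw [hcolω y]
    exact mul_left_cancel₀ (by positivity) e
  -- `B Bᵀ`
  have hBT : Tw (α.symm : G → G) Bᵀ := by
    intro g x y
    simp only [Matrix.transpose_apply]
    have := hB (α.symm g) y x
    rwa [α.apply_symm_apply] at this
  have hBB : Tw (id : G → G) (B * Bᵀ) := by
    have := tw_mul hB hBT
    rwa [show (α.symm : G → G) ∘ (α : G → G) = id from funext α.symm_apply_apply] at this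
  set J : Matrix Ω Ω ℤ := Matrix.of fun _ _ => 1
  have hBBeq : B * Bᵀ = ((B * Bᵀ) o o - (B * Bᵀ) o z) • (1 : Matrix Ω Ω ℤ) + (B * Bᵀ) o z • J :=
    exists_eq_of_commutant h2 hoz hBB
  set mm := (B * Bᵀ) o z
  have hdiag : (B * Bᵀ) o o = k := by
    rw [Matrix.mul_apply, ← hrowo]
    refine Finset.sum_congr rfl fun y _ => ?_
    rw [Matrix.transpose_apply, hrow0]
    split <;> simp
  rw [hdiag] at hBBeq
  have hmm0 : 0 ≤ mm := by
    show 0 ≤ (B * Bᵀ) o z
    rw [Matrix.mul_apply]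
    refine Finset.sum_nonneg fun y _ => mul_nonneg ?_ ?_ <;> simp only [Matrix.transpose_apply, B, Matrix.of_apply] <;>
      split <;> norm_num
  have hBBrow : ((k : ℤ) - mm) + mm * n = k * k := by
    have e1 : ∑ y, (B * Bᵀ) o y = (k : ℤ) * k := by
      simp only [Matrix.mul_apply, Matrix.transpose_apply]
      rw [Finset.sum_comm]
      simp_rw [← Finset.mul_sum, hcol, ← Finset.sum_mul, hrowo]
    have e2 := congrArg (fun M : Matrix Ω Ω ℤ => ∑ y, M o y) hBBeq
    simp only [e1, J, Matrix.add_apply, Matrix.smul_apply, Matrix.of_apply, Matrix.one_apply, smul_eq_mul,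
      Finset.sum_add_distrib, ← Finset.mul_sum, Finset.sum_ite_eq, Finset.mem_univ, if_true, Finset.sum_const,
      Finset.card_univ, nsmul_eq_mul, mul_one] at e2
    linarith
  set d : ℤ := k - mm with hd
  -- powers
  have hpow : ∀ i : ℕ, Tw ((α ^ i : MulAut G) : G → G) (B ^ i) ∧ B ^ i * J = (k : ℤ) ^ i • J ∧
      ∃ c : ℤ, B ^ i * (B ^ i)ᵀ = d ^ i • (1 : Matrix Ω Ω ℤ) + c • J := by
    intro i
    induction i with
    | zero =>
      refine ⟨fun g x y => ?_, by simp, 0, by simp⟩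
      simp only [pow_zero, MulAut.one_apply, Matrix.one_apply, smul_left_cancel_iff]
    | succ i ih =>
      obtain ⟨h1, h2', c, h3⟩ := ih
      have hBJ : B * J = (k : ℤ) • J := by
        ext x y; simp [J, Matrix.mul_apply, hrow]
      have hBJ' : B ^ (i + 1) * J = (k : ℤ) ^ (i + 1) • J := by
        rw [pow_succ, Matrix.mul_assoc, hBJ, Matrix.mul_smul, h2', smul_smul, pow_succ, mul_comm]
      refine ⟨?_, hBJ', ?_⟩
      · rw [pow_succ' α i, pow_succ B i]
        have := tw_mul h1 hB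
        exact this
      refine ⟨d * c + mm * ((k : ℤ) ^ i * (k : ℤ) ^ i), ?_⟩
      have hJT : J * (B ^ i)ᵀ = (k : ℤ) ^ i • J := by
        have := congrArg Matrix.transpose h2'
        rwa [Matrix.transpose_mul, Matrix.transpose_smul, show Jᵀ = J from rfl] at this
      rw [pow_succ, Matrix.transpose_mul, show B ^ i * B * (Bᵀ * (B ^ i)ᵀ) = B ^ i * (B * Bᵀ) * (B ^ i)ᵀ by
        simp only [Matrix.mul_assoc], hBBeq]
      simp only [Matrix.mul_add, Matrix.add_mul, Matrix.mul_smul, Matrix.smul_mul, Matrix.mul_one, h2', hJT, h3,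
        smul_add, smul_smul]
      rw [add_smul, pow_succ']
      simp only [mul_assoc, ← add_assoc]
  obtain ⟨j, hj⟩ := hα
  obtain ⟨h1, hJk, c, h3⟩ := hpow (2 * j + 1)
  rw [← hj, pow_orderOf_eq_one] at h1
  have hM := exists_eq_of_commutant h2 hoz (M := B ^ (2 * j + 1)) (fun g x y => by
    rw [← hj]; exact h1 g x y)
  generalize hbv : (B ^ (2 * j + 1)) o o - (B ^ (2 * j + 1)) o z = b at hM
  generalize (B ^ (2 * j + 1)) o z = a at hM
  have hb2 : b ^ 2 = d ^ (2 * j + 1) := by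
    rw [hM, Matrix.transpose_add, Matrix.transpose_smul, Matrix.transpose_smul, Matrix.transpose_one,
      show (Matrix.of fun _ _ : Ω => (1 : ℤ))ᵀ = Matrix.of fun _ _ : Ω => (1 : ℤ) from rfl] at h3
    have eoo := congrFun (congrFun h3 o) o
    have eoz := congrFun (congrFun h3 o) z
    simp only [Matrix.mul_apply, Matrix.add_apply, Matrix.smul_apply, Matrix.of_apply, Matrix.one_apply, smul_eq_mul, J,
      add_mul, mul_add, Finset.sum_add_distrib, if_pos, hoz, if_false, if_true] at eoo eoz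
    simp [Finset.sum_ite_eq, Finset.sum_ite_eq', mul_ite, ite_mul, hoz, hoz.symm] at eoo eoz
    linarith
  have hkrow : (k : ℤ) ^ (2 * j + 1) = a * n + b := by
    have e := congrFun (congrFun hJk o) o
    rw [hM] at e
    simp only [Matrix.mul_apply, Matrix.add_apply, Matrix.smul_apply, Matrix.of_apply, Matrix.one_apply, smul_eq_mul, J,
      mul_one, Finset.sum_add_distrib, mul_ite, mul_zero, Finset.sum_ite_eq, Finset.mem_univ, if_true, Finset.sum_const,
      Finset.card_univ, nsmul_eq_mul] at e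
    linarith
  have hnZ : (2 : ℤ) ≤ n := by exact_mod_cast hn
  have hk1Z : (1 : ℤ) ≤ k := by exact_mod_cast hk1
  have hkltZ : (k : ℤ) < n := by exact_mod_cast hklt
  have hd0 : 0 < d := by
    have : d * ((n : ℤ) - 1) = k * (n - k) := by rw [hd]; linear_combination -hBBrow
    nlinarith
  obtain ⟨dN, hdN⟩ : ∃ dN : ℕ, d = dN := ⟨d.toNat, (Int.toNat_of_nonneg hd0.le).symm⟩
  have hsq : IsSquare dN := by
    have h4 : IsSquare (dN ^ (2 * j + 1)) := ⟨b.natAbs, by
      have := congrArg Int.natAbs hb2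
      rw [Int.natAbs_pow, Int.natAbs_pow, hdN, Int.natAbs_natCast] at this
      rw [← this, sq]⟩
    obtain ⟨r, hr⟩ := h4
    have hdvd : (dN ^ j) ^ 2 ∣ r ^ 2 := ⟨dN, by rw [sq r, ← hr, ← pow_mul]; ring⟩
    obtain ⟨t, ht⟩ := (Nat.pow_dvd_pow_iff two_ne_zero).1 hdvd
    refine ⟨t, ?_⟩
    have hpos : 0 < (dN ^ j) ^ 2 := by
      have : 0 < dN := by omega
      positivity
    refine Nat.eq_of_mul_eq_mul_left hpos ?_
    rw [ht] at hr
    calc (dN ^ j) ^ 2 * dN = dN ^ (2 * j + 1) := by ring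
      _ = _ := hr
      _ = _ := by ring
  obtain ⟨s, hs⟩ := hsq
  have hds : d = (s : ℤ) ^ 2 := by rw [hdN, hs]; push_cast; ring
  have hbs : b = (s : ℤ) ^ (2 * j + 1) ∨ b = -(s : ℤ) ^ (2 * j + 1) :=
    sq_eq_sq_iff_eq_or_eq_neg.1 (by rw [hb2, hds, ← pow_mul, ← pow_mul, mul_comm])
  have hcop : IsCoprime (k : ℤ) n := Int.isCoprime_iff_gcd_eq_one.2 (by rw [Int.gcd_natCast_natCast]; exact hk)
  rcases arith hnZ hk1Z hkltZ hcop hd hmm0 (by linarith) hds (by positivity) hbs hkrow with h | h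
  · left; exact_mod_cast h
  · right; omega

theorem mem_norm {Ω : Type*} {G : Subgroup (Equiv.Perm Ω)} {α : MulAut G} {σ : Equiv.Perm Ω}
    (h : ∀ g : G, ((α g : G) : Equiv.Perm Ω) = σ * (g : Equiv.Perm Ω) * σ⁻¹) :
    σ ∈ Subgroup.normalizer (G : Set (Equiv.Perm Ω)) := by
  refine Subgroup.mem_normalizer_iff.2 fun g => ⟨fun hg => ?_, fun hg => ?_⟩
  · rw [← h ⟨g, hg⟩]; exact (α ⟨g, hg⟩).2
  · obtain ⟨g', hg'⟩ := α.surjective ⟨_, hg⟩
    have := h g'
    rw [hg'] at this
    have e : g = (g' : Equiv.Perm Ω) := mul_left_cancel (mul_right_cancel this)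
    rw [e]; exact g'.2

theorem induced {Ω : Type*} [Fintype Ω] (G : Subgroup (Equiv.Perm Ω)) (h2 : IsMultiplyPretransitive G Ω 2) (o : Ω)
    (α : MulAut G) (hα : Odd (orderOf α)) (ω : Ω)
    (hk : (Nat.card (orbit ((stabilizer G o).map α.toMonoidHom) ω)).Coprime (Fintype.card Ω)) :
    (∃ σ : Equiv.Perm Ω, σ ∈ Subgroup.normalizer (G : Set (Equiv.Perm Ω)) ∧
        ∀ g : G, ((α g : G) : Equiv.Perm Ω) = σ * (g : Equiv.Perm Ω) * σ⁻¹) ∧
      (Nat.card (orbit ((stabilizer G o).map α.toMonoidHom) ω) = 1 ∨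
        Nat.card (orbit ((stabilizer G o).map α.toMonoidHom) ω) = Fintype.card Ω - 1) := by
  classical
  have hcases := orbit_card h2 o ω α hα hk
  refine ⟨?_, hcases⟩
  haveI := isPretransitive_of_is_two_pretransitive (h2 := h2)
  set H' := (stabilizer G o).map α.toMonoidHom
  -- a fixed point of `H'`
  obtain ⟨ω', hω'⟩ : ∃ ω', H' ≤ stabilizer G ω' := by
    rcases hcases with h | h
    · refine ⟨ω, fun g hg => ?_⟩
      obtain ⟨hsub, -⟩ := Nat.card_eq_one_iff_unique.1 h
      exact congrArg Subtype.val (@Subsingleton.elim _ hsub ⟨g • ω, ⟨g, hg⟩, rfl⟩ ⟨ω, mem_orbit_self ω⟩)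
    · rw [Nat.card_eq_fintype_card, ← Set.toFinset_card] at h
      have hc : (orbit H' ω).toFinsetᶜ.card = 1 := by
        rw [Finset.card_compl, h]
        have : 0 < Fintype.card Ω := Fintype.card_pos_iff.2 ⟨o⟩
        omega
      obtain ⟨ω', hω'⟩ := Finset.card_eq_one.1 hc
      refine ⟨ω', fun g hg => ?_⟩
      have h1 : ω' ∉ orbit H' ω := by
        have : ω' ∈ (orbit H' ω).toFinsetᶜ := hω' ▸ Finset.mem_singleton_self ω'
        simpa using this
      have h3 : g • ω' ∈ (orbit H' ω).toFinsetᶜ := by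
        simp only [Finset.mem_compl, Set.mem_toFinset]
        intro h2
        apply h1
        have h4 : (⟨g, hg⟩ : H')⁻¹ • (g • ω') ∈ orbit H' ω := mem_orbit_of_mem_orbit _ h2
        rwa [show (⟨g, hg⟩ : H')⁻¹ • (g • ω') = ω' from inv_smul_smul g ω'] at h4
      rw [hω', Finset.mem_singleton] at h3
      exact h3
  have hstab : stabilizer G ω' = H' := by
    refine (Subgroup.eq_of_le_of_card_ge hω' ?_).symm
    rw [Subgroup.card_map_of_injective α.injective]
    obtain ⟨g, hg⟩ := MulAction.exists_smul_eq G o ω'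
    rw [← hg, stabilizer_smul_eq_stabilizer_map_conj, Subgroup.card_map_of_injective (MulEquiv.injective _)]
  choose t ht using fun x => MulAction.exists_smul_eq G o x
  have hwd : ∀ g : G, α g • ω' = α (t (g • o)) • ω' := by
    intro g
    have h1 : α ((t (g • o))⁻¹ * g) ∈ stabilizer G ω' := hstab ▸ ⟨_, by
      show ((t (g • o))⁻¹ * g) • o = o
      rw [mul_smul, inv_smul_eq_iff, ht], rfl⟩
    rw [map_mul, map_inv, mem_stabilizer_iff, mul_smul, inv_smul_eq_iff] at h1
    exact h1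
  set f : Ω → Ω := fun x => α (t x) • ω'
  have hbij : Function.Bijective f := Finite.surjective_iff_bijective.1 fun y => by
    obtain ⟨g, hg⟩ := MulAction.exists_smul_eq G ω' y
    obtain ⟨h, rfl⟩ := α.surjective g
    exact ⟨h • o, by show α (t (h • o)) • ω' = y; rw [← hwd, hg]⟩
  set σ := Equiv.ofBijective f hbij
  have hσ : ∀ g : G, ((α g : G) : Equiv.Perm Ω) = σ * (g : Equiv.Perm Ω) * σ⁻¹ := by
    intro g
    rw [eq_mul_inv_iff_mul_eq]
    ext x
    show (α g) • (α (t x) • ω') = α (t (g • x)) • ω'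
    conv_rhs => rw [← ht x, ← mul_smul, ← hwd, map_mul]
    rw [mul_smul]
  refine ⟨σ, Cfsg.Lib.DoublyTransitiveAut.mem_norm hσ, hσ⟩

end Cfsg.Lib.DoublyTransitiveAut
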