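import Cfsg.Prelude.Def_KGroupFacts
import Mathlib

/-!
A simple group with a subgroup of prime index has solvable outer automorphism group.

For an automorphism `σ` fixing an element `u` of order `p`, the orbital matrix between the action
on `G ⧸ H` and the same action twisted by `σ` is an invertible circulant over `ZMod p`.  Circulants
commute, so the automorphisms fixing `u` form an abelian group.
-/

set_option autoImplicit false
set_option linter.unusedSectionVars false

namespace Cfsg.Lib.SolvStruct.PrimeIndexOut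

open Polynomial

universe u

variable {G : Type u} [Group G] [Finite G] (H : Subgroup G)

section
variable (p : ℕ)

open scoped Classical in
/-- permutation matrix of `g` on the cosets of `H` -/
noncomputable def R (g : G) : Matrix (G ⧸ H) (G ⧸ H) (ZMod p) :=
  Matrix.of fun x y => if g • y = x then 1 else 0

open scoped Classical in
/-- orbital matrix between the twisted action and the action -/
noncomputable def M (σ : MulAut G) : Matrix (G ⧸ H) (G ⧸ H) (ZMod p) :=
  Matrix.of fun x y =>
    if ∃ h : G, x = σ h • ((1 : G) : G ⧸ H) ∧ y = h • ((1 : G) : G ⧸ H) then 1 else 0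

theorem M_invariant (σ : MulAut G) (k : G) (x y : G ⧸ H) :
    M H p σ (σ k • x) (k • y) = M H p σ x y := by
  classical
  simp only [M, Matrix.of_apply]
  refine if_congr ⟨?_, ?_⟩ rfl rfl
  · rintro ⟨h, hx, hy⟩
    refine ⟨k⁻¹ * h, ?_, ?_⟩
    · rw [map_mul, mul_smul, ← hx, map_inv, inv_smul_smul]
    · rw [mul_smul, ← hy, inv_smul_smul]
  · rintro ⟨h, rfl, rfl⟩
    exact ⟨k * h, by rw [map_mul, mul_smul], by rw [mul_smul]⟩

variable [Fintype (G ⧸ H)] [DecidableEq (G ⧸ H)]

theorem R_mul (g h : G) : R H p (g * h) = R H p g * R H p h := by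
  classical
  ext x y
  rw [Matrix.mul_apply, Finset.sum_eq_single (h • y)]
  · simp [R, mul_smul]
  · intro z _ hz
    simp [R, Ne.symm hz]
  · simp

theorem R_one : R H p (1 : G) = 1 := by
  classical
  ext x y
  simp [R, Matrix.one_apply, eq_comm]

theorem R_pow (g : G) : ∀ n : ℕ, R H p g ^ n = R H p (g ^ n)
  | 0 => by rw [pow_zero, pow_zero, R_one]
  | n + 1 => by rw [pow_succ, pow_succ, R_mul, R_pow g n]

theorem R_mul_M (σ : MulAut G) (g : G) : R H p (σ g) * M H p σ = M H p σ * R H p g := by
  classical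
  ext x y
  rw [Matrix.mul_apply, Matrix.mul_apply, Finset.sum_eq_single ((σ g)⁻¹ • x),
    Finset.sum_eq_single (g • y)]
  · rw [← M_invariant H p σ g ((σ g)⁻¹ • x) y, smul_inv_smul]
    simp [R]
  · intro z _ hz
    simp [R, Ne.symm hz]
  · simp
  · intro z _ hz
    have : σ g • z ≠ x := fun h => hz (by rw [← h, inv_smul_smul])
    simp [R, this]
  · simp

end

variable {H} {p : ℕ} [hp : Fact p.Prime]

theorem card_stab_coprime (hcore : H.normalCore = ⊥) (hidx : H.index = p) : ¬ p ∣ Nat.card H := by
  have hinj : Function.Injective (MulAction.toPermHom G (G ⧸ H)) := by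
    rw [← MonoidHom.ker_eq_bot_iff, ← Subgroup.normalCore_eq_ker, hcore]
  have hd : Nat.card G ∣ Nat.card (Equiv.Perm (G ⧸ H)) :=
    Subgroup.card_dvd_of_injective _ hinj
  rw [Nat.card_perm, ← Subgroup.index_eq_card, hidx, ← H.index_mul_card, hidx,
    ← Nat.mul_factorial_pred hp.out.ne_zero] at hd
  intro h
  have := (hp.out.dvd_factorial).1 (h.trans ((Nat.mul_dvd_mul_iff_left hp.out.pos).1 hd))
  have := hp.out.pos
  omega

theorem smul_bijective (hcop : ¬ p ∣ Nat.card H) (hidx : H.index = p) {u : G}
    (hu : orderOf u = p) (y : G ⧸ H) : Function.Bijective fun i : Fin p => u ^ (i : ℕ) • y := by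
  have hfix : ∀ z : G ⧸ H, u • z ≠ z := by
    intro z hz
    induction z using QuotientGroup.induction_on with
    | _ g =>
    rw [MulAction.Quotient.smul_mk, QuotientGroup.eq] at hz
    have h2 : (g⁻¹ * u * g)⁻¹ ∈ H := by
      simpa [mul_assoc] using hz
    apply hcop
    have h3 : orderOf (g⁻¹ * u * g) = p := by
      rw [show g⁻¹ * u * g = MulAut.conj g⁻¹ u by simp, MulEquiv.orderOf_eq, hu]
    have h4 := Subgroup.orderOf_dvd_natCard H (inv_mem_iff.1 h2)
    rwa [h3] at h4
  rw [Nat.bijective_iff_injective_and_card, Nat.card_fin, ← Subgroup.index_eq_card, hidx]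
  refine ⟨?_, rfl⟩
  have key : ∀ i j : Fin p, i ≤ j → u ^ (i : ℕ) • y = u ^ (j : ℕ) • y → i = j := by
    intro i j hij h
    by_contra hne
    have hlt : (i : ℕ) < j := lt_of_le_of_ne hij (fun e => hne (Fin.ext e))
    obtain ⟨d, hd⟩ := Nat.exists_eq_add_of_lt hlt
    rw [hd, add_assoc, pow_add, mul_smul, smul_left_cancel_iff] at h
    -- `u ^ (d + 1)` generates `zpowers u`, so `u` fixes `y`
    have hcop' : (d + 1).Coprime p := by
      rw [Nat.coprime_comm, hp.out.coprime_iff_not_dvd]
      exact Nat.not_dvd_of_pos_of_lt (Nat.succ_pos _) (by omega)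
    obtain ⟨m, hm⟩ := exists_pow_eq_self_of_coprime (hu ▸ hcop')
    refine hfix y ?_
    rw [← hm]
    exact MulAction.mem_stabilizer_iff.1
      (pow_mem (MulAction.mem_stabilizer_iff.2 h.symm : u ^ (d + 1) ∈ MulAction.stabilizer G y) m)
  intro i j h
  rcases le_total i j with hij | hij
  · exact key i j hij h
  · exact (key j i hij h.symm).symm

variable [Fintype (G ⧸ H)] [DecidableEq (G ⧸ H)]

/-- the orbital matrix of an automorphism fixing `u` is a unit and a polynomial in `R u` -/
theorem M_spec (hcop : ¬ p ∣ Nat.card H) (hidx : H.index = p) {u : G} (hu : orderOf u = p)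
    (σ : MulAut G) (hσ : σ u = u) :
    IsUnit (M H p σ) ∧ ∃ q : (ZMod p)[X], M H p σ = aeval (R H p u) q := by
  classical
  set o : G ⧸ H := ((1 : G) : G ⧸ H) with ho
  set c : Fin p → ZMod p := fun i => M H p σ (u ^ (i : ℕ) • o) o with hc
  set q : (ZMod p)[X] := ∑ i : Fin p, C (c i) * X ^ (i : ℕ) with hq
  have hM : M H p σ = aeval (R H p u) q := by
    ext x y
    obtain ⟨i0, rfl⟩ := (smul_bijective hcop hidx hu y).2 x
    simp only [hq, map_sum, map_mul, aeval_C, map_pow, aeval_X, ← Algebra.smul_def, R_pow,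
      Matrix.sum_apply, Matrix.smul_apply, smul_eq_mul]
    rw [Finset.sum_eq_single i0]
    · obtain ⟨j, rfl⟩ := (smul_bijective hcop hidx hu o).2 y
      have e := M_invariant H p σ (u ^ (j : ℕ)) (u ^ (i0 : ℕ) • o) o
      rw [map_pow, hσ, ← mul_smul, ← pow_add, add_comm, pow_add, mul_smul] at e
      simp [R, hc, e]
    · intro i _ hi
      have : u ^ (i : ℕ) • y ≠ u ^ (i0 : ℕ) • y := fun h => hi ((smul_bijective hcop hidx hu y).1 h)
      simp [R, this]
    · simp
  refine ⟨?_, q, hM⟩
  -- the row sum is the size of an orbit of `σ H`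
  set a : ZMod p := ∑ x : G ⧸ H, M H p σ x o with ha
  have ha0 : a ≠ 0 := by
    set K := H.map σ.toMonoidHom
    have hset : a = ((Nat.card (MulAction.orbit K o) : ℕ) : ZMod p) := by
      rw [Nat.card_coe_set_eq, Set.ncard_eq_toFinset_card', ha]
      simp only [M, Matrix.of_apply, Finset.sum_boole]
      congr 2
      ext x
      simp only [Finset.mem_filter, Finset.mem_univ, true_and, Set.mem_toFinset,
        MulAction.mem_orbit_iff]
      constructor
      · rintro ⟨h, rfl, hy⟩
        have hh : h ∈ H := by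
          rw [← MulAction.stabilizer_quotient H]
          exact MulAction.mem_stabilizer_iff.2 hy.symm
        exact ⟨⟨σ h, Subgroup.mem_map_of_mem _ hh⟩, rfl⟩
      · rintro ⟨⟨k, hk⟩, rfl⟩
        obtain ⟨h, hh, rfl⟩ := hk
        refine ⟨h, rfl, ?_⟩
        have : h ∈ MulAction.stabilizer G o := by rw [ho, MulAction.stabilizer_quotient H]; exact hh
        exact (MulAction.mem_stabilizer_iff.1 this).symm
    rw [hset, Ne, ZMod.natCast_eq_zero_iff]
    intro h
    refine hcop (h.trans ?_)
    have hd : Nat.card (MulAction.orbit K o) ∣ Nat.card K := by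
      rw [Nat.card_congr (MulAction.orbitEquivQuotientStabilizer K o)]
      exact Subgroup.card_quotient_dvd_card _
    rwa [Subgroup.card_map_of_injective σ.injective] at hd
  have hqa : q.eval 1 = a := by
    rw [ha, ← Fintype.sum_equiv (Equiv.ofBijective _ (smul_bijective hcop hidx hu o))
      (fun i : Fin p => M H p σ (u ^ (i : ℕ) • o) o) (fun x => M H p σ x o) (fun i => rfl)]
    simp [hq, eval_finset_sum, hc]
  have hpow : M H p σ ^ p = algebraMap (ZMod p) _ a := by
    have hup : u ^ p = 1 := by rw [← orderOf_dvd_iff_pow_eq_one, hu]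
    rw [hM, ← map_pow, ← ZMod.expand_card, expand_aeval, R_pow, hup, R_one, ← hqa]
    rw [← (algebraMap (ZMod p) (Matrix (G ⧸ H) (G ⧸ H) (ZMod p))).map_one, aeval_algebraMap_apply]
    simp [coe_aeval_eq_eval]
  rw [← isUnit_pow_iff hp.out.ne_zero, hpow]
  exact (isUnit_iff_ne_zero.2 ha0).map _

theorem comm_of_fix (hcore : H.normalCore = ⊥) (hidx : H.index = p) {u : G} (hu : orderOf u = p)
    (σ τ : MulAut G) (hσ : σ u = u) (hτ : τ u = u) : σ * τ = τ * σ := by
  have hcop := card_stab_coprime hcore hidx
  obtain ⟨hsU, qs, hqs⟩ := M_spec hcop hidx hu σ hσ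
  obtain ⟨htU, qt, hqt⟩ := M_spec hcop hidx hu τ hτ
  have hMc : M H p σ * M H p τ = M H p τ * M H p σ := by
    rw [hqs, hqt, ← map_mul, mul_comm, map_mul]
  have hRinj : Function.Injective (R H p) := by
    intro g g' h
    have hinj : Function.Injective (MulAction.toPermHom G (G ⧸ H)) := by
      rw [← MonoidHom.ker_eq_bot_iff, ← Subgroup.normalCore_eq_ker, hcore]
    refine hinj (Equiv.ext fun y => ?_)
    by_contra hne
    have h1 := congrFun (congrFun h (g • y)) y
    have hne' : g' • y ≠ g • y := fun e => hne e.symm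
    simp [R, hne'] at h1
  refine MulEquiv.ext fun g => hRinj ?_
  have h1 : R H p (σ (τ g)) * (M H p σ * M H p τ) = (M H p σ * M H p τ) * R H p g := by
    rw [← mul_assoc, R_mul_M, mul_assoc, R_mul_M, mul_assoc]
  have h2 : R H p (τ (σ g)) * (M H p σ * M H p τ) = (M H p σ * M H p τ) * R H p g := by
    rw [hMc, ← mul_assoc, R_mul_M, mul_assoc, R_mul_M, mul_assoc]
  exact (hsU.mul htU).mul_right_cancel (h1.trans h2.symm)

theorem out_isSolvable {G : Type u} [Group G] [Finite G] (H : Subgroup G) (hcore : H.normalCore = ⊥)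
    (hidx : H.index.Prime) : Group.IsSolvable (Cfsg.Out G) := by
  classical
  haveI := Fintype.ofFinite (G ⧸ H)
  set p := H.index with hp
  haveI : Fact p.Prime := ⟨hidx⟩
  have hcop := card_stab_coprime (p := p) hcore hp.symm
  obtain ⟨u, hu⟩ := exists_prime_orderOf_dvd_card' (G := G) p ⟨Nat.card H, (H.index_mul_card).symm⟩
  set P := Subgroup.zpowers u with hP
  have hPc : Nat.card P = p ^ (Nat.card G).factorization p := by
    rw [Nat.card_zpowers, hu, ← H.index_mul_card, ← hp,
      Nat.factorization_mul hidx.ne_zero Nat.card_pos.ne']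
    simp [hidx.factorization_self, Nat.factorization_eq_zero_of_not_dvd hcop]
  set S : Sylow p G := Sylow.ofCard P hPc
  -- the automorphisms normalising `P`
  let A : Subgroup (MulAut G) :=
    { carrier := {σ | ∀ x, σ x ∈ P ↔ x ∈ P}
      one_mem' := fun x => Iff.rfl
      mul_mem' := fun {σ τ} hσ hτ x => (hσ (τ x)).trans (hτ x)
      inv_mem' := fun {σ} hσ x => by
        have := hσ (σ⁻¹ x)
        rw [MulAut.apply_inv_self] at this
        exact this.symm }
  have huP : u ∈ P := Subgroup.mem_zpowers u
  have hsol : Group.IsSolvable A := by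
    refine ⟨⟨2, ?_⟩⟩
    rw [derivedSeries_succ, derivedSeries_one, Subgroup.commutator_eq_bot_iff_le_centralizer]
    have hfix : ∀ σ ∈ commutator A, (σ : MulAut G) u = u := by
      -- such elements act trivially on the cyclic group `P`
      let res : A →* MulAut P :=
        { toFun := fun σ =>
            { toFun := fun x => ⟨(σ : MulAut G) x, (σ.2 x).2 x.2⟩
              invFun := fun x => ⟨((σ : MulAut G)⁻¹ : MulAut G) x, by
                have := (σ.2 (((σ : MulAut G)⁻¹ : MulAut G) x))
                rw [MulAut.apply_inv_self] at this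
                exact this.1 x.2⟩
              left_inv := fun x => Subtype.ext (MulAut.inv_apply_self _ _ _)
              right_inv := fun x => Subtype.ext (MulAut.apply_inv_self _ _ _)
              map_mul' := fun x y => Subtype.ext (map_mul (σ : MulAut G) _ _) }
          map_one' := rfl
          map_mul' := fun σ τ => rfl }
      intro σ hσ
      have hker : σ ∈ res.ker := by
        refine (Subgroup.commutator_le.2 fun a _ b _ => ?_ : commutator A ≤ res.ker) hσ
        rw [MonoidHom.mem_ker, map_commutatorElement, commutatorElement_eq_one_iff_mul_comm]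
        haveI : IsCyclic P := inferInstance
        exact (IsCyclic.mulAutMulEquiv P).injective (by rw [map_mul, map_mul, mul_comm])
      exact congrArg Subtype.val (DFunLike.congr_fun (MonoidHom.mem_ker.1 hker) (⟨u, huP⟩ : P))
    intro a ha
    refine Subgroup.mem_centralizer_iff.2 fun b hb => Subtype.ext ?_
    exact (comm_of_fix hcore hp.symm hu _ _ (hfix a ha) (hfix b hb)).symm
  refine solvable_of_surjective (f := (QuotientGroup.mk' (Cfsg.Inn G)).comp A.subtype) fun x => ?_
  obtain ⟨σ, rfl⟩ := QuotientGroup.mk'_surjective _ x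
  have hT : Nat.card (P.map σ.toMonoidHom) = p ^ (Nat.card G).factorization p := by
    rw [Subgroup.card_map_of_injective σ.injective, hPc]
  obtain ⟨g, hg⟩ := MulAction.exists_smul_eq G (Sylow.ofCard _ hT) S
  have hg' : (P.map σ.toMonoidHom).map (MulAut.conj g).toMonoidHom = P :=
    congrArg Sylow.toSubgroup hg
  have hmem : MulAut.conj g * σ ∈ A := fun x => by
    conv_lhs => rw [← hg', Subgroup.map_map]
    exact Subgroup.mem_map_iff_mem (f := (MulAut.conj g).toMonoidHom.comp σ.toMonoidHom)
      ((MulAut.conj g).injective.comp σ.injective)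
  refine ⟨⟨_, hmem⟩, ?_⟩
  show QuotientGroup.mk' (Cfsg.Inn G) (MulAut.conj g * σ) = _
  rw [map_mul, show QuotientGroup.mk' (Cfsg.Inn G) (MulAut.conj g) = 1 from
    (QuotientGroup.eq_one_iff _).2 ⟨g, rfl⟩, one_mul]

end Cfsg.Lib.SolvStruct.PrimeIndexOut
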