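/-
One-point extensions of multiply transitive groups.
-/
import Mathlib

set_option linter.unusedSectionVars false
set_option linter.unusedVariables false

namespace Cfsg.Lib.SolvStruct.OnePointExtension

open Equiv

variable {X : Type*}

theorem result (G : Subgroup (Perm (Option X))) (hfix : ∀ f ∈ G, f none = none)
    (k : ℕ) (hk : 2 ≤ k) (hkX : Nonempty (Fin k ↪ X))
    (htrans : ∀ a b : Fin k ↪ X, ∃ f ∈ G, ∀ i, f (some (a i)) = some (b i))
    (h g : Perm (Option X)) (hg : g ∈ G) (x y : X)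
    (h1 : h none = some x) (h2 : h (some x) = none) (h3 : h (some y) = some y)
    (h4 : g (some x) = some y) (h5 : g (some y) = some x)
    (h6 : (g * h) ^ 3 ∈ G) (h7 : h ^ 2 ∈ G)
    (h8 : ∀ f ∈ G, f (some x) = some x → h * f * h ∈ G ∧ (h * f * h) (some x) = some x) :
    (∀ f ∈ Subgroup.closure ((G : Set (Perm (Option X))) ∪ {h}), f none = none ↔ f ∈ G) ∧
      MulAction.IsMultiplyPretransitive (Subgroup.closure ((G : Set (Perm (Option X))) ∪ {h})) (Option X) (k + 1) := by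
  classical
  obtain ⟨e⟩ := hkX
  -- embeddings through prescribed points
  have emb2 : ∀ z w : X, z ≠ w → ∃ d : Fin k ↪ X, d ⟨0, by omega⟩ = z ∧ d ⟨1, by omega⟩ = w := by
    intro z w hzw
    set d1 := e.trans (Equiv.swap (e ⟨0, by omega⟩) z).toEmbedding with hd1
    have e0 : d1 ⟨0, by omega⟩ = z := by simp [d1]
    have e1 : d1 ⟨1, by omega⟩ ≠ z := fun hh => by
      have := d1.injective (hh.trans e0.symm)
      simp at this
    refine ⟨d1.trans (Equiv.swap (d1 ⟨1, by omega⟩) w).toEmbedding, ?_, by simp⟩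
    show Equiv.swap (d1 ⟨1, by omega⟩) w (d1 ⟨0, by omega⟩) = z
    rw [e0, Equiv.swap_apply_of_ne_of_ne e1.symm hzw]
  have one : ∀ z w : X, ∃ f ∈ G, f (some z) = some w := by
    intro z w
    obtain ⟨f, hf, hh⟩ := htrans (e.trans (Equiv.swap (e ⟨0, by omega⟩) z).toEmbedding)
      (e.trans (Equiv.swap (e ⟨0, by omega⟩) w).toEmbedding)
    refine ⟨f, hf, ?_⟩
    simpa using hh ⟨0, by omega⟩
  have hxy : x ≠ y := fun hh => by
    rw [← hh] at h3
    rw [h2] at h3
    simp at h3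
  have hinv2 : (h ^ 2)⁻¹ ∈ G := inv_mem h7
  have hinvx : ((h ^ 2)⁻¹ : Perm (Option X)) (some x) = some x := by
    refine (h ^ 2).injective ?_
    rw [← Perm.mul_apply, mul_inv_cancel, Perm.one_apply, pow_two, Perm.mul_apply, h2, h1]
  -- the union of the two double cosets
  let D : Set (Perm (Option X)) := {f | f ∈ G ∨ ∃ a ∈ G, ∃ b ∈ G, f = a * h * b}
  have hleft : ∀ a ∈ G, ∀ f ∈ D, a * f ∈ D := by
    rintro a ha f (hf | ⟨c, hc, d, hd, rfl⟩)
    · exact Or.inl (mul_mem ha hf)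
    · exact Or.inr ⟨a * c, mul_mem ha hc, d, hd, by group⟩
  have hright : ∀ a ∈ G, ∀ f ∈ D, f * a ∈ D := by
    rintro a ha f (hf | ⟨c, hc, d, hd, rfl⟩)
    · exact Or.inl (mul_mem hf ha)
    · exact Or.inr ⟨c, hc, d * a, mul_mem hd ha, by group⟩
  have hgh : h * g * h ∈ D := by
    refine Or.inr ⟨g⁻¹ * (g * h) ^ 3 * (h ^ 2)⁻¹, mul_mem (mul_mem (inv_mem hg) h6) hinv2, g⁻¹, inv_mem hg, ?_⟩
    rw [pow_succ, pow_succ, pow_one, pow_two]
    group
  have hfh : ∀ f ∈ G, h * f * h ∈ D := by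
    intro f hf
    by_cases hfx : f (some x) = some x
    · exact Or.inl (h8 f hf hfx).1
    obtain ⟨w, hw⟩ : ∃ w, f (some x) = some w := by
      rcases hv : f (some x) with _ | w
      · exact absurd (f.injective (hv.trans (hfix f hf).symm)) (by simp)
      · exact ⟨w, rfl⟩
    have hxw : x ≠ w := fun hh => hfx (hh ▸ hw)
    obtain ⟨a, ha0, ha1⟩ := emb2 x y hxy
    obtain ⟨b, hb0, hb1⟩ := emb2 x w hxw
    obtain ⟨c, hc, hcc⟩ := htrans a b
    have c0 : c (some x) = some x := by simpa [ha0, hb0] using hcc ⟨0, by omega⟩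
    have c1 : c (some y) = some w := by simpa [ha1, hb1] using hcc ⟨1, by omega⟩
    set d := g⁻¹ * c⁻¹ * f with hd
    have hdG : d ∈ G := mul_mem (mul_mem (inv_mem hg) (inv_mem hc)) hf
    have d0 : d (some x) = some x := by
      refine g.injective (c.injective ?_)
      rw [h4, c1, ← hw, ← Perm.mul_apply, ← Perm.mul_apply, hd]
      congr 1
      group
    have e1 : h * f * h = (h * c * h) * ((h ^ 2)⁻¹ * (h * g * h) * (h ^ 2)⁻¹) * (h * d * h) := by
      rw [hd, pow_two]; group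
    rw [e1]
    exact hright _ (h8 d hdG d0).1 _ (hleft _ (h8 c hc c0).1 _ (hright _ hinv2 _ (hleft _ hinv2 _ hgh)))
  have hhinv : ∀ a ∈ G, ∀ b ∈ G, (a * h * b)⁻¹ ∈ D := fun a ha b hb =>
    Or.inr ⟨b⁻¹ * (h ^ 2)⁻¹, mul_mem (inv_mem hb) hinv2, a⁻¹, inv_mem ha, by rw [pow_two]; group⟩
  let S : Subgroup (Perm (Option X)) :=
    { carrier := D
      one_mem' := Or.inl (one_mem G)
      mul_mem' := by
        rintro a b (ha | ⟨a₁, ha₁, a₂, ha₂, rfl⟩) hb
        · exact hleft a ha b hb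
        · rcases hb with hb | ⟨b₁, hb₁, b₂, hb₂, rfl⟩
          · exact hright b hb _ (Or.inr ⟨a₁, ha₁, a₂, ha₂, rfl⟩)
          · rw [show a₁ * h * a₂ * (b₁ * h * b₂) = a₁ * (h * (a₂ * b₁) * h) * b₂ by group]
            exact hright _ hb₂ _ (hleft _ ha₁ _ (hfh _ (mul_mem ha₂ hb₁)))
      inv_mem' := by
        rintro a (ha | ⟨a₁, ha₁, a₂, ha₂, rfl⟩)
        · exact Or.inl (inv_mem ha)
        · exact hhinv a₁ ha₁ a₂ ha₂ }
  have hle : Subgroup.closure ((G : Set (Perm (Option X))) ∪ {h}) ≤ S := by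
    rw [Subgroup.closure_le]
    rintro f (hf | rfl)
    · exact Or.inl hf
    · exact Or.inr ⟨1, one_mem G, 1, one_mem G, by simp⟩
  refine ⟨fun f hf => ⟨fun hn => ?_, fun hfG => hfix f hfG⟩, ⟨fun a b => ?_⟩⟩
  · rcases hle hf with hG | ⟨a, ha, b, hb, rfl⟩
    · exact hG
    · exfalso
      rw [Perm.mul_apply, Perm.mul_apply, hfix b hb, h1] at hn
      have := a.injective (hn.trans (hfix a ha).symm)
      simp at this
  · have hto : ∀ a : Fin (k + 1) ↪ Option X, ∃ f : Perm (Option X),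
        f ∈ Subgroup.closure ((G : Set (Perm (Option X))) ∪ {h}) ∧ ∃ a' : Fin k ↪ X,
          f (a 0) = none ∧ ∀ i : Fin k, f (a i.succ) = some (a' i) := by
      intro a
      obtain ⟨f, hf, hf0⟩ : ∃ f : Perm (Option X),
          f ∈ Subgroup.closure ((G : Set (Perm (Option X))) ∪ {h}) ∧ f (a 0) = none := by
        rcases ha : a 0 with _ | z
        · exact ⟨1, one_mem _, rfl⟩
        · obtain ⟨c, hc, hcz⟩ := one z x
          exact ⟨h * c, mul_mem (Subgroup.subset_closure (Or.inr rfl)) (Subgroup.subset_closure (Or.inl hc)),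
            by rw [Perm.mul_apply, hcz, h2]⟩
      have hs : ∀ i : Fin k, ∃ z, f (a i.succ) = some z := fun i => by
        rcases hv : f (a i.succ) with _ | z
        · exact absurd (a.injective (f.injective (hv.trans hf0.symm))) (Fin.succ_ne_zero i)
        · exact ⟨z, rfl⟩
      choose z hz using hs
      refine ⟨f, hf, ⟨z, fun i j hij => ?_⟩, hf0, hz⟩
      exact Fin.succ_injective _ (a.injective (f.injective ((hz i).trans ((congrArg some hij).trans (hz j).symm))))
    obtain ⟨fa, hfa, a', ha0, ha'⟩ := hto a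
    obtain ⟨fb, hfb, b', hb0, hb'⟩ := hto b
    obtain ⟨c, hc, hcc⟩ := htrans a' b'
    refine ⟨⟨fb⁻¹ * c * fa, mul_mem (mul_mem (inv_mem hfb) (Subgroup.subset_closure (Or.inl hc))) hfa⟩, ?_⟩
    refine Function.Embedding.ext fun i => ?_
    show (fb⁻¹ * c * fa : Perm (Option X)) (a i) = b i
    rw [Perm.mul_apply, Perm.mul_apply, Perm.inv_eq_iff_eq]
    induction i using Fin.cases with
    | zero => rw [ha0, hfix c hc, hb0]
    | succ j => rw [ha', hcc, hb']

end Cfsg.Lib.SolvStruct.OnePointExtension
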