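/-
The factors of the number of Sylow subgroups (M. Hall): prime powers congruent to one and Sylow
numbers of simple groups.
-/
import Cfsg.Agent.SolvStruct.SylowNumber
import Cfsg.Agent.Coprime.Sylow

set_option autoImplicit false
set_option linter.style.haveILetI false
set_option linter.unusedSectionVars false

namespace Cfsg.Lib.SolvStruct.SylowFactors

open Subgroup Cfsg.Lib.Coprime Cfsg.Lib.SolvStruct.SylowNumber
open scoped Pointwise

universe u

variable {p : ℕ} [Fact p.Prime]

/-- admissible factorisations -/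
def Good (p : ℕ) (G : Type u) [Group G] : Prop :=
  ∃ l : List ℕ, l.prod = Nat.card (Sylow p G) ∧
    ∀ m ∈ l, (IsPrimePow m ∧ m % p = 1) ∨
      ∃ (S : Type u) (_ : Group S) (_ : Finite S), IsSimpleGroup S ∧ m = Nat.card (Sylow p S)

/-- the Sylow number of a group with a normal `p`-complement -/
theorem good_of_complement {G : Type u} [Group G] [Finite G] (P : Sylow p G) (K : Subgroup G) [K.Normal]
    (hdisj : (P : Subgroup G) ⊓ K = ⊥) (hsup : (P : Subgroup G) ⊔ K = ⊤) : Good p G := by
  classical
  have hp : p.Prime := Fact.out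
  set Pg : Subgroup G := (P : Subgroup G)
  have hPK : Pg ≤ normalizer (K : Set G) := le_normalizer_of_normal
  have hKp : ¬ p ∣ Nat.card K := by
    have h1 := card_sup_mul_card_inf (N := K) (H := Pg) hPK
    rw [sup_comm, hsup, card_top, inf_comm, hdisj, card_bot, mul_one, ← Pg.card_mul_index,
      mul_comm (Nat.card K)] at h1
    rw [← Nat.eq_of_mul_eq_mul_left Nat.card_pos h1]
    exact P.not_dvd_index
  set N := normalizer (Pg : Set G) with hN
  set C := N ⊓ K
  have hn : Nat.card (Sylow p G) = N.relIndex K := by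
    rw [P.card_eq_index_normalizer, ← Sylow.coe_coe, ← relIndex_top_right, ← hsup,
      ← relIndex_eq_sup (le_normalizer : Pg ≤ N)]
  have hcop : (Nat.card Pg).Coprime (Nat.card K) := by
    obtain ⟨j, hj⟩ := IsPGroup.iff_card.1 P.2
    rw [show Nat.card Pg = p ^ j from hj]
    exact Nat.Coprime.pow_left _ (hp.coprime_iff_not_dvd.2 hKp)
  have hn0 : N.relIndex K ≠ 0 := Nat.pos_iff_ne_zero.1 (hn ▸ Nat.card_pos)
  have hpart : ∀ r ∈ (N.relIndex K).primeFactors,
      r ^ (N.relIndex K).factorization r ≡ 1 [MOD p] := by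
    intro r hr
    obtain ⟨hrp, hrd, -⟩ := Nat.mem_primeFactors.1 hr
    haveI := Fact.mk hrp
    have hrne : r ≠ p := by
      rintro rfl
      exact hKp (hrd.trans (relIndex_dvd_card _ _))
    obtain ⟨Rs⟩ := (inferInstance : Nonempty (Sylow r C))
    set R := (Rs : Subgroup C).map C.subtype with hR
    have hsolP : Group.IsSolvable Pg := by
      haveI := (show IsPGroup p Pg from P.2).isNilpotent
      infer_instance
    have hRle : R ≤ K ⊓ N := (map_subtype_le _).trans (le_inf inf_le_right inf_le_left)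
    have hRc : Pg ≤ normalizer (R : Set G) := by
      refine le_trans (fun x hx => mem_centralizer_iff.2 fun y hy => ?_) (centralizer_le_normalizer _)
      obtain ⟨hyK, hyN⟩ := Subgroup.mem_inf.1 (hRle hy)
      have h1 : x * y * x⁻¹ * y⁻¹ ∈ Pg ⊓ K := by
        refine Subgroup.mem_inf.2 ⟨?_, mul_mem ((inferInstance : K.Normal).conj_mem y hyK x) (inv_mem hyK)⟩
        rw [show x * y * x⁻¹ * y⁻¹ = x * (y * x⁻¹ * y⁻¹) by group]
        exact Pg.mul_mem hx ((mem_normalizer_iff.1 hyN _).1 (Pg.inv_mem hx))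
      rw [hdisj, mem_bot, mul_inv_eq_one] at h1
      exact (mul_inv_eq_iff_eq_mul.1 h1).symm
    obtain ⟨Qs, hRQ, hQ⟩ := exists_invariant_sylow_ge hPK hcop (Or.inl hsolP) r
      (hRle.trans inf_le_left) (Rs.2.map C.subtype) hRc
    set Q := (Qs : Subgroup K).map K.subtype with hQdef
    have hQK : Q ≤ K := map_subtype_le _
    obtain ⟨t, ht⟩ := IsPGroup.iff_card.1 (Qs.2.map K.subtype)
    -- apply the prime power case inside `P ⊔ Q`
    set S := Pg ⊔ Q
    haveI : (Q.subgroupOf S).Normal :=
      (normal_subgroupOf_iff_le_normalizer le_sup_right).2 (sup_le hQ le_normalizer)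
    obtain ⟨a, ha, hmod⟩ := relIndex_normalizer_prime_pow hrp (P.subtype (le_sup_left : Pg ≤ S))
      (Q.subgroupOf S) (by rw [Nat.card_congr (subgroupOfEquivOfLe le_sup_right).toEquiv]; exact ht) hrne
    rw [Sylow.coe_subtype, ← Subgroup.subgroupOf_normalizer_eq le_sup_left] at ha
    change ((N.subgroupOf S).subgroupOf (Q.subgroupOf S)).index = r ^ a at ha
    rw [← Subgroup.relIndex, relIndex_subgroupOf le_sup_right] at ha
    -- compare with `K`
    have hRN : R = N ⊓ Q := by
      refine le_antisymm (le_inf ((hRle.trans inf_le_right)) hRQ) fun x hx => ?_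
      have hle : N ⊓ Q ≤ C := le_inf inf_le_left (inf_le_right.trans hQK)
      have h3 : ((N ⊓ Q).subgroupOf C) = (Rs : Subgroup C) :=
        Rs.3 (((Qs.2.map K.subtype).to_le inf_le_right).comap_subtype (K := C)) (fun y hy =>
          mem_subgroupOf.2 ⟨((hRle.trans inf_le_right)) ⟨y, hy, rfl⟩, hRQ ⟨y, hy, rfl⟩⟩)
      exact ⟨⟨x, hle hx⟩, h3 ▸ mem_subgroupOf.2 hx, rfl⟩
    have e1 : Nat.card R * N.relIndex Q = Nat.card Q := by
      rw [hRN, ← inf_relIndex_right N Q, ← relIndex_bot_left,
        relIndex_mul_relIndex _ _ _ bot_le inf_le_right, relIndex_bot_left]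
    have e2 : Nat.card C * N.relIndex K = Nat.card K := by
      rw [← inf_relIndex_right N K, ← relIndex_bot_left,
        relIndex_mul_relIndex _ _ _ bot_le inf_le_right, relIndex_bot_left]
    have e3 : (Nat.card C).factorization r = (Nat.card R).factorization r := by
      rw [hR, card_map_of_injective C.subtype_injective, Rs.card_eq_multiplicity,
        hrp.factorization_pow, Finsupp.single_eq_same]
    have e4 : (Nat.card K).factorization r = (Nat.card Q).factorization r := by
      rw [hQdef, card_map_of_injective K.subtype_injective, Qs.card_eq_multiplicity,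
        hrp.factorization_pow, Finsupp.single_eq_same]
    have h1 := congrArg (fun m => m.factorization r) e1
    have h2 := congrArg (fun m => m.factorization r) e2
    beta_reduce at h1 h2
    rw [Nat.factorization_mul Nat.card_pos.ne' (by rw [ha]; exact pow_ne_zero _ hrp.ne_zero), Finsupp.add_apply,
      ha, hrp.factorization_pow, Finsupp.single_eq_same] at h1
    rw [Nat.factorization_mul Nat.card_pos.ne' hn0, Finsupp.add_apply, e3, e4, ← h1] at h2
    rw [Nat.add_left_cancel h2]
    exact hmod
  refine ⟨(N.relIndex K).primeFactors.toList.map fun r => r ^ (N.relIndex K).factorization r, ?_, ?_⟩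
  · rw [Finset.prod_map_toList, hn]
    conv_rhs => rw [← Nat.prod_factorization_pow_eq_self hn0]
    rfl
  · intro m hm
    obtain ⟨r, hr, rfl⟩ := List.mem_map.1 hm
    rw [Finset.mem_toList] at hr
    obtain ⟨hrp, hrd, -⟩ := Nat.mem_primeFactors.1 hr
    refine Or.inl ⟨hrp.isPrimePow.pow (hrp.factorization_pos_of_dvd hn0 hrd).ne', ?_⟩
    have := hpart r hr
    rwa [Nat.ModEq, Nat.one_mod_eq_one.2 hp.ne_one] at this

theorem good_aux : ∀ (n : ℕ) (G : Type u) [Group G] [Finite G], Nat.card G = n → Good p G := by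
  intro n
  induction n using Nat.strong_induction_on with
  | _ n ih =>
  intro G _ _ hn
  rcases subsingleton_or_nontrivial G with h | h
  · have : Subsingleton (Sylow p G) := ⟨fun P Q => Sylow.ext (Subsingleton.elim _ _)⟩
    exact ⟨[], by rw [List.prod_nil, Nat.card_of_subsingleton (Classical.arbitrary (Sylow p G))], by simp⟩
  by_cases hs : IsSimpleGroup G
  · exact ⟨[Nat.card (Sylow p G)], List.prod_singleton, fun m hm =>
      Or.inr ⟨G, inferInstance, inferInstance, hs, List.mem_singleton.1 hm⟩⟩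
  obtain ⟨K, hKn, hKb, hKt⟩ : ∃ K : Subgroup G, K.Normal ∧ K ≠ ⊥ ∧ K ≠ ⊤ := by
    by_contra hno
    push Not at hno
    refine hs ⟨fun H hH => ?_⟩
    rcases eq_or_ne H ⊥ with h1 | h1
    · exact Or.inl h1
    · exact Or.inr (hno H hH h1)
  haveI := hKn
  obtain ⟨P⟩ : Nonempty (Sylow p G) := inferInstance
  have hK1 : Nat.card K < n := hn ▸ lt_of_le_of_ne (card_le_card_group K) (fun e => hKt (eq_top_of_card_eq K e))
  have hK2 : Nat.card (G ⧸ K) < n := hn ▸ Cfsg.Lib.Coprime.card_quotient_lt hKb
  set N := ((P : Subgroup G) ⊔ K) ⊓ normalizer (((P : Subgroup G) ⊓ K : Subgroup G) : Set G) with hN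
  have hDN : (P : Subgroup G) ⊓ K ≤ N := le_inf (inf_le_left.trans le_sup_left) le_normalizer
  haveI : (((P : Subgroup G) ⊓ K).subgroupOf N).Normal :=
    (normal_subgroupOf_iff_le_normalizer hDN).2 inf_le_right
  have hform := hall_formula P K N hN
  have h3 : Good p (N ⧸ ((P : Subgroup G) ⊓ K).subgroupOf N) := by
    rcases lt_or_ge (Nat.card (N ⧸ ((P : Subgroup G) ⊓ K).subgroupOf N)) n with h4 | h4
    · exact ih _ h4 _ rfl
    have hPN : (P : Subgroup G) ≤ N := le_inf le_sup_left fun g hg => by
      refine Subgroup.mem_normalizer_iff_map_conj_eq.mpr ?_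
      rw [Subgroup.map_inf _ _ _ (MulAut.conj g).injective,
        Subgroup.mem_normalizer_iff_map_conj_eq.1 (le_normalizer hg), map_conj_normal]
    have hmul := card_eq_card_quotient_mul_card_subgroup (((P : Subgroup G) ⊓ K).subgroupOf N)
    have hNle := card_le_card_group N
    have hd0 : 0 < Nat.card ↥(((P : Subgroup G) ⊓ K).subgroupOf N) := Nat.card_pos
    have hNn : Nat.card N = n := by nlinarith
    have hNt : N = ⊤ := eq_top_of_card_eq N (hNn.trans hn.symm)
    have hd1 : Nat.card ↥(((P : Subgroup G) ⊓ K).subgroupOf N) = 1 := by nlinarith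
    have hbot : (P : Subgroup G) ⊓ K = ⊥ := by
      rwa [Nat.card_congr (subgroupOfEquivOfLe hDN).toEquiv, card_eq_one] at hd1
    have hsup : (P : Subgroup G) ⊔ K = ⊤ := top_le_iff.1 (hNt ▸ inf_le_left)
    obtain ⟨l, hl, hl'⟩ := good_of_complement P K hbot hsup
    refine ⟨l, hl.trans ?_, hl'⟩
    have e : Nat.card (Sylow p (N ⧸ ((P : Subgroup G) ⊓ K).subgroupOf N)) = Nat.card (Sylow p G) := by
      rw [card_sylow_of_surjective (P.subtype hPN) (QuotientGroup.mk'_surjective _), QuotientGroup.ker_mk',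
        P.card_eq_index_normalizer, Sylow.coe_subtype,
        sup_eq_left.2 (show ((P : Subgroup G) ⊓ K).subgroupOf N ≤ (P : Subgroup G).subgroupOf N from
          fun x hx => (Subgroup.mem_inf.1 hx).1), ← Subgroup.subgroupOf_normalizer_eq hPN]
      show (normalizer ((P : Subgroup G) : Set G)).relIndex N = (normalizer ((P : Subgroup G) : Set G)).index
      rw [hNt, relIndex_top_right]
    exact e.symm
  obtain ⟨l1, hl1, hl1'⟩ := ih _ hK2 (G ⧸ K) rfl
  obtain ⟨l2, hl2, hl2'⟩ := ih _ hK1 K rfl
  obtain ⟨l3, hl3, hl3'⟩ := h3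
  refine ⟨l1 ++ l2 ++ l3, by rw [List.prod_append, List.prod_append, hl1, hl2, hl3, hform], fun m hm => ?_⟩
  rcases List.mem_append.1 hm with h4 | h4
  · rcases List.mem_append.1 h4 with h5 | h5
    · exact hl1' m h5
    · exact hl2' m h5
  · exact hl3' m h4

end Cfsg.Lib.SolvStruct.SylowFactors
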