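/-
The principal ideal theorem: the transfer into the commutator quotient of the derived group is trivial
(Furtwängler; the splitting module proof).
-/
import Mathlib

set_option linter.style.haveILetI false
set_option linter.unusedSectionVars false

namespace Cfsg.Lib.SolvStruct.PrincipalIdeal

open Subgroup MonoidAlgebra

universe u

variable {G : Type u} [Group G] [Finite G]

variable (G) in
/-- Coefficient module. -/
abbrev V : Type u := Additive (Abelianization (commutator G))

/-- Class in the coefficient module. -/
def cl (h : G) (hh : h ∈ commutator G) : (V G) := Additive.ofMul (Abelianization.of ⟨h, hh⟩)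

theorem cl_congr {h k : G} (e : h = k) (hh : h ∈ commutator G) : cl h hh = cl k (e ▸ hh) := by subst e; rfl

theorem cl_mul {h k : G} (hh : h ∈ commutator G) (hk : k ∈ commutator G) :
    cl (h * k) (mul_mem hh hk) = cl h hh + cl k hk := rfl

/-- The conjugation action. -/
noncomputable def conjV : G →* AddMonoid.End (V G) where
  toFun g := (Abelianization.map (MulAut.conjNormal g : MulAut (commutator G)).toMonoidHom).toAdditive
  map_one' := by
    ext x
    induction x using Additive.rec with | _ y =>
    induction y using QuotientGroup.induction_on with | H z =>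
    show Additive.ofMul (Abelianization.of ((MulAut.conjNormal (1 : G) : MulAut (commutator G)) z)) = _
    rw [map_one]; rfl
  map_mul' g k := by
    ext x
    induction x using Additive.rec with | _ y =>
    induction y using QuotientGroup.induction_on with | H z =>
    show Additive.ofMul (Abelianization.of ((MulAut.conjNormal (g * k) : MulAut (commutator G)) z)) = _
    rw [map_mul]; rfl

theorem conjV_cl (g h : G) (hh : h ∈ commutator G) :
    conjV g (cl h hh) = cl (g * h * g⁻¹) ((inferInstance : (commutator G).Normal).conj_mem h hh g) := rfl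

theorem conjV_eq_one {g : G} (hg : g ∈ commutator G) : conjV g = (1 : AddMonoid.End (V G)) := by
  ext x
  induction x using Additive.rec with | _ y =>
  induction y using QuotientGroup.induction_on with | H z =>
  show Additive.ofMul (Abelianization.of ((MulAut.conjNormal g : MulAut (commutator G)) z)) =
    Additive.ofMul (Abelianization.of z)
  have e : (MulAut.conjNormal g : MulAut (commutator G)) z = ⟨g, hg⟩ * z * ⟨g, hg⟩⁻¹ := rfl
  rw [e]
  exact congrArg Additive.ofMul (by rw [map_mul, map_mul, map_inv, mul_inv_cancel_comm])

/-- The action of the abelianization. -/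
noncomputable def act : (Abelianization G) →* AddMonoid.End (V G) :=
  QuotientGroup.lift (commutator G) conjV fun _ hg => conjV_eq_one hg

theorem act_of (g : G) : act (Abelianization.of g) = conjV g := rfl

/-- (Abelianization G) section of the abelianization. -/
noncomputable def sec (a : (Abelianization G)) : G :=
  (((default : (commutator G).LeftTransversal).2.leftQuotientEquiv a⁻¹ : G))⁻¹

theorem of_sec (a : (Abelianization G)) : Abelianization.of (sec a) = a := by
  show ((((default : (commutator G).LeftTransversal).2.leftQuotientEquiv a⁻¹ : G))⁻¹ : G ⧸ commutator G) = a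
  exact (congrArg (·⁻¹) ((default : (commutator G).LeftTransversal).2.leftQuotientEquiv.symm_apply_apply
    (a⁻¹ : (Abelianization G)))).trans (inv_inv a)

theorem mem_of {g : G} (h : Abelianization.of g = 1) : g ∈ commutator G := (QuotientGroup.eq_one_iff g).1 h

theorem fac_mem (a b : (Abelianization G)) : sec a * sec b * (sec (a * b))⁻¹ ∈ commutator G :=
  mem_of (by simp only [map_mul, map_inv, of_sec, mul_inv_cancel])

/-- Factor set. -/
noncomputable def fac (a b : (Abelianization G)) : (V G) := cl _ (fac_mem a b)

theorem act_apply (a : (Abelianization G)) (h : G) (hh : h ∈ commutator G) :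
    act a (cl h hh) = cl (sec a * h * (sec a)⁻¹) ((inferInstance : (commutator G).Normal).conj_mem h hh _) := by
  conv_lhs => rw [← of_sec a, act_of, conjV_cl]

theorem cocycle (a a' b : (Abelianization G)) : act a (fac a' b) + fac a (a' * b) = fac a a' + fac (a * a') b := by
  rw [fac, act_apply]
  simp only [fac, ← cl_mul]
  rw [cl_congr (k := sec a * sec a' * (sec (a * a'))⁻¹ * (sec (a * a') * sec b * (sec (a * a' * b))⁻¹))
    (by rw [mul_assoc a a' b]; group)]

theorem sec_one_mem : sec (1 : (Abelianization G)) ∈ commutator G := mem_of (of_sec 1)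

theorem fac_one_left (b : (Abelianization G)) : fac 1 b = cl (sec (1 : (Abelianization G))) sec_one_mem := by
  rw [fac, cl_congr (k := sec (1 : (Abelianization G))) (by rw [one_mul]; group)]

theorem fac_one_right (a : (Abelianization G)) : fac a 1 = act a (cl (sec (1 : (Abelianization G))) sec_one_mem) := by
  rw [act_apply, fac]
  exact cl_congr (by rw [mul_one]) _

variable [Fintype (Abelianization G)] [DecidableEq (Abelianization G)]

variable (G) in
/-- The splitting module. -/
def split : AddSubgroup ((V G) × ((Abelianization G) → ℤ)) where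
  carrier := {x | ∑ a, x.2 a = 0}
  zero_mem' := by simp
  add_mem' {x y} hx hy := by simp_all [Finset.sum_add_distrib]
  neg_mem' {x} hx := by simp_all

theorem mem_split {x : (V G) × ((Abelianization G) → ℤ)} : x ∈ split G ↔ ∑ a, x.2 a = 0 := Iff.rfl

theorem sum_shift (a : (Abelianization G)) (f : (Abelianization G) → ℤ) : ∑ b, f (a⁻¹ * b) = ∑ b, f b :=
  Equiv.sum_comp (Equiv.mulLeft a⁻¹) f

/-- The translation. -/
noncomputable def tr (a : (Abelianization G)) : split G →+ split G where
  toFun x := ⟨(act a x.1.1 + ∑ b, x.1.2 b • fac a b, fun b => x.1.2 (a⁻¹ * b)),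
    mem_split.2 (by rw [sum_shift]; exact x.2)⟩
  map_zero' := by
    apply Subtype.ext
    simp [Prod.ext_iff, funext_iff]
  map_add' x y := by
    apply Subtype.ext
    apply Prod.ext
    · simp only [AddSubgroup.coe_add, Prod.fst_add, Prod.snd_add, map_add, Pi.add_apply, add_smul,
        Finset.sum_add_distrib]
      abel
    · rfl

theorem tr_fst (a : (Abelianization G)) (x : split G) : (tr a x).1.1 = act a x.1.1 + ∑ b, x.1.2 b • fac a b := rfl

theorem tr_snd (a : (Abelianization G)) (x : split G) (b : (Abelianization G)) : (tr a x).1.2 b = x.1.2 (a⁻¹ * b) := rfl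

/-- The translations as an action. -/
noncomputable def trHom : (Abelianization G) →* Module.End ℤ (split G) where
  toFun a := (tr a).toIntLinearMap
  map_one' := by
    apply LinearMap.ext
    intro x
    apply Subtype.ext
    apply Prod.ext
    · show act 1 x.1.1 + ∑ b, x.1.2 b • fac 1 b = x.1.1
      simp only [fac_one_left, ← Finset.sum_smul, mem_split.1 x.2, zero_smul, add_zero, map_one]
      rfl
    · funext b
      show x.1.2 (1⁻¹ * b) = x.1.2 b
      rw [inv_one, one_mul]
  map_mul' a a' := by
    apply LinearMap.ext
    intro x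
    apply Subtype.ext
    apply Prod.ext
    · show act (a * a') x.1.1 + ∑ b, x.1.2 b • fac (a * a') b =
        act a (act a' x.1.1 + ∑ b, x.1.2 b • fac a' b) + ∑ b, x.1.2 (a'⁻¹ * b) • fac a b
      have e1 : ∑ b, x.1.2 (a'⁻¹ * b) • fac a b = ∑ b, x.1.2 b • fac a (a' * b) := by
        rw [← Equiv.sum_comp (Equiv.mulLeft a') (fun b => x.1.2 (a'⁻¹ * b) • fac a b)]
        simp
      rw [e1, map_add, map_sum, map_mul, AddMonoid.End.coe_mul, Function.comp_apply, add_assoc,
        ← Finset.sum_add_distrib]
      congr 1
      simp only [map_zsmul, ← smul_add, cocycle]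
      simp only [smul_add, Finset.sum_add_distrib]
      rw [← Finset.sum_smul, mem_split.1 x.2, zero_smul, zero_add]
    · funext b
      show x.1.2 ((a * a')⁻¹ * b) = x.1.2 (a'⁻¹ * (a⁻¹ * b))
      rw [mul_inv_rev, mul_assoc]

variable (G) in
/-- The group ring. -/
abbrev R : Type u := MonoidAlgebra ℤ (Abelianization G)

noncomputable instance : Module (R G) (split G) :=
  Module.compHom _ (MonoidAlgebra.lift ℤ (Module.End ℤ (split G)) (Abelianization G) trHom).toRingHom

theorem single_smul (a : (Abelianization G)) (n : ℤ) (x : split G) : (MonoidAlgebra.single a n : R G) • x = n • tr a x := by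
  show (MonoidAlgebra.lift ℤ (Module.End ℤ (split G)) (Abelianization G) trHom (MonoidAlgebra.single a n)) x = _
  rw [MonoidAlgebra.lift_single, LinearMap.smul_apply]
  rfl

theorem dlt_mem (g : G) : g * (sec (Abelianization.of g))⁻¹ * sec (1 : (Abelianization G)) ∈ commutator G :=
  mem_of (by simp only [map_mul, map_inv, of_sec, mul_inv_cancel, one_mul])

/-- The crossed homomorphism. -/
noncomputable def dlt (g : G) : split G :=
  ⟨(cl _ (dlt_mem g), Pi.single (Abelianization.of g) 1 - Pi.single 1 1),
    mem_split.2 (by simp [Finset.sum_sub_distrib])⟩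

theorem sum_dlt (a : (Abelianization G)) (g : G) :
    ∑ b, (dlt g).1.2 b • fac a b = fac a (Abelianization.of g) - fac a 1 := by
  show ∑ b, (Pi.single (Abelianization.of g) (1 : ℤ) - Pi.single 1 1 : (Abelianization G) → ℤ) b • fac a b = _
  simp [sub_smul, Finset.sum_sub_distrib, Pi.single_apply, ite_smul]

theorem dlt_mul (g k : G) : dlt (g * k) = dlt g + tr (Abelianization.of g) (dlt k) := by
  apply Subtype.ext
  apply Prod.ext
  · rw [AddSubgroup.coe_add, Prod.fst_add, tr_fst, sum_dlt, fac_one_right, ← add_sub_assoc,
      ← add_sub_assoc, eq_sub_iff_add_eq]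
    show cl _ (dlt_mem (g * k)) + act _ (cl _ sec_one_mem) =
      cl _ (dlt_mem g) + (act _ (cl _ (dlt_mem k)) + fac _ _)
    have hk : k * (sec (Abelianization.of k))⁻¹ ∈ commutator G :=
      mem_of (by simp only [map_mul, map_inv, of_sec, mul_inv_cancel])
    have hg : g * (sec (Abelianization.of g))⁻¹ ∈ commutator G :=
      mem_of (by simp only [map_mul, map_inv, of_sec, mul_inv_cancel])
    have hgk : g * k * (sec (Abelianization.of (g * k)))⁻¹ ∈ commutator G :=
      mem_of (by simp only [map_mul, map_inv, of_sec, mul_inv_cancel])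
    rw [cl_congr (k := (g * k * (sec (Abelianization.of (g * k)))⁻¹) * sec (1 : (Abelianization G))) rfl (dlt_mem (g * k)),
      cl_mul hgk sec_one_mem, cl_mul hg sec_one_mem, cl_mul hk sec_one_mem, map_add]
    have e : cl _ hgk = cl _ hg + (act (Abelianization.of g) (cl _ hk) +
        fac (Abelianization.of g) (Abelianization.of k)) := by
      rw [act_apply, fac, ← cl_mul, ← cl_mul]
      exact cl_congr (by rw [map_mul]; group) _
    rw [e]; abel
  · funext b
    rw [AddSubgroup.coe_add, Prod.snd_add, Pi.add_apply, tr_snd]
    show (Pi.single (Abelianization.of (g * k)) (1 : ℤ) - Pi.single 1 1 : (Abelianization G) → ℤ) b =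
      (Pi.single (Abelianization.of g) (1 : ℤ) - Pi.single 1 1 : (Abelianization G) → ℤ) b +
        (Pi.single (Abelianization.of k) (1 : ℤ) - Pi.single 1 1 : (Abelianization G) → ℤ) ((Abelianization.of g)⁻¹ * b)
    simp only [Pi.sub_apply, Pi.single_apply, map_mul, inv_mul_eq_iff_eq_mul, mul_one]
    abel

theorem transfer_eq (g : G) :
    Additive.ofMul (MonoidHom.transfer (Abelianization.of : commutator G →* Abelianization (commutator G)) g) =
      ∑ a, (tr a (dlt g)).1.1 := by
  classical
  rw [MonoidHom.transfer_def _ (default : (commutator G).LeftTransversal)]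
  unfold Subgroup.leftTransversals.diff
  rw [ofMul_prod]
  rw [show (commutator G).fintypeQuotientOfFiniteIndex = (‹Fintype (Abelianization G)› : Fintype (G ⧸ commutator G)) from
    Subsingleton.elim _ _]
  refine Fintype.sum_equiv (Equiv.inv (Abelianization G) : G ⧸ commutator G ≃ (Abelianization G)) _
    (fun a : Abelianization G => (tr a (dlt g)).1.1) fun q => ?_
  have h1 : (tr (q : Abelianization G)⁻¹ (dlt g)).1.1 = act (q : Abelianization G)⁻¹ (cl _ (dlt_mem g)) +
      (fac (q : Abelianization G)⁻¹ (Abelianization.of g) - fac (q : Abelianization G)⁻¹ 1) := by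
    rw [tr_fst, sum_dlt]; rfl
  show _ = (tr (q : (Abelianization G))⁻¹ (dlt g)).1.1
  rw [h1, fac_one_right]
  have hg : g * (sec (Abelianization.of g))⁻¹ ∈ commutator G :=
    mem_of (by simp only [map_mul, map_inv, of_sec, mul_inv_cancel])
  rw [cl_mul hg sec_one_mem, map_add,
    show act (q : (Abelianization G))⁻¹ (cl _ hg) + act (q : (Abelianization G))⁻¹ (cl _ sec_one_mem) +
      (fac (q : (Abelianization G))⁻¹ (Abelianization.of g) - act (q : (Abelianization G))⁻¹ (cl _ sec_one_mem)) =
      act (q : (Abelianization G))⁻¹ (cl _ hg) + fac (q : (Abelianization G))⁻¹ (Abelianization.of g) from by abel,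
    act_apply, fac, ← cl_mul]
  refine congrArg (fun z => Additive.ofMul (Abelianization.of z)) (Subtype.ext ?_)
  show (((default : (commutator G).LeftTransversal).2.leftQuotientEquiv (q : G ⧸ commutator G) : G))⁻¹ *
      ((g • (default : (commutator G).LeftTransversal)).2.leftQuotientEquiv (q : G ⧸ commutator G) : G) = _
  erw [Subgroup.smul_apply_eq_smul_apply_inv_smul, smul_eq_mul]
  have e : (g⁻¹ • (show G ⧸ commutator G from q)) = (((q : (Abelianization G))⁻¹ * Abelianization.of g)⁻¹ : (Abelianization G)) := by
    induction q using QuotientGroup.induction_on with | H z =>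
    show (Abelianization.of (g⁻¹ * z) : (Abelianization G)) = ((Abelianization.of z)⁻¹ * Abelianization.of g)⁻¹
    rw [mul_inv_rev, inv_inv, map_mul, map_inv]
  erw [e]
  have hsec : ∀ a b : Abelianization G, a = b⁻¹ →
      sec a = (((default : (commutator G).LeftTransversal).2.leftQuotientEquiv (show G ⧸ commutator G from b) : G))⁻¹ := by
    rintro a b rfl
    exact congrArg (fun z : Abelianization G =>
      (((default : (commutator G).LeftTransversal).2.leftQuotientEquiv (show G ⧸ commutator G from z) : G))⁻¹) (inv_inv b)
  dsimp only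
  rw [hsec (q : Abelianization G)⁻¹ q rfl,
    hsec ((q : Abelianization G)⁻¹ * Abelianization.of g) ((q : Abelianization G)⁻¹ * Abelianization.of g)⁻¹ (inv_inv _).symm]
  group

theorem transfer_eq_zero (g : G) : ∑ a, (tr a (dlt g)).1.1 = 0 := by
  classical
  haveI := Fintype.ofFinite G
  -- the relation lattice
  let ε : (G → ℤ) →ₗ[ℤ] Additive (Abelianization G) := Fintype.linearCombination ℤ fun x => Additive.ofMul (Abelianization.of x)
  have hε : Function.Surjective ε := by
    intro a
    induction a using Additive.rec with | _ y =>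
    obtain ⟨x, rfl⟩ : ∃ x, Abelianization.of x = y := QuotientGroup.mk_surjective y
    exact ⟨Pi.single x 1, by simp [ε, Fintype.linearCombination_apply_single]⟩
  have hcard : Nat.card ((G → ℤ) ⧸ ε.ker) = Fintype.card (Abelianization G) := by
    rw [Nat.card_congr (ε.quotKerEquivOfSurjective hε).toEquiv, ← Nat.card_eq_fintype_card]; rfl
  have hrank : Module.finrank ℤ ε.ker = Fintype.card G := by
    refine le_antisymm ?_ ?_
    · exact (LinearMap.finrank_le_finrank_of_injective (f := ε.ker.subtype) Subtype.val_injective).trans_eq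
        (Module.finrank_pi ℤ)
    · refine (Module.finrank_pi ℤ).ge.trans (LinearMap.finrank_le_finrank_of_injective
        (f := LinearMap.codRestrict ε.ker ((Fintype.card (Abelianization G) : ℤ) • LinearMap.id) (fun v => ?_)) ?_)
      · rw [LinearMap.mem_ker]
        show ε ((Fintype.card (Abelianization G) : ℤ) • v) = 0
        rw [map_zsmul, natCast_zsmul, ← Nat.card_eq_fintype_card]
        exact (card_nsmul_eq_zero' (G := Additive (Abelianization G)))
      · intro v w h
        have h' : (Fintype.card (Abelianization G) : ℤ) • v = (Fintype.card (Abelianization G) : ℤ) • w := congrArg Subtype.val h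
        exact smul_right_injective _ (by exact_mod_cast Fintype.card_ne_zero) h'
  let bN : Module.Basis G ℤ ε.ker :=
    (Module.Free.chooseBasis ℤ ε.ker).reindex (Fintype.equivOfCardEq (by
      rw [← Module.finrank_eq_card_chooseBasisIndex, hrank]))
  -- the submodule `I • X`
  let aug : R G →+* ℤ := (MonoidAlgebra.lift ℤ ℤ (Abelianization G) (1 : (Abelianization G) →* ℤ) : R G →ₐ[ℤ] ℤ)
  have haug : ∀ (a : (Abelianization G)) (n : ℤ), aug (MonoidAlgebra.single a n) = n := fun a n => by simp [aug]
  let Φ : (G → R G) →ₗ[R G] split G := Fintype.linearCombination (R G) (dlt (G := G))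
  let K : Submodule (R G) (split G) := (Submodule.pi Set.univ fun _ : G => RingHom.ker aug).map Φ
  let θ₀ : G →* Multiplicative (split G ⧸ K) :=
    MonoidHom.mk' (fun x => Multiplicative.ofAdd (Submodule.Quotient.mk (dlt x))) fun x y => by
      apply Multiplicative.toAdd.injective
      show (Submodule.Quotient.mk (dlt (x * y)) : split G ⧸ K) =
        Submodule.Quotient.mk (dlt x) + Submodule.Quotient.mk (dlt y)
      rw [← Submodule.Quotient.mk_add, Submodule.Quotient.eq]
      refine ⟨Pi.single y (MonoidAlgebra.single (Abelianization.of x) 1 - 1), fun z _ => ?_, ?_⟩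
      · rcases eq_or_ne z y with rfl | hne
        · simp [RingHom.mem_ker, haug]
        · simp [Pi.single_eq_of_ne hne]
      · show Fintype.linearCombination (R G) (dlt (G := G)) _ = _
        rw [Fintype.linearCombination_apply_single, sub_smul, one_smul, single_smul, one_smul, dlt_mul]
        abel
  let θ : Additive (Abelianization G) →+ split G ⧸ K := MonoidHom.toAdditiveLeft (Abelianization.lift θ₀)
  have hrow : ∀ i : G, ∃ m : G → R G, (∀ x, aug (m x) = (bN i : G → ℤ) x) ∧ ∑ x, m x • dlt x = 0 := by
    intro i
    have h0 : θ (ε (bN i : G → ℤ)) = 0 := by rw [LinearMap.mem_ker.1 (bN i).2, map_zero]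
    rw [Fintype.linearCombination_apply, map_sum] at h0
    have h1 : (Submodule.Quotient.mk (∑ x, (algebraMap ℤ (R G) ((bN i : G → ℤ) x)) • dlt x) : split G ⧸ K) = 0 := by
      rw [← h0, ← Submodule.mkQ_apply, map_sum]
      refine Finset.sum_congr rfl fun x _ => ?_
      rw [map_zsmul, map_smul, algebraMap_smul]
      rfl
    obtain ⟨m, hm, hm'⟩ := (Submodule.Quotient.mk_eq_zero K).1 h1
    refine ⟨fun x => algebraMap ℤ (R G) ((bN i : G → ℤ) x) - m x, fun x => ?_, ?_⟩
    · rw [map_sub, RingHom.mem_ker.1 (hm x trivial), sub_zero]
      simp [MonoidAlgebra.coe_algebraMap, haug]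
    · rw [Fintype.linearCombination_apply] at hm'
      simp only [sub_smul, Finset.sum_sub_distrib, hm', sub_self]
  choose M hMaug hMzero using hrow
  let D : R G := (Matrix.of M).det
  have hD : ∀ x : G, D • (dlt x : split G) = 0 := by
    intro x
    have h1 := congrArg (fun N : Matrix G G (R G) => (∑ z : G, N x z • (dlt z : split G) : split G)) (Matrix.adjugate_mul (Matrix.of M))
    simp only [Matrix.mul_apply, Finset.sum_smul, Matrix.smul_apply, smul_eq_mul, Matrix.one_apply, mul_ite,
      mul_one, mul_zero, ite_smul, zero_smul, Finset.sum_ite_eq, Finset.mem_univ, if_true, Matrix.of_apply,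
      mul_smul] at h1
    rw [Finset.sum_comm] at h1
    simp only [← Finset.smul_sum, hMzero, smul_zero, Finset.sum_const_zero] at h1
    exact h1.symm
  have haugD : (aug D).natAbs = Fintype.card (Abelianization G) := by
    rw [RingHom.map_det, ← hcard, ← Submodule.natAbs_det_basis_change (Pi.basisFun ℤ G) ε.ker bN,
      Pi.basisFun_det_apply]
    congr 2
    ext i x
    exact hMaug i x
  -- the second coordinate
  have hproj : ∀ (r : R G) (x : split G) (b : (Abelianization G)), (r • x).1.2 b = ∑ c, r.coeff c * x.1.2 (c⁻¹ * b) := by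
    intro r x b
    induction r using MonoidAlgebra.induction_linear with
    | zero => simp
    | add r s hr hs =>
      rw [add_smul, AddSubgroup.coe_add, Prod.snd_add, Pi.add_apply, hr, hs, ← Finset.sum_add_distrib]
      refine Finset.sum_congr rfl fun c _ => ?_
      rw [MonoidAlgebra.coeff_add, Finsupp.add_apply, add_mul]
    | single a n =>
      rw [single_smul, AddSubgroup.coe_zsmul, Prod.smul_snd, Pi.smul_apply, tr_snd, smul_eq_mul,
        Finset.sum_eq_single a]
      · rw [MonoidAlgebra.coeff_single, Finsupp.single_eq_same]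
      · intro c _ hc
        rw [MonoidAlgebra.coeff_single, Finsupp.single_eq_of_ne hc, zero_mul]
      · exact fun h => absurd (Finset.mem_univ a) h
  have hconst : ∀ a : (Abelianization G), D.coeff a = D.coeff 1 := by
    intro a
    obtain ⟨x, hx⟩ : ∃ x, Abelianization.of x = a := QuotientGroup.mk_surjective a
    have h1 := hproj D (dlt x) a
    rw [hD x] at h1
    have h2 : ∀ c, (dlt x).1.2 (c⁻¹ * a) = (if c = 1 then 1 else 0) - (if c = a then (1 : ℤ) else 0) := by
      intro c
      show (Pi.single (Abelianization.of x) (1 : ℤ) - Pi.single 1 1 : (Abelianization G) → ℤ) (c⁻¹ * a) = _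
      rw [Pi.sub_apply, Pi.single_apply, Pi.single_apply, hx]
      simp only [inv_mul_eq_iff_eq_mul, right_eq_mul, mul_one, eq_comm (a := a) (b := c)]
    simp only [h2, mul_sub, mul_ite, mul_one, mul_zero, Finset.sum_sub_distrib, Finset.sum_ite_eq',
      Finset.mem_univ, if_true] at h1
    exact (sub_eq_zero.1 h1.symm).symm
  have hsum : D = ∑ a, MonoidAlgebra.single a (D.coeff 1) := by
    conv_lhs => rw [← MonoidAlgebra.sum_coeff_single D]
    rw [Finsupp.sum_fintype _ _ (by simp)]
    exact Finset.sum_congr rfl fun a _ => by rw [hconst a]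
  have hk : (D.coeff 1).natAbs = 1 := by
    have h1 : aug D = (Fintype.card (Abelianization G) : ℤ) * D.coeff 1 := by
      conv_lhs => rw [hsum]
      simp [haug]
    rw [h1, Int.natAbs_mul, Int.natAbs_natCast] at haugD
    exact Nat.eq_of_mul_eq_mul_left Fintype.card_pos (haugD.trans (mul_one _).symm)
  have h2 := congrArg (fun x : split G => x.1.1) (hsum ▸ hD g)
  simp only [Finset.sum_smul, single_smul, ← Finset.smul_sum, AddSubgroup.coe_zsmul, Prod.smul_fst,
    AddSubgroup.val_finset_sum, Prod.fst_sum, AddSubgroup.coe_zero, Prod.fst_zero] at h2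
  rcases Int.natAbs_eq_natAbs_iff.1 (show (D.coeff 1).natAbs = (1 : ℤ).natAbs by rw [hk]; rfl) with h | h
  · simpa [h] using h2
  · simpa [h] using h2

theorem transfer_eq_one (g : G) :
    MonoidHom.transfer (Abelianization.of : commutator G →* Abelianization (commutator G)) g = 1 := by
  classical
  haveI : Finite (Abelianization G) := Finite.of_surjective _ QuotientGroup.mk_surjective
  haveI := Fintype.ofFinite (Abelianization G)
  exact Additive.ofMul.injective ((transfer_eq g).trans (transfer_eq_zero g))

end Cfsg.Lib.SolvStruct.PrincipalIdeal
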