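/-
A p-group (p odd) acting coprimely on an abelian group V, normalized by H: for every a ≠ 1 in it some vector is fixed by
no H-conjugate of a.
-/
import Mathlib
import Cfsg.Agent.SolvStruct.PGroupBasics
import Cfsg.Agent.PGroups.Basic
import Cfsg.Agent.Components.Cores

set_option autoImplicit false
set_option linter.unusedSectionVars false
set_option linter.style.haveILetI false

namespace Cfsg.Lib.CoprimeAvoid

open Subgroup
open scoped Pointwise

universe u

section OddSet

variable {Q : Type u} [Group Q] [Finite Q] {α : Type u} [Finite α] [MulAction Q α] {p : ℕ} [hp : Fact p.Prime]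

theorem odd_sqrt {M : Type*} [Group M] [Finite M] (hM : IsPGroup p M) (hp2 : p ≠ 2) (m : M) :
    ∃ k : ℕ, (m ^ 2) ^ k = m := by
  obtain ⟨e, he⟩ := IsPGroup.iff_orderOf.1 hM m
  have hodd : Odd (orderOf m) := by rw [he]; exact (hp.out.odd_of_ne_two hp2).pow
  obtain ⟨j, hj⟩ := hodd
  exact ⟨j + 1, by rw [← pow_mul, show 2 * (j + 1) = orderOf m + 1 by omega, pow_succ, pow_orderOf_eq_one, one_mul]⟩

/-- A group of odd prime power order has a regular orbit on the subsets of any set on which it acts. -/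
theorem odd_set_aux (hQ : IsPGroup p Q) (hp2 : p ≠ 2) : ∀ (n : ℕ) (M : Subgroup Q) (T : Set α), T.ncard ≤ n →
    (∀ q ∈ M, ∀ x ∈ T, q • x ∈ T) →
    ∃ S ⊆ T, ∀ q ∈ M, (∀ x ∈ T, (q • x ∈ S ↔ x ∈ S)) → ∀ x ∈ T, q • x = x := by
  intro n
  induction n with
  | zero =>
    intro M T hT _
    have : T = ∅ := (Set.ncard_eq_zero T.toFinite).1 (by omega)
    subst this
    exact ⟨∅, le_rfl, fun q _ _ x hx => hx.elim⟩
  | succ n ih =>
    intro M T hcard hT
    rcases T.eq_empty_or_nonempty with rfl | ⟨x, hx⟩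
    · exact ⟨∅, le_rfl, fun q _ _ x hx => hx.elim⟩
    set O : Set α := {y | ∃ q ∈ M, q • x = y} with hO
    have hxO : x ∈ O := ⟨1, one_mem _, one_smul _ _⟩
    have hOT : O ⊆ T := by rintro _ ⟨q, hq, rfl⟩; exact hT q hq x hx
    have hOinv : ∀ q ∈ M, ∀ y ∈ O, q • y ∈ O := by
      rintro q hq _ ⟨r, hr, rfl⟩
      exact ⟨q * r, mul_mem hq hr, mul_smul _ _ _⟩
    by_cases hOne : O ≠ T
    · have h1 : O.ncard < T.ncard := Set.ncard_lt_ncard (lt_of_le_of_ne hOT hOne) T.toFinite
      have h2 : (T \ O).ncard < T.ncard :=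
        Set.ncard_lt_ncard ⟨Set.sdiff_subset, fun h => (h hx).2 hxO⟩ T.toFinite
      obtain ⟨S1, hS1, h1'⟩ := ih M O (by omega) hOinv
      obtain ⟨S2, hS2, h2'⟩ := ih M (T \ O) (by omega) (fun q hq y hy => ⟨hT q hq y hy.1, fun h => hy.2 (by
        simpa using hOinv q⁻¹ (inv_mem hq) _ h)⟩)
      refine ⟨S1 ∪ S2, Set.union_subset (hS1.trans hOT) (hS2.trans Set.sdiff_subset), fun q hq h y hy => ?_⟩
      by_cases hyO : y ∈ O
      · refine h1' q hq (fun z hz => ?_) y hyO
        have := h z (hOT hz)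
        simp only [Set.mem_union] at this
        have e1 : q • z ∉ S2 := fun hh => (hS2 hh).2 (hOinv q hq z hz)
        have e2 : z ∉ S2 := fun hh => (hS2 hh).2 hz
        tauto
      · refine h2' q hq (fun z hz => ?_) y ⟨hy, hyO⟩
        have := h z hz.1
        simp only [Set.mem_union] at this
        have e1 : q • z ∉ S1 := fun hh => hz.2 (by simpa using hOinv q⁻¹ (inv_mem hq) _ (hS1 hh))
        have e2 : z ∉ S1 := fun hh => hz.2 (hS1 hh)
        tauto
    push Not at hOne
    by_cases hfix : ∀ q ∈ M, q • x = x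
    · refine ⟨∅, Set.empty_subset _, fun q hq _ y hy => ?_⟩
      rw [← hOne] at hy
      obtain ⟨r, hr, rfl⟩ := hy
      rw [hfix r hr, hfix q hq]
    set St : Subgroup M := MulAction.stabilizer M x
    obtain hSt | ⟨M', hM', hle⟩ := eq_top_or_exists_le_coatom St
    · exact absurd (fun q hq => ((eq_top_iff' St).1 hSt ⟨q, hq⟩)) hfix
    obtain ⟨hM'n, hM'i⟩ := Cfsg.Lib.PGroups.coatom_normal_index (hQ.to_subgroup M) hM'
    haveI := hM'n
    obtain ⟨r, -, hr⟩ := SetLike.exists_of_lt (lt_top_iff_ne_top.2 hM'.1)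
    set M1 : Subgroup Q := M'.map M.subtype with hM1
    have hM1le : M1 ≤ M := map_subtype_le _
    have hdec : ∀ q : M, ∃ i < p, ∃ m ∈ M', q = r ^ i * m := by
      intro q
      have hcard' : Nat.card (M ⧸ M') = p := by rw [← Subgroup.index_eq_card]; exact hM'i
      have hgen : (q : M ⧸ M') ∈ Subgroup.zpowers (r : M ⧸ M') :=
        mem_zpowers_of_prime_card hcard' (fun h => hr ((QuotientGroup.eq_one_iff r).1 h))
      rw [mem_zpowers_iff] at hgen
      obtain ⟨k, hk⟩ := hgen
      refine ⟨(k % (p : ℤ)).toNat, ?_, (r ^ (k % (p : ℤ)).toNat)⁻¹ * q, ?_, (mul_inv_cancel_left _ _).symm⟩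
      · have h1 : k % (p : ℤ) < p := Int.emod_lt_of_pos k (by exact_mod_cast hp.out.pos)
        have h2 : 0 ≤ k % (p : ℤ) := Int.emod_nonneg k (by exact_mod_cast hp.out.ne_zero)
        omega
      · rw [← QuotientGroup.eq, QuotientGroup.mk_pow, ← hk, ← zpow_natCast,
          Int.toNat_of_nonneg (Int.emod_nonneg _ (by exact_mod_cast hp.out.ne_zero))]
        have : (r : M ⧸ M') ^ (p : ℤ) = 1 := by rw [zpow_natCast, ← hcard', pow_card_eq_one']
        conv_rhs => rw [← Int.emod_add_mul_ediv k p, zpow_add, zpow_mul, this, one_zpow, mul_one]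
    set F0 : Set α := {y | ∃ m ∈ M', (m : Q) • x = y} with hF0
    have hF0T : F0 ⊆ T := by rintro _ ⟨m, -, rfl⟩; exact hT m m.2 x hx
    have hsep : ∀ (i : ℕ), i < p → ∀ y ∈ F0, ((r : Q) ^ i) • y ∈ F0 → i = 0 := by
      rintro i hi _ ⟨m, hm, rfl⟩ ⟨m', hm', he⟩
      by_contra hi0
      have hmem : m'⁻¹ * (r ^ i * m) ∈ St := by
        show ((m'⁻¹ * (r ^ i * m) : M) : Q) • x = x
        simp only [Subgroup.coe_mul, InvMemClass.coe_inv, SubmonoidClass.coe_pow, mul_smul]
        rw [← he, inv_smul_smul]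
      have h3 : r ^ i ∈ M' := by
        have h4 := mul_mem (mul_mem hm' (hle hmem)) (inv_mem hm)
        simpa [mul_assoc] using h4
      rw [← QuotientGroup.eq_one_iff, QuotientGroup.mk_pow, ← orderOf_dvd_iff_pow_eq_one,
        orderOf_eq_prime (x := (r : M ⧸ M')) (p := p)
          (by rw [← hM'i, Subgroup.index_eq_card, pow_card_eq_one'])
          (fun h => hr ((QuotientGroup.eq_one_iff r).1 h))] at h3
      exact absurd (Nat.le_of_dvd (by omega) h3) (by omega)
    have hF0lt : F0.ncard < T.ncard := by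
      refine Set.ncard_lt_ncard ⟨hF0T, fun h => ?_⟩ T.toFinite
      have hxF : x ∈ F0 := ⟨1, one_mem _, by simp⟩
      exact one_ne_zero (hsep 1 hp.out.one_lt x hxF (h (hT _ (pow_mem r.2 1) x hx)))
    have hF0inv : ∀ q ∈ M1, ∀ y ∈ F0, q • y ∈ F0 := by
      rintro _ ⟨q, hq, rfl⟩ _ ⟨m, hm, rfl⟩
      exact ⟨q * m, mul_mem hq hm, by simp [mul_smul]⟩
    obtain ⟨S0, hS0, hreg⟩ := ih M1 F0 (by omega) hF0inv
    set S : Set α := {y | (∃ i < p, i ≠ 0 ∧ ∃ z ∈ S0, (r : Q) ^ i • z = y) ∨ (y ∈ F0 ∧ y ∉ S0)} with hS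
    have hSmem : ∀ i < p, ∀ z ∈ F0, ((r : Q) ^ i • z ∈ S ↔ ((i ≠ 0 ∧ z ∈ S0) ∨ (i = 0 ∧ z ∉ S0))) := by
      intro i hi z hz
      constructor
      · rintro (⟨j, hj, hj0, z', hz', he⟩ | ⟨h1, h2⟩)
        · have hij : j = i := by
            rcases Nat.le_total i j with h | h
            · have := hsep (j - i) (by omega) z' (hS0 hz') (by
                rw [show j = i + (j - i) by omega, pow_add, mul_smul] at he
                rw [smul_left_cancel _ he]; exact hz)
              omega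
            · have := hsep (i - j) (by omega) z hz (by
                rw [show i = j + (i - j) by omega, pow_add, mul_smul] at he
                rw [← smul_left_cancel _ he]; exact hS0 hz')
              omega
          subst hij
          rw [smul_left_cancel _ he] at hz'
          exact Or.inl ⟨hj0, hz'⟩
        · have hi0 := hsep i hi z hz h1
          subst hi0
          rw [pow_zero, one_smul] at h2
          exact Or.inr ⟨rfl, h2⟩
      · rintro (⟨h1, h2⟩ | ⟨rfl, h2⟩)
        · exact Or.inl ⟨i, hi, h1, z, h2, rfl⟩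
        · rw [pow_zero, one_smul]; exact Or.inr ⟨hz, h2⟩
    refine ⟨S, ?_, fun q hq h => ?_⟩
    · rintro y (⟨i, -, -, z, hz, rfl⟩ | ⟨h1, -⟩)
      · exact hT _ (pow_mem r.2 i) z (hF0T (hS0 hz))
      · exact hF0T h1
    obtain ⟨i, hi, m, hm, hqm⟩ := hdec ⟨q, hq⟩
    have hqe : q = (r : Q) ^ i * (m : Q) := by simpa using congrArg Subtype.val hqm
    have htriv : ∀ k : M, k ∈ M' → (∀ z ∈ F0, ((k : Q) • z ∈ S0 ↔ z ∈ S0)) → ∀ z ∈ F0, (k : Q) • z = z :=
      fun k hk hk' => hreg k ⟨k, hk, rfl⟩ hk'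
    by_cases hi0 : i = 0
    · subst hi0
      rw [pow_zero, one_mul] at hqe
      intro y hy
      rw [← hOne] at hy
      obtain ⟨s, hs, rfl⟩ := hy
      obtain ⟨j, hj, m', hm', hsm⟩ := hdec ⟨s, hs⟩
      have hse : s = (r : Q) ^ j * (m' : Q) := by simpa using congrArg Subtype.val hsm
      set k : M := (r ^ j)⁻¹ * m * r ^ j
      have hk : k ∈ M' := by simpa [k] using hM'n.conj_mem m hm (r ^ j)⁻¹
      have hmove : ∀ z : α, q • (r : Q) ^ j • z = (r : Q) ^ j • (k : Q) • z := fun z => by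
        rw [← mul_smul, ← mul_smul, hqe]
        congr 1
        simp [k, mul_assoc]
      have hk' : ∀ z ∈ F0, ((k : Q) • z ∈ S0 ↔ z ∈ S0) := fun z hz => by
        have h1 := h ((r : Q) ^ j • z) (hT _ (pow_mem r.2 j) z (hF0T hz))
        rw [hmove, hSmem j hj _ (hF0inv (k : Q) ⟨k, hk, rfl⟩ z hz), hSmem j hj z hz] at h1
        by_cases hj0 : j = 0
        · simp [hj0] at h1; tauto
        · simp [hj0] at h1; exact h1
      rw [hse, mul_smul, hmove, htriv k hk hk' _ ⟨m', hm', rfl⟩]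
    · exfalso
      have h0 : ∀ z ∈ F0, ((m : Q) • z ∈ S0 ↔ z ∉ S0) := fun z hz => by
        have h1 := h z (hF0T hz)
        rw [hqe, mul_smul, hSmem i hi _ (hF0inv (m : Q) ⟨m, hm, rfl⟩ z hz)] at h1
        have h2 := hSmem 0 hp.out.pos z hz
        rw [pow_zero, one_smul] at h2
        rw [h2] at h1
        simp [hi0] at h1
        exact h1
      have h2 : ∀ z ∈ F0, ((m ^ 2 : M) : Q) • z = z := htriv _ (pow_mem hm 2) fun z hz => by
        rw [sq, Subgroup.coe_mul, mul_smul]
        have e1 := h0 z hz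
        have e2 := h0 _ (hF0inv (m : Q) ⟨m, hm, rfl⟩ z hz)
        tauto
      obtain ⟨k, hk⟩ := odd_sqrt (hQ.to_subgroup M) hp2 m
      have hxF : x ∈ F0 := ⟨1, one_mem _, by simp⟩
      have h3 : ((m ^ 2 : M) : Q) ∈ MulAction.stabilizer Q x := h2 x hxF
      have h4 : (m : Q) • x = x := by
        have := pow_mem h3 k
        rw [← SubmonoidClass.coe_pow, hk] at this
        exact this
      have := h0 x hxF
      rw [h4] at this
      tauto

theorem odd_set (hQ : IsPGroup p Q) (hp2 : p ≠ 2) :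
    ∃ S : Set α, ∀ q : Q, (∀ x, (q • x ∈ S ↔ x ∈ S)) → ∀ x : α, q • x = x := by
  obtain ⟨S, -, h⟩ := odd_set_aux hQ hp2 _ ⊤ (Set.univ : Set α) le_rfl (fun _ _ _ _ => trivial)
  exact ⟨S, fun q hq x => h q (mem_top q) (fun y _ => hq y) x trivial⟩

end OddSet

section Module

variable {V : Type u} [CommGroup V] [Finite V] {p : ℕ} [hp : Fact p.Prime]

/-- conjugation of subgroups of `MulAut V` -/
abbrev cj (d : MulAut V) (B : Subgroup (MulAut V)) : Subgroup (MulAut V) := B.map (MulAut.conj d).toMonoidHom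

theorem cj_cj (d e : MulAut V) (B : Subgroup (MulAut V)) : cj d (cj e B) = cj (d * e) B := by
  rw [cj, cj, cj, Subgroup.map_map, map_mul]; rfl

theorem cj_one (B : Subgroup (MulAut V)) : cj 1 B = B := by
  rw [cj, map_one]; exact Subgroup.map_id _

theorem card_cj (d : MulAut V) (B : Subgroup (MulAut V)) : Nat.card (cj d B) = Nat.card B :=
  Subgroup.card_map_of_injective (MulAut.conj d).injective

theorem cj_of_commute (d : MulAut V) (B : Subgroup (MulAut V)) (h : ∀ b ∈ B, Commute d b) : cj d B = B := by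
  have : ∀ b ∈ B, MulAut.conj d b = b := fun b hb => by
    rw [MulAut.conj_apply, (h b hb).eq, mul_inv_cancel_right]
  ext x
  constructor
  · rintro ⟨b, hb, rfl⟩; exact (this b hb).symm ▸ hb
  · exact fun hx => ⟨x, hx, this x hx⟩

/-- the fixed points of `B` -/
def fixSub (B : Subgroup (MulAut V)) : Subgroup V where
  carrier := {v | ∀ b ∈ B, b v = v}
  one_mem' := fun b _ => map_one b
  mul_mem' := fun {v w} hv hw b hb => by rw [map_mul, hv b hb, hw b hb]
  inv_mem' := fun {v} hv b hb => by rw [map_inv, hv b hb]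

theorem fixSub_cj {d : MulAut V} {B : Subgroup (MulAut V)} {v : V} (hv : v ∈ fixSub B) :
    d v ∈ fixSub (cj d B) := by
  rintro _ ⟨b, hb, rfl⟩
  show (d * b * d⁻¹) (d v) = d v
  rw [← MulAut.mul_apply, inv_mul_cancel_right, MulAut.mul_apply, hv b hb]

noncomputable instance (B : Subgroup (MulAut V)) : Fintype B := Fintype.ofFinite B

/-- the norm map -/
noncomputable def nm (B : Subgroup (MulAut V)) : V →* V where
  toFun v := ∏ b : B, (b : MulAut V) v
  map_one' := by simp
  map_mul' v w := by simp [Finset.prod_mul_distrib]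

theorem nm_mem (B : Subgroup (MulAut V)) (v : V) : nm B v ∈ fixSub B := by
  intro c hc
  show c (∏ b : B, (b : MulAut V) v) = ∏ b : B, (b : MulAut V) v
  rw [map_prod]
  exact Fintype.prod_equiv (Equiv.mulLeft ⟨c, hc⟩) _ _ (fun b => by simp [MulAut.mul_apply])

theorem nm_fixed {B : Subgroup (MulAut V)} {v : V} (hv : v ∈ fixSub B) : nm B v = v ^ Nat.card B := by
  show (∏ b : B, (b : MulAut V) v) = v ^ Nat.card B
  rw [Fintype.prod_congr _ (fun _ => v) (fun b : B => hv (b : MulAut V) b.2), Finset.prod_const, Nat.card_eq_fintype_card]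
  rfl

theorem nm_cj (d : MulAut V) (B : Subgroup (MulAut V)) (v : V) : nm (cj d B) (d v) = d (nm B v) := by
  show (∏ b : cj d B, (b : MulAut V) (d v)) = d (∏ b : B, (b : MulAut V) v)
  rw [map_prod]
  refine (Fintype.prod_equiv (Subgroup.equivMapOfInjective B (MulAut.conj d).toMonoidHom
    (MulAut.conj d).injective).toEquiv _ _ fun b => ?_).symm
  show d ((b : MulAut V) v) = (d * (b : MulAut V) * d⁻¹) (d v)
  rw [← MulAut.mul_apply, ← MulAut.mul_apply, inv_mul_cancel_right]

theorem pow_inj {B : Subgroup (MulAut V)} (hB : IsPGroup p B) (hV : ¬ p ∣ Nat.card V) {v w : V}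
    (h : v ^ Nat.card B = w ^ Nat.card B) : v = w := by
  obtain ⟨n, hn⟩ := IsPGroup.iff_card.1 hB
  have hco : (Nat.card V).Coprime (Nat.card B) := by
    rw [hn]; exact ((hp.out.coprime_iff_not_dvd.2 hV).symm).pow_right n
  exact (powCoprime hco).injective h

theorem card_sup_zpowers {K : Subgroup (MulAut V)} {z : MulAut V} (hz : z ∉ K) (hzp : z ^ p = 1)
    (hcomm : ∀ k ∈ K, Commute z k) : Nat.card ↥(K ⊔ zpowers z) = Nat.card K * p := by
  haveI : Finite (MulAut V) := inferInstance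
  set U := K ⊔ zpowers z
  have hKU : K ≤ U := le_sup_left
  haveI : (K.subgroupOf U).Normal := by
    rw [normal_subgroupOf_iff_le_normalizer hKU]
    refine sup_le le_normalizer (zpowers_le.2 ?_)
    refine mem_normalizer_iff.2 fun k => ⟨fun hk => by rw [(hcomm k hk).eq, mul_inv_cancel_right]; exact hk,
      fun hk => ?_⟩
    have := (hcomm _ hk).eq
    have h' : z * k * z⁻¹ = k := by
      apply mul_left_cancel (a := z)
      rw [this, mul_assoc, inv_mul_cancel, mul_one]
    exact h' ▸ hk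
  have h1 := Cfsg.Lib.Components.card_sup_dvd_mul (G := U) (K.subgroupOf U) ((zpowers z).subgroupOf U)
  rw [← subgroupOf_sup le_sup_left le_sup_right, subgroupOf_self, card_top,
    Nat.card_congr (subgroupOfEquivOfLe hKU).toEquiv,
    Nat.card_congr (subgroupOfEquivOfLe (le_sup_right : zpowers z ≤ U)).toEquiv, Nat.card_zpowers,
    orderOf_eq_prime hzp (fun h => hz (h ▸ one_mem K))] at h1
  obtain ⟨c, hc⟩ := card_dvd_of_le hKU
  rw [hc] at h1 ⊢
  rcases (Nat.dvd_prime hp.out).1 (Nat.dvd_of_mul_dvd_mul_left Nat.card_pos h1) with h | h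
  · exfalso
    exact hz ((eq_of_le_of_card_ge hKU (by rw [hc, h, mul_one])).ge (mem_sup_right (mem_zpowers z)))
  · rw [h]

/-- elementary abelian `p`-subgroups -/
def Elem (p : ℕ) (B : Subgroup (MulAut V)) : Prop :=
  (∀ b ∈ B, b ^ p = 1) ∧ ∀ b ∈ B, ∀ c ∈ B, Commute b c

theorem Elem.pgroup {B : Subgroup (MulAut V)} (hB : Elem p B) : IsPGroup p B :=
  fun b => ⟨1, Subtype.ext (by simpa using hB.1 b b.2)⟩

theorem Elem.mono {B C : Subgroup (MulAut V)} (hB : Elem p B) (h : C ≤ B) : Elem p C :=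
  ⟨fun b hb => hB.1 b (h hb), fun b hb c hc => hB.2 b (h hb) c (h hc)⟩

/-- maximal subgroups of `B` -/
def Hyp (p : ℕ) (B K : Subgroup (MulAut V)) : Prop := K ≤ B ∧ Nat.card B = Nat.card K * p

theorem exists_mem_not {B K : Subgroup (MulAut V)} (h : Hyp p B K) : ∃ z ∈ B, z ∉ K :=
  SetLike.not_le_iff_exists.1 fun hle => by
    have h1 := le_antisymm h.1 hle
    have h2 := h.2
    rw [h1] at h2
    have := hp.out.two_le
    have : 0 < Nat.card B := Nat.card_pos
    nlinarith

theorem hyp_sup {B K : Subgroup (MulAut V)} (hB : Elem p B) (h : Hyp p B K) {z : MulAut V} (hz : z ∈ B)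
    (hzK : z ∉ K) : K ⊔ zpowers z = B :=
  eq_of_le_of_card_ge (sup_le h.1 (zpowers_le.2 hz))
    (by rw [card_sup_zpowers hzK (hB.1 z hz) (fun k hk => hB.2 z hz k (h.1 hk)), h.2])

theorem exists_hyp {B : Subgroup (MulAut V)} (hB : Elem p B) (hne : B ≠ ⊥) : ∃ K, Hyp p B K := by
  obtain ⟨n, hn⟩ := IsPGroup.iff_card.1 hB.pgroup
  rcases n with _ | n
  · exact absurd (Subgroup.card_eq_one.1 (by simpa using hn)) hne
  obtain ⟨K, hK⟩ := Sylow.exists_subgroup_card_pow_prime p (n := n)
    (hn ▸ pow_dvd_pow p (by omega) : p ^ n ∣ Nat.card B)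
  exact ⟨K.map B.subtype, map_subtype_le _,
    by rw [Subgroup.card_map_of_injective B.subtype_injective, hK, hn, pow_succ]⟩

/-- the restriction to an invariant subgroup -/
def restr (W : Subgroup V) (H : Subgroup (MulAut V)) (hH : ∀ h ∈ H, ∀ w ∈ W, h w ∈ W) : H →* MulAut W where
  toFun h :=
    { toFun := fun w => ⟨(h : MulAut V) w, hH h h.2 w w.2⟩
      invFun := fun w => ⟨((h⁻¹ : H) : MulAut V) w, hH _ (h⁻¹).2 w w.2⟩
      left_inv := fun w => Subtype.ext (by
        show ((h⁻¹ : H) : MulAut V) ((h : MulAut V) w) = w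
        rw [← MulAut.mul_apply, InvMemClass.coe_inv, inv_mul_cancel]; rfl)
      right_inv := fun w => Subtype.ext (by
        show (h : MulAut V) (((h⁻¹ : H) : MulAut V) w) = w
        rw [← MulAut.mul_apply, InvMemClass.coe_inv, mul_inv_cancel]; rfl)
      map_mul' := fun v w => Subtype.ext (map_mul _ _ _) }
  map_one' := by ext w; rfl
  map_mul' g h := by ext w; rfl

theorem restr_apply (W : Subgroup V) (H : Subgroup (MulAut V)) (hH : ∀ h ∈ H, ∀ w ∈ W, h w ∈ W) (h : H) (w : W) :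
    ((restr W H hH h w : W) : V) = (h : MulAut V) w := rfl

theorem gen_fix (hV : ¬ p ∣ Nat.card V) : ∀ (n : ℕ) (B : Subgroup (MulAut V)), Nat.card B ≤ n → Elem p B → B ≠ ⊥ →
    ∀ S : Subgroup V, (∀ K, Hyp p B K → fixSub K ≤ S) → S = ⊤ := by
  intro n
  induction n with
  | zero => intro B hB; have : 0 < Nat.card B := Nat.card_pos; omega
  | succ n ih =>
    intro B hcard hB hne S hS
    obtain ⟨B1, hB1⟩ := exists_hyp hB hne
    by_cases hb : B1 = ⊥
    · exact top_le_iff.1 fun v _ => hS B1 hB1 (fun b hb' => by rw [hb, mem_bot] at hb'; subst hb'; rfl)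
    refine ih B1 ?_ (hB.mono hB1.1) hb S fun K1 hK1 w hw => ?_
    · have := hB1.2; have := hp.out.two_le; have : 0 < Nat.card B1 := Nat.card_pos
      nlinarith
    obtain ⟨x, hx, hxB1⟩ := exists_mem_not hB1
    obtain ⟨y, hy, hyK⟩ := exists_mem_not hK1
    have hK1B : K1 ≤ B := hK1.1.trans hB1.1
    have hWinv : ∀ h ∈ B, ∀ v ∈ fixSub K1, h v ∈ fixSub K1 := fun h hh v hv k hk => by
      rw [← MulAut.mul_apply, (hB.2 k (hK1B hk) h hh).eq, MulAut.mul_apply, hv k hk]
    let ρ := restr (fixSub K1) B hWinv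
    have hpow : ∀ g : B, g ^ p = 1 := fun g => Subtype.ext (by simpa using hB.1 g g.2)
    have key := Cfsg.Lib.Coprime.pow_mem_of_fixed (V := fixSub K1) hp.out (x := ρ ⟨x, hx⟩) (y := ρ ⟨y, hB1.1 hy⟩)
      (by rw [← map_pow, hpow, map_one]) (by rw [← map_pow, hpow, map_one])
      ((show Commute (⟨x, hx⟩ : B) ⟨y, hB1.1 hy⟩ from Subtype.ext (hB.2 x hx y (hB1.1 hy)).eq).map ρ) (S := S.subgroupOf (fixSub K1)) ?_ ?_ ⟨w, hw⟩
    · have hco : (Nat.card S).Coprime p :=
        ((hp.out.coprime_iff_not_dvd.2 fun h => hV (h.trans S.card_subgroup_dvd_card))).symm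
      have hw' : w ^ p ∈ S := key
      have hco' : p.Coprime (orderOf w) :=
        (hp.out.coprime_iff_not_dvd.2 fun h => hV (h.trans (orderOf_dvd_natCard w)))
      obtain ⟨m, hm⟩ := exists_pow_eq_self_of_coprime hco'
      rw [← hm]; exact pow_mem hw' m
    · intro v hv
      refine hS B1 hB1 ?_
      intro b hb'
      have hle : B1 ≤ MulAction.stabilizer (MulAut V) (v : V) := by
        rw [← hyp_sup (hB.mono hB1.1) hK1 hy hyK]
        exact sup_le (fun k hk => v.2 k hk) (zpowers_le.2 (congrArg Subtype.val hv))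
      exact hle hb'
    · intro j _ v hv
      set z := x * y ^ j
      have hz : z ∈ B := mul_mem hx (pow_mem (hB1.1 hy) j)
      have hzK : z ∉ K1 := fun h => hxB1 (by
        have := mul_mem (hK1.1 h) (inv_mem (pow_mem hy j))
        rwa [mul_inv_cancel_right] at this)
      refine hS (K1 ⊔ zpowers z) ⟨sup_le hK1B (zpowers_le.2 hz), ?_⟩ ?_
      · rw [card_sup_zpowers hzK (hB.1 z hz) (fun k hk => hB.2 z hz k (hK1B hk)), ← hK1.2, hB1.2]
      · intro b hb'
        have hle : K1 ⊔ zpowers z ≤ MulAction.stabilizer (MulAut V) (v : V) := by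
          refine sup_le (fun k hk => v.2 k hk) (zpowers_le.2 ?_)
          have e : (ρ ⟨x, hx⟩ * ρ ⟨y, hB1.1 hy⟩ ^ j) v = v := hv
          rw [← map_pow, ← map_mul] at e
          exact congrArg Subtype.val e
        exact hle hb'

theorem nm_other {B : Subgroup (MulAut V)} (hB : Elem p B) (hBfix : fixSub B = ⊥)
    {K L : Subgroup (MulAut V)} (hK : Hyp p B K) (hL : Hyp p B L) (hne : K ≠ L) {w : V}
    (hw : w ∈ fixSub L) : nm K w = 1 := by
  rw [← mem_bot, ← hBfix]
  obtain ⟨z, hz, hzK⟩ : ∃ z ∈ L, z ∉ K := SetLike.not_le_iff_exists.1 fun h => hne (eq_of_le_of_card_ge h (by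
    have := hK.2.symm.trans hL.2
    exact (Nat.eq_of_mul_eq_mul_right hp.out.pos this).le)).symm
  intro b hb
  have hle : B ≤ MulAction.stabilizer (MulAut V) (nm K w) := by
    rw [← hyp_sup hB hK (hL.1 hz) hzK]
    refine sup_le (fun k hk => nm_mem K w k hk) (zpowers_le.2 ?_)
    show z (nm K w) = nm K w
    rw [← nm_cj, cj_of_commute z K (fun k hk => hB.2 z (hL.1 hz) k (hK.1 hk)), hw z hz]
  exact hle hb

/-- A vector with prescribed support. -/
theorem support {B : Subgroup (MulAut V)} (hB : Elem p B) (hV : ¬ p ∣ Nat.card V) (hBfix : fixSub B = ⊥)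
    (s : Set (Subgroup (MulAut V))) (hs : ∀ K ∈ s, Hyp p B K) (w : Subgroup (MulAut V) → V)
    (hw : ∀ K ∈ s, w K ∈ fixSub K ∧ w K ≠ 1) :
    ∃ v : V, (s.Nonempty → v ≠ 1) ∧ ∀ d : MulAut V, cj d B = B → d v = v →
      ∀ K ∈ s, cj d K ∈ s ∧ d (w K) = w (cj d K) := by
  classical
  haveI : Fintype s := Fintype.ofFinite s
  set v := ∏ K ∈ s.toFinset, w K with hv
  have hnm : ∀ K, Hyp p B K → nm K v = if K ∈ s then (w K) ^ Nat.card K else 1 := by
    intro K hK
    rw [hv, map_prod]
    split_ifs with h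
    · rw [Finset.prod_eq_single K]
      · exact nm_fixed (hw K h).1
      · intro L hL hne
        rw [Set.mem_toFinset] at hL
        exact nm_other hB hBfix hK (hs L hL) hne.symm (hw L hL).1
      · exact fun h' => absurd (Set.mem_toFinset.2 h) h'
    · exact Finset.prod_eq_one fun L hL => by
        rw [Set.mem_toFinset] at hL
        exact nm_other hB hBfix hK (hs L hL) (fun e => h (e ▸ hL)) (hw L hL).1
  refine ⟨v, fun ⟨K, hK⟩ hv1 => ?_, fun d hd hdv K hK => ?_⟩
  · have h1 := hnm K (hs K hK)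
    rw [hv1, map_one, if_pos hK] at h1
    exact (hw K hK).2 (pow_inj (hB.mono (hs K hK).1).pgroup hV (by rw [← h1, one_pow]))
  · have hKd : Hyp p B (cj d K) := ⟨hd ▸ Subgroup.map_mono (hs K hK).1, by rw [card_cj]; exact (hs K hK).2⟩
    have h1 := nm_cj d K v
    rw [hdv, hnm K (hs K hK), if_pos hK, hnm _ hKd] at h1
    split_ifs at h1 with h
    · rw [map_pow, card_cj] at h1
      exact ⟨h, (pow_inj (hB.mono (hs K hK).1).pgroup hV h1).symm⟩
    · exfalso
      have h2 : w K ^ Nat.card K = 1 := d.injective (by rw [← h1, map_one])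
      exact (hw K hK).2 (pow_inj (hB.mono (hs K hK).1).pgroup hV (by rw [h2, one_pow]))

/-- The hypotheses of the avoidance statement. -/
structure Setup (p : ℕ) (H P : Subgroup (MulAut V)) (a : MulAut V) : Prop where
  le : P ≤ H
  norm : ∀ h ∈ H, ∀ x ∈ P, h * x * h⁻¹ ∈ P
  pgroup : IsPGroup p P
  cop : ¬ p ∣ Nat.card V
  mem : a ∈ P

/-- no conjugate of `a` fixes `v` -/
def Avoids (H : Subgroup (MulAut V)) (a : MulAut V) (v : V) : Prop := ∀ h ∈ H, (h * a * h⁻¹) v ≠ v

/-- the inductive hypothesis -/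
def Below (p : ℕ) (W : Subgroup V) : Prop :=
  W ≠ ⊤ → ∀ (H P : Subgroup (MulAut W)) (a : MulAut W), Setup p H P a → a ≠ 1 → ∃ w, Avoids H a w

theorem of_invariant {H P : Subgroup (MulAut V)} {a : MulAut V} (hs : Setup p H P a) (W : Subgroup V)
    (hih : Below p W) (hW : W ≠ ⊤) (H' : Subgroup (MulAut V)) (hH' : H' ≤ H) (haH : a ∈ H')
    (hinv : ∀ h ∈ H', ∀ w ∈ W, h w ∈ W) (hnt : ∃ w ∈ W, a w ≠ w) :
    ∃ w ∈ W, ∀ h ∈ H', (h * a * h⁻¹) w ≠ w := by
  let ρ := restr W H' hinv
  obtain ⟨w₀, hw₀, hw₀'⟩ := hnt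
  have hP : IsPGroup p (P.subgroupOf H') :=
    IsPGroup.of_injective (hs.pgroup) ((H'.subtype.comp (P.subgroupOf H').subtype).codRestrict P fun x => x.2)
      (fun x y h => Subtype.ext (Subtype.ext (congrArg (fun z : P => (z : MulAut V)) h)))
  obtain ⟨w, hw⟩ := hih hW ρ.range ((P.subgroupOf H').map ρ) (ρ ⟨a, haH⟩)
    { le := Subgroup.map_le_range _ _
      norm := by
        rintro _ ⟨h, rfl⟩ _ ⟨x, hx, rfl⟩
        exact ⟨h * x * h⁻¹, hs.norm _ (hH' h.2) _ hx, by simp⟩
      pgroup := hP.map ρ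
      cop := fun h => hs.cop (h.trans W.card_subgroup_dvd_card)
      mem := ⟨⟨a, haH⟩, hs.mem, rfl⟩ }
    (fun h => hw₀' (by
      have := congrArg (fun f : MulAut W => ((f ⟨w₀, hw₀⟩ : W) : V)) h
      exact this))
  refine ⟨w, w.2, fun h hh he => hw (ρ ⟨h, hh⟩) ⟨⟨h, hh⟩, rfl⟩ ?_⟩
  rw [← map_inv, ← map_mul, ← map_mul]
  exact Subtype.ext he

theorem avoid_split {H P B : Subgroup (MulAut V)} {a : MulAut V} (hs : Setup p H P a) (ha : a ≠ 1)
    (hB : B ≤ P) (hBn : ∀ h ∈ H, cj h B = B) (hB1 : B ≠ ⊥) (hfix : fixSub B ≠ ⊥)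
    (hih : ∀ W : Subgroup V, Below p W) : ∃ v, Avoids H a v := by
  have hW1 : ∀ h ∈ H, ∀ w ∈ fixSub B, h w ∈ fixSub B := fun h hh w hw => (hBn h hh) ▸ fixSub_cj hw
  have hW2 : ∀ h ∈ H, ∀ w ∈ (nm B).ker, h w ∈ (nm B).ker := fun h hh w hw => by
    rw [MonoidHom.mem_ker] at hw ⊢
    have := nm_cj h B w
    rw [hBn h hh, hw, map_one] at this
    exact this
  have hBp : IsPGroup p B := hs.pgroup.to_le hB
  have hne1 : fixSub B ≠ ⊤ := fun h => hB1 ((eq_bot_iff).2 fun b hb => mem_bot.2 (by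
    ext v
    exact (h ▸ mem_top v : v ∈ fixSub B) b hb))
  have hne2 : (nm B).ker ≠ ⊤ := fun h => hfix ((eq_bot_iff).2 fun w hw => mem_bot.2 (by
    have h1 : nm B w = 1 := (h ▸ mem_top w : w ∈ (nm B).ker)
    rw [nm_fixed hw] at h1
    exact pow_inj hBp hs.cop (by rw [h1, one_pow])))
  by_cases h1 : ∃ w ∈ fixSub B, a w ≠ w
  · obtain ⟨w, -, hw⟩ := of_invariant hs _ (hih _) hne1 H le_rfl (hs.le hs.mem) hW1 h1
    exact ⟨w, hw⟩
  by_cases h2 : ∃ w ∈ (nm B).ker, a w ≠ w
  · obtain ⟨w, -, hw⟩ := of_invariant hs _ (hih _) hne2 H le_rfl (hs.le hs.mem) hW2 h2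
    exact ⟨w, hw⟩
  exfalso
  push Not at h1 h2
  refine ha ?_
  ext v
  show a v = v
  apply pow_inj hBp hs.cop
  have hker : v ^ Nat.card B * (nm B v)⁻¹ ∈ (nm B).ker := by
    rw [MonoidHom.mem_ker, map_mul, map_inv, map_pow, nm_fixed (nm_mem B v)]
    exact mul_inv_cancel _
  have := h2 _ hker
  rw [map_mul, map_inv, h1 _ (nm_mem B v), map_pow] at this
  exact mul_right_cancel this

theorem avoid_blocks {H P B : Subgroup (MulAut V)} {a : MulAut V} (hs : Setup p H P a) (ha : a ≠ 1)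
    (hp2 : p ≠ 2) (hB : Elem p B) (hBn : ∀ h ∈ H, cj h B = B) (hcard : p < Nat.card B)
    (hfix : fixSub B = ⊥) (hih : ∀ W : Subgroup V, Below p W) : ∃ v, Avoids H a v := by
  classical
  have hB1 : B ≠ ⊥ := fun h => by rw [h, card_bot] at hcard; have := hp.out.one_lt; omega
  set 𝒦 : Set (Subgroup (MulAut V)) := {K | Hyp p B K ∧ fixSub K ≠ ⊥} with h𝒦
  have h𝒦inv : ∀ h ∈ H, ∀ K ∈ 𝒦, cj h K ∈ 𝒦 := by
    rintro h hh K ⟨hK, hK'⟩
    refine ⟨⟨hBn h hh ▸ Subgroup.map_mono hK.1, by rw [card_cj]; exact hK.2⟩, fun he => hK' ?_⟩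
    rw [eq_bot_iff] at he ⊢
    exact fun w hw => mem_bot.2 (h.injective (by rw [map_one]; exact mem_bot.1 (he (fixSub_cj hw))))
  by_cases hmove : ∀ K ∈ 𝒦, cj a K = K
  · obtain ⟨K0, hK0, hnt⟩ : ∃ K ∈ 𝒦, ∃ w ∈ fixSub K, a w ≠ w := by
      by_contra hno
      push Not at hno
      refine ha ?_
      ext v
      have htop := gen_fix hs.cop _ B le_rfl hB hB1
        { carrier := {v | a v = v}
          one_mem' := map_one a
          mul_mem' := fun {v w} hv hw => by show a (v * w) = v * w; rw [map_mul, hv, hw]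
          inv_mem' := fun {v} hv => by show a v⁻¹ = v⁻¹; rw [map_inv, hv] } (fun K hK w hw => by
          by_cases hKb : fixSub K = ⊥
          · rw [hKb, mem_bot] at hw; subst hw; exact map_one a
          · exact hno K ⟨hK, hKb⟩ w hw)
      exact (htop ▸ mem_top v : v ∈ _)
    have hW : fixSub K0 ≠ ⊤ := fun h => by
      have hb : K0 = ⊥ := (eq_bot_iff).2 fun b hb => mem_bot.2 (by
        ext v
        exact (h ▸ mem_top v : v ∈ fixSub K0) b hb)
      rw [hK0.1.2, hb, card_bot, one_mul] at hcard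
      exact lt_irrefl _ hcard
    let H' : Subgroup (MulAut V) :=
      { carrier := {h | h ∈ H ∧ cj h K0 = K0}
        one_mem' := ⟨one_mem _, cj_one _⟩
        mul_mem' := fun {g h} hg hh => ⟨mul_mem hg.1 hh.1, by rw [← cj_cj, hh.2, hg.2]⟩
        inv_mem' := fun {h} hh => ⟨inv_mem hh.1, by
          conv_lhs => rw [← hh.2]
          rw [cj_cj, inv_mul_cancel, cj_one]⟩ }
    obtain ⟨w, hw, hwav⟩ := of_invariant hs (fixSub K0) (hih _) hW H' (fun h hh => hh.1)
      ⟨hs.le hs.mem, hmove K0 hK0⟩ (fun h hh x hx => hh.2 ▸ fixSub_cj hx) hnt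
    have hw1 : w ≠ 1 := fun h => hwav 1 (one_mem _) (by rw [h, map_one])
    let s : Set (Subgroup (MulAut V)) := {K | ∃ h ∈ H, cj h K0 = K}
    let tr : Subgroup (MulAut V) → MulAut V := fun K => if hK : K ∈ s then hK.choose else 1
    have htr : ∀ K ∈ s, tr K ∈ H ∧ cj (tr K) K0 = K := fun K hK => by
      simp only [tr, dif_pos hK]; exact hK.choose_spec
    obtain ⟨v, -, hv⟩ := support hB hs.cop hfix s
      (fun K ⟨h, hh, he⟩ => he ▸ (h𝒦inv h hh K0 hK0).1) (fun K => tr K w)
      (fun K hK => ⟨by simpa [(htr K hK).2] using fixSub_cj (d := tr K) hw,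
        fun e => hw1 ((tr K).injective (e.trans (map_one _).symm))⟩)
    refine ⟨v, fun g hg he => ?_⟩
    set d := g * a * g⁻¹
    have hdH : d ∈ H := mul_mem (mul_mem hg (hs.le hs.mem)) (inv_mem hg)
    set K1 := cj g K0
    have hK1 : K1 ∈ s := ⟨g, hg, rfl⟩
    have hdK : cj d K1 = K1 := by
      rw [cj_cj, inv_mul_cancel_right, ← cj_cj, hmove K0 hK0]
    obtain ⟨-, h2⟩ := hv d (hBn d hdH) he K1 hK1
    simp only [hdK] at h2
    obtain ⟨hh, hhe⟩ := htr K1 hK1
    set h := tr K1
    refine hwav (h⁻¹ * g) ⟨mul_mem (inv_mem hh) hg, ?_⟩ ?_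
    · rw [← cj_cj]
      show cj h⁻¹ K1 = K0
      rw [← hhe, cj_cj, inv_mul_cancel, cj_one]
    · rw [show h⁻¹ * g * a * (h⁻¹ * g)⁻¹ = h⁻¹ * d * h by simp [d, mul_assoc]]
      rw [MulAut.mul_apply, MulAut.mul_apply, h2, ← MulAut.mul_apply, inv_mul_cancel, MulAut.one_apply]
  · push Not at hmove
    obtain ⟨K0, hK0, hK0a⟩ := hmove
    letI : MulAction P 𝒦 :=
      { smul := fun x K => ⟨cj (x : MulAut V) K, h𝒦inv _ (hs.le x.2) K K.2⟩
        one_smul := fun K => Subtype.ext (cj_one _)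
        mul_smul := fun x y K => Subtype.ext (cj_cj _ _ _).symm }
    obtain ⟨S, hS⟩ := odd_set (Q := P) (α := 𝒦) hs.pgroup hp2
    choose wsel hwsel hwne using fun K : 𝒦 =>
      (Subgroup.bot_or_exists_ne_one (fixSub (K : Subgroup (MulAut V)))).resolve_left K.2.2
    obtain ⟨v, -, hv⟩ := support hB hs.cop hfix (Subtype.val '' S)
      (fun K ⟨K', _, he⟩ => he ▸ K'.2.1) (fun K => if hK : K ∈ 𝒦 then wsel ⟨K, hK⟩ else 1)
      (fun K ⟨K', _, he⟩ => by subst he; rw [dif_pos K'.2]; exact ⟨hwsel K', hwne K'⟩)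
    refine ⟨v, fun g hg he => hK0a ?_⟩
    set d : P := ⟨g * a * g⁻¹, hs.norm g hg a hs.mem⟩ with hd
    have hfwd : ∀ K : 𝒦, K ∈ S → d • K ∈ S := fun K hK => by
      obtain ⟨⟨K', hK', he'⟩, -⟩ := hv d (hBn _ (hs.le d.2)) he K ⟨K, hK, rfl⟩
      exact (Subtype.ext he' : K' = d • K) ▸ hK'
    have hpowfwd : ∀ (k : ℕ) (K : 𝒦), K ∈ S → d ^ k • K ∈ S := by
      intro k
      induction k with
      | zero => intro K hK; rwa [pow_zero, one_smul]
      | succ k ihk => intro K hK; rw [pow_succ', mul_smul]; exact hfwd _ (ihk K hK)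
    have htriv := hS d (fun K => ⟨fun h => by
      have := hpowfwd (orderOf d - 1) _ h
      rwa [← mul_smul, ← pow_succ, Nat.sub_add_cancel (orderOf_pos d), pow_orderOf_eq_one, one_smul] at this,
      hfwd K⟩) ⟨cj g K0, h𝒦inv g hg K0 hK0⟩
    have h1 : cj (g * a * g⁻¹) (cj g K0) = cj g K0 := congrArg Subtype.val htriv
    rw [cj_cj, inv_mul_cancel_right, ← cj_cj] at h1
    exact Subgroup.map_injective (f := (MulAut.conj g).toMonoidHom) (MulAut.conj g).injective h1

/-- the case in which all normal elementary abelian subgroups are cyclic and fixed point free -/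
theorem avoid_extraspecial {H P : Subgroup (MulAut V)} {a : MulAut V} (hs : Setup p H P a) (ha : a ≠ 1)
    (hap : a ^ p = 1) (hp2 : p ≠ 2)
    (hnorm : ∀ B ≤ P, Elem p B → (∀ h ∈ H, cj h B = B) → B ≠ ⊥ → Nat.card B ≤ p ∧ fixSub B = ⊥) :
    ∃ v, Avoids H a v := by
  classical
  have hnormal : ∀ B ≤ P, (∀ h ∈ H, ∀ x ∈ B, h * x * h⁻¹ ∈ B) → ∀ h ∈ H, cj h B = B := by
    intro B _ hB h hh
    refine eq_of_le_of_card_ge ?_ (card_cj h B).ge
    rintro _ ⟨x, hx, rfl⟩
    exact hB h hh x hx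
  -- central elements of order dividing `p`
  let Z0 : Subgroup (MulAut V) :=
    { carrier := {x | x ∈ P ∧ x ^ p = 1 ∧ ∀ y ∈ P, Commute x y}
      one_mem' := ⟨one_mem _, one_pow _, fun y _ => Commute.one_left y⟩
      mul_mem' := fun {x y} hx hy => ⟨mul_mem hx.1 hy.1, by rw [(hx.2.2 y hy.1).mul_pow, hx.2.1, hy.2.1, one_mul],
        fun z hz => (hx.2.2 z hz).mul_left (hy.2.2 z hz)⟩
      inv_mem' := fun {x} hx => ⟨inv_mem hx.1, by rw [inv_pow, hx.2.1, inv_one], fun z hz => (hx.2.2 z hz).inv_left⟩ }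
  have hconjP : ∀ h ∈ H, ∀ x : MulAut V, (∀ y ∈ P, Commute x y) → ∀ y ∈ P, Commute (h * x * h⁻¹) y := by
    intro h hh x hx y hy
    have h1 := hx _ (hs.norm h⁻¹ (inv_mem hh) y hy)
    have h2 := h1.map (MulAut.conj h).toMonoidHom
    simpa [mul_assoc] using h2
  have hZ0el : Elem p Z0 := ⟨fun b hb => hb.2.1, fun b hb c hc => hb.2.2 c hc.1⟩
  have hZ0n : ∀ h ∈ H, ∀ x ∈ Z0, h * x * h⁻¹ ∈ Z0 := fun h hh x hx =>
    ⟨hs.norm h hh x hx.1, by rw [conj_pow, hx.2.1, mul_one, mul_inv_cancel], hconjP h hh x hx.2.2⟩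
  haveI : Nontrivial P := ⟨⟨⟨a, hs.mem⟩, 1, fun h => ha (congrArg Subtype.val h)⟩⟩
  obtain ⟨z, hzP, hz1, hzp, hzc⟩ : ∃ z ∈ P, z ≠ 1 ∧ z ^ p = 1 ∧ ∀ y ∈ P, Commute z y := by
    obtain ⟨z, -, hzc, hz⟩ := Cfsg.Lib.PGroups.exists_mem_center_of_normal_ne_bot hs.pgroup
      (N := (⊤ : Subgroup P)) (fun h => (bot_ne_top (α := Subgroup P)) h.symm)
    refine ⟨z, z.2, fun h => ?_, ?_, fun y hy => ?_⟩
    · rw [← Subgroup.orderOf_coe, h, orderOf_one] at hz; exact hp.out.ne_one hz.symm
    · rw [← hz, ← Subgroup.orderOf_coe, pow_orderOf_eq_one]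
    · exact congrArg Subtype.val (Subgroup.mem_center_iff.1 hzc ⟨y, hy⟩).symm
  have hzZ0 : z ∈ Z0 := ⟨hzP, hzp, hzc⟩
  have hZ0ne : Z0 ≠ ⊥ := fun h => hz1 (mem_bot.1 (h ▸ hzZ0))
  obtain ⟨hZ0le, hZ0fix⟩ := hnorm Z0 (fun x hx => hx.1) hZ0el (hnormal _ (fun x hx => hx.1) hZ0n) hZ0ne
  have hZ0z : Z0 = zpowers z := (eq_of_le_of_card_ge (zpowers_le.2 hzZ0) (by
    rw [Nat.card_zpowers, orderOf_eq_prime hzp hz1]; exact hZ0le)).symm
  have hcardZ0 : Nat.card Z0 = p := by rw [hZ0z, Nat.card_zpowers, orderOf_eq_prime hzp hz1]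
  have hzfpf : ∀ v : V, z v = v → v = 1 := fun v hv => by
    rw [← mem_bot, ← hZ0fix]
    intro b hb
    exact (show Z0 ≤ MulAction.stabilizer (MulAut V) v by rw [hZ0z]; exact zpowers_le.2 hv) hb
  -- the second centre
  have hcube : ∀ x y c : MulAut V, x * y = c * (y * x) → Commute c x → Commute c y → c ^ p = 1 →
      x ^ p = 1 → y ^ p = 1 → (y * x) ^ p = 1 := by
    intro x y c hxy hcx hcy hc hx hy
    have hswap : ∀ n : ℕ, x ^ n * y = c ^ n * (y * x ^ n) := by
      intro n
      induction n with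
      | zero => simp
      | succ n ihn =>
        calc x ^ (n + 1) * y = x ^ n * (x * y) := by rw [pow_succ, mul_assoc]
          _ = x ^ n * c * (y * x) := by rw [hxy, mul_assoc]
          _ = c * x ^ n * (y * x) := by rw [(hcx.symm.pow_left n).eq]
          _ = c * (x ^ n * y) * x := by simp only [mul_assoc]
          _ = c * (c ^ n * (y * x ^ n)) * x := by rw [ihn]
          _ = c ^ (n + 1) * (y * x ^ (n + 1)) := by rw [pow_succ' c, pow_succ x]; simp only [mul_assoc]
    have hformula : ∀ n : ℕ, (y * x) ^ n = c ^ n.choose 2 * (y ^ n * x ^ n) := by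
      intro n
      induction n with
      | zero => simp
      | succ n ihn =>
        calc (y * x) ^ (n + 1) = c ^ n.choose 2 * (y ^ n * (x ^ n * y) * x) := by
              rw [pow_succ, ihn]; simp only [mul_assoc]
          _ = c ^ n.choose 2 * (y ^ n * (c ^ n * (y * x ^ n)) * x) := by rw [hswap]
          _ = c ^ n.choose 2 * ((y ^ n * c ^ n) * (y * x ^ n * x)) := by simp only [mul_assoc]
          _ = c ^ n.choose 2 * ((c ^ n * y ^ n) * (y * x ^ n * x)) := by rw [(hcy.pow_pow n n).symm.eq]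
          _ = c ^ (n + 1).choose 2 * (y ^ (n + 1) * x ^ (n + 1)) := by
              rw [Nat.choose_succ_succ' n 1, Nat.choose_one_right, add_comm n, pow_add, pow_succ, pow_succ]
              simp only [mul_assoc]
    rw [hformula, hx, hy, mul_one, mul_one]
    obtain ⟨k, hk⟩ : p ∣ p.choose 2 :=
      hp.out.dvd_choose_self (by omega) (lt_of_le_of_ne hp.out.two_le (Ne.symm hp2))
    rw [hk, pow_mul, hc, one_pow]
  let D : Subgroup (MulAut V) :=
    { carrier := {x | x ∈ P ∧ x ^ p = 1 ∧ ∀ y ∈ P, x * y * x⁻¹ * y⁻¹ ∈ Z0}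
      one_mem' := ⟨one_mem _, one_pow _, fun y _ => by simpa using one_mem Z0⟩
      mul_mem' := fun {x y} hx hy => by
        refine ⟨mul_mem hx.1 hy.1, ?_, fun w hw => ?_⟩
        · have hc := hy.2.2 x hx.1
          refine hcube y x (y * x * y⁻¹ * x⁻¹) (by group) (hc.2.2 y hy.1) (hc.2.2 x hx.1) hc.2.1 hy.2.1 hx.2.1
        · have h1 := hy.2.2 w hw
          have h2 : x * y * w * (x * y)⁻¹ * w⁻¹ = x * (y * w * y⁻¹ * w⁻¹) * x⁻¹ * (x * w * x⁻¹ * w⁻¹) := by group
          rw [h2, ← (h1.2.2 x hx.1).eq, mul_inv_cancel_right]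
          exact mul_mem h1 (hx.2.2 w hw)
      inv_mem' := fun {x} hx => by
        refine ⟨inv_mem hx.1, by rw [inv_pow, hx.2.1, inv_one], fun w hw => ?_⟩
        have h1 := hx.2.2 w hw
        have h2 : x⁻¹ * w * x⁻¹⁻¹ * w⁻¹ = x⁻¹ * (x * w * x⁻¹ * w⁻¹)⁻¹ * x := by group
        rw [h2, ← ((h1.2.2 x hx.1).inv_inv).eq, inv_mul_cancel_right]
        exact inv_mem h1 }
  have hDP : D ≤ P := fun x hx => hx.1
  have hZ0D : Z0 ≤ D := fun x hx => ⟨hx.1, hx.2.1, fun y hy => by
    rw [(hx.2.2 y hy).eq, mul_inv_cancel_right, mul_inv_cancel]; exact one_mem _⟩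
  have hDn : ∀ h ∈ H, ∀ x ∈ D, h * x * h⁻¹ ∈ D := fun h hh x hx =>
    ⟨hs.norm h hh x hx.1, by rw [conj_pow, hx.2.1, mul_one, mul_inv_cancel], fun y hy => by
      have h1 := hZ0n h hh _ (hx.2.2 _ (hs.norm h⁻¹ (inv_mem hh) y hy))
      simpa [mul_assoc] using h1⟩
  have hcomm : ∀ x ∈ D, ∀ y ∈ P, x * y * x⁻¹ * y⁻¹ ∈ Z0 := fun x hx => hx.2.2
  have hDcenter : ∀ x ∈ D, (∀ y ∈ D, Commute x y) → x ∈ Z0 := by
    let ZD : Subgroup (MulAut V) := D ⊓ centralizer (D : Set (MulAut V))
    have hel : Elem p ZD := ⟨fun b hb => hb.1.2.1, fun b hb c hc => (mem_centralizer_iff.1 hb.2 c hc.1).symm⟩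
    have hn : ∀ h ∈ H, ∀ x ∈ ZD, h * x * h⁻¹ ∈ ZD := fun h hh x hx => ⟨hDn h hh x hx.1, by
      refine mem_centralizer_iff.2 fun y hy => ?_
      have h1 : Commute (h⁻¹ * y * h⁻¹⁻¹) x := mem_centralizer_iff.1 hx.2 _ (hDn h⁻¹ (inv_mem hh) y hy)
      simpa [Commute, SemiconjBy, mul_assoc] using h1.map (MulAut.conj h).toMonoidHom⟩
    have hle : Z0 ≤ ZD := fun x hx => ⟨hZ0D hx, mem_centralizer_iff.2 fun y hy => (hx.2.2 y (hDP hy)).symm.eq⟩
    have hb : ZD ≠ ⊥ := fun h => hZ0ne (le_bot_iff.1 (h ▸ hle))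
    have heq : Z0 = ZD := eq_of_le_of_card_ge hle (by
      rw [hcardZ0]
      exact (hnorm ZD (fun x hx => hDP hx.1) hel (hnormal _ (fun x hx => hDP hx.1) hn) hb).1)
    intro x hx hxc
    rw [heq]
    exact ⟨hx, mem_centralizer_iff.2 fun y hy => (hxc y hy).symm.eq⟩
  set C : Subgroup (MulAut V) := P ⊓ centralizer (D : Set (MulAut V)) with hC
  -- `P = D C`
  have hPDC : ∀ y ∈ P, ∃ d ∈ D, ∃ c ∈ C, y = d * c := by
    have hidx : ∀ F : Finset (MulAut V), (↑F : Set (MulAut V)) ⊆ D →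
        (P ⊓ centralizer (F : Set (MulAut V))).relIndex P ≤ Z0.relIndex (Z0 ⊔ closure (F : Set (MulAut V))) := by
      intro F
      induction F using Finset.induction_on with
      | empty =>
        intro _
        have : centralizer (∅ : Set (MulAut V)) = ⊤ := by ext w; simp [mem_centralizer_iff]
        simp [this]
      | insert s F hsF ihF =>
        intro hsub
        rw [Finset.coe_insert, Set.insert_subset_iff] at hsub
        specialize ihF hsub.2
        set T := Z0 ⊔ closure (F : Set (MulAut V)) with hT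
        set T' := Z0 ⊔ closure (↑(insert s F) : Set (MulAut V)) with hT'
        have hTT : T ≤ T' := sup_le_sup_left (Subgroup.closure_mono (by simp)) _
        by_cases hsT : s ∈ T
        · have e : P ⊓ centralizer (↑(insert s F) : Set (MulAut V)) = P ⊓ centralizer (F : Set (MulAut V)) := by
            refine le_antisymm (inf_le_inf_left _ (centralizer_le (by simp))) fun x hx => ⟨hx.1, ?_⟩
            have hle : T ≤ centralizer ({x} : Set (MulAut V)) := by
              refine sup_le (fun w hw => ?_) ((closure_le _).2 fun w hw => ?_)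
              · exact mem_centralizer_singleton_iff.2 (hw.2.2 x hx.1).eq
              · exact mem_centralizer_singleton_iff.2 (mem_centralizer_iff.1 hx.2 w hw)
            refine mem_centralizer_iff.2 fun w hw => ?_
            rw [Finset.coe_insert] at hw
            rcases hw with rfl | hw
            · exact mem_centralizer_singleton_iff.1 (hle hsT)
            · exact mem_centralizer_iff.1 hx.2 w hw
          rw [e]
          refine ihF.trans ?_
          exact Nat.le_of_dvd (Nat.pos_of_ne_zero index_ne_zero_of_finite)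
            (Dvd.intro _ (relIndex_mul_relIndex Z0 T T' le_sup_left hTT))
        · set E := P ⊓ centralizer (F : Set (MulAut V)) with hE
          let f : E →* Z0 :=
            { toFun := fun y => ⟨s * y * s⁻¹ * (y : MulAut V)⁻¹, hcomm s hsub.1 y y.2.1⟩
              map_one' := Subtype.ext (by simp)
              map_mul' := fun x y => Subtype.ext (by
                have h1 := (hcomm s hsub.1 y y.2.1).2.2 x x.2.1
                show s * (x * y : MulAut V) * s⁻¹ * (x * y : MulAut V)⁻¹ =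
                  s * x * s⁻¹ * (x : MulAut V)⁻¹ * (s * y * s⁻¹ * (y : MulAut V)⁻¹)
                rw [show s * (x * y : MulAut V) * s⁻¹ * (x * y : MulAut V)⁻¹ = s * x * s⁻¹ *
                  ((s * y * s⁻¹ * (y : MulAut V)⁻¹) * (x : MulAut V)⁻¹) by group, h1.inv_right.eq]
                group) }
          have hker : f.ker.map E.subtype ≤ P ⊓ centralizer (↑(insert s F) : Set (MulAut V)) := by
            rintro _ ⟨y, hy, rfl⟩
            refine ⟨y.2.1, mem_centralizer_iff.2 fun w hw => ?_⟩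
            rw [Finset.coe_insert] at hw
            rcases hw with rfl | hw
            · have h1 : w * (y : MulAut V) * w⁻¹ * (y : MulAut V)⁻¹ = 1 := congrArg Subtype.val hy
              show w * (y : MulAut V) = (y : MulAut V) * w
              rw [mul_inv_eq_one, mul_inv_eq_iff_eq_mul] at h1
              exact h1
            · exact mem_centralizer_iff.1 y.2.2 w hw
          have hsub2 : P ⊓ centralizer (↑(insert s F) : Set (MulAut V)) ≤ E :=
            inf_le_inf_left _ (centralizer_le (by simp))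
          have h1 : (P ⊓ centralizer (↑(insert s F) : Set (MulAut V))).relIndex E ≤ p := by
            refine le_trans (Nat.le_of_dvd (Nat.pos_of_ne_zero index_ne_zero_of_finite)
              (relIndex_dvd_of_le_left _ hker)) ?_
            show ((f.ker.map E.subtype).subgroupOf E).index ≤ p
            rw [subgroupOf, comap_map_eq_self_of_injective E.subtype_injective, Subgroup.index_ker]
            exact (Nat.le_of_dvd Nat.card_pos f.range.card_subgroup_dvd_card).trans hcardZ0.le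
          have h2 : p ≤ T.relIndex T' := by
            have hT'P : T' ≤ P := sup_le (fun x hx => hx.1) ((closure_le _).2 fun w hw => by
              rw [Finset.coe_insert] at hw
              rcases hw with rfl | hw
              · exact hDP hsub.1
              · exact hDP (hsub.2 hw))
            obtain ⟨e, he⟩ := IsPGroup.iff_card.1 (hs.pgroup.to_le hT'P)
            obtain ⟨i, -, hi⟩ := (Nat.dvd_prime_pow hp.out).1 (he ▸ relIndex_dvd_card T T')
            rcases i with _ | i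
            · exact absurd (relIndex_eq_one.1 (by rw [hi, pow_zero])
                (mem_sup_right (subset_closure (by simp)))) hsT
            · rw [hi]; exact Nat.le_self_pow (by omega) p
          rw [← relIndex_mul_relIndex _ _ _ hsub2 inf_le_left, ← relIndex_mul_relIndex _ _ _ le_sup_left hTT,
            mul_comm]
          exact Nat.mul_le_mul ihF (h1.trans h2)
    haveI : Fintype D := Fintype.ofFinite D
    have h := hidx (Set.toFinite (D : Set (MulAut V))).toFinset (by simp)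
    rw [Set.Finite.coe_toFinset, closure_eq, sup_eq_right.2 hZ0D] at h
    have hint : D ⊓ C = Z0 := le_antisymm
      (fun x hx => hDcenter x hx.1 fun y hy => (mem_centralizer_iff.1 hx.2.2 y hy).symm)
      (fun x hx => ⟨hZ0D hx, hx.1, mem_centralizer_iff.2 fun y hy => (hx.2.2 y (hDP hy)).symm.eq⟩)
    have hsup : D ⊔ C = P := by
      refine eq_of_le_of_card_ge (sup_le hDP inf_le_left) ?_
      have key : ∀ A B : Subgroup (MulAut V), A ≤ B → Nat.card B = Nat.card A * A.relIndex B := by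
        intro A B hAB
        rw [← relIndex_bot_left A, relIndex_mul_relIndex _ _ _ bot_le hAB, relIndex_bot_left]
      have e1 := key C P inf_le_left
      have e3 := key C (D ⊔ C) le_sup_right
      rw [e1, e3]
      refine Nat.mul_le_mul_left _ (h.trans ?_)
      rw [← hint, inf_comm, inf_relIndex_right]
      exact relIndex_le_of_le_right le_sup_left (by simp [relIndex, index_ne_zero_of_finite])
    intro y hy
    rw [← hsup] at hy
    have hnorm' : C ≤ normalizer (D : Set (MulAut V)) :=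
      inf_le_right.trans (centralizer_le_normalizer _)
    have hy' : y ∈ (D : Set (MulAut V)) * (C : Set (MulAut V)) := by
      rw [← coe_mul_of_right_le_normalizer_left D C hnorm']; exact hy
    obtain ⟨d, hd, c, hc, rfl⟩ := hy'
    exact ⟨d, hd, c, hc, rfl⟩
  -- every element of order `p` of `P` lies in `D`
  have hCp : IsPGroup p C := hs.pgroup.to_le inf_le_left
  have hzC : z ∈ C := ⟨hzP, mem_centralizer_iff.2 fun y hy => (hzc y (hDP hy)).symm.eq⟩
  have hΩC : ∀ c ∈ C, c ^ p = 1 → c ∈ Z0 := by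
    by_cases hcy : IsCyclic C
    · intro c hc hcp
      by_cases hc1 : c = 1
      · rw [hc1]; exact one_mem _
      haveI := hcy
      have heq : zpowers (⟨c, hc⟩ : C) = zpowers ⟨z, hzC⟩ := by
        letI : CommGroup C := IsCyclic.commGroup
        set R : Subgroup C := (powMonoidHom p : C →* C).ker with hR
        have hRc : Nat.card R ≤ p := by
          rw [hR, IsCyclic.card_powMonoidHom_ker]
          exact Nat.le_of_dvd hp.out.pos (Nat.gcd_dvd_right _ _)
        have hmem : ∀ u : C, u ^ p = 1 → u ≠ 1 → zpowers u = R := fun u hu hu1 => by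
          refine eq_of_le_of_card_ge (zpowers_le.2 hu) ?_
          rw [Nat.card_zpowers, orderOf_eq_prime hu hu1]
          exact hRc
        rw [hmem ⟨c, hc⟩ (Subtype.ext hcp) (fun h => hc1 (congrArg Subtype.val h)),
          hmem ⟨z, hzC⟩ (Subtype.ext hzp) (fun h => hz1 (congrArg Subtype.val h))]
      obtain ⟨i, hi⟩ := mem_zpowers_iff.1 (heq ▸ mem_zpowers (⟨c, hc⟩ : C) : (⟨c, hc⟩ : C) ∈ zpowers ⟨z, hzC⟩)
      rw [hZ0z]
      exact mem_zpowers_iff.2 ⟨i, by simpa using congrArg Subtype.val hi⟩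
    · exfalso
      obtain ⟨A, hAn, hAel, hAc⟩ := Cfsg.Lib.SolvStruct.exists_normal_elementary_sq hp2 hCp hcy
      haveI := hAn
      have hcZ : ∀ y : C, y ^ p = 1 → (∀ c : C, y * c * y⁻¹ * c⁻¹ ∈ center C) → (y : MulAut V) ∈ Z0 := by
        intro y hyp hy
        have hyD : (y : MulAut V) ∈ D := by
          refine ⟨y.2.1, by simpa using congrArg Subtype.val hyp, fun w hw => ?_⟩
          obtain ⟨d, hd, c, hc, rfl⟩ := hPDC w hw
          have hyd : Commute (y : MulAut V) d := (mem_centralizer_iff.1 y.2.2 d hd).symm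
          have he : (y : MulAut V) * (d * c) * (y : MulAut V)⁻¹ * (d * c)⁻¹
              = d * ((y : MulAut V) * c * (y : MulAut V)⁻¹ * c⁻¹) * d⁻¹ := by
            rw [← mul_assoc, hyd.eq]; group
          set u : C := y * ⟨c, hc⟩ * y⁻¹ * ⟨c, hc⟩⁻¹ with hu'
          have hu : u ∈ center C := hy ⟨c, hc⟩
          have hud : Commute d (u : MulAut V) := mem_centralizer_iff.1 u.2.2 d hd
          rw [he, show (y : MulAut V) * c * (y : MulAut V)⁻¹ * c⁻¹ = u by simp [hu'], hud.eq, mul_inv_cancel_right]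
          have hup : u ^ p = 1 := by
            have h1 := Subgroup.mem_center_iff.1 (hu : u ∈ center C) y
            set q : C := ⟨c, hc⟩
            have hconj : q * y * q⁻¹ = u⁻¹ * y := by rw [hu']; group
            have h2 : (q * y * q⁻¹) ^ p = 1 := by rw [conj_pow, hyp, mul_one, mul_inv_cancel]
            rw [hconj, (Commute.inv_left (show Commute u y from h1.symm)).mul_pow, hyp, mul_one, inv_pow,
              inv_eq_one] at h2
            exact h2
          refine ⟨u.2.1, by simpa using congrArg Subtype.val hup, fun w hw => ?_⟩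
          obtain ⟨d', hd', c', hc', rfl⟩ := hPDC w hw
          exact (show Commute (u : MulAut V) d' from (mem_centralizer_iff.1 u.2.2 d' hd').symm).mul_right
            (congrArg Subtype.val (Subgroup.mem_center_iff.1 hu ⟨c', hc'⟩)).symm
        exact hDcenter _ hyD fun d hd => (mem_centralizer_iff.1 y.2.2 d hd).symm
      have hle : A ⊓ center C ≤ zpowers (⟨z, hzC⟩ : C) := fun y hy => by
        have := hcZ y (hAel.2 y hy.1) fun c => by
          rw [(Subgroup.mem_center_iff.1 hy.2 c).symm, mul_inv_cancel_right, mul_inv_cancel]; exact one_mem _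
        rw [hZ0z] at this
        obtain ⟨i, hi⟩ := mem_zpowers_iff.1 this
        exact mem_zpowers_iff.2 ⟨i, Subtype.ext (by simpa using hi)⟩
      have hz_ord : Nat.card (zpowers (⟨z, hzC⟩ : C)) = p := by
        rw [Nat.card_zpowers, orderOf_mk, orderOf_eq_prime hzp hz1]
      have hall : A ≤ zpowers (⟨z, hzC⟩ : C) := by
        intro y hy
        refine by_contra fun hyz => hyz ?_
        have hy' : ∀ c : C, y * c * y⁻¹ * c⁻¹ ∈ center C := by
          intro c
          have hA1 : (A.map (QuotientGroup.mk' (center C))).Normal := hAn.map _ (QuotientGroup.mk'_surjective _)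
          haveI := hA1
          have hd : Nat.card (A.map (QuotientGroup.mk' (center C))) ∣ p := by
            have hbot : A ⊓ center C ≠ ⊥ := fun h => by
              obtain ⟨w, hw, hw', hw2⟩ := Cfsg.Lib.PGroups.exists_mem_center_of_normal_ne_bot hCp (N := A)
                (fun h' => by rw [h', card_bot] at hAc; have := hp.out.two_le; nlinarith)
              have hw1 : w = 1 := mem_bot.1 (h ▸ ⟨hw, hw'⟩)
              rw [hw1, orderOf_one] at hw2
              exact hp.out.ne_one hw2.symm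
            have h1 : Nat.card ↥(A ⊓ center C) = p := by
              have hdvd := card_dvd_of_le hle
              rw [hz_ord] at hdvd
              exact ((Nat.dvd_prime hp.out).1 hdvd).resolve_left fun e => hbot (Subgroup.card_eq_one.1 e)
            have h2 : ((QuotientGroup.mk' (center C)).subgroupMap A).ker = (center C).subgroupOf A := by
              ext w
              simp [MonoidHom.mem_ker, Subgroup.mem_subgroupOf, Subtype.ext_iff, QuotientGroup.eq_one_iff]
            have h3 := card_mul_index ((center C).subgroupOf A)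
            rw [← h2, Subgroup.index_ker, MonoidHom.range_eq_top.2 (MonoidHom.subgroupMap_surjective _ A),
              card_top, h2, ← inf_subgroupOf_left,
              Nat.card_congr (subgroupOfEquivOfLe inf_le_left).toEquiv, h1, hAc, sq] at h3
            exact (Nat.eq_of_mul_eq_mul_left hp.out.pos h3).dvd
          have hcen : A.map (QuotientGroup.mk' (center C)) ≤ center (C ⧸ center C) := by
            rcases (Nat.dvd_prime hp.out).1 hd with h | h
            · rw [Subgroup.card_eq_one.1 h]; exact bot_le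
            · exact Cfsg.Lib.PGroups.le_center_of_card_eq_prime (hCp.to_quotient _) h
          have h1 := Subgroup.mem_center_iff.1 (hcen ⟨y, hy, rfl⟩) (c : C ⧸ center C)
          rw [← QuotientGroup.eq_one_iff, QuotientGroup.mk_mul, QuotientGroup.mk_mul, QuotientGroup.mk_mul,
            QuotientGroup.mk_inv, QuotientGroup.mk_inv]
          simp only [QuotientGroup.mk'_apply] at h1
          rw [← h1, mul_inv_cancel_right, mul_inv_cancel]
        have := hcZ y (hAel.2 y hy) hy'
        rw [hZ0z] at this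
        obtain ⟨i, hi⟩ := mem_zpowers_iff.1 this
        exact mem_zpowers_iff.2 ⟨i, Subtype.ext (by simpa using hi)⟩
      have := card_dvd_of_le hall
      rw [hAc, hz_ord] at this
      have := Nat.le_of_dvd hp.out.pos this
      have := hp.out.two_le
      nlinarith
  have hΩ : ∀ y ∈ P, y ^ p = 1 → y ∈ D := by
    intro y hy hyp
    obtain ⟨d, hd, c, hc, rfl⟩ := hPDC y hy
    have hdc : Commute d c := mem_centralizer_iff.1 hc.2 d hd
    rw [hdc.mul_pow, hd.2.1, one_mul] at hyp
    exact mul_mem hd (hZ0D (hΩC c hc hyp))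
  -- a maximal abelian subgroup of `D`
  obtain ⟨B, ⟨hZB, hBD, hBab⟩, hBmax⟩ := WellFounded.has_min
    (IsWellFounded.wf (r := ((· > ·) : Subgroup (MulAut V) → Subgroup (MulAut V) → Prop)))
    {B | Z0 ≤ B ∧ B ≤ D ∧ ∀ b ∈ B, ∀ c ∈ B, Commute b c}
    ⟨Z0, le_rfl, hZ0D, fun b hb c hc => hb.2.2 c hc.1⟩
  have hBel : Elem p B := ⟨fun b hb => (hBD hb).2.1, hBab⟩
  have hBn : ∀ d ∈ D, cj d B = B := fun d hd => by
    refine eq_of_le_of_card_ge ?_ (card_cj d B).ge
    rintro _ ⟨b, hb, rfl⟩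
    show d * b * d⁻¹ ∈ B
    rw [show d * b * d⁻¹ = (d * b * d⁻¹ * b⁻¹) * b by group]
    exact mul_mem (hZB (hcomm d hd b (hDP (hBD hb)))) hb
  have hBself : ∀ d ∈ D, (∀ b ∈ B, Commute d b) → d ∈ B := by
    intro d hd hdc
    by_contra hdB
    refine hBmax (B ⊔ zpowers d) ⟨hZB.trans le_sup_left, sup_le hBD (zpowers_le.2 hd), ?_⟩
      (lt_of_le_of_ne le_sup_left fun e => hdB (e.ge (mem_sup_right (mem_zpowers d))))
    have hle : ∀ g, (∀ b ∈ B, Commute b g) → Commute d g → B ⊔ zpowers d ≤ centralizer ({g} : Set (MulAut V)) :=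
      fun g h1 h2 => sup_le (fun b hb => mem_centralizer_singleton_iff.2 (h1 b hb).eq)
        (zpowers_le.2 (mem_centralizer_singleton_iff.2 h2.eq))
    intro b hb c hc
    have e1 : ∀ b' ∈ B, Commute b' c := fun b' hb' =>
      (mem_centralizer_singleton_iff.1 (hle b' (fun x hx => hBab x hx b' hb') (hdc b' hb') hc)).symm
    have e2 : Commute d c :=
      (mem_centralizer_singleton_iff.1 (hle d (fun x hx => (hdc x hx).symm) (Commute.refl d) hc)).symm
    exact mem_centralizer_singleton_iff.1 (hle c e1 e2 hb)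
  have hBne : B ≠ ⊥ := fun h => hZ0ne (le_bot_iff.1 (h ▸ hZB))
  have hBfix : fixSub B = ⊥ := eq_bot_iff.2 fun v hv => mem_bot.2 (hzfpf v (hv z (hZB hzZ0)))
  obtain ⟨K0, hK0, hK0ne⟩ : ∃ K, Hyp p B K ∧ fixSub K ≠ ⊥ := by
    by_contra hno
    push Not at hno
    have htop := gen_fix hs.cop _ B le_rfl hBel hBne ⊥ fun K hK => (hno K hK).le
    exact ha (by ext v; rw [show v = 1 from mem_bot.1 (htop ▸ mem_top v), map_one, map_one])
  obtain ⟨w0, hw0, hw01⟩ := (Subgroup.bot_or_exists_ne_one (fixSub K0)).resolve_left hK0ne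
  let O : Set (Subgroup (MulAut V)) := {K | ∃ d ∈ D, cj d K0 = K}
  have hOhyp : ∀ K ∈ O, Hyp p B K ∧ ∃ w ∈ fixSub K, w ≠ 1 := by
    rintro _ ⟨d, hd, rfl⟩
    exact ⟨⟨hBn d hd ▸ Subgroup.map_mono hK0.1, by rw [card_cj]; exact hK0.2⟩, d w0, fixSub_cj hw0,
      fun e => hw01 (d.injective (e.trans (map_one d).symm))⟩
  have hOinv : ∀ d ∈ D, ∀ K ∈ O, cj d K ∈ O := by
    rintro d hd _ ⟨e, he, rfl⟩; exact ⟨d * e, mul_mem hd he, (cj_cj _ _ _).symm⟩
  have hzK : ∀ K ∈ O, z ∉ K := fun K hK hzK' => by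
    obtain ⟨-, w, hw, hw1⟩ := hOhyp K hK
    exact hw1 (hzfpf w (hw z hzK'))
  -- the support
  let S : Set (Subgroup (MulAut V)) := if O = {K0} then O else O \ {K0}
  have hSO : S ⊆ O := by
    simp only [S]; split_ifs with h
    · exact le_rfl
    · exact Set.sdiff_subset
  have hK0O : K0 ∈ O := ⟨1, one_mem _, cj_one _⟩
  have hSne : ∀ x ∈ D, ∃ K ∈ S, cj x K ∈ S := by
    intro x hx
    by_cases hO : O = {K0}
    · have : S = O := if_pos hO
      rw [this]; exact ⟨K0, hK0O, hOinv x hx K0 hK0O⟩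
    have hS' : S = O \ {K0} := if_neg hO
    have hcardO : 3 ≤ O.ncard := by
      let act : MulAction D (Subgroup (MulAut V)) :=
        { smul := fun d K => cj (d : MulAut V) K
          one_smul := fun K => cj_one K
          mul_smul := fun d e K => (cj_cj _ _ _).symm }
      letI := act
      have hOorb : O = MulAction.orbit D K0 := by
        ext K; exact ⟨fun ⟨d, hd, he⟩ => ⟨⟨d, hd⟩, he⟩, fun ⟨d, he⟩ => ⟨d, d.2, he⟩⟩
      obtain ⟨n, hn⟩ := (hs.pgroup.to_le hDP).card_orbit K0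
      rw [Nat.card_coe_set_eq, ← hOorb] at hn
      rw [hn]
      rcases n with _ | n
      · exfalso
        obtain ⟨K, hK⟩ := Set.ncard_eq_one.1 (show O.ncard = 1 by rw [hn, pow_zero])
        rw [hK, Set.mem_singleton_iff] at hK0O
        exact hO (hK.trans (by rw [hK0O]))
      · exact (show 3 ≤ p from by have := hp.out.two_le; omega).trans (Nat.le_self_pow (by omega) p)
    obtain ⟨K, hK, hK1, hK2⟩ : ∃ K ∈ O, K ≠ K0 ∧ K ≠ cj x⁻¹ K0 := by
      by_contra hno
      push Not at hno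
      have hsub : O ⊆ {K0, cj x⁻¹ K0} := fun K hK => by
        by_cases h : K = K0
        · exact Or.inl h
        · exact Or.inr (hno K hK h)
      have := (Set.ncard_le_ncard hsub (Set.toFinite _)).trans (Set.ncard_insert_le _ _)
      rw [Set.ncard_singleton] at this
      omega
    rw [hS']
    refine ⟨K, ⟨hK, hK1⟩, hOinv x hx K hK, fun e => hK2 ?_⟩
    rw [Set.mem_singleton_iff] at e
    rw [← e, cj_cj, inv_mul_cancel, cj_one]
  choose! wsel hwsel hwne using fun K (hK : K ∈ O) => (hOhyp K hK).2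
  obtain ⟨v, hv1, hv⟩ := support hBel hs.cop hBfix S (fun K hK => (hOhyp K (hSO hK)).1) wsel
    (fun K hK => ⟨hwsel K (hSO hK), hwne K (hSO hK)⟩)
  have hv0 : v ≠ 1 := hv1 (by obtain ⟨K, hK, -⟩ := hSne 1 (one_mem _); exact ⟨K, hK⟩)
  refine ⟨v, fun g hg he => ?_⟩
  set d := g * a * g⁻¹
  have hdP : d ∈ P := hs.norm g hg a hs.mem
  have hdp : d ^ p = 1 := by rw [conj_pow, hap, mul_one, mul_inv_cancel]
  have hd1 : d ≠ 1 := fun h => ha (conj_eq_one_iff.1 h)
  have hdD : d ∈ D := hΩ d hdP hdp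
  have hvd := hv d (hBn d hdD) he
  -- the element fixes `K0`
  have hdK0 : cj d K0 = K0 := by
    by_cases hO : O = {K0}
    · have h1 := hOinv d hdD K0 hK0O
      rw [hO, Set.mem_singleton_iff] at h1
      exact h1
    have hS' : S = O \ {K0} := if_neg hO
    by_contra hne
    let F : ↥S → ↥S := fun K => ⟨cj d K, (hvd K K.2).1⟩
    have hF : Function.Bijective F := Finite.injective_iff_bijective.1 fun K L h =>
      Subtype.ext (Subgroup.map_injective (MulAut.conj d).injective (congrArg Subtype.val h))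
    obtain ⟨⟨K, hK⟩, hKe⟩ := hF.2 ⟨cj d K0, by rw [hS']; exact ⟨hOinv d hdD K0 hK0O, hne⟩⟩
    have : K = K0 := Subgroup.map_injective (MulAut.conj d).injective (congrArg Subtype.val hKe)
    rw [hS'] at hK
    exact hK.2 this
  have hdB : d ∈ B := by
    refine hBself d hdD fun b hb => ?_
    have hle : B ≤ centralizer ({d} : Set (MulAut V)) := by
      rw [← hyp_sup hBel hK0 (hZB hzZ0) (hzK K0 hK0O)]
      refine sup_le (fun k hk => mem_centralizer_singleton_iff.2 ?_)
        (zpowers_le.2 (mem_centralizer_singleton_iff.2 (hzc d hdP).eq))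
      have h1 : d * k * d⁻¹ ∈ K0 := hdK0.le ⟨k, hk, rfl⟩
      have h2 : d * k * d⁻¹ * k⁻¹ ∈ Z0 := hcomm d hdD k (hDP (hBD (hK0.1 hk)))
      have h3 : d * k * d⁻¹ * k⁻¹ ∈ K0 := mul_mem h1 (inv_mem hk)
      have h4 : d * k * d⁻¹ * k⁻¹ = 1 := by
        by_contra hne
        apply hzK K0 hK0O
        have hZK : Z0 ≤ K0 := by
          rw [← eq_of_le_of_card_ge (zpowers_le.2 h2) (by rw [hcardZ0, Nat.card_zpowers, orderOf_eq_prime h2.2.1 hne])]
          exact zpowers_le.2 h3
        exact hZK hzZ0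
      rw [mul_inv_eq_one, mul_inv_eq_iff_eq_mul] at h4
      exact h4.symm
    exact (mem_centralizer_singleton_iff.1 (hle hb)).symm
  have hdK : ∀ K ∈ S, d ∈ K := by
    intro K hK
    by_contra hdK'
    have hcjK : cj d K = K := cj_of_commute d K fun k hk => hBab d hdB k ((hOhyp K (hSO hK)).1.1 hk)
    have hfix : d (wsel K) = wsel K := by have := (hvd K hK).2; rwa [hcjK] at this
    have hle : B ≤ MulAction.stabilizer (MulAut V) (wsel K) := by
      rw [← hyp_sup hBel (hOhyp K (hSO hK)).1 hdB hdK']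
      exact sup_le (fun k hk => hwsel K (hSO hK) k hk) (zpowers_le.2 hfix)
    exact hwne K (hSO hK) (hzfpf _ (hle (hZB hzZ0)))
  have hdZ : d ∈ Z0 := hDcenter d hdD fun x hx => by
    obtain ⟨K, hK, hxK⟩ := hSne x hx
    have h1 : x * d * x⁻¹ ∈ cj x K := ⟨d, hdK K hK, rfl⟩
    have h2 : x * d * x⁻¹ * d⁻¹ ∈ cj x K := mul_mem h1 (inv_mem (hdK _ hxK))
    have h3 : x * d * x⁻¹ * d⁻¹ ∈ Z0 := hcomm x hx d hdP
    by_contra hne
    have hne' : x * d * x⁻¹ * d⁻¹ ≠ 1 := fun h => hne (by
      rw [mul_inv_eq_one, mul_inv_eq_iff_eq_mul] at h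
      exact h.symm)
    apply hzK (cj x K) (hSO hxK)
    have hZK : Z0 ≤ cj x K := by
      rw [← eq_of_le_of_card_ge (zpowers_le.2 h3) (by rw [hcardZ0, Nat.card_zpowers, orderOf_eq_prime h3.2.1 hne'])]
      exact zpowers_le.2 h2
    exact hZK hzZ0
  refine hv0 (hzfpf v ?_)
  have hle : Z0 ≤ MulAction.stabilizer (MulAut V) v := by
    rw [← eq_of_le_of_card_ge (zpowers_le.2 hdZ) (by rw [hcardZ0, Nat.card_zpowers, orderOf_eq_prime hdp hd1])]
    exact zpowers_le.2 he
  exact hle hzZ0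

end Module

/-- A vector fixed by no conjugate of `a`. -/
theorem avoid_aux (p : ℕ) [hp : Fact p.Prime] (hp2 : p ≠ 2) : ∀ (n : ℕ) (V : Type u) [CommGroup V] [Finite V],
    Nat.card V ≤ n → ∀ (H P : Subgroup (MulAut V)) (a : MulAut V), Setup p H P a → a ≠ 1 →
      ∃ v, Avoids H a v := by
  intro n
  induction n with
  | zero => intro V _ _ h; have : 0 < Nat.card V := Nat.card_pos; omega
  | succ n ih =>
    intro V _ _ hcard H P a hs ha
    have hih : ∀ W : Subgroup V, Below p W := fun W hW => ih W (by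
      have : Nat.card W < Nat.card V := by
        refine lt_of_le_of_ne (Nat.card_le_card_of_injective _ W.subtype_injective) fun e => hW ?_
        exact eq_top_of_card_eq W e
      omega)
    -- reduce to an element of order `p`
    obtain ⟨e, he⟩ := IsPGroup.iff_orderOf.1 hs.pgroup ⟨a, hs.mem⟩
    rw [orderOf_mk] at he
    have hd : p ∣ orderOf a := by
      rcases e with _ | e
      · exact absurd (orderOf_eq_one_iff.1 (by rw [he, pow_zero])) ha
      · rw [he]; exact dvd_pow_self p (by omega)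
    set b := a ^ (orderOf a / p) with hb
    have hbo : orderOf b = p := orderOf_pow_orderOf_div (orderOf_pos a).ne' hd
    suffices h : ∃ v, Avoids H b v by
      obtain ⟨v, hv⟩ := h
      refine ⟨v, fun g hg he => hv g hg ?_⟩
      rw [hb, ← conj_pow]
      exact pow_mem (show g * a * g⁻¹ ∈ MulAction.stabilizer (MulAut V) v from he) _
    have hb1 : b ≠ 1 := fun h => hp.out.ne_one (by rw [← hbo, h, orderOf_one])
    have hsb : Setup p H P b := ⟨hs.le, hs.norm, hs.pgroup, hs.cop, pow_mem hs.mem _⟩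
    by_cases hsplit : ∃ B ≤ P, Elem p B ∧ (∀ h ∈ H, cj h B = B) ∧ B ≠ ⊥ ∧ fixSub B ≠ ⊥
    · obtain ⟨B, hB, -, hBn, hB1, hf⟩ := hsplit
      exact avoid_split hsb hb1 hB hBn hB1 hf hih
    push Not at hsplit
    by_cases hblk : ∃ B ≤ P, Elem p B ∧ (∀ h ∈ H, cj h B = B) ∧ p < Nat.card B
    · obtain ⟨B, hB, hBe, hBn, hBc⟩ := hblk
      refine avoid_blocks hsb hb1 hp2 hBe hBn hBc (hsplit B hB hBe hBn fun h => ?_) hih
      rw [h, card_bot] at hBc
      have := hp.out.one_lt
      omega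
    push Not at hblk
    exact avoid_extraspecial hsb hb1 (hbo ▸ pow_orderOf_eq_one b) hp2
      fun B hB hBe hBn hB1 => ⟨hblk B hB hBe hBn, hsplit B hB hBe hBn hB1⟩

end Cfsg.Lib.CoprimeAvoid
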