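/-
The group `3² : SD₁₆`: every class meets a subgroup in which a given reflection is subnormal,
although the reflection lies outside the 2-core.
-/
import Cfsg.Agent.Components.Cores
import Cfsg.Agent.SolvStruct.Subnormalizer
import Mathlib.GroupTheory.SemidirectProduct

set_option linter.style.haveILetI false
set_option linter.unusedSectionVars false

namespace Cfsg.Lib.SolvStruct.ReflectionExample

open Subgroup

abbrev V := ZMod 3 × ZMod 3
abbrev W := Multiplicative V

def J (w : W) : W := Multiplicative.ofAdd (-w.toAdd.2, w.toAdd.1)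

def e : W := Multiplicative.ofAdd (1, 0)

def Rfun (a b : ZMod 3) (w : W) : W :=
  Multiplicative.ofAdd (a * w.toAdd.1 - b * w.toAdd.2, b * w.toAdd.1 + a * w.toAdd.2)

theorem J_mul : ∀ x y : W, J (x * y) = J x * J y := by decide

theorem J_J : ∀ x : W, J (J x) = x⁻¹ := by decide

theorem J_inv : ∀ x : W, J x⁻¹ = (J x)⁻¹ := by decide

theorem span : ∀ w : W, w = e ^ (w.toAdd.1.val) * (J e) ^ (w.toAdd.2.val) := by decide

theorem Rfun_mul : ∀ a b : ZMod 3, ∀ x y : W, Rfun a b (x * y) = Rfun a b x * Rfun a b y := by decide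

theorem Rfun_bij : ∀ a b : ZMod 3, (a, b) ≠ 0 → ∀ w : W,
    Rfun ((a * a + b * b) * a) (-((a * a + b * b) * b)) (Rfun a b w) = w ∧
    Rfun a b (Rfun ((a * a + b * b) * a) (-((a * a + b * b) * b)) w) = w := by decide

theorem Rfun_J : ∀ a b : ZMod 3, ∀ w : W, Rfun a b (J w) = J (Rfun a b w) := by decide

theorem Rfun_eight : ∀ a b : ZMod 3, (a, b) ≠ 0 → ∀ w : W,
    Rfun a b (Rfun a b (Rfun a b (Rfun a b (Rfun a b (Rfun a b (Rfun a b (Rfun a b w))))))) = w := by decide

def D : Subgroup (MulAut W) where
  carrier := {f | (∀ w, f (J w) = J (f w)) ∨ ∀ w, f (J w) = (J (f w))⁻¹}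
  one_mem' := Or.inl fun w => rfl
  mul_mem' := by
    intro f g hf hg
    rcases hf with hf | hf <;> rcases hg with hg | hg
    · exact Or.inl fun w => by simp [hf, hg]
    · exact Or.inr fun w => by simp [hf, hg]
    · exact Or.inr fun w => by simp [hf, hg]
    · exact Or.inl fun w => by simp [hf, hg]
  inv_mem' := by
    intro f hf
    rcases hf with hf | hf
    · exact Or.inl fun w => f.injective (by rw [hf]; simp)
    · exact Or.inr fun w => f.injective (by rw [map_inv, hf]; simp)

def t₀ : MulAut W where
  toFun w := Multiplicative.ofAdd (w.toAdd.1, -w.toAdd.2)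
  invFun w := Multiplicative.ofAdd (w.toAdd.1, -w.toAdd.2)
  left_inv := by intro w; revert w; decide
  right_inv := by intro w; revert w; decide
  map_mul' := by intro x y; revert x y; decide

theorem t₀_anti : ∀ w, t₀ (J w) = (J (t₀ w))⁻¹ := by decide

def t : D := ⟨t₀, Or.inr t₀_anti⟩

theorem t_mul_t : t * t = 1 := Subtype.ext (MulEquiv.ext (by decide : ∀ w, t₀ (t₀ w) = w))

def R (a b : ZMod 3) (h : (a, b) ≠ 0) : D :=
  ⟨{ toFun := Rfun a b
     invFun := Rfun ((a * a + b * b) * a) (-((a * a + b * b) * b))
     left_inv := fun w => (Rfun_bij a b h w).1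
     right_inv := fun w => (Rfun_bij a b h w).2
     map_mul' := Rfun_mul a b }, Or.inl (Rfun_J a b)⟩

theorem ext_e {f g : MulAut W} (h1 : f e = g e) (h2 : f (J e) = g (J e)) : f = g :=
  MulEquiv.ext fun w => by rw [span w, map_mul, map_mul, map_pow, map_pow, map_pow, map_pow, h1, h2]

theorem pow_sixteen (f : D) : f ^ 16 = 1 := by
  have key : ∀ g : MulAut W, (∀ w, g (J w) = J (g w)) → g ^ 8 = 1 := by
    intro g hg
    have hne : ((g e).toAdd.1, (g e).toAdd.2) ≠ (0 : V) := by
      intro h
      have : g e = 1 := Multiplicative.toAdd.injective h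
      exact absurd ((MulEquiv.map_eq_one_iff g).1 this) (by decide)
    have hfun : g = (R _ _ hne : MulAut W) := by
      have hge : g e = Rfun (g e).toAdd.1 (g e).toAdd.2 e := by
        generalize g e = z
        revert z
        decide
      refine ext_e hge ?_
      rw [hg]
      show J (g e) = Rfun _ _ (J e)
      rw [Rfun_J]
      exact congrArg J hge
    refine MulEquiv.ext fun w => ?_
    rw [hfun]
    simp only [pow_succ, pow_zero, one_mul, MulAut.mul_apply, MulAut.one_apply]
    exact Rfun_eight _ _ hne w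
  rcases f.2 with hf | hf
  · apply Subtype.ext
    rw [SubmonoidClass.coe_pow, show 16 = 8 * 2 from rfl, pow_mul, key _ hf, one_pow]
    rfl
  · apply Subtype.ext
    rw [SubmonoidClass.coe_pow, show 16 = 2 * 8 from rfl, pow_mul, key]
    · rfl
    · intro w
      simp [pow_two, hf]

theorem isPGroup_D : IsPGroup 2 D := fun f => ⟨4, pow_sixteen f⟩

abbrev X := SemidirectProduct W D D.subtype

instance : Finite D := Finite.of_injective (fun f : D => ((f : MulAut W) : W → W)) fun _ _ h =>
  Subtype.ext (MulEquiv.ext (congrFun h))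

instance : Finite X := Finite.of_equiv (W × D) SemidirectProduct.equivProd.symm

def A : Subgroup X := zpowers (SemidirectProduct.inr t)

theorem mem_conj (c : X) : ∃ g : X, IsConj c g ∧
    (g ∈ (SemidirectProduct.inr : D →* X).range ∨ g * SemidirectProduct.inr t = SemidirectProduct.inr t * g) := by
  set v := c.left
  set f := c.right
  by_cases hfix : ∀ w : W, (f : MulAut W) w = w → w = 1
  · -- conjugate into the complement
    have hinj : Function.Injective fun u : W => u * ((f : MulAut W) u)⁻¹ := by
      intro a b h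
      have h' : a * b⁻¹ = (f : MulAut W) (a * b⁻¹) := by
        rw [map_mul, map_inv]
        simp only at h
        rw [mul_inv_eq_iff_eq_mul] at h
        conv_lhs => rw [h]
        rw [mul_comm b, mul_assoc _ b, mul_comm b, ← mul_assoc, mul_inv_cancel_right, mul_comm]
      exact mul_inv_eq_one.1 (hfix _ h'.symm)
    obtain ⟨u, hu⟩ := (Finite.injective_iff_surjective.1 hinj) v⁻¹
    simp only at hu
    refine ⟨SemidirectProduct.inl u * c * (SemidirectProduct.inl u)⁻¹, isConj_iff.2 ⟨_, rfl⟩, Or.inl ⟨f, ?_⟩⟩
    apply SemidirectProduct.ext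
    · simp [f]
      rw [mul_comm u, mul_assoc]
      show (1 : W) = v * _
      rw [hu, mul_inv_cancel]
    · simp [f]
  · push Not at hfix
    obtain ⟨w, hw, hw1⟩ := hfix
    have hdich : f = 1 ∨ ∀ z, (f : MulAut W) (J z) = (J ((f : MulAut W) z))⁻¹ := by
      rcases f.2 with hf | hf
      · left
        have hJw : (f : MulAut W) (J w) = J w := by rw [hf, hw]
        have hgen : ∀ w : W, w ≠ 1 → ∀ z : W, ∃ i j : Fin 3, z = w ^ (i : ℕ) * (J w) ^ (j : ℕ) := by decide
        refine Subtype.ext (MulEquiv.ext fun z => ?_)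
        obtain ⟨i, j, rfl⟩ := hgen w hw1 z
        simp [hw, hJw]
      · exact Or.inr hf
    rcases hdich with hf1 | hf
    · -- a translation
      by_cases hv : v = 1
      · refine ⟨c, IsConj.refl c, Or.inl ⟨1, ?_⟩⟩
        apply SemidirectProduct.ext
        · simpa [v] using hv.symm
        · simpa [f] using hf1.symm
      · have hne : (v.toAdd.1, v.toAdd.2) ≠ (0 : V) := fun h => hv (Multiplicative.toAdd.injective h)
        set r := R _ _ hne with hr
        have hre : (r : MulAut W) e = v := by
          show Rfun v.toAdd.1 v.toAdd.2 e = v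
          generalize v = z
          revert z
          decide
        have hrinv : ((r⁻¹ : D) : MulAut W) v = e := by
          apply (r : MulAut W).injective
          rw [hre]
          simp
        refine ⟨SemidirectProduct.inl e, isConj_iff.2 ⟨(SemidirectProduct.inr r)⁻¹, ?_⟩, Or.inr ?_⟩
        · apply SemidirectProduct.ext
          · simpa [v] using hrinv
          · simp [f] at hf1 ⊢
            simp [hf1]
        · apply SemidirectProduct.ext
          · simp; decide
          · simp
    · -- a reflection
      have hne : (w.toAdd.1, w.toAdd.2) ≠ (0 : V) := fun h => hw1 (Multiplicative.toAdd.injective h)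
      set r := R _ _ hne with hr
      have hre : (r : MulAut W) e = w := by
        show Rfun w.toAdd.1 w.toAdd.2 e = w
        generalize w = z
        revert z
        decide
      have hrJ : ∀ z, (r : MulAut W) (J z) = J ((r : MulAut W) z) := Rfun_J _ _
      have hconj : r⁻¹ * f * r = t := by
        apply Subtype.ext
        apply ext_e
        · apply (r : MulAut W).injective
          simp only [Subgroup.coe_mul, InvMemClass.coe_inv, MulAut.mul_apply, MulAut.apply_inv_self, hre, hw]
          rw [show ((t : D) : MulAut W) e = e from by decide, hre]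
        · apply (r : MulAut W).injective
          simp only [Subgroup.coe_mul, InvMemClass.coe_inv, MulAut.mul_apply, MulAut.apply_inv_self, hrJ, hre, hf, hw]
          rw [show ((t : D) : MulAut W) (J e) = (J e)⁻¹ from by decide, map_inv, hrJ, hre]
      set c' := (SemidirectProduct.inr r)⁻¹ * c * SemidirectProduct.inr r with hc'
      have hc'r : c'.right = t := by simp [hc', ← hconj, f]
      set s : W := Multiplicative.ofAdd (0, c'.left.toAdd.2) with hs
      refine ⟨SemidirectProduct.inl s * c' * (SemidirectProduct.inl s)⁻¹,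
        isConj_iff.2 ⟨SemidirectProduct.inl s * (SemidirectProduct.inr r)⁻¹, by rw [hc']; group⟩, Or.inr ?_⟩
      have key : ∀ z : W, (t₀ (Multiplicative.ofAdd ((0 : ZMod 3), z.toAdd.2) * z *
          (t₀ (Multiplicative.ofAdd ((0 : ZMod 3), z.toAdd.2)))⁻¹)) =
          Multiplicative.ofAdd ((0 : ZMod 3), z.toAdd.2) * z * (t₀ (Multiplicative.ofAdd ((0 : ZMod 3), z.toAdd.2)))⁻¹ := by
        decide
      apply SemidirectProduct.ext
      · simp [hc'r, hs]
        simpa [t] using (key c'.left).symm
      · simp [hc'r]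

theorem isSolvable_X : Group.IsSolvable X := by
  haveI : Group.IsSolvable W := Group.isSolvable_of_comm mul_comm
  haveI : Group.IsNilpotent D := isPGroup_D.isNilpotent
  exact Group.isSolvable_of_ker_le_range (SemidirectProduct.inl : W →* X) SemidirectProduct.rightHom
    SemidirectProduct.range_inl_eq_ker_rightHom.ge

theorem example_exists : ∃ (G : Type) (_ : Group G) (_ : Finite G) (A : Subgroup G), Group.IsSolvable G ∧ Nat.card A = 2 ∧
      (∀ c : G, ∃ g : G, IsConj c g ∧ (A.subgroupOf (A ⊔ Subgroup.zpowers g)).IsSubnormal) ∧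
      ¬ A ≤ Cfsg.pCore 2 G := by
  refine ⟨X, inferInstance, inferInstance, A, isSolvable_X, ?_, fun c => ?_, fun hA => ?_⟩
  · rw [A, Nat.card_zpowers]
    refine orderOf_eq_prime ?_ ?_
    · rw [pow_two, ← map_mul, t_mul_t, map_one]
    · intro h
      have := congrArg (fun x : X => (x.right : MulAut W) (Multiplicative.ofAdd ((0 : ZMod 3), (1 : ZMod 3)))) h
      exact absurd this (by decide)
  · obtain ⟨g, hcg, hg⟩ := mem_conj c
    refine ⟨g, hcg, ?_⟩
    rcases hg with hg | hg
    · have hp : IsPGroup 2 ↥(A ⊔ Subgroup.zpowers g) := by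
        refine IsPGroup.to_le (?_ : IsPGroup 2 ↥(SemidirectProduct.inr : D →* X).range) (sup_le ?_ ?_)
        · exact isPGroup_D.of_equiv (MonoidHom.ofInjective SemidirectProduct.inr_injective)
        · exact zpowers_le.2 ⟨t, rfl⟩
        · exact zpowers_le.2 hg
      haveI := hp.isNilpotent
      exact Cfsg.Lib.Subnormalizer.isSubnormal_of_nilpotent _
    · refine Subgroup.Normal.isSubnormal ?_
      refine (normal_subgroupOf_iff_le_normalizer le_sup_left).2 (sup_le le_normalizer (zpowers_le.2 ?_))
      rw [Subgroup.mem_normalizer_iff_map_conj_eq, A, MonoidHom.map_zpowers]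
      show zpowers (g * SemidirectProduct.inr t * g⁻¹) = _
      rw [hg, mul_inv_cancel_right]
  · set u : X := SemidirectProduct.inl (Multiplicative.ofAdd ((0 : ZMod 3), (1 : ZMod 3))) with hu
    set τ : X := SemidirectProduct.inr t with hτ
    have h1 : τ ∈ Cfsg.pCore 2 X := hA (mem_zpowers _)
    have h2 : u * τ * u⁻¹ ∈ Cfsg.pCore 2 X := by
      haveI : (Cfsg.pCore 2 X).Normal := inferInstance
      exact Subgroup.Normal.conj_mem inferInstance _ h1 _
    obtain ⟨k, hk⟩ := (show IsPGroup 2 ↥(Cfsg.pCore 2 X) from Cfsg.Lib.Components.isPGroup_pCore 2) ⟨u * τ * u⁻¹ * τ, mul_mem h2 h1⟩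
    have e3 : (u * τ * u⁻¹ * τ) ^ 3 = 1 := by
      apply SemidirectProduct.ext
      · simp [hu, hτ, pow_succ, t_mul_t]; decide
      · simp [hu, hτ, pow_succ, t_mul_t]
    have hk' : (u * τ * u⁻¹ * τ) ^ (2 ^ k) = 1 := by simpa using congrArg Subtype.val hk
    have hone : u * τ * u⁻¹ * τ = 1 := by
      have hc : Nat.Coprime (2 ^ k) 3 := Nat.Coprime.pow_left k (by norm_num)
      exact orderOf_eq_one_iff.1 (Nat.eq_one_of_dvd_coprimes hc (orderOf_dvd_of_pow_eq_one hk') (orderOf_dvd_of_pow_eq_one e3))
    have := congrArg SemidirectProduct.left hone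
    simp [hu, hτ] at this
    exact absurd this (by decide)

end Cfsg.Lib.SolvStruct.ReflectionExample
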