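import Cfsg.Agent.SolvStruct.Criterion

/-!
A subnormality criterion using only conjugates by conjugates of elements of the subgroup.
-/

set_option linter.style.haveILetI false

namespace Cfsg.Lib.SolvStruct

open Subgroup
open scoped Pointwise

universe u

theorem criterion_conj : ∀ (n : ℕ) (G : Type u) [Group G] [Finite G], Nat.card G = n →
    ∀ A : Subgroup G, (∀ a ∈ A, ∀ g : G, (A.subgroupOf (A ⊔ MulAut.conj (g⁻¹ * a * g) • A)).IsSubnormal) →
      A.IsSubnormal := by
  intro n
  induction n using Nat.strong_induction_on with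
  | _ n ih =>
    intro G _ _ hn A h
    by_contra hA
    have hprop : ∀ V : Subgroup G, A ≤ V → V ≠ ⊤ → (A.subgroupOf V).IsSubnormal := by
      intro V hAV hVt
      refine ih (Nat.card V) ?_ V rfl (A.subgroupOf V) fun a ha g => ?_
      · rw [← hn]
        exact lt_of_le_of_ne (card_le_card_group V) fun e => hVt (eq_top_of_card_eq V e)
      set w := g⁻¹ * a * g with hw
      set W := A.subgroupOf V ⊔ MulAut.conj w • A.subgroupOf V
      have hW : W.map V.subtype ≤ A ⊔ MulAut.conj ((g : G)⁻¹ * a * g) • A := by
        rw [Subgroup.map_sup, subgroupOf_map_subtype, inf_eq_left.2 hAV]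
        refine sup_le_sup_left ?_ _
        rintro _ ⟨_, ⟨b, hb, rfl⟩, rfl⟩
        exact ⟨(b : G), hb, rfl⟩
      let f : W →* ↥(A ⊔ MulAut.conj ((g : G)⁻¹ * a * g) • A) :=
        (V.subtype.comp W.subtype).codRestrict _ fun x => hW ⟨_, x.2, rfl⟩
      exact (h (a : G) ha (g : G)).comap f
    obtain ⟨M, hAM, hMt, hM⟩ := exists_greatest_overgroup A hA hprop
    have hall : ∀ a ∈ A, ∀ g : G, g⁻¹ * a * g ∈ normalizer (M : Set G) := by
      intro a ha g
      set x := g⁻¹ * a * g with hx
      have h1 : MulAut.conj x • A ≤ M := by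
        refine le_sup_right.trans (hM (A ⊔ MulAut.conj x • A) le_sup_left fun e => hA ?_)
        exact IsSubnormal.trans le_sup_left (h a ha g) (e ▸ IsSubnormal.top)
      set V := MulAut.conj x⁻¹ • M with hV
      have hAV : A ≤ V := fun b hb =>
        ⟨x * b * x⁻¹, h1 ⟨b, hb, rfl⟩, by simp [mul_assoc]⟩
      have hVt : V ≠ ⊤ := fun e => hMt (by
        have e' := congrArg (fun X => MulAut.conj x • X) e
        simp only [hV, smul_smul, ← map_mul, mul_inv_cancel, map_one, one_smul] at e'
        rw [e']
        exact Subgroup.map_top_of_surjective _ (MulEquiv.surjective _))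
      exact inv_mem_iff.1 (mem_normalizer_of_conj_smul_le (hM V hAV hVt))
    set N := normalClosure (A : Set G)
    have hNM : N ≤ normalizer (M : Set G) := (closure_le _).2 fun y hy => by
      obtain ⟨a, ha, hay⟩ := Group.mem_conjugatesOfSet_iff.1 hy
      obtain ⟨c, rfl⟩ := isConj_iff.1 hay
      simpa using hall a ha c⁻¹
    by_cases hN : N = ⊤
    · haveI : M.Normal := normalizer_eq_top_iff.1 (top_le_iff.1 (hN.ge.trans hNM))
      exact hA (IsSubnormal.trans hAM (hprop M hAM hMt) (Subgroup.Normal.isSubnormal inferInstance))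
    · exact hA (IsSubnormal.trans le_normalClosure (hprop N le_normalClosure hN)
        (Subgroup.Normal.isSubnormal inferInstance))

end Cfsg.Lib.SolvStruct
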