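/-
A Hall subgroup that is the direct product of a nilpotent σ-group and a τ-group gives Dπ for
π = σ ∪ τ as soon as Dτ holds.
-/
import Cfsg.Prelude.Def_HallClasses
import Cfsg.Agent.Transfer.Frobenius
import Cfsg.Agent.OddLocal.FittingHall

set_option linter.style.haveILetI false
set_option linter.unusedSectionVars false

namespace Cfsg.Lib.SolvStruct.SigmaHall

open Subgroup

variable {G : Type*} [Group G] [Finite G] {σ τ π : Set ℕ} {H Hs Ht : Subgroup G}

/-- The hypotheses on the Hall subgroup `H = Hs × Ht`. -/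
structure Setup (σ τ π : Set ℕ) (H Hs Ht : Subgroup G) : Prop where
  hπ : π = σ ∪ τ
  hd : Disjoint σ τ
  hH : Cfsg.IsPiHall π H
  hs : Cfsg.IsPiSubgroup σ Hs
  ht : Cfsg.IsPiSubgroup τ Ht
  hsn : Group.IsNilpotent Hs
  hjoin : Hs ⊔ Ht = H
  hcomm : ∀ a ∈ Hs, ∀ b ∈ Ht, a * b = b * a

theorem card_coprime (S : Setup σ τ π H Hs Ht) : (Nat.card Hs).Coprime (Nat.card Ht) :=
  Nat.coprime_of_dvd fun p hp h1 h2 =>
    Set.disjoint_left.1 S.hd (S.hs p hp h1) (S.ht p hp h2)

theorem mem_decomp (S : Setup σ τ π H Hs Ht) {x : G} (hx : x ∈ H) :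
    ∃ a ∈ Hs, ∃ b ∈ Ht, a * b = x ∧ orderOf x = orderOf a * orderOf b := by
  have hn : Ht ≤ normalizer (Hs : Set G) := fun b hb =>
    centralizer_le_normalizer _ fun a ha => S.hcomm a ha b hb
  rw [← S.hjoin, ← SetLike.mem_coe, coe_mul_of_right_le_normalizer_left Hs Ht hn, Set.mem_mul] at hx
  obtain ⟨a, ha, b, hb, rfl⟩ := hx
  refine ⟨a, ha, b, hb, rfl, ?_⟩
  refine (show Commute a b from S.hcomm a ha b hb).orderOf_mul_eq_mul_orderOf_of_coprime ?_
  exact ((card_coprime S).coprime_dvd_left (Subgroup.orderOf_dvd_natCard Hs ha)).coprime_dvd_right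
    (Subgroup.orderOf_dvd_natCard Ht hb)

/-- In `H`, a `p`-element with `p ∈ σ` commutes with the elements of order prime to `p`. -/
theorem commute_in_hall (S : Setup σ τ π H Hs Ht) {p : ℕ} [hp : Fact p.Prime] (hps : p ∈ σ)
    {x y : G} (hx : x ∈ H) (hy : y ∈ H) (hxp : ∃ i, orderOf x = p ^ i)
    (hyp : (orderOf y).Coprime p) : Commute x y := by
  obtain ⟨i, hi⟩ := hxp
  obtain ⟨a, ha, b, hb, hab, hord⟩ := mem_decomp S hx
  obtain ⟨c, hc, d, hd, hcd, hord'⟩ := mem_decomp S hy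
  have hpt : (p ^ i).Coprime (Nat.card Ht) :=
    Nat.Coprime.pow_left i (hp.out.coprime_iff_not_dvd.2 fun h =>
      Set.disjoint_left.1 S.hd hps (S.ht p hp.out h))
  have hb1 : b = 1 := orderOf_eq_one_iff.1 (Nat.eq_one_of_dvd_coprimes hpt
    (hi ▸ hord ▸ Dvd.intro_left _ rfl) (Subgroup.orderOf_dvd_natCard Ht hb))
  rw [hb1, mul_one] at hab
  subst hab
  haveI := S.hsn
  have h1 : Commute a c := by
    have h := Cfsg.Lib.FittingHall.commute_coprime (K := Hs) (x := ⟨a, ha⟩) (y := ⟨c, hc⟩) (by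
      rw [Subgroup.orderOf_mk, Subgroup.orderOf_mk, hi]
      exact Nat.Coprime.pow_left i (hyp.coprime_dvd_left (hord' ▸ Dvd.intro _ rfl)).symm)
    exact congrArg Subtype.val h.eq
  rw [← hcd]
  exact h1.mul_right (S.hcomm a ha d hd)

/-- The same statement in a conjugate of `H`. -/
theorem commute_in_conj (S : Setup σ τ π H Hs Ht) {p : ℕ} [Fact p.Prime] (hps : p ∈ σ) (g : G)
    {x y : G} (hx : x ∈ H.map (MulAut.conj g).toMonoidHom)
    (hy : y ∈ H.map (MulAut.conj g).toMonoidHom) (hxp : ∃ i, orderOf x = p ^ i)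
    (hyp : (orderOf y).Coprime p) : Commute x y := by
  obtain ⟨a, ha, rfl⟩ := hx
  obtain ⟨b, hb, rfl⟩ := hy
  have hinj : Function.Injective (MulAut.conj g).toMonoidHom := (MulAut.conj g).injective
  rw [orderOf_injective _ hinj] at hxp hyp
  exact (commute_in_hall S hps ha hb hxp hyp).map _

theorem conj_index (H : Subgroup G) (g : G) :
    (H.map (MulAut.conj g).toMonoidHom).index = H.index :=
  index_map_equiv H (MulAut.conj g)

theorem exists_sylow_le_conj (S : Setup σ τ π H Hs Ht) {p : ℕ} [hp : Fact p.Prime] (hpπ : p ∈ π)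
    (g : G) : ∃ P : Sylow p G, (P : Subgroup G) ≤ H.map (MulAut.conj g).toMonoidHom := by
  set H' := H.map (MulAut.conj g).toMonoidHom with hH'
  obtain ⟨R⟩ : Nonempty (Sylow p H') := inferInstance
  refine ⟨(R.2.map H'.subtype).toSylow ?_, map_subtype_le _⟩
  rw [index_map_subtype]
  refine hp.out.not_dvd_mul R.not_dvd_index ?_
  rw [hH', conj_index]
  exact S.hH.2 p hp.out hpπ

theorem exists_le_conj_of_pgroup (S : Setup σ τ π H Hs Ht) {p : ℕ} [hp : Fact p.Prime]
    (hpπ : p ∈ π) {Q : Subgroup G} (hQ : IsPGroup p Q) :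
    ∃ g : G, Q ≤ H.map (MulAut.conj g).toMonoidHom := by
  obtain ⟨P, hP⟩ := exists_sylow_le_conj S hpπ (1 : G)
  obtain ⟨T, hT⟩ := hQ.exists_le_sylow
  obtain ⟨c, hc⟩ := MulAction.exists_smul_eq G P T
  refine ⟨c, hT.trans ?_⟩
  rw [← hc, Cfsg.Lib.Transfer.sylow_smul_coe]
  refine map_mono (hP.trans ?_)
  rintro _ ⟨a, ha, rfl⟩
  simpa using ha

/-- For `p ∈ σ` every π-subgroup has a normal `p`-complement. -/
theorem hasNormalPComplement_of_pi (S : Setup σ τ π H Hs Ht) {p : ℕ} [hp : Fact p.Prime]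
    (hps : p ∈ σ) {K : Subgroup G} (hK : Cfsg.IsPiSubgroup π K) :
    Cfsg.HasNormalPComplement p K := by
  refine Cfsg.Lib.Transfer.hasNormalPComplement_of_frobenius fun Q hQ k hk hcop => ?_
  set Q' := Q.map K.subtype with hQ'def
  obtain ⟨g, hg⟩ := exists_le_conj_of_pgroup S (S.hπ ▸ Or.inl hps) (hQ.map K.subtype)
  set C := centralizer (Q' : Set G)
  set N := normalizer (Q' : Set G)
  have hkN : (k : G) ∈ N := (le_normalizer_map K.subtype) ⟨k, hk, rfl⟩
  have hcop2 : (orderOf (⟨k, hkN⟩ : N)).Coprime (C.subgroupOf N).index := by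
    rw [Subgroup.orderOf_mk, Subgroup.orderOf_coe]
    refine Nat.coprime_of_dvd fun r hr h1 h2 => ?_
    haveI := Fact.mk hr
    have hrp : r ≠ p := fun e => hr.ne_one (Nat.eq_one_of_dvd_coprimes hcop h1 (e ▸ dvd_rfl))
    obtain ⟨R, hR⟩ := exists_sylow_le_conj S (hK r hr (h1.trans (orderOf_dvd_natCard k))) g
    have hRC : (R : Subgroup G) ≤ C := fun y hy x hx => by
      obtain ⟨i, hi⟩ := IsPGroup.iff_orderOf.1 R.2 ⟨y, hy⟩
      obtain ⟨j, hj⟩ := IsPGroup.iff_orderOf.1 (hQ.map K.subtype) ⟨x, hx⟩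
      rw [Subgroup.orderOf_mk] at hi hj
      exact commute_in_conj S hps g (hg hx) (hR hy) ⟨j, hj⟩
        (hi ▸ Nat.Coprime.pow_left i ((Nat.coprime_primes hr hp.out).2 hrp))
    refine R.not_dvd_index (h2.trans ?_)
    exact (relIndex_dvd_index_of_le (centralizer_le_normalizer _)).trans (index_dvd_of_le hRC)
  have hmem := pow_index_mem (C.subgroupOf N) (⟨k, hkN⟩ : N)
  have hkC : (⟨k, hkN⟩ : N) ∈ C.subgroupOf N := by
    obtain ⟨m, hm⟩ := exists_pow_eq_self_of_coprime hcop2.symm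
    rw [← hm]
    exact pow_mem hmem m
  intro x hx
  exact Subtype.ext (hkC _ ⟨x, hx, rfl⟩)

theorem tau_maximal (S : Setup σ τ π H Hs Ht) : Maximal (Cfsg.IsPiSubgroup τ) Ht := by
  refine ⟨S.ht, fun M hM hle => relIndex_eq_one.1 ?_⟩
  have hHt : Ht ≤ H := S.hjoin ▸ le_sup_right
  by_contra hne
  obtain ⟨q, hq, hqd⟩ := Nat.exists_prime_and_dvd hne
  have hqτ : q ∈ τ := hM q hq (hqd.trans (relIndex_dvd_card Ht M))
  have hqi : q ∣ Ht.relIndex H * H.index := by
    rw [relIndex_mul_index hHt]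
    exact hqd.trans (relIndex_dvd_index_of_le hle)
  rcases hq.dvd_mul.1 hqi with h | h
  · have hn : Ht ≤ normalizer (Hs : Set G) := fun b hb =>
      centralizer_le_normalizer _ fun a ha => S.hcomm a ha b hb
    have hb : Ht ⊓ Hs = ⊥ := inf_eq_bot_of_coprime (card_coprime S).symm
    have hc := Cfsg.Lib.Coprime.card_sup_mul_card_inf (N := Hs) (H := Ht) hn
    rw [S.hjoin, inf_comm Hs Ht, hb, Subgroup.card_bot, mul_one, ← relIndex_bot_left,
      ← relIndex_mul_relIndex (⊥ : Subgroup G) Ht H bot_le hHt, relIndex_bot_left,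
      mul_comm (Nat.card Hs)] at hc
    rw [Nat.eq_of_mul_eq_mul_left Nat.card_pos hc] at h
    exact Set.disjoint_left.1 S.hd (S.hs q hq h) hqτ
  · exact S.hH.2 q hq (S.hπ ▸ Or.inr hqτ) h

theorem exists_le_conj (S : Setup σ τ π H Hs Ht) (hD : Cfsg.IsDPiGroup τ G) :
    ∀ (n : ℕ) (K : Subgroup G), Nat.card K = n → Cfsg.IsPiSubgroup π K →
      ∃ g : G, K ≤ H.map (MulAut.conj g).toMonoidHom := by
  intro n
  induction n using Nat.strong_induction_on with
  | _ n ih =>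
    intro K hn hK
    by_cases hKt : Cfsg.IsPiSubgroup τ K
    · obtain ⟨M, hKM, hM⟩ := Finite.exists_le_maximal hKt
      obtain ⟨g, hg⟩ := hD Ht M (tau_maximal S) hM
      exact ⟨g, hKM.trans (hg ▸ map_mono (S.hjoin ▸ le_sup_right))⟩
    simp only [Cfsg.IsPiSubgroup, not_forall] at hKt
    obtain ⟨p, hp, hpK, hpτ⟩ := hKt
    haveI := Fact.mk hp
    have hpπ := hK p hp hpK
    have hps : p ∈ σ := by
      rw [S.hπ] at hpπ
      exact hpπ.resolve_right hpτ
    obtain ⟨P, M, hMn, hc⟩ := hasNormalPComplement_of_pi S hps hK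
    have hMp : ¬ p ∣ Nat.card M := hc.index_eq_card ▸ P.not_dvd_index
    set M' := M.map K.subtype with hM'
    have hM'card : Nat.card M' = Nat.card M := card_subtype K M
    have hlt : Nat.card M' < n := by
      rw [hM'card, ← hn]
      exact lt_of_le_of_ne (card_le_card_group M) fun he => hMp (he ▸ hpK)
    obtain ⟨g, hg⟩ := ih _ hlt M' rfl
      (fun q hq hd => hK q hq (hd.trans (hM'card ▸ card_subgroup_dvd_card M)))
    obtain ⟨R, hR⟩ := exists_sylow_le_conj S hpπ g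
    set L := normalizer (M' : Set G)
    have hRL : (R : Subgroup G) ≤ L := fun y hy => centralizer_le_normalizer _ fun x hx => by
      obtain ⟨i, hi⟩ := IsPGroup.iff_orderOf.1 R.2 ⟨y, hy⟩
      rw [Subgroup.orderOf_mk] at hi
      refine ((commute_in_conj S hps g (hR hy) (hg hx) ⟨i, hi⟩ ?_).eq).symm
      exact ((hp.coprime_iff_not_dvd.2 hMp).coprime_dvd_right
        (hM'card ▸ Subgroup.orderOf_dvd_natCard M' hx)).symm
    have hKL : K ≤ L := fun y hy => by
      have h := le_normalizer_map (H := M) K.subtype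
      rw [normalizer_eq_top, ← MonoidHom.range_eq_map, range_subtype] at h
      exact h hy
    obtain ⟨T, hT⟩ := ((P.2.map K.subtype).comap_subtype (K := L)).exists_le_sylow
    obtain ⟨c, hc'⟩ := MulAction.exists_smul_eq L (R.subtype hRL) T
    refine ⟨(c : G) * g, fun x hx => ?_⟩
    have hconj : ∀ z ∈ H.map (MulAut.conj g).toMonoidHom,
        (c : G) * z * (c : G)⁻¹ ∈ H.map (MulAut.conj ((c : G) * g)).toMonoidHom := by
      rintro _ ⟨w, hw, rfl⟩
      exact ⟨w, hw, by simp [mul_assoc]⟩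
    obtain ⟨⟨m, a⟩, hma⟩ := hc.2 (⟨x, hx⟩ : K)
    simp only at hma
    have hm : ((m : K) : G) ∈ H.map (MulAut.conj ((c : G) * g)).toMonoidHom := by
      have hmM : ((m : K) : G) ∈ M' := ⟨m, m.2, rfl⟩
      have h1 : (c : G)⁻¹ * (m : K) * c ∈ M' := (mem_normalizer_iff''.1 c.2 _).1 hmM
      simpa [mul_assoc] using hconj _ (hg h1)
    have ha : ((a : K) : G) ∈ H.map (MulAut.conj ((c : G) * g)).toMonoidHom := by
      have h1 : (⟨((a : K) : G), hKL (a : K).2⟩ : L) ∈ (T : Subgroup L) := hT ⟨a, a.2, rfl⟩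
      rw [← hc', Cfsg.Lib.Transfer.sylow_smul_coe] at h1
      obtain ⟨s, hs, hsa⟩ := h1
      have h2 : ((a : K) : G) = (c : G) * s * (c : G)⁻¹ := (congrArg Subtype.val hsa).symm
      rw [h2]
      exact hconj _ (hR hs)
    have := mul_mem hm ha
    rwa [← Subgroup.coe_mul, hma] at this

theorem isDPiGroup (S : Setup σ τ π H Hs Ht) (hD : Cfsg.IsDPiGroup τ G) :
    Cfsg.IsDPiGroup π G := by
  have key : ∀ A : Subgroup G, Maximal (Cfsg.IsPiSubgroup π) A →
      ∃ g : G, A = H.map (MulAut.conj g).toMonoidHom := fun A hA => by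
    obtain ⟨g, hg⟩ := exists_le_conj S hD _ A rfl hA.prop
    refine ⟨g, le_antisymm hg (hA.2 (fun q hq hd => S.hH.1 q hq ?_) hg)⟩
    rwa [card_map_of_injective (MulAut.conj g).injective] at hd
  intro A B hA hB
  obtain ⟨g, rfl⟩ := key A hA
  obtain ⟨g', rfl⟩ := key B hB
  refine ⟨g' * g⁻¹, ?_⟩
  rw [map_map]
  congr 1
  ext w
  simp [mul_assoc]

end Cfsg.Lib.SolvStruct.SigmaHall
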