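/-
A `2`-element of `S_n` lies in exactly one Sylow `2`-subgroup iff it has at most two fixed points and cycles of pairwise
different lengths.
-/
import Cfsg.Agent.Known.SylowTwoSelfNorm

set_option autoImplicit false
set_option linter.unusedSectionVars false
set_option linter.style.haveILetI false

namespace Cfsg.Lib.SolvStruct.SylowTwoContain

open Equiv Equiv.Perm
open scoped Pointwise
open Cfsg.Lib.Known.SylowTwoMax

variable {γ : Type} [LinearOrder γ] [Fintype γ]

/-- fixed-point-free (up to one point) involution -/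
def IsPairing (pr : γ → γ) : Prop := (∀ x, pr (pr x) = x) ∧ ∀ a b, pr a = a → pr b = b → a = b

/-- at most two fixed points, and orbits of equal period coincide -/
def Good (x : Perm γ) : Prop :=
  (∀ a b c, x a = a → x b = b → x c = c → a = b ∨ a = c ∨ b = c) ∧
  ∀ z w, x z ≠ z → x w ≠ w → (∀ i : ℤ, (x ^ i) z = z ↔ (x ^ i) w = w) → x.SameCycle z w

theorem zpow_fix_iff (x : Perm γ) (z : γ) (i : ℤ) : (x ^ i) z = z ↔ (MulAction.period x z : ℤ) ∣ i := by
  rw [← MulAction.zpow_smul_eq_iff_period_dvd]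
  rfl

theorem period_pos' (x : Perm γ) (z : γ) : 0 < MulAction.period x z :=
  MulAction.period_pos_of_orderOf_pos (orderOf_pos x) z

theorem comm_zpow {x : Perm γ} {pr : γ → γ} (hc : x ∈ pairAut pr) (i : ℤ) (z : γ) :
    (x ^ i) (pr z) = pr ((x ^ i) z) := zpow_mem hc i z

/-- the fixed points of a power through a pairing -/
theorem pr_mem_cycle {x : Perm γ} {pr : γ → γ} (hg : Good x) (hp : IsPairing pr) (hc : x ∈ pairAut pr) {z : γ}
    (hz : x z ≠ z) : ∃ i : ℤ, (x ^ i) z = pr z ∧ pr z ≠ z ∧ ∀ j : ℤ, (x ^ j) z = pr z ↔ ((x ^ (2 * j)) z = z ∧ (x ^ j) z ≠ z) := by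
  have hne : pr z ≠ z := fun h => hz (hp.2 _ _ (by rw [← hc z, h]) h)
  have hz' : x (pr z) ≠ pr z := fun h => hz (by
    rw [hc z] at h
    have := congrArg pr h
    rwa [hp.1, hp.1] at this)
  obtain ⟨i, hi⟩ := hg.2 z (pr z) hz hz' fun j => by
    rw [comm_zpow hc]
    exact ⟨fun h => by rw [h], fun h => by have := congrArg pr h; rwa [hp.1, hp.1] at this⟩
  have h2 : (x ^ (2 * i)) z = z := by
    rw [two_mul, zpow_add, Perm.mul_apply, hi, comm_zpow hc, hi, hp.1]
  refine ⟨i, hi, hne, fun j => ⟨fun hj => ⟨?_, by rw [hj]; exact hne⟩, fun ⟨hj, hjne⟩ => ?_⟩⟩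
  · rw [two_mul, zpow_add, Perm.mul_apply, hj, comm_zpow hc, hj, hp.1]
  · rw [← hi]
    have hd : (x ^ (j - i)) z = z := by
      have hine : ¬ (x ^ i) z = z := by rw [hi]; exact hne
      simp only [Ne, zpow_fix_iff] at hj h2 hjne hine ⊢
      obtain ⟨a, ha⟩ := hj
      obtain ⟨b, hb⟩ := h2
      rcases Int.even_or_odd a with ⟨a', rfl⟩ | ⟨a', rfl⟩
      · exact absurd ⟨a', by linarith⟩ hjne
      rcases Int.even_or_odd b with ⟨b', rfl⟩ | ⟨b', rfl⟩
      · exact absurd ⟨b', by linarith⟩ hine
      exact ⟨a' - b', by linarith⟩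
    calc (x ^ j) z = (x ^ i) ((x ^ (j - i)) z) := by rw [← Perm.mul_apply, ← zpow_add, add_sub_cancel]
      _ = (x ^ i) z := by rw [hd]

theorem pairing_unique {x : Perm γ} {pr pr' : γ → γ} (hg : Good x) (hp : IsPairing pr) (hc : x ∈ pairAut pr)
    (hp' : IsPairing pr') (hc' : x ∈ pairAut pr') : pr = pr' := by
  funext z
  by_cases hz : x z = z
  swap
  · obtain ⟨i, hi, hne, hiff⟩ := pr_mem_cycle hg hp hc hz
    obtain ⟨j, hj, hne', hiff'⟩ := pr_mem_cycle hg hp' hc' hz
    rw [← hi]
    exact (hiff' i).2 ((hiff i).1 hi)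
  · have hfz : ∀ q : γ → γ, x ∈ pairAut q → x (q z) = q z := fun q hq => by rw [hq z, hz]
    have h1 := hg.1 z (pr z) (pr' z) hz (hfz pr hc) (hfz pr' hc')
    rcases h1 with h | h | h
    · by_cases h' : pr' z = z
      · rw [← h, h']
      · exfalso
        have hq : pr (pr' z) = pr' z := by
          have h2 := hg.1 z (pr' z) (pr (pr' z)) hz (hfz pr' hc') (by rw [hc (pr' z), hfz pr' hc'])
          rcases h2 with e | e | e
          · exact absurd e.symm h'
          · have := congrArg pr e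
            rw [hp.1, ← h] at this
            exact absurd this.symm h'
          · exact e.symm
        exact h' (hp.2 _ _ hq h.symm)
    · by_cases h' : pr z = z
      · rw [← h, h']
      · exfalso
        have hq : pr' (pr z) = pr z := by
          have h2 := hg.1 z (pr z) (pr' (pr z)) hz (hfz pr hc) (by rw [hc' (pr z), hfz pr hc])
          rcases h2 with e | e | e
          · exact absurd e.symm h'
          · have := congrArg pr' e
            rw [hp'.1, ← h] at this
            exact absurd this.symm h'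
          · exact e.symm
        exact h' (hp'.2 _ _ hq h.symm)
    · exact h

theorem isPairing_of_exists (P : Sylow 2 (Perm γ)) :
    ∃ pr : γ → γ, IsPairing pr ∧ (∀ z, swap z (pr z) ∈ (P : Subgroup (Perm γ))) ∧
      (∀ z y, z ≠ y → swap z y ∈ (P : Subgroup (Perm γ)) → pr z = y) ∧ (P : Subgroup (Perm γ)) ≤ pairAut pr := by
  obtain ⟨pr, hinv, hs, hu, hfix⟩ := exists_pairing P
  exact ⟨pr, ⟨hinv, hfix⟩, hs, hu, Subgroup.le_normalizer.trans (normalizer_le_pairAut P hs hu)⟩

/-- a `2`-element commuting with a pairing lies in a Sylow subgroup with this pairing -/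
theorem exists_sylow_pairing {pr : γ → γ} (hp : IsPairing pr) {x : Perm γ} (hc : x ∈ pairAut pr)
    (hx : ∃ k : ℕ, orderOf x = 2 ^ k) :
    ∃ T : Sylow 2 (Perm γ), x ∈ T ∧ ∀ z, swap z (pr z) ∈ (T : Subgroup (Perm γ)) := by
  haveI : Fact (Nat.Prime 2) := ⟨Nat.prime_two⟩
  obtain ⟨P⟩ := (inferInstance : Nonempty (Sylow 2 (Perm γ)))
  obtain ⟨pr₀, hp₀, hs₀, hu₀, hle₀⟩ := isPairing_of_exists P
  have hcyc : ∀ (q : γ → γ) (hq : IsPairing q),
      (Function.Involutive.toPerm q hq.1).cycleType = Multiset.replicate (Fintype.card γ / 2) 2 := by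
    intro q hq
    set σ := Function.Involutive.toPerm q hq.1 with hσ
    have hall : ∀ m ∈ σ.cycleType, m = 2 := fun m hm => by
      have h2 := two_le_of_mem_cycleType hm
      have hsq : σ ^ 2 = 1 := Equiv.ext fun z => by rw [pow_two, Perm.mul_apply]; exact hq.1 z
      have := Nat.le_of_dvd (by norm_num) ((dvd_of_mem_cycleType hm).trans (orderOf_dvd_of_pow_eq_one hsq))
      omega
    have hrep := Multiset.eq_replicate.2 ⟨rfl, hall⟩
    have hs := sum_cycleType σ
    rw [hrep, Multiset.sum_replicate, smul_eq_mul] at hs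
    have h1 : σ.supportᶜ.card ≤ 1 := Finset.card_le_one.2 fun a ha b hb => by
      rw [Finset.mem_compl, mem_support, not_not] at ha hb
      exact hq.2 a b ha hb
    rw [Finset.card_compl] at h1
    have := Finset.card_le_univ σ.support
    rw [hrep]
    congr 1
    omega
  obtain ⟨c, hc'⟩ := isConj_iff.1 (isConj_iff_cycleType_eq.2 ((hcyc pr₀ hp₀).trans (hcyc pr hp).symm))
  have hcp : ∀ z, c (pr₀ z) = pr (c z) := fun z => by
    have := congrArg (fun s : Perm γ => s (c z)) hc'
    simp only [Perm.mul_apply, pinv_apply] at this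
    exact this
  set Q := c • P with hQ
  have hQs : ∀ z, swap z (pr z) ∈ (Q : Subgroup (Perm γ)) := fun z => by
    have h1 : MulAut.conj c • swap (c⁻¹ z) (pr₀ (c⁻¹ z)) ∈ MulAut.conj c • (P : Subgroup (Perm γ)) :=
      Subgroup.smul_mem_pointwise_smul _ _ _ (hs₀ _)
    change c * swap (c⁻¹ z) (pr₀ (c⁻¹ z)) * c⁻¹ ∈ _ at h1
    rw [← swap_apply_apply, papply_inv, hcp, papply_inv] at h1
    exact h1
  have hQle : (Q : Subgroup (Perm γ)) ≤ pairAut pr := by
    rintro g ⟨y, hy, rfl⟩
    intro z
    show c (y (c⁻¹ (pr z))) = pr (c (y (c⁻¹ z)))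
    have e : c⁻¹ (pr z) = pr₀ (c⁻¹ z) := by
      apply c.injective
      rw [papply_inv, hcp, papply_inv]
    rw [e, hle₀ hy, hcp]
  have hz : IsPGroup 2 (Subgroup.zpowers (⟨x, hc⟩ : pairAut pr)) := by
    obtain ⟨k, hk⟩ := hx
    exact IsPGroup.of_card (n := k) (by rw [Nat.card_zpowers, Subgroup.orderOf_mk, hk])
  obtain ⟨R, hR⟩ := hz.exists_le_sylow
  obtain ⟨k, hk⟩ := MulAction.exists_smul_eq (pairAut pr) (Q.subtype hQle) R
  refine ⟨(k : Perm γ) • Q, ?_, fun z => ?_⟩
  · have h1 : (⟨x, hc⟩ : pairAut pr) ∈ ((k • Q.subtype hQle : Sylow 2 (pairAut pr)) : Subgroup (pairAut pr)) := by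
      rw [hk]; exact hR (Subgroup.mem_zpowers _)
    obtain ⟨y, hy, hye⟩ := h1
    rw [SetLike.mem_coe, Sylow.coe_subtype, Subgroup.mem_subgroupOf] at hy
    exact ⟨(y : Perm γ), hy, congrArg Subtype.val hye⟩
  · refine ⟨swap ((k : Perm γ)⁻¹ z) (pr ((k : Perm γ)⁻¹ z)), hQs _, ?_⟩
    show (k : Perm γ) * swap ((k : Perm γ)⁻¹ z) (pr ((k : Perm γ)⁻¹ z)) * (k : Perm γ)⁻¹ = swap z (pr z)
    rw [← swap_apply_apply, k.2, papply_inv]

theorem unique_of_good : ∀ (m : ℕ) (γ : Type) [LinearOrder γ] [Fintype γ], Fintype.card γ = m →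
    ∀ (x : Perm γ), Good x → ∀ P P' : Sylow 2 (Perm γ), x ∈ P → x ∈ P' → P = P' := by
  intro m
  induction m using Nat.strong_induction_on with
  | _ m ih =>
    intro γ _ _ hm x hg P P' hxP hxP'
    haveI : Fact (Nat.Prime 2) := ⟨Nat.prime_two⟩
    rcases Nat.lt_or_ge (Fintype.card γ) 2 with h | h
    · haveI : Subsingleton γ := Fintype.card_le_one_iff_subsingleton.1 (by omega)
      exact Sylow.ext (Subsingleton.elim _ _)
    obtain ⟨pr, hp, hs, hu, hPC⟩ := isPairing_of_exists P
    obtain ⟨pr', hp', hs', hu', hPC'⟩ := isPairing_of_exists P'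
    obtain rfl : pr = pr' := pairing_unique hg hp (hPC hxP) hp' (hPC' hxP')
    have hinv := hp.1
    let β := {x : γ // x < pr x}
    have hne : ∀ x, ¬ x < pr x → pr x ≠ x → pr x < pr (pr x) := fun x a b => by
      rw [hinv]; exact lt_of_le_of_ne (not_lt.1 a) b
    let π : ∀ x : γ, pr x ≠ x → β := fun x hx => if h : x < pr x then ⟨x, h⟩ else ⟨pr x, hne x h hx⟩
    have hπ : ∀ x hx, (π x hx).1 = x ∨ (π x hx).1 = pr x := fun x hx => by
      simp only [π]; split_ifs <;> simp
    have hπeq : ∀ (b : β) (x : γ) hx, (x = b.1 ∨ x = pr b.1) → π x hx = b := by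
      rintro ⟨b, hb⟩ x hx (rfl | rfl)
      · exact Subtype.ext (by simp only [π, dif_pos hb])
      · refine Subtype.ext ?_
        simp only [π]
        rw [dif_neg (by rw [hinv]; exact not_lt.2 hb.le)]
        exact hinv b
    have hb0 : ∀ b : β, pr b.1 ≠ b.1 := fun b e => lt_irrefl _ (lt_of_lt_of_eq b.2 e)
    have hmv : ∀ (k : ↥(pairAut pr)) (b : β), pr ((k : Perm γ) b.1) ≠ (k : Perm γ) b.1 := fun k b e => by
      rw [← k.2 b.1] at e
      exact hb0 b ((k : Perm γ).injective e)
    let act : ↥(pairAut pr) → β → β := fun k b => π ((k : Perm γ) b.1) (hmv k b)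
    have hact : ∀ (k : ↥(pairAut pr)) (b : β), (act k b).1 = (k : Perm γ) b.1 ∨ (act k b).1 = pr ((k : Perm γ) b.1) :=
      fun k b => hπ _ (hmv k b)
    have hact_mul : ∀ k k', ∀ b, act (k * k') b = act k (act k' b) := by
      intro k k' b
      refine hπeq _ _ (hmv (k * k') b) ?_
      rcases hact k (act k' b) with e | e <;> rcases hact k' b with e' | e' <;> rw [e, e']
      · exact Or.inl rfl
      · right; show (k : Perm γ) ((k' : Perm γ) b.1) = pr ((k : Perm γ) (pr ((k' : Perm γ) b.1)))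
        rw [k.2, hinv]
      · right; show (k : Perm γ) ((k' : Perm γ) b.1) = pr (pr ((k : Perm γ) ((k' : Perm γ) b.1)))
        rw [hinv]
      · left; show (k : Perm γ) ((k' : Perm γ) b.1) = pr ((k : Perm γ) (pr ((k' : Perm γ) b.1)))
        rw [k.2, hinv]
    have hact_one : ∀ b, act 1 b = b := fun b => hπeq b _ (hmv 1 b) (Or.inl rfl)
    let ψ : ↥(pairAut pr) →* Perm β :=
      { toFun := fun k => ⟨act k, act k⁻¹, fun b => by rw [← hact_mul, inv_mul_cancel, hact_one],
          fun b => by rw [← hact_mul, mul_inv_cancel, hact_one]⟩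
        map_one' := Equiv.ext hact_one
        map_mul' := fun k k' => Equiv.ext (hact_mul k k') }
    have hactiff : ∀ (k : ↥(pairAut pr)) (b c : β), ψ k b = c ↔ ((k : Perm γ) b.1 = c.1 ∨ (k : Perm γ) b.1 = pr c.1) := by
      intro k b c
      refine ⟨fun h => ?_, fun h => hπeq c _ (hmv k b) h⟩
      subst h
      show (k : Perm γ) b.1 = (act k b).1 ∨ (k : Perm γ) b.1 = pr (act k b).1
      rcases hact k b with e | e
      · exact Or.inl e.symm
      · exact Or.inr (by rw [e, hinv])
    set X : ↥(pairAut pr) := ⟨x, hPC hxP⟩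
    have hXpow : ∀ (i : ℤ) (b c : β), ((ψ X) ^ i) b = c ↔ ((x ^ i) b.1 = c.1 ∨ (x ^ i) b.1 = pr c.1) := by
      intro i b c
      rw [← map_zpow, hactiff, SubgroupClass.coe_zpow]
    have hg' : Good (ψ X) := by
      have hfix : ∀ b : β, ψ X b = b → (x b.1 = b.1 ∨ (x b.1 ≠ b.1 ∧ x b.1 = pr b.1)) := fun b hb => by
        rcases (hactiff X b b).1 hb with e | e
        · exact Or.inl e
        · exact Or.inr ⟨fun e' => hb0 b (e.symm.trans e'), e⟩
      have hsame : ∀ (b c : β) (z w : γ), (z = b.1 ∨ z = pr b.1) → (w = c.1 ∨ w = pr c.1) → ∀ i : ℤ, (x ^ i) z = w →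
          ((ψ X) ^ i) b = c := by
        intro b c z w hz hw i hi
        rw [hXpow]
        rcases hz with rfl | rfl
        · rw [hi]; exact hw
        · have e : (x ^ i) b.1 = pr w := by rw [← hi, comm_zpow (hPC hxP), hinv]
          rw [e]
          rcases hw with rfl | rfl
          · exact Or.inr rfl
          · exact Or.inl (hinv _)
      constructor
      · intro a b c ha hb hc
        have both_fix : ∀ u v : β, x u.1 = u.1 → x v.1 = v.1 → u = v := fun u v hu hv => by
          rcases hg.1 u.1 v.1 (pr u.1) hu hv (by rw [hPC hxP u.1, hu]) with e | e | e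
          · exact Subtype.ext e
          · exact absurd e.symm (hb0 u)
          · exact absurd v.2 (by rw [e, hinv]; exact not_lt.2 u.2.le)
        have both_two : ∀ u v : β, x u.1 ≠ u.1 → x u.1 = pr u.1 → x v.1 ≠ v.1 → x v.1 = pr v.1 → u = v :=
          fun u v hu hu' hv hv' => by
          have per : ∀ w : β, x w.1 ≠ w.1 → x w.1 = pr w.1 → ∀ i : ℤ, (x ^ i) w.1 = w.1 ↔ (2 : ℤ) ∣ i := by
            intro w hw hw' i
            have h2 : (x ^ (2 : ℤ)) w.1 = w.1 := by
              rw [zpow_two, Perm.mul_apply, hw', hPC hxP w.1, hw', hinv]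
            rw [zpow_fix_iff] at h2 ⊢
            have h1 : MulAction.period x w.1 ≠ 1 := fun h1 => hw (by
              have := (zpow_fix_iff x w.1 1).2 (by rw [h1]; exact dvd_refl _)
              rwa [zpow_one] at this)
            rcases (Nat.dvd_prime Nat.prime_two).1 (Int.natCast_dvd_natCast.1 h2) with e | e
            · exact absurd e h1
            · rw [e]; rfl
          obtain ⟨i, hi⟩ := hg.2 u.1 v.1 hu hv fun i => (per u hu hu' i).trans (per v hv hv' i).symm
          have h1 := hsame u v u.1 v.1 (Or.inl rfl) (Or.inl rfl) i hi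
          have hX1 : ψ X u = u := (hactiff X u u).2 (Or.inr hu')
          rw [Equiv.Perm.zpow_apply_eq_self_of_apply_eq_self hX1] at h1
          exact h1
        rcases hfix a ha with ha' | ⟨ha', ha''⟩ <;> rcases hfix b hb with hb' | ⟨hb', hb''⟩ <;>
          rcases hfix c hc with hc' | ⟨hc', hc''⟩
        · exact Or.inl (both_fix a b ha' hb')
        · exact Or.inl (both_fix a b ha' hb')
        · exact Or.inr (Or.inl (both_fix a c ha' hc'))
        · exact Or.inr (Or.inr (both_two b c hb' hb'' hc' hc''))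
        · exact Or.inr (Or.inr (both_fix b c hb' hc'))
        · exact Or.inr (Or.inl (both_two a c ha' ha'' hc' hc''))
        · exact Or.inl (both_two a b ha' ha'' hb' hb'')
        · exact Or.inl (both_two a b ha' ha'' hb' hb'')
      · intro b c hb hc hper
        have mv : ∀ u : β, ψ X u ≠ u → x u.1 ≠ u.1 := fun u hu e => hu ((hactiff X u u).2 (Or.inl e))
        have key : ∀ u : β, ψ X u ≠ u → (∀ i : ℤ, ((ψ X) ^ i) u = u ↔ (MulAction.period x u.1 : ℤ) ∣ 2 * i) ∧
            ∃ d : ℕ, MulAction.period x u.1 = 2 * d := by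
          intro u hu
          obtain ⟨i₀, hi₀, -, hiff⟩ := pr_mem_cycle hg hp (hPC hxP) (mv u hu)
          refine ⟨fun i => ?_, ?_⟩
          · rw [hXpow, hiff i, ← zpow_fix_iff]
            constructor
            · rintro (h | ⟨h, -⟩)
              · rw [two_mul, zpow_add, Perm.mul_apply, h, h]
              · exact h
            · intro h
              by_cases h' : (x ^ i) u.1 = u.1
              · exact Or.inl h'
              · exact Or.inr ⟨h, h'⟩
          · have h2 := (hiff i₀).1 hi₀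
            rw [Ne, zpow_fix_iff, zpow_fix_iff] at h2
            rcases Nat.even_or_odd (MulAction.period x u.1) with ⟨d, hd⟩ | hodd
            · exact ⟨d, by omega⟩
            · refine absurd ?_ h2.2
              exact IsCoprime.dvd_of_dvd_mul_left (Nat.isCoprime_iff_coprime.2 hodd.coprime_two_right) h2.1
        obtain ⟨kb, db, hdb⟩ := key b hb
        obtain ⟨kc, dc, hdc⟩ := key c hc
        have heq : MulAction.period x b.1 = MulAction.period x c.1 := by
          have h1 := (kb dc).1 ((hper dc).2 ((kc dc).2 (by rw [hdc]; push_cast; rfl)))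
          have h2 := (kc db).1 ((hper db).1 ((kb db).2 (by rw [hdb]; push_cast; rfl)))
          refine Nat.dvd_antisymm (Int.natCast_dvd_natCast.1 ?_) (Int.natCast_dvd_natCast.1 ?_)
          · conv_rhs => rw [hdc]
            push_cast
            exact h1
          · conv_rhs => rw [hdb]
            push_cast
            exact h2
        obtain ⟨i, hi⟩ := hg.2 b.1 c.1 (mv b hb) (mv c hc) fun i => by rw [zpow_fix_iff, zpow_fix_iff, heq]
        exact ⟨i, hsame b c b.1 c.1 (Or.inl rfl) (Or.inl rfl) i hi⟩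
    have hlt : Fintype.card β < m := by
      rw [← hm]
      obtain ⟨a, b, hab⟩ := Fintype.exists_pair_of_one_lt_card (by omega : 1 < Fintype.card γ)
      obtain ⟨z, hz⟩ : ∃ z, pr z ≠ z := by
        by_contra hh; push_neg at hh; exact hab (hp.2 a b (hh a) (hh b))
      refine Fintype.card_subtype_lt (x := if z < pr z then pr z else z) ?_
      split_ifs with h'
      · rw [hinv]; exact not_lt.2 h'.le
      · exact h'
    have hker : ψ.ker ≤ (P : Subgroup (Perm γ)).subgroupOf (pairAut pr) := by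
      intro d hd
      refine Subgroup.mem_subgroupOf.2 (mem_of_fix_pairs P hinv hs _ _ rfl fun z => ?_)
      have hdb : ∀ b : β, (d : Perm γ) b.1 = b.1 ∨ (d : Perm γ) b.1 = pr b.1 := fun b =>
        (hactiff d b b).1 (congrFun (congrArg (fun q : Perm β => (q : β → β)) hd) b)
      rcases lt_trichotomy z (pr z) with a | a | a
      · exact hdb ⟨z, a⟩
      · left
        refine hp.2 _ _ ?_ a.symm
        rw [← d.2 z, ← a]
      · rcases hdb ⟨pr z, by rw [hinv]; exact a⟩ with e' | e'
        · left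
          have := d.2 (pr z)
          rw [hinv, e', hinv] at this
          exact this
        · right
          have := d.2 (pr z)
          rw [hinv, e', hinv] at this
          exact this
    have himg : ∀ T : Sylow 2 (Perm γ), x ∈ T → (T : Subgroup (Perm γ)) ≤ pairAut pr →
        ∃ S : Sylow 2 (Perm β), ψ X ∈ S ∧ ∀ k : ↥(pairAut pr), (k : Perm γ) ∈ T → ψ k ∈ S := by
      intro T hxT hT
      obtain ⟨S, hS⟩ := ((T.2.comap_of_injective _ (pairAut pr).subtype_injective).map ψ).exists_le_sylow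
      exact ⟨S, hS ⟨X, hxT, rfl⟩, fun k hk => hS ⟨k, hk, rfl⟩⟩
    obtain ⟨S, hXS, hS⟩ := himg P hxP hPC
    obtain ⟨S', hXS', hS'⟩ := himg P' hxP' hPC'
    obtain rfl := ih _ hlt β rfl (ψ X) hg' S S' hXS hXS'
    set M := ((S : Subgroup (Perm β)).comap ψ).map (pairAut pr).subtype
    have hM : IsPGroup 2 M :=
      (S.2.comap_of_ker_isPGroup ψ ((P.2.comap_of_injective _ (pairAut pr).subtype_injective).to_le hker)).map _
    have h1 := P.is_maximal' hM fun g hgP => ⟨⟨g, hPC hgP⟩, hS _ hgP, rfl⟩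
    have h2 := P'.is_maximal' hM fun g hgP => ⟨⟨g, hPC' hgP⟩, hS' _ hgP, rfl⟩
    exact Sylow.ext (h1.symm.trans h2)

theorem good_of_unique {x : Perm γ} (hx : ∃ k : ℕ, orderOf x = 2 ^ k) (huniq : ∀ P P' : Sylow 2 (Perm γ), x ∈ P → x ∈ P' → P = P')
    (hnorm : ∀ P : Sylow 2 (Perm γ), Subgroup.normalizer ((P : Subgroup (Perm γ)) : Set (Perm γ)) = P) : Good x := by
  classical
  haveI : Fact (Nat.Prime 2) := ⟨Nat.prime_two⟩
  have hz : IsPGroup 2 (Subgroup.zpowers x) := by
    obtain ⟨k, hk⟩ := hx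
    exact IsPGroup.of_card (n := k) (by rw [Nat.card_zpowers, hk])
  obtain ⟨P, hP⟩ := hz.exists_le_sylow
  have hxP : x ∈ P := hP (Subgroup.mem_zpowers x)
  have hcent : ∀ g : Perm γ, Commute g x → g ∈ (P : Subgroup (Perm γ)) := fun g hg => by
    have h1 : x ∈ g • P := by
      refine ⟨x, hxP, ?_⟩
      show g * x * g⁻¹ = x
      rw [hg.eq, mul_inv_cancel_right]
    have h2 := Sylow.smul_eq_iff_mem_normalizer.1 (huniq (g • P) P h1 hxP)
    exact (hnorm P).le h2
  constructor
  · intro a b c ha hb hc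
    by_contra hne
    simp only [not_or] at hne
    have h3 := isThreeCycle_swap_mul_swap_same hne.1 hne.2.1 hne.2.2
    have hfix : ∀ y ∈ (swap a b * swap a c).support, x y = y := by
      intro y hy
      by_contra hxy
      rw [mem_support] at hy
      refine hy ?_
      have na : y ≠ a := fun e => hxy (e ▸ ha)
      have nb : y ≠ b := fun e => hxy (e ▸ hb)
      have nc : y ≠ c := fun e => hxy (e ▸ hc)
      rw [Perm.mul_apply, swap_apply_of_ne_of_ne na nc, swap_apply_of_ne_of_ne na nb]
    have hmem := hcent _ (Perm.Disjoint.commute fun y => by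
      by_cases hy : y ∈ (swap a b * swap a c).support
      · exact Or.inr (hfix y hy)
      · exact Or.inl (by rwa [mem_support, not_not] at hy))
    obtain ⟨j, hj⟩ := IsPGroup.iff_orderOf.1 P.2 ⟨_, hmem⟩
    rw [Subgroup.orderOf_mk, h3.orderOf] at hj
    exact absurd ((Nat.prime_dvd_prime_iff_eq Nat.prime_three Nat.prime_two).1
      (Nat.prime_three.dvd_of_dvd_pow (dvd_of_eq hj))) (by norm_num)
  · intro z w hz hw hper
    by_contra hns
    obtain ⟨pr, hp, hs, hu, hPC⟩ := isPairing_of_exists P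
    have hxc := hPC hxP
    have hin : ∀ u, x u ≠ u → x.SameCycle u (pr u) := fun u hu' => by
      have hc : Commute (x.cycleOf u) x := by
        refine Equiv.ext fun y => ?_
        show x.cycleOf u (x y) = x (x.cycleOf u y)
        by_cases h : x.SameCycle u y
        · rw [h.cycleOf_apply, (sameCycle_apply_right.2 h).cycleOf_apply]
        · rw [cycleOf_apply_of_not_sameCycle h, cycleOf_apply_of_not_sameCycle (fun h' => h (sameCycle_apply_right.1 h'))]
      have h1 : x.cycleOf u (pr u) = pr (x.cycleOf u u) := hPC (hcent _ hc) u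
      by_contra hcon
      rw [cycleOf_apply_of_not_sameCycle hcon, cycleOf_apply_self] at h1
      have := congrArg pr h1
      rw [hp.1, hp.1] at this
      exact hu' this.symm
    obtain ⟨iz, hiz⟩ := hin z hz
    -- the crossing pairing
    let f : γ → γ := fun y =>
      if h : x.SameCycle z y then (x ^ h.choose) w else
      if h : x.SameCycle w y then (x ^ h.choose) z else pr y
    have f1 : ∀ i : ℤ, f ((x ^ i) z) = (x ^ i) w := fun i => by
      have h : x.SameCycle z ((x ^ i) z) := ⟨i, rfl⟩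
      simp only [f, dif_pos h]
      have e : (x ^ (i - h.choose)) z = z := by
        apply (x ^ h.choose).injective
        rw [← Perm.mul_apply, ← zpow_add, add_sub_cancel]
        exact h.choose_spec.symm
      calc (x ^ h.choose) w = (x ^ h.choose) ((x ^ (i - h.choose)) w) := by rw [(hper _).1 e]
        _ = (x ^ i) w := by rw [← Perm.mul_apply, ← zpow_add, add_sub_cancel]
    have f2 : ∀ i : ℤ, f ((x ^ i) w) = (x ^ i) z := fun i => by
      have h : x.SameCycle w ((x ^ i) w) := ⟨i, rfl⟩
      have hn : ¬ x.SameCycle z ((x ^ i) w) := fun h' => hns (h'.trans h.symm)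
      simp only [f, dif_neg hn, dif_pos h]
      have e : (x ^ (i - h.choose)) w = w := by
        apply (x ^ h.choose).injective
        rw [← Perm.mul_apply, ← zpow_add, add_sub_cancel]
        exact h.choose_spec.symm
      calc (x ^ h.choose) z = (x ^ h.choose) ((x ^ (i - h.choose)) z) := by rw [(hper _).2 e]
        _ = (x ^ i) z := by rw [← Perm.mul_apply, ← zpow_add, add_sub_cancel]
    have f3 : ∀ y, ¬ x.SameCycle z y → ¬ x.SameCycle w y → f y = pr y := fun y h h' => by
      simp only [f, dif_neg h, dif_neg h']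
    have hout : ∀ u, x u ≠ u → ∀ y, ¬ x.SameCycle u y → ¬ x.SameCycle u (pr y) := fun u hu' y hy h => by
      obtain ⟨i, hi⟩ := h
      refine hy ((hin u hu').trans ⟨i, ?_⟩)
      rw [comm_zpow hxc, hi, hp.1]
    have cases3 : ∀ y, (∃ i : ℤ, y = (x ^ i) z) ∨ (∃ i : ℤ, y = (x ^ i) w) ∨ (¬ x.SameCycle z y ∧ ¬ x.SameCycle w y) := fun y => by
      by_cases h : x.SameCycle z y
      · obtain ⟨i, hi⟩ := h
        exact Or.inl ⟨i, hi.symm⟩
      by_cases h' : x.SameCycle w y
      · obtain ⟨i, hi⟩ := h'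
        exact Or.inr (Or.inl ⟨i, hi.symm⟩)
      exact Or.inr (Or.inr ⟨h, h'⟩)
    have hzw : ∀ i : ℤ, (x ^ i) w ≠ (x ^ i) z := fun i e => hns (by rw [(x ^ i).injective e.symm])
    have hfp : IsPairing f := by
      refine ⟨fun y => ?_, fun a b ha hb => ?_⟩
      · rcases cases3 y with ⟨i, rfl⟩ | ⟨i, rfl⟩ | ⟨h, h'⟩
        · rw [f1, f2]
        · rw [f2, f1]
        · rw [f3 y h h', f3 _ (hout z hz y h) (hout w hw y h'), hp.1]
      · rcases cases3 a with ⟨i, rfl⟩ | ⟨i, rfl⟩ | ⟨h, h'⟩
        · rw [f1] at ha; exact absurd ha (hzw i)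
        · rw [f2] at ha; exact absurd ha.symm (hzw i)
        rw [f3 a h h'] at ha
        rcases cases3 b with ⟨i, rfl⟩ | ⟨i, rfl⟩ | ⟨hb1, hb2⟩
        · rw [f1] at hb; exact absurd hb (hzw i)
        · rw [f2] at hb; exact absurd hb.symm (hzw i)
        rw [f3 b hb1 hb2] at hb
        exact hp.2 a b ha hb
    have hxf : x ∈ pairAut f := fun y => by
      rcases cases3 y with ⟨i, rfl⟩ | ⟨i, rfl⟩ | ⟨h, h'⟩
      · rw [f1, ← Perm.mul_apply, ← Perm.mul_apply, ← zpow_one_add, f1]
      · rw [f2, ← Perm.mul_apply, ← Perm.mul_apply, ← zpow_one_add, f2]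
      · rw [f3 y h h', f3 (x y) (fun h'' => h (sameCycle_apply_right.1 h'')) (fun h'' => h' (sameCycle_apply_right.1 h''))]
        exact hxc y
    obtain ⟨T, hxT, hTs⟩ := exists_sylow_pairing hfp hxf hx
    obtain rfl := huniq T P hxT hxP
    have h4 := hu z w (fun e => hns (by rw [e])) (by
      have := hTs z
      have e : f z = w := by simpa using f1 0
      rwa [e] at this)
    exact hns (h4 ▸ ⟨iz, hiz⟩)

theorem good_iff {n : ℕ} (x : Perm (Fin n)) : Good x ↔ (n ≤ x.support.card + 2 ∧ x.cycleType.Nodup) := by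
  classical
  have hfix : (∀ a b c, x a = a → x b = b → x c = c → a = b ∨ a = c ∨ b = c) ↔ n ≤ x.support.card + 2 := by
    have hcard : x.supportᶜ.card + x.support.card = n := by
      rw [Finset.card_compl_add_card, Fintype.card_fin]
    constructor
    · intro h
      by_contra hlt
      obtain ⟨a, b, c, ha, hb, hc, hab, hac, hbc⟩ := Finset.two_lt_card_iff.1 (show 2 < x.supportᶜ.card by omega)
      rw [Finset.mem_compl, mem_support, not_not] at ha hb hc
      rcases h a b c ha hb hc with e | e | e <;> contradiction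
    · intro h a b c ha hb hc
      by_contra hne
      simp only [not_or] at hne
      have : 2 < x.supportᶜ.card := Finset.two_lt_card_iff.2 ⟨a, b, c, by simpa using ha, by simpa using hb,
        by simpa using hc, hne.1, hne.2.1, hne.2.2⟩
      omega
  have hper : ∀ u, x u ≠ u → ∀ i : ℤ, (x ^ i) u = u ↔ ((x.cycleOf u).support.card : ℤ) ∣ i := by
    intro u hu i
    have hcyc := isCycle_cycleOf x hu
    rw [← hcyc.orderOf, orderOf_dvd_iff_zpow_eq_one, ← cycleOf_zpow_apply_self]
    constructor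
    · intro h
      obtain ⟨j, hj⟩ : ∃ j : ℕ, (x.cycleOf u) ^ i = (x.cycleOf u) ^ j :=
        ⟨(i % (orderOf (x.cycleOf u) : ℤ)).toNat, by
          rw [← zpow_natCast, Int.toNat_of_nonneg (Int.emod_nonneg _ (by exact_mod_cast (orderOf_pos _).ne')), zpow_mod_orderOf]⟩
      rw [hj] at h ⊢
      exact hcyc.pow_eq_one_iff.2 ⟨u, by rw [cycleOf_apply_self]; exact hu, h⟩
    · intro h
      rw [h]
      rfl
  have hnd : (∀ z w, x z ≠ z → x w ≠ w → (∀ i : ℤ, (x ^ i) z = z ↔ (x ^ i) w = w) → x.SameCycle z w) ↔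
      x.cycleType.Nodup := by
    rw [cycleType_def]
    constructor
    · intro h
      refine Multiset.Nodup.map_on ?_ x.cycleFactorsFinset.nodup
      intro c hc d hd hcd
      obtain ⟨u, hu, -⟩ := (mem_cycleFactorsFinset_iff.1 (show c ∈ x.cycleFactorsFinset from hc)).1
      obtain ⟨v, hv, -⟩ := (mem_cycleFactorsFinset_iff.1 (show d ∈ x.cycleFactorsFinset from hd)).1
      have ec : c = x.cycleOf u := cycle_is_cycleOf (mem_support.2 hu) hc
      have ed : d = x.cycleOf v := cycle_is_cycleOf (mem_support.2 hv) hd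
      have hu' : x u ≠ u := by rw [← cycleOf_apply_self, ← ec]; exact hu
      have hv' : x v ≠ v := by rw [← cycleOf_apply_self, ← ed]; exact hv
      have hs := h u v hu' hv' fun i => by
        rw [hper u hu', hper v hv', ← ec, ← ed]
        simp only [Function.comp_apply] at hcd
        rw [hcd]
      rw [ec, ed, hs.cycleOf_eq]
    · intro h z w hz hw hp
      have ez := cycleOf_mem_cycleFactorsFinset_iff.2 (mem_support.2 hz)
      have ew := cycleOf_mem_cycleFactorsFinset_iff.2 (mem_support.2 hw)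
      have hcd : (x.cycleOf z).support.card = (x.cycleOf w).support.card := by
        refine Nat.dvd_antisymm ?_ ?_
        · exact Int.natCast_dvd_natCast.1 ((hper z hz _).1 ((hp _).2 ((hper w hw _).2 dvd_rfl)))
        · exact Int.natCast_dvd_natCast.1 ((hper w hw _).1 ((hp _).1 ((hper z hz _).2 dvd_rfl)))
      have e := Multiset.inj_on_of_nodup_map h _ ez _ ew hcd
      by_contra hns
      have h1 : x.cycleOf w z = x z := by rw [← e, cycleOf_apply_self]
      rw [cycleOf_apply_of_not_sameCycle (fun h' => hns h'.symm)] at h1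
      exact hz h1.symm
  exact and_congr hfix hnd

theorem main (n : ℕ) (x : Perm (Fin n)) (hx : ∃ k : ℕ, orderOf x = 2 ^ k) :
    (∃! P : Sylow 2 (Perm (Fin n)), x ∈ P) ↔ (n ≤ x.support.card + 2 ∧ x.cycleType.Nodup) := by
  haveI : Fact (Nat.Prime 2) := ⟨Nat.prime_two⟩
  rw [← good_iff]
  refine ⟨fun h => good_of_unique hx (fun P P' h1 h2 => h.unique h1 h2) selfNorm, fun hg => ?_⟩
  obtain ⟨k, hk⟩ := hx
  obtain ⟨P, hP⟩ := (IsPGroup.of_card (G := Subgroup.zpowers x) (p := 2) (n := k) (by rw [Nat.card_zpowers, hk])).exists_le_sylow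
  exact ⟨P, hP (Subgroup.mem_zpowers x), fun P' h' => unique_of_good _ _ rfl x hg P' P h' (hP (Subgroup.mem_zpowers x))⟩

end Cfsg.Lib.SolvStruct.SylowTwoContain
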