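/-
A redundant Sylow `p`-subgroup of `GL(p, F)` when `p` exactly divides `|F| - 1`.
-/
import Mathlib

set_option linter.style.haveILetI false
set_option linter.unusedSectionVars false

namespace Cfsg.Lib.RedundantSylowGL

open Matrix
open scoped BigOperators

variable {F : Type*} [Field F] {p : ℕ} [hp : Fact p.Prime]

/-- The monomial matrix of a vector and a translation. -/
def mono (d : ZMod p → F) (s : ZMod p) : Matrix (ZMod p) (ZMod p) F :=
  Matrix.of fun i j => if j = i + s then d i else 0

theorem mono_apply (d : ZMod p → F) (s i j : ZMod p) : mono d s i j = if j = i + s then d i else 0 := rfl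

theorem mono_mul (d e : ZMod p → F) (s t : ZMod p) :
    mono d s * mono e t = mono (fun i => d i * e (i + s)) (s + t) := by
  ext i j
  rw [Matrix.mul_apply, Finset.sum_eq_single (i + s)]
  · simp only [mono_apply, if_pos rfl, add_assoc]
    split_ifs <;> simp
  · intro k _ hk
    simp [mono_apply, hk]
  · exact fun h => absurd (Finset.mem_univ _) h

theorem mono_one : mono (fun _ => (1 : F)) (0 : ZMod p) = 1 := by
  ext i j
  simp [mono_apply, Matrix.one_apply, eq_comm]

theorem mono_inj {d e : ZMod p → F} {s t : ZMod p} (hd : ∀ i, d i ≠ 0) (h : mono d s = mono e t) :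
    d = e ∧ s = t := by
  have hst : s = t := by
    by_contra hne
    have := congrFun (congrFun h 0) (0 + s)
    rw [mono_apply, mono_apply, if_pos rfl, if_neg (by simpa using hne)] at this
    exact hd 0 this
  subst hst
  refine ⟨funext fun i => ?_, rfl⟩
  have := congrFun (congrFun h i) (i + s)
  simpa [mono_apply] using this

theorem mono_pow (d : ZMod p → F) (s : ZMod p) (n : ℕ) :
    mono d s ^ n = mono (fun i => ∏ k ∈ Finset.range n, d (i + k • s)) (n • s) := by
  induction n with
  | zero => simp [mono_one]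
  | succ n ih =>
    rw [pow_succ, ih, mono_mul]
    congr 1
    · funext i; rw [Finset.prod_range_succ]
    · rw [succ_nsmul]

local notation "GLp" => GL (ZMod p) F

/-- The monomial group with `p`-th roots of unity as entries. -/
def monoGroup (F : Type*) [Field F] (p : ℕ) [Fact p.Prime] : Subgroup (GL (ZMod p) F) where
  carrier := {g | ∃ (d : ZMod p → F) (s : ZMod p), (∀ i, d i ^ p = 1) ∧ (g : Matrix (ZMod p) (ZMod p) F) = mono d s}
  one_mem' := ⟨fun _ => 1, 0, fun _ => one_pow _, by rw [Units.val_one, mono_one]⟩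
  mul_mem' := by
    rintro a b ⟨d, s, hd, ha⟩ ⟨e, t, he, hb⟩
    exact ⟨fun i => d i * e (i + s), s + t, fun i => by rw [mul_pow, hd, he, one_mul], by rw [Units.val_mul, ha, hb, mono_mul]⟩
  inv_mem' := by
    rintro a ⟨d, s, hd, ha⟩
    refine ⟨fun i => (d (i - s))⁻¹, -s, fun i => by rw [inv_pow, hd, inv_one], ?_⟩
    refine Units.inv_eq_of_mul_eq_one_right ?_
    rw [ha, mono_mul, add_neg_cancel, ← mono_one]
    congr 1
    funext i
    rw [add_sub_cancel_right, mul_inv_cancel₀]
    intro h0
    have := hd i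
    rw [h0, zero_pow (Fact.out : p.Prime).ne_zero] at this
    exact zero_ne_one this

theorem root_ne_zero {c : F} (h : c ^ p = 1) : c ≠ 0 := fun h0 => by
  rw [h0, zero_pow hp.out.ne_zero] at h
  exact zero_ne_one h

variable [Fintype F]

/-- A row has at most one non-zero entry. -/
def IsMono (A : Matrix (ZMod p) (ZMod p) F) : Prop := ∀ i j k, A i j ≠ 0 → A i k ≠ 0 → j = k

theorem exists_root (h1 : p ∣ Fintype.card F - 1) : ∃ ζ : F, ζ ^ p = 1 ∧ ζ ≠ 1 := by
  classical
  obtain ⟨u, hu⟩ := exists_prime_orderOf_dvd_card (G := Fˣ) p (by rwa [Fintype.card_units])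
  refine ⟨u, by rw [← Units.val_pow_eq_pow_val, ← hu, pow_orderOf_eq_one, Units.val_one], fun h => ?_⟩
  rw [Units.val_eq_one.1 h, orderOf_one] at hu
  exact hp.out.one_lt.ne hu

theorem prime_ne_zero (h1 : p ∣ Fintype.card F - 1) : (p : F) ≠ 0 := by
  intro h0
  haveI := ringChar.charP F
  have hdvd : ringChar F ∣ p := (CharP.cast_eq_zero_iff F (ringChar F) p).1 h0
  obtain ⟨n, hr, hc⟩ := FiniteField.card F (ringChar F)
  rw [(Nat.prime_dvd_prime_iff_eq hr hp.out).1 hdvd] at hc
  have h2 : p ∣ Fintype.card F := hc ▸ dvd_pow_self p n.pos.ne'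
  have h3 : 1 ≤ Fintype.card F := Fintype.card_pos
  have := Nat.dvd_sub h2 h1
  rw [show Fintype.card F - (Fintype.card F - 1) = 1 by omega] at this
  exact hp.out.not_dvd_one this

theorem root_pow (h2 : ¬ p ^ 2 ∣ Fintype.card F - 1) {c : F} {k : ℕ} (h : c ^ p ^ k = 1) : c ^ p = 1 := by
  classical
  have hc : c ≠ 0 := fun h0 => by
    rw [h0, zero_pow (pow_ne_zero _ hp.out.ne_zero)] at h; exact zero_ne_one h
  obtain ⟨i, -, hi⟩ := (Nat.dvd_prime_pow hp.out).1 (orderOf_dvd_of_pow_eq_one h)
  have hdvd : orderOf c ∣ Fintype.card F - 1 := orderOf_dvd_of_pow_eq_one (FiniteField.pow_card_sub_one_eq_one c hc)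
  rw [← orderOf_dvd_iff_pow_eq_one, hi]
  rcases Nat.lt_or_ge i 2 with hlt | hge
  · exact (pow_dvd_pow p (show i ≤ 1 by omega)).trans (pow_one p).dvd
  · exact absurd ((pow_dvd_pow p hge).trans (hi ▸ hdvd)) h2

theorem isPGroup_monoGroup : IsPGroup p (monoGroup F p) := by
  rintro ⟨g, d, s, hd, hg⟩
  refine ⟨2, Subtype.ext (Units.ext ?_)⟩
  simp only [SubmonoidClass.coe_pow, Units.val_pow_eq_pow_val, OneMemClass.coe_one, Units.val_one, hg,
    pow_two, pow_mul, mono_pow d s p]
  rw [mono_pow]
  have hps : p • s = 0 := by rw [nsmul_eq_mul, ZMod.natCast_self, zero_mul]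
  rw [hps, nsmul_zero, ← mono_one]
  congr 1
  funext i
  simp only [smul_zero, add_zero, Finset.prod_const, Finset.card_range]
  rw [← Finset.prod_pow, Finset.prod_eq_one fun k _ => hd _]

/-- The diagonal unit of a vector of roots. -/
def diagUnit (d : ZMod p → F) (hd : ∀ i, d i ^ p = 1) : GLp where
  val := mono d 0
  inv := mono (fun i => (d i)⁻¹) 0
  val_inv := by
    rw [mono_mul, add_zero, ← mono_one]
    congr 1; funext i; rw [add_zero, mul_inv_cancel₀ (root_ne_zero (hd i))]
  inv_val := by
    rw [mono_mul, add_zero, ← mono_one]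
    congr 1; funext i; rw [add_zero, inv_mul_cancel₀ (root_ne_zero (hd i))]

theorem diagUnit_mem (d : ZMod p → F) (hd : ∀ i, d i ^ p = 1) : diagUnit d hd ∈ monoGroup F p :=
  ⟨d, 0, hd, rfl⟩

/-- The shift. -/
def shiftUnit (F : Type*) [Field F] (p : ℕ) [Fact p.Prime] : GL (ZMod p) F where
  val := mono (fun _ => 1) 1
  inv := mono (fun _ => 1) (-1)
  val_inv := by rw [mono_mul, add_neg_cancel, ← mono_one]; congr 1; simp
  inv_val := by rw [mono_mul, neg_add_cancel, ← mono_one]; congr 1; simp

theorem shiftUnit_mem : shiftUnit F p ∈ monoGroup F p := ⟨fun _ => 1, 1, fun _ => one_pow _, rfl⟩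

theorem zero_cast_ne (s : ZMod p) (hs : s ≠ 0) (c : ZMod p) : ∃ k : ℕ, k • s = c :=
  ⟨(c / s).val, by rw [nsmul_eq_mul, ZMod.natCast_zmod_val, div_mul_cancel₀ _ hs]⟩

/-- The normalizer of the monomial group preserves the diagonal part. -/
theorem conj_diag (hp2 : p ≠ 2) (h1 : p ∣ Fintype.card F - 1) {g : GLp}
    (hg : g ∈ Subgroup.normalizer (monoGroup F p : Set GLp)) (d : ZMod p → F) (hd : ∀ i, d i ^ p = 1) :
    ∃ e : ZMod p → F, (∀ i, e i ^ p = 1) ∧
      (g : Matrix (ZMod p) (ZMod p) F) * mono d 0 = mono e 0 * (g : Matrix (ZMod p) (ZMod p) F) := by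
  classical
  obtain ⟨ζ, hζ, hζ1⟩ := exists_root (F := F) h1
  have himg : ∀ d : ZMod p → F, (∀ i, d i ^ p = 1) → ∃ (e : ZMod p → F) (s : ZMod p), (∀ i, e i ^ p = 1) ∧
      (g : Matrix (ZMod p) (ZMod p) F) * mono d 0 = mono e s * (g : Matrix (ZMod p) (ZMod p) F) := by
    intro d hd
    obtain ⟨e, s, he, hes⟩ := (Subgroup.mem_normalizer_iff.1 hg _).1 (diagUnit_mem d hd)
    refine ⟨e, s, he, ?_⟩
    have h := congrArg (fun m => m * (g : Matrix (ZMod p) (ZMod p) F)) hes
    simpa [mul_assoc, diagUnit] using h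
  by_contra hno
  push Not at hno
  choose E S hE hES using himg
  have hs : S d hd ≠ 0 := fun h0 => hno _ (hE d hd) (by have h := hES d hd; rwa [h0] at h)
  -- an injection of `p ^ p` vectors into pairs
  let Φ : (ZMod p → {c : F // c ^ p = 1}) → ZMod p × {c : F // c ^ p = 1} :=
    fun v => (S (fun i => (v i : F)) (fun i => (v i).2), v 0)
  have hroots : Fintype.card {c : F // c ^ p = 1} = p := by
    refine le_antisymm ?_ ?_
    · rw [Fintype.card_subtype]
      refine (Finset.card_le_card (t := (Polynomial.nthRoots p (1 : F)).toFinset) fun c hc => ?_).trans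
        ((Multiset.toFinset_card_le _).trans (Polynomial.card_nthRoots p 1))
      rw [Multiset.mem_toFinset, Polynomial.mem_nthRoots hp.out.pos]
      exact (Finset.mem_filter.1 hc).2
    · have hinj : Function.Injective fun k : Fin p => (⟨ζ ^ (k : ℕ), by rw [← pow_mul, mul_comm, pow_mul, hζ, one_pow]⟩ : {c : F // c ^ p = 1}) := by
        intro a b hab
        have ho : orderOf ζ = p := orderOf_eq_prime hζ hζ1
        exact Fin.ext (pow_injOn_Iio_orderOf (by simpa [ho] using a.2) (by simpa [ho] using b.2) (congrArg Subtype.val hab))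
      have h3 := Fintype.card_le_of_injective _ hinj
      rwa [Fintype.card_fin] at h3
  have hΦ : Function.Injective Φ := by
    intro v w hvw
    simp only [Φ, Prod.mk.injEq] at hvw
    obtain ⟨hS, h0⟩ := hvw
    set dv : ZMod p → F := fun i => (v i : F)
    set dw : ZMod p → F := fun i => (w i : F)
    have hv : ∀ i, dv i ^ p = 1 := fun i => (v i).2
    have hw : ∀ i, dw i ^ p = 1 := fun i => (w i).2
    set r : ZMod p → F := fun i => dw i * (dv i)⁻¹
    have hr : ∀ i, r i ^ p = 1 := fun i => by rw [mul_pow, inv_pow, hv, hw, inv_one, mul_one]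
    have hGi : ∀ A B : Matrix (ZMod p) (ZMod p) F,
        A * (g : Matrix (ZMod p) (ZMod p) F) = B * (g : Matrix (ZMod p) (ZMod p) F) → A = B := fun A B h => by
      simpa [mul_assoc] using congrArg (· * ((g⁻¹ : GLp) : Matrix (ZMod p) (ZMod p) F)) h
    have e1 : mono (fun i => E r hr i * E dv hv (i + S r hr)) (S r hr + S dv hv) = mono (E dw hw) (S dw hw) := by
      refine hGi _ _ ?_
      rw [← mono_mul, mul_assoc, ← hES dv hv, ← mul_assoc, ← hES r hr, mul_assoc, mono_mul, ← hES dw hw]
      congr 2
      · funext i; rw [add_zero]; simp only [r, mul_assoc, inv_mul_cancel₀ (root_ne_zero (hv i)), mul_one]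
      · rw [add_zero]
    obtain ⟨-, e2⟩ := mono_inj (fun i => mul_ne_zero (root_ne_zero (hE r hr i)) (root_ne_zero (hE dv hv _))) e1
    have hSr : S r hr = 0 := add_eq_right.1 (e2.trans hS.symm)
    -- commute with the image of `d`
    have e3 : mono (fun i => E r hr i * E d hd (i + S r hr)) (S r hr + S d hd) =
        mono (fun i => E d hd i * E r hr (i + S d hd)) (S d hd + S r hr) := by
      refine hGi _ _ ?_
      rw [← mono_mul, ← mono_mul, Matrix.mul_assoc (mono (E r hr) _), Matrix.mul_assoc (mono (E d hd) _),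
        ← hES d hd, ← hES r hr, ← mul_assoc, ← hES r hr, ← mul_assoc, ← hES d hd, mul_assoc, mul_assoc,
        mono_mul, mono_mul]
      congr 2
      funext i; simp only [add_zero]; exact mul_comm _ _
    obtain ⟨e4, -⟩ := mono_inj (fun i => mul_ne_zero (root_ne_zero (hE r hr i)) (root_ne_zero (hE d hd _))) e3
    have hconst : ∀ i, E r hr (i + S d hd) = E r hr i := fun i => by
      have := congrFun e4 i
      rw [hSr, add_zero, mul_comm (E r hr i)] at this
      exact (mul_left_cancel₀ (root_ne_zero (hE d hd i)) this).symm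
    have hconst' : ∀ i, E r hr i = E r hr 0 := fun i => by
      obtain ⟨k, rfl⟩ := zero_cast_ne _ hs i
      induction k with
      | zero => simp
      | succ k ih => rw [succ_nsmul, hconst, ih]
    have hscal : ∀ (c : F) (A : Matrix (ZMod p) (ZMod p) F), mono (fun _ => c) 0 * A = A * mono (fun _ => c) 0 := by
      intro c A
      have : mono (fun _ => c) (0 : ZMod p) = c • (1 : Matrix (ZMod p) (ZMod p) F) := by
        ext i j
        by_cases hij : j = i
        · subst hij; simp [mono_apply]
        · simp [mono_apply, hij, Matrix.one_apply, Ne.symm hij]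
      rw [this]; simp
    have e5 : mono r 0 = mono (fun _ => E r hr 0) (0 : ZMod p) := by
      have h := hES r hr
      rw [hSr, show E r hr = fun _ => E r hr 0 from funext hconst', hscal] at h
      simpa [← mul_assoc] using congrArg (((g⁻¹ : GLp) : Matrix (ZMod p) (ZMod p) F) * ·) h
    obtain ⟨e6, -⟩ := mono_inj (fun i => root_ne_zero (hr i)) e5
    have hone : E r hr 0 = 1 := by
      rw [← congrFun e6 0]
      simp only [r, dv, dw, h0, mul_inv_cancel₀ (root_ne_zero (hw 0))]
    funext i
    refine Subtype.ext ?_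
    have h := congrFun e6 i
    simp only [r, hone] at h
    exact (eq_comm.1 ((mul_inv_eq_one₀ (root_ne_zero (hv i))).1 h))
  have hle := Fintype.card_le_of_injective Φ hΦ
  rw [Fintype.card_fun, Fintype.card_prod, ZMod.card, hroots, ← sq] at hle
  have h3 : 3 ≤ p := by
    have := hp.out.two_le
    omega
  exact absurd hle (not_le.2 (Nat.pow_lt_pow_right hp.out.one_lt h3))

theorem isMono_of_normalizer (hp2 : p ≠ 2) (h1 : p ∣ Fintype.card F - 1) {g : GLp}
    (hg : g ∈ Subgroup.normalizer (monoGroup F p : Set GLp)) : IsMono (g : Matrix (ZMod p) (ZMod p) F) := by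
  classical
  intro i j k hj hk
  by_contra hjk
  obtain ⟨ζ, hζ, hζ1⟩ := exists_root (F := F) h1
  obtain ⟨e, -, h⟩ := conj_diag hp2 h1 hg (fun m => if m = j then ζ else 1) (fun m => by split_ifs <;> simp [hζ])
  have key : ∀ m, (g : Matrix (ZMod p) (ZMod p) F) i m * (if m = j then ζ else 1) =
      e i * (g : Matrix (ZMod p) (ZMod p) F) i m := by
    intro m
    have := congrFun (congrFun h i) m
    rw [Matrix.mul_apply, Matrix.mul_apply, Finset.sum_eq_single m, Finset.sum_eq_single i] at this
    · simpa [mono_apply] using this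
    all_goals first
      | (intro b _ hb; simp [mono_apply, hb, Ne.symm hb])
      | exact fun hh => absurd (Finset.mem_univ _) hh
  have e1 := key j
  have e2 := key k
  rw [if_pos rfl, mul_comm] at e1
  rw [if_neg (Ne.symm hjk), mul_one] at e2
  have : e i = 1 := mul_right_cancel₀ hk ((e2.symm.trans (one_mul _).symm))
  exact hζ1 ((mul_right_cancel₀ hj e1).trans this)

/-- The monomial group is a Sylow subgroup. -/
theorem monoGroup_maximal (hp2 : p ≠ 2) (h1 : p ∣ Fintype.card F - 1) (h2 : ¬ p ^ 2 ∣ Fintype.card F - 1)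
    {R : Subgroup GLp} (hR : IsPGroup p R) (hle : monoGroup F p ≤ R) : R = monoGroup F p := by
  classical
  by_contra hne
  haveI : Finite R := inferInstance
  haveI := hR.isNilpotent
  have hlt : (monoGroup F p).subgroupOf R < ⊤ := lt_top_iff_ne_top.2 fun e =>
    hne (le_antisymm (Subgroup.subgroupOf_eq_top.1 e) hle)
  obtain ⟨gR, hgN, hgQ⟩ := SetLike.exists_of_lt
    (Group.normalizerCondition_of_isNilpotent (G := R) _ hlt)
  set g : GLp := (gR : GLp)
  have hg : g ∈ Subgroup.normalizer (monoGroup F p : Set GLp) := Subgroup.mem_normalizer_iff.2 fun x => by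
    refine ⟨fun hx => ?_, fun hx => ?_⟩
    · exact (Subgroup.mem_normalizer_iff.1 hgN ⟨x, hle hx⟩).1 hx
    · have hxR : x ∈ R := by
        have h3 := R.mul_mem (R.mul_mem (R.inv_mem gR.2) (hle hx)) gR.2
        simpa [g, mul_assoc] using h3
      exact (Subgroup.mem_normalizer_iff.1 hgN ⟨x, hxR⟩).2 hx
  refine hgQ ?_
  show g ∈ monoGroup F p
  set A := (g : Matrix (ZMod p) (ZMod p) F)
  have hmono := isMono_of_normalizer hp2 h1 hg
  have hex : ∀ i, ∃ j, A i j ≠ 0 := fun i => by
    by_contra h0
    push Not at h0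
    have : (A * ((g⁻¹ : GLp) : Matrix (ZMod p) (ZMod p) F)) i i = (1 : Matrix (ZMod p) (ZMod p) F) i i := by simp [A]
    simp [Matrix.mul_apply, h0] at this
  choose π hπ using hex
  have hπ' : ∀ i j, A i j ≠ 0 → j = π i := fun i j h => hmono i j (π i) h (hπ i)
  obtain ⟨e, s, he, hes⟩ := (Subgroup.mem_normalizer_iff.1 hg _).1 (shiftUnit_mem (F := F) (p := p))
  have hcomm : A * mono (fun _ => 1) 1 = mono e s * A := by
    have h := congrArg (fun m => m * A) hes
    simpa [mul_assoc, shiftUnit, A] using h
  have hshift : ∀ i, π (i + s) = π i + 1 := by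
    intro i
    have h := congrFun (congrFun hcomm i) (π i + 1)
    rw [Matrix.mul_apply, Matrix.mul_apply, Finset.sum_eq_single (π i), Finset.sum_eq_single (i + s)] at h
    · rw [mono_apply, mono_apply, if_pos rfl, if_pos rfl, mul_one] at h
      refine (hπ' _ _ fun h0 => hπ i ?_).symm
      rw [h, h0, mul_zero]
    all_goals first
      | (intro b _ hb; rw [mono_apply, if_neg hb, zero_mul])
      | (intro b _ hb; rw [mono_apply, if_neg (fun h3 => hb (add_right_cancel h3).symm), mul_zero])
      | exact fun hh => absurd (Finset.mem_univ _) hh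
  have hs : s ≠ 0 := fun h0 => by
    have := hshift 0
    rw [h0, add_zero] at this
    exact one_ne_zero (left_eq_add.1 this)
  -- `π x = a x + b`
  have haff : ∀ x, π x = π 0 + x / s := by
    intro x
    obtain ⟨k, rfl⟩ := zero_cast_ne s hs x
    have : ∀ k : ℕ, π (k • s) = π 0 + (k : ZMod p) := fun k => by
      induction k with
      | zero => simp
      | succ k ih => rw [succ_nsmul, hshift, ih, Nat.cast_succ, add_assoc]
    rw [this, nsmul_eq_mul, mul_div_cancel_right₀ _ hs]
  obtain ⟨m, hm⟩ := hR gR
  have hpow : ∀ n : ℕ, ∀ i j, (A ^ n) i j ≠ 0 → j = π^[n] i := by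
    intro n
    induction n with
    | zero => intro i j h; by_contra hne'; exact h (by rw [pow_zero]; exact Matrix.one_apply_ne fun h' => hne' h'.symm)
    | succ n ih =>
      intro i j h
      rw [pow_succ, Matrix.mul_apply] at h
      obtain ⟨l, -, hl⟩ := Finset.exists_ne_zero_of_sum_ne_zero h
      rw [Function.iterate_succ_apply', ← ih i l (left_ne_zero_of_mul hl)]
      exact hπ' l j (right_ne_zero_of_mul hl)
  have hid : ∀ i, π^[p ^ m] i = i := fun i => by
    refine (hpow _ i i ?_).symm
    have h : (g ^ p ^ m : GLp) = 1 := by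
      have := congrArg Subtype.val hm; simpa [g] using this
    have h' : A ^ p ^ m = 1 := by rw [← Units.val_pow_eq_pow_val, h, Units.val_one]
    rw [h']; simp
  have hit : ∀ n i, π^[n] i - π^[n] 0 = i / s ^ n := fun n => by
    induction n with
    | zero => intro i; simp
    | succ n ih =>
      intro i
      rw [Function.iterate_succ_apply', Function.iterate_succ_apply', haff (π^[n] i), haff (π^[n] 0),
        add_sub_add_left_eq_sub, ← sub_div, ih, pow_succ, div_div]
  have hs1 : s = 1 := by
    have h := hit (p ^ m) 1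
    rw [hid, hid, sub_zero, ZMod.pow_card_pow, one_div, eq_comm, inv_eq_one] at h
    exact h
  have hform : A = mono (fun i => A i (π i)) (π 0) := by
    ext i j
    rw [mono_apply]
    have : π i = i + π 0 := by rw [haff, hs1, div_one, add_comm]
    split_ifs with h
    · rw [h, this]
    · by_contra h0; exact h ((hπ' i j h0).trans this)
  refine ⟨_, _, fun i => ?_, hform⟩
  -- split off the shift
  set c : ZMod p → F := fun i => A i (π i)
  set T : GLp := shiftUnit F p
  have hTpow : ∀ n : ℕ, ((T ^ n : GLp) : Matrix (ZMod p) (ZMod p) F) = mono (fun _ => 1) (n • (1 : ZMod p)) := fun n => by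
    rw [Units.val_pow_eq_pow_val, show (T : Matrix (ZMod p) (ZMod p) F) = mono (fun _ => 1) 1 from rfl, mono_pow]
    congr 1; funext; simp
  obtain ⟨n, hn⟩ := zero_cast_ne (1 : ZMod p) one_ne_zero (-(π 0))
  have hyR : g * T ^ n ∈ R := R.mul_mem gR.2 (hle (Subgroup.pow_mem _ shiftUnit_mem n))
  obtain ⟨k, hk⟩ := hR ⟨_, hyR⟩
  have hy : ((g * T ^ n : GLp) : Matrix (ZMod p) (ZMod p) F) = mono c 0 := by
    rw [Units.val_mul, show (g : Matrix (ZMod p) (ZMod p) F) = mono c (π 0) from hform, hTpow, mono_mul, hn,
      add_neg_cancel]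
    simp
  have hk' : ((g * T ^ n) ^ p ^ k : GLp) = 1 := by
    have := congrArg Subtype.val hk; simpa using this
  have h5 : mono c 0 ^ p ^ k = 1 := by rw [← hy, ← Units.val_pow_eq_pow_val, hk', Units.val_one]
  rw [mono_pow] at h5
  have h6 := congrFun (congrFun h5 i) i
  simp [mono_apply] at h6
  exact root_pow h2 h6

/-- The core statement over the index type `ZMod p`. -/
theorem exists_redundant (hp2 : p ≠ 2) (h1 : p ∣ Fintype.card F - 1) (h2 : ¬ p ^ 2 ∣ Fintype.card F - 1) :
    ∃ Q : Sylow p GLp, ∀ x : GLp, (∃ k : ℕ, orderOf x = p ^ k) → ∃ P : Sylow p GLp, P ≠ Q ∧ x ∈ P := by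
  classical
  let Q : Sylow p GLp :=
    { toSubgroup := monoGroup F p
      isPGroup' := isPGroup_monoGroup
      is_maximal' := fun hR hle => monoGroup_maximal hp2 h1 h2 hR hle }
  refine ⟨Q, fun x hx => ?_⟩
  have hconj : ∀ (y z : GLp), z ∈ monoGroup F p → y * z * y⁻¹ = x →
      y ∉ Subgroup.normalizer (monoGroup F p : Set GLp) → ∃ P : Sylow p GLp, P ≠ Q ∧ x ∈ P := by
    intro y z hz hzx hy
    refine ⟨y • Q, fun h => hy (Sylow.smul_eq_iff_mem_normalizer.1 h), ?_⟩
    show x ∈ ((y • Q : Sylow p GLp) : Subgroup GLp)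
    exact ⟨z, hz, by simpa using hzx⟩
  by_cases hxQ : x ∈ monoGroup F p
  swap
  · obtain ⟨k, hk⟩ := hx
    obtain ⟨P, hP⟩ := (IsPGroup.of_card (p := p) ((Nat.card_zpowers x).trans hk)).exists_le_sylow
    exact ⟨P, fun h => hxQ (show x ∈ (Q : Subgroup GLp) from h ▸ hP (Subgroup.mem_zpowers x)), hP (Subgroup.mem_zpowers x)⟩
  have hcent : (∃ y : GLp, (y : Matrix (ZMod p) (ZMod p) F) * x = (x : Matrix (ZMod p) (ZMod p) F) * y ∧
      ¬ IsMono (y : Matrix (ZMod p) (ZMod p) F)) → ∃ P : Sylow p GLp, P ≠ Q ∧ x ∈ P := by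
    rintro ⟨y, hy, hm⟩
    have hy' : y * x = x * y := Units.ext (by simpa using hy)
    exact hconj y x hxQ (by rw [hy', mul_inv_cancel_right]) fun h => hm (isMono_of_normalizer hp2 h1 h)
  obtain ⟨d, s, hd, hxd⟩ := hxQ
  obtain ⟨ζ, hζ, hζ1⟩ := exists_root (F := F) h1
  have h3 : 3 ≤ p := by have := hp.out.two_le; omega
  by_cases hs : s = 0
  · subst hs
    by_cases hinj : Function.Injective d
    · -- conjugate to the shift
      have hne := prime_ne_zero (F := F) h1
      set z : ZMod p → F := fun i => (d i)⁻¹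
      have hsum : ∀ (c : F), c ^ p = 1 → (∑ j : ZMod p, c ^ j.val) = if c = 1 then (p : F) else 0 := by
        intro c hc
        have hr : (∑ j : ZMod p, c ^ j.val) = ∑ j ∈ Finset.range p, c ^ j := by
          refine Finset.sum_bij (fun j _ => j.val) (fun j _ => Finset.mem_range.2 (ZMod.val_lt j))
            (fun a _ b _ h => ZMod.val_injective p h) (fun b hb => ⟨(b : ZMod p), Finset.mem_univ _,
              ZMod.val_cast_of_lt (Finset.mem_range.1 hb)⟩) (fun _ _ => rfl)
        rw [hr]
        split_ifs with h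
        · simp [h]
        · rw [geom_sum_eq h, hc, sub_self, zero_div]
      let A : Matrix (ZMod p) (ZMod p) F := Matrix.of fun i j => z i ^ j.val
      let B : Matrix (ZMod p) (ZMod p) F := Matrix.of fun j k => (p : F)⁻¹ * d k ^ j.val
      have hAB : A * B = 1 := by
        ext i k
        rw [Matrix.mul_apply]
        simp only [A, B, Matrix.of_apply, mul_left_comm _ (p : F)⁻¹, ← mul_pow, ← Finset.mul_sum]
        rw [hsum _ (by rw [mul_pow, inv_pow, hd, hd, inv_one, one_mul]), Matrix.one_apply]
        by_cases hik : i = k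
        · subst hik
          rw [if_pos (by simp [z, inv_mul_cancel₀ (root_ne_zero (hd i))]), if_pos rfl, inv_mul_cancel₀ hne]
        · rw [if_neg ?_, if_neg hik, mul_zero]
          intro h
          exact hik (hinj ((inv_mul_eq_one₀ (root_ne_zero (hd i))).1 h))
      let g : GLp := ⟨A, B, hAB, mul_eq_one_comm.1 hAB⟩
      have hxg : (x : Matrix (ZMod p) (ZMod p) F) * A = A * mono (fun _ => 1) 1 := by
        rw [hxd]
        ext i j
        rw [Matrix.mul_apply, Matrix.mul_apply, Finset.sum_eq_single i, Finset.sum_eq_single (j - 1)]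
        · simp only [A, Matrix.of_apply, mono_apply, add_zero, if_true, sub_add_cancel, mul_one]
          have hz : z i ^ p = 1 := by rw [inv_pow, hd, inv_one]
          have : z i ^ j.val = z i ^ (j - 1).val * z i := by
            rw [← pow_succ, pow_eq_pow_mod _ hz, pow_eq_pow_mod ((j - 1).val + 1) hz]
            congr 1
            rw [← ZMod.val_natCast, ← ZMod.val_natCast, Nat.cast_succ, ZMod.natCast_zmod_val,
              ZMod.natCast_zmod_val, sub_add_cancel]
          rw [this, mul_left_comm]
          simp [z, mul_inv_cancel₀ (root_ne_zero (hd i))]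
        all_goals first
          | (intro b _ hb; rw [mono_apply, if_neg (by simpa using hb), zero_mul])
          | (intro b _ hb; rw [mono_apply, if_neg (fun h4 => hb (by rw [h4, add_sub_cancel_right])), mul_zero])
          | exact fun hh => absurd (Finset.mem_univ _) hh
      have hgx : g * shiftUnit F p * g⁻¹ = x := by
        rw [mul_inv_eq_iff_eq_mul]
        exact Units.ext (by rw [Units.val_mul, Units.val_mul]; exact hxg.symm)
      refine hconj g _ shiftUnit_mem hgx fun hg => ?_
      obtain ⟨e, he, h⟩ := conj_diag hp2 h1 (inv_mem hg) d hd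
      have h4 : ((g⁻¹ * x * g : GLp) : Matrix (ZMod p) (ZMod p) F) = mono e 0 := by
        rw [Units.val_mul, Units.val_mul, hxd, h, mul_assoc, ← Units.val_mul, inv_mul_cancel, Units.val_one, mul_one]
      rw [← hgx, show g⁻¹ * (g * shiftUnit F p * g⁻¹) * g = shiftUnit F p by group] at h4
      exact one_ne_zero (mono_inj (fun _ => one_ne_zero) (h4 : mono (fun _ => (1 : F)) 1 = mono e 0)).2
    · -- a transvection
      obtain ⟨j, k, hdjk, hjk⟩ : ∃ j k, d j = d k ∧ j ≠ k := by
        rw [Function.not_injective_iff] at hinj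
        exact hinj
      refine hcent ⟨⟨Matrix.transvection j k 1, Matrix.transvection j k (-1), ?_, ?_⟩, ?_, ?_⟩
      · rw [Matrix.transvection_mul_transvection_same j k hjk, add_neg_cancel, Matrix.transvection_zero]
      · rw [Matrix.transvection_mul_transvection_same j k hjk, neg_add_cancel, Matrix.transvection_zero]
      · show Matrix.transvection j k 1 * (x : Matrix (ZMod p) (ZMod p) F) = (x : Matrix (ZMod p) (ZMod p) F) * Matrix.transvection j k 1
        rw [hxd, Matrix.transvection, add_mul, mul_add, one_mul, mul_one]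
        congr 1
        ext a b
        rw [Matrix.mul_apply, Matrix.mul_apply, Finset.sum_eq_single b, Finset.sum_eq_single a]
        · simp only [mono_apply, add_zero, if_true]
          by_cases h : j = a ∧ k = b
          · obtain ⟨rfl, rfl⟩ := h; simp [hdjk]
          · simp [Matrix.single_apply, h]
        all_goals first
          | (intro c _ hc; rw [mono_apply, if_neg (by simpa using hc), zero_mul])
          | (intro c _ hc; rw [mono_apply, if_neg (by simpa using Ne.symm hc), mul_zero])
          | exact fun hh => absurd (Finset.mem_univ _) hh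
      · intro hm
        refine hjk (hm j j k ?_ ?_)
        · show Matrix.transvection j k (1 : F) j j ≠ 0
          simp [Matrix.transvection, Matrix.single_apply, Ne.symm hjk]
        · show Matrix.transvection j k (1 : F) j k ≠ 0
          simp [Matrix.transvection, Matrix.one_apply, hjk]
  · -- off the diagonal
    set M : Matrix (ZMod p) (ZMod p) F := mono d s
    set c : F := ∏ k ∈ Finset.range p, d ((0 : ZMod p) + k • s)
    have hMp : M ^ p = c • (1 : Matrix (ZMod p) (ZMod p) F) := by
      rw [mono_pow]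
      ext i j
      rw [mono_apply, show p • s = 0 by rw [nsmul_eq_mul, ZMod.natCast_self, zero_mul], add_zero]
      by_cases hij : j = i
      · subst hij
        rw [if_pos rfl, Matrix.smul_apply, Matrix.one_apply_eq, smul_eq_mul, mul_one]
        obtain ⟨n, hn⟩ := zero_cast_ne s hs j
        rw [← hn]
        have hper : ∀ m : ℕ, ∏ k ∈ Finset.range p, d ((m + 1) • s + k • s) = ∏ k ∈ Finset.range p, d (m • s + k • s) := by
          intro m
          have e0 : d (m • s + 0 • s) = d (m • s + p • s) := by
            rw [zero_nsmul, show p • s = 0 by rw [nsmul_eq_mul, ZMod.natCast_self, zero_mul]]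
          refine mul_right_cancel₀ (root_ne_zero (hd (m • s + 0 • s))) ?_
          rw [show (∏ k ∈ Finset.range p, d ((m + 1) • s + k • s)) * d (m • s + 0 • s) =
            ∏ k ∈ Finset.range (p + 1), d (m • s + k • s) by
              rw [Finset.prod_range_succ' (fun k => d (m • s + k • s)) p]
              congr 1
              refine Finset.prod_congr rfl fun k _ => ?_
              rw [add_nsmul, add_nsmul, one_nsmul]; congr 1; abel]
          rw [Finset.prod_range_succ, e0]
        clear hn
        induction n with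
        | zero => simp [c]
        | succ n ih => exact (hper n).trans ih
      · simp [hij, Matrix.one_apply, Ne.symm hij]
    have hentry : ∀ (n : ℕ) (i : ZMod p), (M ^ n) i (i + n • s) ≠ 0 := fun n i => by
      rw [mono_pow, mono_apply, if_pos rfl]
      exact Finset.prod_ne_zero_iff.2 fun k _ => root_ne_zero (hd _)
    have hzero : ∀ (n : ℕ) (i j : ZMod p), j ≠ i + n • s → (M ^ n) i j = 0 := fun n i j h => by
      rw [mono_pow, mono_apply, if_neg h]
    by_cases hc : c = 1
    · -- perturb the idempotent of a fixed line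
      have hne := prime_ne_zero (F := F) h1
      set e : Matrix (ZMod p) (ZMod p) F := (p : F)⁻¹ • ∑ n ∈ Finset.range p, M ^ n
      have hMe : M * e = e := by
        simp only [e, Matrix.mul_smul, Finset.mul_sum, ← pow_succ']
        congr 1
        have hh := (Finset.sum_range_succ' (fun n => M ^ n) p).symm.trans (Finset.sum_range_succ (fun n => M ^ n) p)
        rw [hMp, hc, one_smul, pow_zero] at hh
        exact add_right_cancel hh
      have heM : ∀ n, M ^ n * e = e := fun n => by
        induction n with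
        | zero => rw [pow_zero, one_mul]
        | succ n ih => rw [pow_succ, mul_assoc, hMe, ih]
      have hee : e * e = e := by
        conv_lhs => enter [1]; unfold e
        rw [Matrix.smul_mul, Finset.sum_mul, Finset.sum_congr rfl fun n _ => heM n, Finset.sum_const,
          Finset.card_range, ← Nat.cast_smul_eq_nsmul F, smul_smul, inv_mul_cancel₀ hne, one_smul]
      have hcomm : e * M = M * e := by
        simp only [e, Matrix.smul_mul, Matrix.mul_smul, Finset.sum_mul, Finset.mul_sum, ← pow_succ, ← pow_succ']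
      have hinvmul : ∀ (E : Matrix (ZMod p) (ZMod p) F), E * E = E → ∀ a b : F, a + b + a * b = 0 →
          (1 + a • E) * (1 + b • E) = 1 := fun E hee a b hab => by
        rw [add_mul, mul_add, mul_add, one_mul, one_mul, mul_one, Matrix.smul_mul, Matrix.mul_smul, hee, smul_smul,
          show (1 : Matrix (ZMod p) (ZMod p) F) + b • E + (a • E + (a * b) • E) = 1 + (a + b + a * b) • E by
            rw [add_smul, add_smul]; abel, hab, zero_smul, add_zero]
      obtain ⟨t, ht0, ht⟩ : ∃ t : F, t ≠ 0 ∧ t + 1 ≠ 0 :=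
        ⟨ζ - 1, sub_ne_zero.2 hζ1, by rw [sub_add_cancel]; exact root_ne_zero hζ⟩
      have hb : t + -t / (t + 1) + t * (-t / (t + 1)) = 0 := by field_simp; ring
      refine hcent ⟨⟨1 + t • e, 1 + (-t / (t + 1)) • e, hinvmul e hee _ _ hb, hinvmul e hee _ _ (by rw [← hb]; ring)⟩, ?_, ?_⟩
      · show (1 + t • e) * (x : Matrix (ZMod p) (ZMod p) F) = (x : Matrix (ZMod p) (ZMod p) F) * (1 + t • e)
        rw [hxd, add_mul, mul_add, one_mul, mul_one, Matrix.smul_mul, Matrix.mul_smul, hcomm]
      · intro hm
        have hval : ∀ n : ℕ, 1 ≤ n → n < p → (1 + t • e) 0 (n • s) ≠ 0 := by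
          intro n hn hnp
          have hns : (0 : ZMod p) ≠ n • s := by
            rw [nsmul_eq_mul]
            refine (mul_ne_zero ?_ hs).symm
            rw [Ne, ZMod.natCast_eq_zero_iff]
            exact fun h4 => by have := Nat.le_of_dvd (by omega) h4; omega
          rw [Matrix.add_apply, Matrix.one_apply_ne hns, zero_add, Matrix.smul_apply,
            show e = (p : F)⁻¹ • ∑ n ∈ Finset.range p, M ^ n from rfl, Matrix.smul_apply,
            Matrix.sum_apply, Finset.sum_eq_single n]
          · have := hentry n 0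
            rw [zero_add] at this
            exact mul_ne_zero ht0 (mul_ne_zero (inv_ne_zero hne) this)
          · intro b hbmem hbn
            refine hzero b 0 _ fun h4 => hbn ?_
            rw [zero_add, nsmul_eq_mul, nsmul_eq_mul] at h4
            have h5 := congrArg ZMod.val (mul_right_cancel₀ hs h4)
            rwa [ZMod.val_cast_of_lt hnp, ZMod.val_cast_of_lt (Finset.mem_range.1 hbmem), eq_comm] at h5
          · exact fun h4 => absurd (Finset.mem_range.2 hnp) h4
        have h4 := hm 0 _ _ (hval 1 le_rfl (by omega)) (hval 2 (by omega) (by omega))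
        rw [one_nsmul, two_nsmul, right_eq_add] at h4
        exact hs h4
    · have hu : (1 - M) * ((1 - c)⁻¹ • ∑ n ∈ Finset.range p, M ^ n) = 1 := by
        rw [Matrix.mul_smul, mul_neg_geom_sum, hMp, show (1 : Matrix (ZMod p) (ZMod p) F) - c • 1 = (1 - c) • 1 by
          rw [sub_smul, one_smul], smul_smul, inv_mul_cancel₀ (sub_ne_zero.2 (Ne.symm hc)), one_smul]
      refine hcent ⟨⟨1 - M, _, hu, mul_eq_one_comm.1 hu⟩, ?_, ?_⟩
      · show (1 - M) * (x : Matrix (ZMod p) (ZMod p) F) = (x : Matrix (ZMod p) (ZMod p) F) * (1 - M)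
        rw [hxd, sub_mul, mul_sub, one_mul, mul_one]
      · intro hm
        refine hs ?_
        have := hm 0 0 (0 + s) ?_ ?_
        · simpa using this.symm
        · show (1 - M) 0 0 ≠ 0
          rw [Matrix.sub_apply, Matrix.one_apply_eq, show M = mono d s from rfl, mono_apply, if_neg (by simpa using Ne.symm hs), sub_zero]
          exact one_ne_zero
        · show (1 - M) 0 (0 + s) ≠ 0
          rw [Matrix.sub_apply, Matrix.one_apply_ne (by simpa using Ne.symm hs), show M = mono d s from rfl, mono_apply, if_pos rfl, zero_sub]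
          exact neg_ne_zero.2 (root_ne_zero (hd 0))

/-- The statement over `Fin p`. -/
theorem exists_redundant_fin (hp2 : p ≠ 2) (h1 : p ∣ Fintype.card F - 1) (h2 : ¬ p ^ 2 ∣ Fintype.card F - 1) :
    ∃ Q : Sylow p (GL (Fin p) F), ∀ x : GL (Fin p) F,
      (∃ k : ℕ, orderOf x = p ^ k) → ∃ P : Sylow p (GL (Fin p) F), P ≠ Q ∧ x ∈ P := by
  classical
  let e : GL (ZMod p) F ≃* GL (Fin p) F :=
    Units.mapEquiv (Matrix.reindexAlgEquiv F F (ZMod.finEquiv p).symm.toEquiv).toMulEquiv
  obtain ⟨Q, hQ⟩ := exists_redundant (F := F) hp2 h1 h2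
  refine ⟨Q.mapSurjective (f := e.toMonoidHom) e.surjective, fun x ⟨k, hk⟩ => ?_⟩
  obtain ⟨P, hP, hxP⟩ := hQ (e.symm x) ⟨k, by rw [← hk]; exact MulEquiv.orderOf_eq e.symm x⟩
  refine ⟨P.mapSurjective (f := e.toMonoidHom) e.surjective, fun h => hP (Sylow.ext ?_), ⟨e.symm x, hxP, e.apply_symm_apply x⟩⟩
  exact Subgroup.map_injective e.injective (congrArg Sylow.toSubgroup h)

end Cfsg.Lib.RedundantSylowGL
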