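/-
Finite p-groups whose noncentral conjugacy classes all have the same length (Isaacs).
-/
import Mathlib

set_option linter.style.haveILetI false
set_option linter.unusedSectionVars false

namespace Cfsg.Lib.SolvStruct.EqualClasses

open Subgroup
open scoped commutatorElement

universe u

variable {P : Type u} [Group P]

theorem pow_mul_eq_norm {C : Subgroup P} [C.Normal] (c : C) (y : P) :
    ∀ n : ℕ, ((c : P) * y) ^ n =
      ((List.range n).map fun i => ((((MulAut.conjNormal y : MulAut C) ^ i) c : C) : P)).prod * y ^ n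
  | 0 => by simp
  | n + 1 => by
    have h : ((((MulAut.conjNormal y : MulAut C) ^ n) c : C) : P) = y ^ n * c * (y ^ n)⁻¹ := by
      rw [← map_pow]; rfl
    rw [List.range_succ, List.map_append, List.prod_append, List.map_singleton, List.prod_singleton,
      pow_succ, pow_mul_eq_norm c y n, h, pow_succ]
    group

theorem prod_zmod_val {p : ℕ} [NeZero p] {M : Type*} [CommMonoid M] (f : ℕ → M) :
    ∏ j : ZMod p, f j.val = ∏ i ∈ Finset.range p, f i := by
  refine Finset.prod_nbij' (fun j => j.val) (fun i => (i : ZMod p)) ?_ ?_ ?_ ?_ ?_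
  · exact fun j _ => Finset.mem_range.2 (ZMod.val_lt j)
  · exact fun i _ => Finset.mem_univ _
  · exact fun j _ => ZMod.natCast_zmod_val j
  · exact fun i hi => ZMod.val_natCast_of_lt (Finset.mem_range.1 hi)
  · exact fun j _ => rfl

/-- Two independent automorphisms of order `p` whose norms are killed force exponent `p`. -/
theorem pow_mem_of_norms {p : ℕ} [Fact p.Prime] {M : Type*} [CommGroup M] (Z : Subgroup M) (A B : MulAut M)
    (hAB : Commute A B) (hB : B ^ p = 1)
    (hline : ∀ (j : ℕ) (c : M), ∏ i ∈ Finset.range p, ((A * B ^ j) ^ i) c ∈ Z)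
    (hnB : ∀ c : M, ∏ i ∈ Finset.range p, (B ^ i) c ∈ Z) (c : M) : c ^ p ∈ Z := by
  classical
  have hp : p.Prime := Fact.out
  have hinner : ∀ i ∈ Finset.range p, (∏ j : ZMod p, ((A * B ^ j.val) ^ i) c) =
      if i = 0 then c ^ p else ∏ k ∈ Finset.range p, (B ^ k) ((A ^ i) c) := by
    intro i hi
    rcases eq_or_ne i 0 with rfl | h0
    · simp [ZMod.card]
    rw [if_neg h0]
    have hi0 : (i : ZMod p) ≠ 0 := by
      rw [Ne, ZMod.natCast_eq_zero_iff]
      intro hd
      have := Nat.le_of_dvd (Nat.pos_of_ne_zero h0) hd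
      rw [Finset.mem_range] at hi
      omega
    have e : ∀ j : ZMod p, ((A * B ^ j.val) ^ i) c = (B ^ ((i : ZMod p) * j).val) ((A ^ i) c) := fun j => by
      rw [(hAB.pow_right _).mul_pow, (((hAB.pow_right _).pow_right _).pow_left i).eq, ← pow_mul,
        MulAut.mul_apply]
      have hpw : B ^ (j.val * i) = B ^ ((i : ZMod p) * j).val := by
        rw [pow_eq_pow_mod (j.val * i) hB, ZMod.val_mul, ZMod.val_natCast, Nat.mod_mul_mod, Nat.mul_comm]
      rw [hpw]
    rw [Finset.prod_congr rfl fun j _ => e j,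
      ← prod_zmod_val fun k => (B ^ k) ((A ^ i) c)]
    exact Equiv.prod_comp (Equiv.mulLeft₀ (i : ZMod p) hi0) (fun z : ZMod p => (B ^ z.val) ((A ^ i) c))
  have htot : ∏ j : ZMod p, ∏ i ∈ Finset.range p, ((A * B ^ j.val) ^ i) c ∈ Z :=
    Subgroup.prod_mem _ fun j _ => hline _ c
  rw [Finset.prod_comm, Finset.prod_congr rfl hinner,
    ← Finset.mul_prod_erase _ _ (Finset.mem_range.2 hp.pos), if_pos rfl] at htot
  refine (mul_mem_cancel_right (Subgroup.prod_mem _ fun i hi => ?_)).1 htot
  rw [if_neg (Finset.mem_erase.1 hi).1]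
  exact hnB _

variable [Finite P] {p : ℕ} [Fact p.Prime]

theorem pow_mem_center (hP : IsPGroup p P) {a : ℕ}
    (hcs : ∀ x : P, x ∉ center P → (centralizer ({x} : Set P)).index = p ^ a) (x₀ : P) :
    x₀ ^ p ∈ center P := by
  classical
  have hp : p.Prime := Fact.out
  by_contra hx₀
  have hx₀Z : x₀ ∉ center P := fun h => hx₀ (pow_mem h p)
  have heq : ∀ x y : P, x ∉ center P → y ∉ center P →
      centralizer ({x} : Set P) ≤ centralizer ({y} : Set P) → centralizer ({x} : Set P) = centralizer ({y} : Set P) := by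
    intro x y hx hy hle
    refine eq_of_le_of_card_ge hle ?_
    have h1 := (centralizer ({x} : Set P)).card_mul_index
    rw [hcs x hx, ← (centralizer ({y} : Set P)).card_mul_index, hcs y hy] at h1
    exact (Nat.eq_of_mul_eq_mul_right (pow_pos hp.pos a) h1).ge
  have hpow : ∀ x : P, x ^ p ∉ center P → centralizer ({x} : Set P) = centralizer ({x ^ p} : Set P) := by
    intro x hx
    refine heq x _ (fun h => hx (pow_mem h p)) hx fun g hg => ?_
    rw [mem_centralizer_singleton_iff] at hg ⊢
    exact (Commute.pow_right hg p).eq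
  have hnil : Group.IsNilpotent P := hP.isNilpotent
  haveI := hnil
  -- an element of the second centre of order `p` modulo the centre
  obtain ⟨u, hu2, huZ, hup⟩ : ∃ u, (∀ g : P, ⁅u, g⁆ ∈ center P) ∧ u ∉ center P ∧ u ^ p ∈ center P := by
    haveI : Nontrivial (P ⧸ center P) :=
      ⟨⟨(x₀ : P ⧸ center P), 1, fun h => hx₀Z ((QuotientGroup.eq_one_iff _).1 h)⟩⟩
    have hQ := hP.to_quotient (center P)
    haveI := hQ.center_nontrivial
    obtain ⟨⟨q, hq⟩, hne⟩ := exists_ne (1 : center (P ⧸ center P))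
    obtain ⟨k, hk⟩ := IsPGroup.iff_orderOf.1 hQ q
    have hk0 : k ≠ 0 := fun h0 => hne (Subtype.ext (orderOf_eq_one_iff.1 (by rw [hk, h0, pow_zero])))
    obtain ⟨m, rfl⟩ := Nat.exists_eq_succ_of_ne_zero hk0
    obtain ⟨v, rfl⟩ := QuotientGroup.mk_surjective q
    refine ⟨v ^ p ^ m, fun g => ?_, fun h => ?_, ?_⟩
    · rw [← QuotientGroup.eq_one_iff, commutatorElement_def]
      simp only [QuotientGroup.mk_mul, QuotientGroup.mk_inv]
      have := mem_center_iff.1 (pow_mem hq (p ^ m)) (g : P ⧸ center P)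
      rw [← QuotientGroup.mk_pow] at this
      rw [← this]; group
    · rw [← QuotientGroup.eq_one_iff, QuotientGroup.mk_pow, ← orderOf_dvd_iff_pow_eq_one, hk,
        Nat.pow_dvd_pow_iff_le_right hp.one_lt] at h
      omega
    · rw [← pow_mul, ← pow_succ, ← QuotientGroup.eq_one_iff, QuotientGroup.mk_pow,
        ← orderOf_dvd_iff_pow_eq_one, hk]
  let f : P →* P :=
    { toFun := fun g => ⁅u, g⁆
      map_one' := commutatorElement_one_right u
      map_mul' := fun g k => by
        have e : ⁅u, g * k⁆ = ⁅u, g⁆ * (g * ⁅u, k⁆ * g⁻¹) := by simp only [commutatorElement_def]; group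
        rw [e, mem_center_iff.1 (hu2 k) g, mul_inv_cancel_right] }
  have hfapply : ∀ g, f g = ⁅u, g⁆ := fun g => rfl
  set C := centralizer ({u} : Set P) with hC
  have hker : f.ker = C := by
    ext g
    rw [MonoidHom.mem_ker, hfapply, commutatorElement_eq_one_iff_mul_comm, hC, mem_centralizer_singleton_iff]
    exact eq_comm
  haveI : C.Normal := hker ▸ inferInstance
  have hbig : ∀ x : P, x ^ p ∉ center P → centralizer ({x} : Set P) = C := by
    intro x hx
    have h1 : u * x = x * u := by
      have h2 : x ^ p ∈ C := by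
        rw [← hker, MonoidHom.mem_ker, map_pow]
        -- the commutator has order dividing `p`
        have hpu : ∀ n : ℕ, ⁅u ^ n, x⁆ = ⁅u, x⁆ ^ n := by
          intro n
          induction n with
          | zero => rw [pow_zero, pow_zero, commutatorElement_one_left]
          | succ n ih =>
            have e : ⁅u ^ n * u, x⁆ = u ^ n * ⁅u, x⁆ * (u ^ n)⁻¹ * ⁅u ^ n, x⁆ := by simp only [commutatorElement_def]; group
            rw [pow_succ, e, mem_center_iff.1 (hu2 x) (u ^ n), mul_inv_cancel_right, ih, ← pow_succ']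
        rw [hfapply, ← hpu, commutatorElement_eq_one_iff_mul_comm]
        exact (mem_center_iff.1 hup x).symm
      have h3 : u ∈ centralizer ({x ^ p} : Set P) :=
        mem_centralizer_singleton_iff.2 (mem_centralizer_singleton_iff.1 h2).symm
      rw [← hpow x hx] at h3
      exact mem_centralizer_singleton_iff.1 h3
    have h4 : (x * u) ^ p = x ^ p * u ^ p := Commute.mul_pow (Commute.symm h1) p
    have h5 : (x * u) ^ p ∉ center P := by rw [h4, mul_mem_cancel_right hup]; exact hx
    refine heq x u (fun h => hx (pow_mem h p)) huZ fun g hg => ?_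
    have h6 : g ∈ centralizer ({(x * u) ^ p} : Set P) := by
      rw [hpow x hx] at hg
      rw [mem_centralizer_singleton_iff] at hg ⊢
      rw [h4]
      exact (Commute.mul_right hg (mem_center_iff.1 hup g)).eq
    rw [← hpow _ h5, mem_centralizer_singleton_iff] at h6
    rw [mem_centralizer_singleton_iff] at hg ⊢
    rw [← mul_assoc, hg, mul_assoc, mul_assoc] at h6
    exact mul_left_cancel h6
  have hx₀C : x₀ ∈ C := hbig x₀ hx₀ ▸ mem_centralizer_singleton_iff.2 rfl
  have habel : ∀ c ∈ C, ∀ d ∈ C, c * d = d * c := by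
    intro c hc d hd
    by_cases hcb : c ^ p ∈ center P
    · have h0 : ∀ e ∈ C, e * x₀ = x₀ * e := fun e he =>
        mem_centralizer_singleton_iff.1 ((hbig x₀ hx₀).symm ▸ he)
      have h7 : (x₀ * c) ^ p ∉ center P := by
        rw [Commute.mul_pow (h0 c hc).symm p, mul_mem_cancel_right hcb]; exact hx₀
      have h8 := mem_centralizer_singleton_iff.1 ((hbig _ h7).symm ▸ hd : d ∈ centralizer ({x₀ * c} : Set P))
      rw [← mul_assoc, h0 d hd, mul_assoc, mul_assoc] at h8
      exact (mul_left_cancel h8).symm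
    · exact (mem_centralizer_singleton_iff.1 ((hbig c hcb).symm ▸ hd)).symm
  have hdisj : ∀ y : P, y ∉ C → ∀ z ∈ C, z * y = y * z → z ∈ center P := by
    intro y hy z hz hzy
    by_contra hzZ
    have hle : C ≤ centralizer ({z} : Set P) := fun c hc => mem_centralizer_singleton_iff.2 (habel c hc z hz)
    apply hy
    rw [hC, heq u z huZ hzZ hle]
    exact mem_centralizer_singleton_iff.2 hzy.symm
  have hsmall : ∀ y : P, y ∉ C → y ^ p ∈ center P := fun y hy =>
    by_contra fun h => hy (hbig y h ▸ mem_centralizer_singleton_iff.2 rfl)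
  -- `P/C` is not cyclic
  have hidx : p < C.index := by
    have hCne : C ≠ ⊤ := fun h => huZ (mem_center_iff.2 fun g =>
      mem_centralizer_singleton_iff.1 (h ▸ mem_top g : g ∈ C))
    obtain ⟨y, -, hy⟩ := SetLike.exists_of_lt (lt_top_iff_ne_top.2 hCne)
    have hyZ : y ∉ center P := fun h => hy (center_le_centralizer _ h)
    set Z' := centralizer ({y} : Set P)
    have hinf : C ⊓ Z' ≤ center P := fun z hz => by
      obtain ⟨hz1, hz2⟩ := Subgroup.mem_inf.1 hz
      exact hdisj y hy z hz1 (mem_centralizer_singleton_iff.1 hz2)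
    have h1 : C.relIndex Z' ≤ C.index :=
      Nat.le_of_dvd (Nat.pos_of_ne_zero index_ne_zero_of_finite) (relIndex_dvd_index_of_normal (H := C) (K := Z'))
    have h2 : Z'.relIndex C = C.relIndex Z' := by
      have e1 := relIndex_mul_index (inf_le_left : C ⊓ Z' ≤ C)
      have e2 := relIndex_mul_index (inf_le_right : C ⊓ Z' ≤ Z')
      rw [inf_relIndex_left, hcs u huZ] at e1
      rw [inf_relIndex_right, hcs y hyZ, ← e1] at e2
      exact (Nat.eq_of_mul_eq_mul_right (pow_pos hp.pos a) e2).symm
    have h3 : (center P).relIndex (zpowers x₀) ≤ Z'.relIndex C := by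
      calc (center P).relIndex (zpowers x₀) ≤ (center P).relIndex C :=
            relIndex_le_of_le_right (zpowers_le.2 hx₀C) (by exact index_ne_zero_of_finite)
        _ ≤ (C ⊓ Z').relIndex C :=
            Nat.le_of_dvd (Nat.pos_of_ne_zero (by exact index_ne_zero_of_finite))
              (relIndex_dvd_of_le_left C hinf)
        _ = _ := inf_relIndex_left ..
    refine lt_of_lt_of_le ?_ ((h3.trans h2.le).trans h1)
    obtain ⟨k, hk⟩ := IsPGroup.iff_orderOf.1 (hP.to_quotient (center P)) (x₀ : P ⧸ center P)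
    have hk2 : 2 ≤ k := by
      by_contra hlt
      apply hx₀
      rw [← QuotientGroup.eq_one_iff, QuotientGroup.mk_pow, ← orderOf_dvd_iff_pow_eq_one, hk]
      calc p ^ k ∣ p ^ 1 := Nat.pow_dvd_pow p (by omega)
        _ = p := pow_one p
    have hcard : (center P).relIndex (zpowers x₀) = p ^ k := by
      rw [← hk, ← Nat.card_zpowers, ← QuotientGroup.mk'_apply, ← MonoidHom.map_zpowers, ← relIndex_ker,
        QuotientGroup.ker_mk']
    rw [hcard]
    calc p = p ^ 1 := (pow_one p).symm
      _ < p ^ k := Nat.pow_lt_pow_right hp.one_lt (by omega)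
  obtain ⟨y₁, y₂, hcomm, hy₂, hy12⟩ : ∃ y₁ y₂ : P, ⁅y₁, y₂⁆ ∈ C ∧ y₂ ∉ C ∧ ∀ j : ℕ, y₁ * y₂ ^ j ∉ C := by
    have hQ := hP.to_quotient C
    haveI : Nontrivial (P ⧸ C) := Finite.one_lt_card_iff_nontrivial.1 (by
      rw [← index_eq_card]; exact hp.one_lt.trans hidx)
    haveI := hQ.center_nontrivial
    obtain ⟨⟨q, hq⟩, hne⟩ := exists_ne (1 : center (P ⧸ C))
    obtain ⟨y₂, rfl⟩ := QuotientGroup.mk_surjective q
    have hy₂ : y₂ ∉ C := fun h => hne (Subtype.ext ((QuotientGroup.eq_one_iff _).2 h))
    have hne2 : zpowers (y₂ : P ⧸ C) ≠ ⊤ := fun htop => by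
      have h1 := Nat.card_zpowers (y₂ : P ⧸ C)
      rw [htop, card_top, ← index_eq_card] at h1
      have h2 : orderOf (y₂ : P ⧸ C) ∣ p := orderOf_dvd_of_pow_eq_one (by
        rw [← QuotientGroup.mk_pow, QuotientGroup.eq_one_iff]
        exact center_le_centralizer _ (hsmall y₂ hy₂))
      exact absurd (Nat.le_of_dvd hp.pos h2) (by omega)
    obtain ⟨q', -, hq'⟩ := SetLike.exists_of_lt (lt_top_iff_ne_top.2 hne2)
    obtain ⟨y₁, rfl⟩ := QuotientGroup.mk_surjective q'
    refine ⟨y₁, y₂, ?_, hy₂, fun j hj => hq' ⟨-(j : ℤ), ?_⟩⟩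
    · rw [← QuotientGroup.eq_one_iff, commutatorElement_def]
      simp only [QuotientGroup.mk_mul, QuotientGroup.mk_inv]
      rw [mem_center_iff.1 hq (y₁ : P ⧸ C)]; group
    · rw [← QuotientGroup.eq_one_iff, QuotientGroup.mk_mul, mul_eq_one_iff_eq_inv] at hj
      rw [hj]; simp
  letI : CommGroup C := { mul_comm := fun c d => Subtype.ext (habel c c.2 d d.2) }
  let φ : P →* MulAut C := MulAut.conjNormal
  have hφ : ∀ g ∈ C, φ g = 1 := by
    intro g hg
    apply MulEquiv.ext
    intro c
    apply Subtype.ext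
    show g * c * g⁻¹ = c
    rw [habel g hg c c.2]; group
  have hnorm : ∀ y : P, y ∉ C → ∀ c : C,
      ∏ i ∈ Finset.range p, ((φ y) ^ i) c ∈ (center P).subgroupOf C := by
    intro y hy c
    have hcy : (c : P) * y ∉ C := fun h => hy ((mul_mem_cancel_left c.2).1 h)
    have h1 := hsmall _ hcy
    rw [pow_mul_eq_norm c y p, mul_mem_cancel_right (hsmall y hy)] at h1
    rw [mem_subgroupOf]
    have e : ((∏ i ∈ Finset.range p, ((φ y) ^ i) c : C) : P) =
        ((List.range p).map fun i => ((((MulAut.conjNormal y : MulAut C) ^ i) c : C) : P)).prod := by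
      have hn : ∀ n : ℕ, ((∏ i ∈ Finset.range n, ((φ y) ^ i) c : C) : P) =
          ((List.range n).map fun i => ((((MulAut.conjNormal y : MulAut C) ^ i) c : C) : P)).prod := by
        intro n
        induction n with
        | zero => simp
        | succ n ih =>
          rw [Finset.prod_range_succ, Subgroup.coe_mul, ih, List.range_succ, List.map_append, List.prod_append,
            List.map_singleton, List.prod_singleton]
      exact hn p
    rw [e]; exact h1
  have key := pow_mem_of_norms (p := p) ((center P).subgroupOf C) (φ y₁) (φ y₂)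
    (by
      rw [Commute, SemiconjBy, ← commutatorElement_eq_one_iff_mul_comm, ← map_commutatorElement]
      exact hφ _ hcomm)
    (by rw [← map_pow]; exact hφ _ (center_le_centralizer _ (hsmall y₂ hy₂)))
    (fun j c => by rw [← map_pow, ← map_mul]; exact hnorm _ (hy12 j) c)
    (hnorm y₂ hy₂) ⟨x₀, hx₀C⟩
  rw [mem_subgroupOf, Subgroup.coe_pow] at key
  exact hx₀ key

end Cfsg.Lib.SolvStruct.EqualClasses
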