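/-
`p`-solvable groups in which every maximal subgroup is `p`-nilpotent or has prime index.
-/
import Cfsg.Agent.GaschutzYen.Basic
import Cfsg.Agent.Coprime.Hall
import Cfsg.Agent.Coprime.Sylow
import Cfsg.Prelude.Def_Local

set_option autoImplicit false
set_option linter.style.haveILetI false
set_option linter.unusedSectionVars false

namespace Cfsg.Lib.SolvStruct.MaxPNil

open Subgroup Cfsg.Lib.Coprime
open scoped commutatorElement

universe u

variable {p : ℕ}

/-- every maximal subgroup has a normal `p`-complement or prime index -/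
def Hyp (p : ℕ) (G : Type u) [Group G] : Prop :=
  ∀ M : Subgroup G, IsCoatom M →
    (∃ K : Subgroup M, K.Normal ∧ ¬ p ∣ Nat.card K ∧ ∃ k : ℕ, K.index = p ^ k) ∨ (M.index).Prime

/-- a normal series `p'`, `p`, `p'`, `p` -/
def Good (p : ℕ) (G : Type u) [Group G] : Prop :=
  ∃ A B C : Subgroup G, A.Normal ∧ B.Normal ∧ C.Normal ∧ A ≤ B ∧ B ≤ C ∧ ¬ p ∣ Nat.card A ∧
    (∃ k : ℕ, A.relIndex B = p ^ k) ∧ ¬ p ∣ B.relIndex C ∧ ∃ k : ℕ, C.index = p ^ k

variable {G : Type u} [Group G] [Finite G] [hp : Fact p.Prime]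

theorem card_eq_mul {H K : Subgroup G} (h : H ≤ K) : Nat.card H * H.relIndex K = Nat.card K := by
  rw [← relIndex_bot_left, relIndex_mul_relIndex _ _ _ bot_le h, relIndex_bot_left]

theorem dvd_relIndex (N : Subgroup G) [N.Normal] {X Y : Subgroup G} (h : X ≤ Y) :
    N.relIndex X ∣ N.relIndex Y := by
  rw [← relIndex_subgroupOf h]
  exact relIndex_dvd_index_of_normal _ _

theorem hyp_quotient (N : Subgroup G) [N.Normal] (h : Hyp p G) : Hyp p (G ⧸ N) := by
  intro M hM
  set π := QuotientGroup.mk' N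
  have hs : Function.Surjective π := QuotientGroup.mk'_surjective N
  have hcM : IsCoatom (M.comap π) := isCoatom_comap_of_surjective hs hM
  rcases h _ hcM with ⟨K, hKn, hKp, k, hk⟩ | hpr
  · let f : M.comap π →* M := π.subgroupComap M
    have hf : Function.Surjective f := fun y => by
      obtain ⟨x, hx⟩ := hs (y : G ⧸ N)
      exact ⟨⟨x, by rw [mem_comap, hx]; exact y.2⟩, Subtype.ext hx⟩
    refine Or.inl ⟨K.map f, hKn.map f hf, fun hd => hKp (hd.trans (K.card_map_dvd f)), ?_⟩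
    obtain ⟨j, -, hj⟩ := (Nat.dvd_prime_pow hp.out).1 (hk ▸ K.index_map_dvd hf)
    exact ⟨j, hj⟩
  · exact Or.inr (by rwa [index_comap_of_surjective _ hs] at hpr)

/-- a minimal normal subgroup is a `p`-group or a `p'`-group -/
theorem minimal_cases (hsol : Cfsg.IsPSolvable p G) {N : Subgroup G} [N.Normal] (hNb : N ≠ ⊥)
    (hmin : ∀ M : Subgroup G, M.Normal → M ≤ N → M = ⊥ ∨ M = N) :
    (∃ k, Nat.card N = p ^ k) ∨ ¬ p ∣ Nat.card N := by
  obtain ⟨n, H, h0, hn, hmono, hH, hstep⟩ := hsol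
  obtain ⟨i, hi, hi'⟩ : ∃ i : Fin n, N ⊓ H i.castSucc = ⊥ ∧ N ≤ H i.succ := by
    by_contra hcon
    push Not at hcon
    have hall : ∀ j, N ⊓ H j = ⊥ := fun j => by
      induction j using Fin.induction with
      | zero => rw [h0, inf_bot_eq]
      | succ j ih =>
        haveI := hH j.succ
        rcases hmin (N ⊓ H j.succ) inferInstance inf_le_left with h | h
        · exact h
        · exact absurd (inf_eq_left.1 h) (hcon j ih)
    exact hNb (by rw [← hall (Fin.last n), hn, inf_top_eq])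
  haveI := hH i.castSucc
  have hd : Nat.card N ∣ (H i.castSucc).relIndex (H i.succ) := by
    have h1 : (H i.castSucc).relIndex N = Nat.card N := by
      rw [← inf_relIndex_right, inf_comm, hi, relIndex_bot_left]
    rw [← h1]
    exact dvd_relIndex _ hi'
  rcases hstep i with ⟨m, hm⟩ | hm
  · rw [hm, Nat.dvd_prime_pow hp.out] at hd
    obtain ⟨j, -, hj⟩ := hd
    exact Or.inl ⟨j, hj⟩
  · exact Or.inr (hp.out.coprime_iff_not_dvd.1 (hm.coprime_dvd_left hd).symm)

/-- lifting over a normal `p`-subgroup in the Frattini subgroup, or over a normal `p'`-subgroup -/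
theorem good_lift (N : Subgroup G) [N.Normal] (h : Good p (G ⧸ N))
    (hN : ((∃ k, Nat.card N = p ^ k) ∧ Group.IsSolvable N ∧ N ≤ frattini G) ∨ ¬ p ∣ Nat.card N) : Good p G := by
  obtain ⟨A, B, C, hA, hB, hC, hAB, hBC, hAp, ⟨k, hk⟩, hBCp, j, hj⟩ := h
  haveI := hA
  haveI := hB
  haveI := hC
  set π := QuotientGroup.mk' N
  have hs : Function.Surjective π := QuotientGroup.mk'_surjective N
  have hrel : ∀ X Y : Subgroup (G ⧸ N), (X.comap π).relIndex (Y.comap π) = X.relIndex Y := fun X Y => by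
    rw [relIndex_comap, map_comap_eq_self_of_surjective hs]
  have hNA : N ≤ A.comap π := fun x hx => by
    rw [mem_comap, show π x = 1 from (QuotientGroup.eq_one_iff x).2 hx]; exact one_mem A
  have hcA : N.relIndex (A.comap π) = Nat.card A := by
    have e : N = (⊥ : Subgroup (G ⧸ N)).comap π := by
      rw [MonoidHom.comap_bot]; exact (QuotientGroup.ker_mk' N).symm
    refine (congrArg (fun X : Subgroup G => X.relIndex (A.comap π)) e).trans ?_
    rw [hrel, relIndex_bot_left]
  have hBC' : ¬ p ∣ (B.comap π).relIndex (C.comap π) := by rwa [hrel]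
  have hCi : (C.comap π).index = p ^ j := by rw [index_comap_of_surjective _ hs, hj]
  rcases hN with ⟨⟨t, ht⟩, hNsol, hNΦ⟩ | hNp
  · have hcop : (Nat.card N).Coprime (N.relIndex (A.comap π)) := by
      rw [hcA, ht]
      exact Nat.Coprime.pow_left t (hp.out.coprime_iff_not_dvd.2 hAp)
    obtain ⟨K, hKA, hsup, hKc⟩ := exists_complement_in hNA le_normalizer_of_normal hcop
    have hKn : K.Normal := by
      refine normalizer_eq_top_iff.1 (frattini_nongenerating (top_le_iff.1 ?_))
      intro g _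
      obtain ⟨x, hx, hxe⟩ := exists_conj_eq_of_coprime (N := N) (H := K) (K := conjMap g K)
        le_normalizer_of_normal (hKc ▸ hcop) (Or.inl hNsol) (by
          rw [hsup]
          rintro _ ⟨y, hy, rfl⟩
          exact (inferInstance : (A.comap π).Normal).conj_mem y (hKA hy) g)
        (card_conjMap g K)
      have h1 : x⁻¹ * g ∈ normalizer (K : Set G) := by
        rw [← conjMap_eq_self_iff, ← conjMap_mul, hxe, conjMap_inv_conjMap]
      have := mul_mem (mem_sup_right (S := normalizer (K : Set G)) (hNΦ hx)) (mem_sup_left (T := frattini G) h1)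
      rwa [mul_inv_cancel_left] at this
    refine ⟨K, B.comap π, C.comap π, hKn, inferInstance, inferInstance, hKA.trans (comap_mono hAB),
      comap_mono hBC, by rw [hKc, hcA]; exact hAp, ⟨t + k, ?_⟩, hBC', j, hCi⟩
    refine Nat.eq_of_mul_eq_mul_left (Nat.card_pos (α := K)) ?_
    rw [card_eq_mul (hKA.trans (comap_mono hAB)), ← card_eq_mul (comap_mono (f := π) hAB), ← card_eq_mul hNA,
      hrel, hk, hKc, ht, pow_add]
    ring
  · refine ⟨A.comap π, B.comap π, C.comap π, inferInstance, inferInstance, inferInstance, comap_mono hAB,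
      comap_mono hBC, ?_, ⟨k, by rw [hrel, hk]⟩, hBC', j, hCi⟩
    rw [← card_eq_mul hNA, hcA]
    exact hp.out.not_dvd_mul hNp hAp

/-- subdirect products -/
theorem good_subdirect {N₁ N₂ : Subgroup G} [N₁.Normal] [N₂.Normal] (hinf : N₁ ⊓ N₂ = ⊥)
    (h1 : Good p (G ⧸ N₁)) (h2 : Good p (G ⧸ N₂)) : Good p G := by
  obtain ⟨A₁, B₁, C₁, hA₁, hB₁, hC₁, hAB₁, hBC₁, hAp₁, ⟨k₁, hk₁⟩, hBCp₁, j₁, hj₁⟩ := h1
  obtain ⟨A₂, B₂, C₂, hA₂, hB₂, hC₂, hAB₂, hBC₂, hAp₂, ⟨k₂, hk₂⟩, hBCp₂, j₂, hj₂⟩ := h2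
  haveI := hA₁; haveI := hB₁; haveI := hC₁
  haveI := hA₂; haveI := hB₂; haveI := hC₂
  set π₁ := QuotientGroup.mk' N₁
  set π₂ := QuotientGroup.mk' N₂
  have hs₁ : Function.Surjective π₁ := QuotientGroup.mk'_surjective N₁
  have hs₂ : Function.Surjective π₂ := QuotientGroup.mk'_surjective N₂
  have hr : ∀ {X Y : Subgroup G} {X' Y' : Subgroup G}, X.Normal → X'.Normal → X ≤ Y → X' ≤ Y' →
      (X ⊓ X').relIndex (Y ⊓ Y') ∣ X.relIndex Y * X'.relIndex Y' := by
    intro X Y X' Y' hX hX' hXY hXY'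
    haveI := hX
    haveI := hX'
    rw [← relIndex_mul_relIndex (X ⊓ X') (X ⊓ Y') (Y ⊓ Y') (inf_le_inf_left X hXY') (inf_le_inf_right Y' hXY),
      mul_comm (X.relIndex Y)]
    refine Nat.mul_dvd_mul ?_ ?_
    · have e : (X ⊓ X').relIndex (X ⊓ Y') = X'.relIndex (X ⊓ Y') := by
        rw [← inf_relIndex_right X' (X ⊓ Y')]
        congr 1
        apply le_antisymm
        · exact le_inf inf_le_right (le_inf inf_le_left (inf_le_right.trans hXY'))
        · exact le_inf (inf_le_right.trans inf_le_left) inf_le_left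
      rw [e]
      exact dvd_relIndex X' inf_le_right
    · have e : (X ⊓ Y').relIndex (Y ⊓ Y') = X.relIndex (Y ⊓ Y') := by
        rw [← inf_relIndex_right X (Y ⊓ Y')]
        congr 1
        apply le_antisymm
        · exact le_inf inf_le_left (le_inf (inf_le_left.trans hXY) inf_le_right)
        · exact le_inf inf_le_left (inf_le_right.trans inf_le_right)
      rw [e]
      exact dvd_relIndex X inf_le_left
  have hrel₁ : ∀ X Y : Subgroup (G ⧸ N₁), (X.comap π₁).relIndex (Y.comap π₁) = X.relIndex Y := fun X Y => by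
    rw [relIndex_comap, map_comap_eq_self_of_surjective hs₁]
  have hrel₂ : ∀ X Y : Subgroup (G ⧸ N₂), (X.comap π₂).relIndex (Y.comap π₂) = X.relIndex Y := fun X Y => by
    rw [relIndex_comap, map_comap_eq_self_of_surjective hs₂]
  refine ⟨A₁.comap π₁ ⊓ A₂.comap π₂, B₁.comap π₁ ⊓ B₂.comap π₂, C₁.comap π₁ ⊓ C₂.comap π₂,
    inferInstance, inferInstance, inferInstance, inf_le_inf (comap_mono hAB₁) (comap_mono hAB₂),
    inf_le_inf (comap_mono hBC₁) (comap_mono hBC₂), fun hd => ?_, ?_, fun hd => ?_, ?_⟩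
  · obtain ⟨⟨x, hx⟩, hxo⟩ := exists_prime_orderOf_dvd_card' p hd
    rw [Subgroup.orderOf_mk] at hxo
    have hx1 : π₁ x = 1 := orderOf_eq_one_iff.1 (Nat.eq_one_of_dvd_coprimes (hp.out.coprime_iff_not_dvd.2 hAp₁)
      (hxo ▸ orderOf_map_dvd π₁ x) (Subgroup.orderOf_dvd_natCard A₁ hx.1))
    have hx2 : π₂ x = 1 := orderOf_eq_one_iff.1 (Nat.eq_one_of_dvd_coprimes (hp.out.coprime_iff_not_dvd.2 hAp₂)
      (hxo ▸ orderOf_map_dvd π₂ x) (Subgroup.orderOf_dvd_natCard A₂ hx.2))
    have : x = 1 := (eq_bot_iff_forall _).1 hinf x ⟨(QuotientGroup.eq_one_iff x).1 hx1, (QuotientGroup.eq_one_iff x).1 hx2⟩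
    rw [this, orderOf_one] at hxo
    exact hp.out.one_lt.ne hxo
  · have h3 := hr (X := A₁.comap π₁) (X' := A₂.comap π₂) inferInstance inferInstance
      (comap_mono (f := π₁) hAB₁) (comap_mono (f := π₂) hAB₂)
    rw [hrel₁, hrel₂, hk₁, hk₂, ← pow_add, Nat.dvd_prime_pow hp.out] at h3
    obtain ⟨k, -, hk⟩ := h3
    exact ⟨k, hk⟩
  · have h3 := hd.trans (hr (X := B₁.comap π₁) (X' := B₂.comap π₂) inferInstance inferInstance
      (comap_mono (f := π₁) hBC₁) (comap_mono (f := π₂) hBC₂))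
    rw [hrel₁, hrel₂] at h3
    exact hp.out.not_dvd_mul hBCp₁ hBCp₂ h3
  · have h3 := hr (X := C₁.comap π₁) (X' := C₂.comap π₂) (Y := ⊤) (Y' := ⊤) inferInstance inferInstance le_top le_top
    rw [inf_top_eq, relIndex_top_right, relIndex_top_right, relIndex_top_right,
      index_comap_of_surjective _ hs₁, index_comap_of_surjective _ hs₂, hj₁, hj₂, ← pow_add, Nat.dvd_prime_pow hp.out] at h3
    obtain ⟨k, -, hk⟩ := h3
    exact ⟨k, hk⟩

/-- a faithful subgroup of prime index forces an abelian quotient over the minimal normal subgroup -/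
theorem abelian_of_prime_index {N M : Subgroup G} [N.Normal] (hNM : ¬ N ≤ M) (hM : IsCoatom M)
    (hr : (M.index).Prime) (hcore : M.normalCore = ⊥) : ∀ a b : G, ⁅a, b⁆ ∈ N := by
  classical
  set r := M.index with hr'
  haveI := Fact.mk hr
  have hinj : Function.Injective (MulAction.toPermHom G (G ⧸ M)) := by
    rw [← MonoidHom.ker_eq_bot_iff, ← normalCore_eq_ker, hcore]
  have hd : Nat.card G ∣ r.factorial := by
    haveI := Fintype.ofFinite (G ⧸ M)
    have h1 := card_dvd_of_injective _ hinj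
    rwa [Nat.card_perm, ← index_eq_card] at h1
  have hrN : r ∣ Nat.card N := by
    have htop : N ⊔ M = ⊤ := hM.2 _ (lt_of_le_of_ne le_sup_right fun e => hNM (e ▸ le_sup_left))
    have h1 := card_sup_mul_card_inf (N := N) (H := M) le_normalizer_of_normal
    rw [htop, card_top, ← M.card_mul_index, mul_comm (Nat.card N), mul_assoc] at h1
    exact ⟨Nat.card ↥(N ⊓ M), (Nat.eq_of_mul_eq_mul_left Nat.card_pos h1).symm⟩
  obtain ⟨⟨g, hgN⟩, hgo⟩ := exists_prime_orderOf_dvd_card' r hrN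
  rw [Subgroup.orderOf_mk] at hgo
  set P := zpowers g
  have hPc : Nat.card P = r := by rw [Nat.card_zpowers, hgo]
  have hPN : P ≤ N := zpowers_le.2 hgN
  have hnd : ¬ r ∣ P.index := fun h => by
    have h1 : r * r ∣ Nat.card G := by rw [← P.card_mul_index, hPc]; exact Nat.mul_dvd_mul_left r h
    have h2 := h1.trans hd
    rw [← Nat.mul_factorial_pred hr.ne_zero] at h2
    have h3 := Nat.dvd_of_mul_dvd_mul_left hr.pos h2
    have h4 : r ≤ r - 1 := (Nat.Prime.dvd_factorial hr).1 h3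
    have h5 := hr.pos
    omega
  -- Frattini
  have hfr : normalizer (P : Set G) ⊔ N = ⊤ := by
    let Q : Sylow r G := (IsPGroup.of_card (G := P) (n := 1) (by rw [pow_one, hPc])).toSylow hnd
    exact Sylow.normalizer_sup_eq_top' Q hPN
  -- the centralizer of `g`
  have hcent : ∀ c, Commute c g → c ∈ P := by
    obtain ⟨y, hy⟩ : ∃ y : G, g ∉ conjMap y M := by
      by_contra! hall
      have : g ∈ M.normalCore := fun b => by
        have := hall b⁻¹
        rw [mem_conjMap, inv_inv] at this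
        exact this
      rw [hcore, mem_bot] at this
      rw [this, orderOf_one] at hgo
      exact hr.one_lt.ne hgo
    set M' := conjMap y M
    have hdisj : P ⊓ M' = ⊥ := by
      haveI : Fact (Nat.Prime (Nat.card P)) := ⟨by rw [hPc]; exact hr⟩
      rcases ((P ⊓ M').subgroupOf P).eq_bot_or_eq_top_of_prime_card with h | h
      · rw [← map_subgroupOf_eq_of_le (inf_le_left : P ⊓ M' ≤ P), h, Subgroup.map_bot]
      · exact absurd (Subgroup.mem_inf.1 (subgroupOf_eq_top.1 h (mem_zpowers g))).2 hy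
    have hc : P.IsComplement' M' := by
      refine isComplement'_of_card_mul_and_disjoint ?_ (disjoint_iff.2 hdisj)
      rw [hPc, card_conjMap, mul_comm, hr', M.card_mul_index]
    intro c hcg
    obtain ⟨⟨u, m⟩, hum⟩ := hc.2 c
    have hum' : (u : G) * m = c := hum
    have hug : Commute (u : G) g := by
      obtain ⟨i, hi⟩ := mem_zpowers_iff.1 u.2
      rw [← hi]
      exact (Commute.refl g).zpow_left i
    have hmg : Commute (m : G) g := by
      have h1 : (m : G) = (u : G)⁻¹ * c := by rw [← hum', inv_mul_cancel_left]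
      rw [h1]
      exact hug.inv_left.mul_left hcg
    have hm1 : (m : G) = 1 := by
      have hcore' : ∀ b : G, b * (y⁻¹ * m * y) * b⁻¹ ∈ M := fun b => by
        obtain ⟨⟨v, m'⟩, hvm⟩ := hc.2 (y * b⁻¹ * y⁻¹)
        have hvm' : (v : G) * m' = y * b⁻¹ * y⁻¹ := hvm
        obtain ⟨i, hi⟩ := mem_zpowers_iff.1 v.2
        have hmv : (v : G)⁻¹ * m * v = m := by
          rw [← hi, mul_assoc, (hmg.zpow_right i).eq, inv_mul_cancel_left]
        have h2 : (m' : G)⁻¹ * m * m' ∈ M' := mul_mem (mul_mem (inv_mem m'.2) m.2) m'.2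
        rw [mem_conjMap] at h2
        have e : b * (y⁻¹ * m * y) * b⁻¹ = y⁻¹ * ((m' : G)⁻¹ * ((v : G)⁻¹ * m * v) * m') * y := by
          calc b * (y⁻¹ * m * y) * b⁻¹
              = y⁻¹ * ((y * b⁻¹ * y⁻¹)⁻¹ * m * (y * b⁻¹ * y⁻¹)) * y := by group
            _ = _ := by rw [← hvm']; group
        rw [e, hmv]
        exact h2
      have h3 : y⁻¹ * (m : G) * y ∈ M.normalCore := hcore'
      rw [hcore, mem_bot] at h3
      have : (m : G) = y * (y⁻¹ * m * y) * y⁻¹ := by group
      rw [this, h3]; simp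
    rw [← hum', hm1, mul_one]
    exact u.2
  set π := QuotientGroup.mk' N
  have hN' : ∀ x y : G, x ∈ normalizer (P : Set G) → y ∈ normalizer (P : Set G) → ⁅x, y⁆ ∈ P := by
    intro x y hx hy
    refine hcent _ ?_
    have hex : ∀ z ∈ normalizer (P : Set G), ∃ i : ℤ, z * g * z⁻¹ = g ^ i := fun z hz => by
      obtain ⟨i, hi⟩ := mem_zpowers_iff.1 ((mem_normalizer_iff.1 hz g).1 (mem_zpowers g))
      exact ⟨i, hi.symm⟩
    obtain ⟨i, hi⟩ := hex x hx
    obtain ⟨j, hj⟩ := hex y hy
    have h1 : (x * y) * g * (x * y)⁻¹ = g ^ (i * j) := by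
      calc (x * y) * g * (x * y)⁻¹ = x * (y * g * y⁻¹) * x⁻¹ := by group
        _ = g ^ (i * j) := by rw [hj, ← conj_zpow, hi, ← zpow_mul]
    have h2 : (y * x) * g * (y * x)⁻¹ = g ^ (i * j) := by
      calc (y * x) * g * (y * x)⁻¹ = y * (x * g * x⁻¹) * y⁻¹ := by group
        _ = g ^ (i * j) := by rw [hi, ← conj_zpow, hj, ← zpow_mul, mul_comm]
    have h3 : (x * y) * g * (x * y)⁻¹ = (y * x) * g * (y * x)⁻¹ := h1.trans h2.symm
    have h4 : ⁅x, y⁆ * ((y * x) * g * (y * x)⁻¹) * ⁅x, y⁆⁻¹ = (y * x) * g * (y * x)⁻¹ := by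
      conv_rhs => rw [← h3]
      simp only [commutatorElement_def]; group
    have h6 : IsCoprime (i * j) (r : ℤ) := by
      refine ((Nat.prime_iff_prime_int.1 hr).coprime_iff_not_dvd.2 fun hd' => ?_).symm
      have : g ^ (i * j) = 1 := orderOf_dvd_iff_zpow_eq_one.1 (by rw [hgo]; exact hd')
      rw [this] at h2
      have := conj_eq_one_iff.1 h2
      rw [this, orderOf_one] at hgo
      exact hr.one_lt.ne hgo
    obtain ⟨s, t, hst⟩ := h6
    have h5 : Commute ⁅x, y⁆ (g ^ (i * j)) := mul_inv_eq_iff_eq_mul.1 (by rw [← h2]; exact h4)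
    have e : g = (g ^ (i * j)) ^ s := by
      have h7 : g ^ (t * (r : ℤ)) = 1 := by
        rw [mul_comm, zpow_mul, zpow_natCast, ← hgo, pow_orderOf_eq_one, one_zpow]
      conv_lhs => rw [← zpow_one g, ← hst, zpow_add, h7, mul_one, mul_comm, zpow_mul]
    rw [e]
    exact h5.zpow_right s
  intro a b
  have hdec : ∀ a : G, ∃ x ∈ normalizer (P : Set G), π a = π x := fun a => by
    have ha : a ∈ ((normalizer (P : Set G) ⊔ N : Subgroup G) : Set G) := hfr.ge (mem_top a)
    rw [mul_normal] at ha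
    obtain ⟨x, hx, n, hn, rfl⟩ := ha
    refine ⟨x, hx, ?_⟩
    show π (x * n) = π x
    rw [map_mul, show π n = 1 from (QuotientGroup.eq_one_iff n).2 hn, mul_one]
  obtain ⟨x, hx, hxa⟩ := hdec a
  obtain ⟨y, hy, hyb⟩ := hdec b
  rw [← QuotientGroup.ker_mk' N, MonoidHom.mem_ker, map_commutatorElement, hxa, hyb, ← map_commutatorElement,
    ← MonoidHom.mem_ker, QuotientGroup.ker_mk']
  exact hPN (hN' x y hx hy)

theorem main : ∀ (n : ℕ) (G : Type u) [Group G] [Finite G], Nat.card G = n → Cfsg.IsPSolvable p G → Hyp p G →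
    Good p G := by
  intro n
  induction n using Nat.strong_induction_on with
  | _ n ih =>
  intro G _ _ hn hsol hhyp
  rcases subsingleton_or_nontrivial G with h | h
  · refine ⟨⊥, ⊥, ⊥, inferInstance, inferInstance, inferInstance, le_rfl, le_rfl, ?_, ⟨0, by simp⟩, ?_, 0, ?_⟩
    · rw [card_bot]; exact hp.out.not_dvd_one
    · rw [relIndex_self]; exact hp.out.not_dvd_one
    · rw [pow_zero, index_eq_one]; exact Subsingleton.elim _ _
  obtain ⟨N, -, hNn, hNb, hmin⟩ := exists_minimal_normal (K := (⊤ : Subgroup G)) inferInstance top_ne_bot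
  haveI := hNn
  have hq : ∀ X : Subgroup G, [X.Normal] → X ≠ ⊥ → Good p (G ⧸ X) := fun X _ hX =>
    ih _ (hn ▸ card_quotient_lt hX) (G ⧸ X) rfl (Cfsg.Lib.GaschutzYen.isPSolvable_quotient X hsol) (hyp_quotient X hhyp)
  rcases minimal_cases hsol hNb hmin with ⟨t, ht⟩ | hNp
  rotate_left
  · exact good_lift N (hq N hNb) (Or.inr hNp)
  have hNpg : IsPGroup p N := IsPGroup.of_card ht
  haveI := hNpg.isNilpotent
  have hNsol : Group.IsSolvable N := inferInstance
  by_cases hNΦ : N ≤ frattini G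
  · exact good_lift N (hq N hNb) (Or.inl ⟨⟨t, ht⟩, hNsol, hNΦ⟩)
  obtain ⟨M, hM, hNM⟩ : ∃ M : Subgroup G, IsCoatom M ∧ ¬ N ≤ M := by
    by_contra! hall
    exact hNΦ (le_iInf₂ hall)
  have htop : N ⊔ M = ⊤ := hM.2 _ (lt_of_le_of_ne le_sup_right fun e => hNM (e ▸ le_sup_left))
  rcases hhyp M hM with ⟨K, hKn, hKp, k, hk⟩ | hpr
  · set K' := K.map M.subtype with hK'
    have hK'M : K' ≤ M := map_subtype_le _
    haveI hX : (N ⊔ K').Normal := by
      refine normalizer_eq_top_iff.1 (top_le_iff.1 (htop ▸ sup_le (le_sup_left.trans le_normalizer) fun m hm => ?_))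
      refine mem_normalizer_iff_map_conj_eq.2 ?_
      have hmK : m ∈ normalizer (K' : Set G) := (normal_subgroupOf_iff_le_normalizer hK'M).1
        (by rwa [hK', subgroupOf, comap_map_eq_self_of_injective M.subtype_injective]) hm
      rw [Subgroup.map_sup, mem_normalizer_iff_map_conj_eq.1 hmK,
        mem_normalizer_iff_map_conj_eq.1 (show m ∈ normalizer (N : Set G) by rw [normalizer_eq_top]; exact mem_top m)]
    have hi : (N ⊔ K').index ∣ p ^ k := by
      have hsup : M ⊔ (N ⊔ K') = ⊤ := top_le_iff.1 (htop ▸ sup_le (le_sup_of_le_right le_sup_left) le_sup_left)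
      rw [← relIndex_top_right, ← hsup, relIndex_sup_right]
      refine Dvd.dvd.trans ?_ (show K'.relIndex M ∣ p ^ k by
        rw [hK', relIndex, subgroupOf, comap_map_eq_self_of_injective M.subtype_injective, hk])
      exact relIndex_dvd_of_le_left M le_sup_right
    obtain ⟨j, -, hj⟩ := (Nat.dvd_prime_pow hp.out).1 hi
    refine ⟨⊥, N, N ⊔ K', inferInstance, hNn, hX, bot_le, le_sup_left, ?_, ⟨t, by rw [relIndex_bot_left, ht]⟩, ?_, j, hj⟩
    · rw [card_bot]; exact hp.out.not_dvd_one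
    · rw [sup_comm, relIndex_sup_right]
      refine fun hd => hKp ?_
      have h1 := hd.trans (relIndex_dvd_card N K')
      rwa [hK', card_map_of_injective M.subtype_injective] at h1
  by_cases huniq : M.normalCore = ⊥
  swap
  · obtain ⟨N₂, hN₂le, hN₂n, hN₂b, hmin₂⟩ := exists_minimal_normal (K := M.normalCore) inferInstance huniq
    haveI := hN₂n
    refine good_subdirect (N₁ := N) (N₂ := N₂) ?_ (hq N hNb) (hq N₂ hN₂b)
    rcases hmin (N ⊓ N₂) inferInstance inf_le_left with h' | h'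
    · exact h'
    · exact absurd ((inf_eq_left.1 h').trans (hN₂le.trans M.normalCore_le)) hNM
  have hab := abelian_of_prime_index hNM hM hpr huniq
  set π := QuotientGroup.mk' N
  haveI : IsMulCommutative (G ⧸ N) := ⟨⟨fun a b => by
    obtain ⟨a, rfl⟩ := QuotientGroup.mk'_surjective N a
    obtain ⟨b, rfl⟩ := QuotientGroup.mk'_surjective N b
    rw [← commutatorElement_eq_one_iff_mul_comm, ← map_commutatorElement]
    exact (QuotientGroup.eq_one_iff _).2 (hab a b)⟩⟩
  obtain ⟨Q⟩ := (inferInstance : Nonempty (Sylow p (G ⧸ N)))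
  haveI hQn : (Q : Subgroup (G ⧸ N)).Normal := ⟨fun x hx g => by
    rw [mul_comm' g x, mul_inv_cancel_right]; exact hx⟩
  obtain ⟨s, hs⟩ := IsPGroup.iff_card.1 Q.2
  refine ⟨⊥, (Q : Subgroup (G ⧸ N)).comap π, ⊤, inferInstance, inferInstance, inferInstance, bot_le, le_top, ?_,
    ⟨s + t, ?_⟩, ?_, 0, by simp⟩
  · rw [card_bot]; exact hp.out.not_dvd_one
  · rw [relIndex_bot_left, card_comap_mk', hs, ht, pow_add, mul_comm]
  · rw [relIndex_top_right, index_comap_of_surjective _ (QuotientGroup.mk'_surjective N)]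
    exact Q.not_dvd_index

end Cfsg.Lib.SolvStruct.MaxPNil
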