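import Mathlib

/-! A module for a Frobenius group on which the kernel has no fixed points is free for the
complement. -/

set_option autoImplicit false
set_option linter.unusedSectionVars false
set_option linter.style.haveILetI false

namespace Cfsg.Lib.FrobeniusFree

open Finset

universe u v w

/-- freeness of a representation, elementwise -/
def Free {k : Type u} {U : Type v} {H : Type w} [Field k] [AddCommGroup U] [Module k U] [Group H] [Fintype H]
    (τ : Representation k H U) : Prop :=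
  ∃ W : Submodule k U, (∀ u : U, ∃ f : H → W, ∑ h, τ h (f h) = u) ∧
    ∀ f : H → W, ∑ h, τ h (f h) = 0 → f = 0

/-- Galois stabiliser: an element with invertible orbit matrix -/
theorem exists_det_ne_zero {L S : Type*} [Field L] [Group S] [Fintype S] [DecidableEq S] (f : S →* RingAut L)
    (hf : Function.Injective f) : ∃ θ : L, (Matrix.of fun t s : S => f (t * s) θ).det ≠ 0 := by
  letI : MulSemiringAction S L := MulSemiringAction.compHom L f
  haveI : FaithfulSMul S L := ⟨fun {a b} h => hf (RingEquiv.ext h)⟩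
  obtain ⟨θ, hθ⟩ := exists_linearIndependent_algEquiv_apply (FixedPoints.subfield S L) L
  refine ⟨θ, fun hdet => ?_⟩
  obtain ⟨c, hc0, hc⟩ := Matrix.exists_mulVec_eq_zero_iff.2 hdet
  have hli : LinearIndependent (FixedPoints.subfield S L) fun s : S => f s θ := by
    have := hθ.comp _ (FixedPoints.toAlgAut_bijective S L).injective
    exact this
  -- the traces of `y * c s` vanish
  have htr : ∀ (y : L) (s : S), ∑ t : S, f t (y * c s) = 0 := by
    intro y
    have hmem : ∀ s, (∑ t : S, f t (y * c s)) ∈ FixedPoints.subfield S L := by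
      intro s g
      show f g (∑ t : S, f t (y * c s)) = _
      rw [map_sum]
      exact Fintype.sum_equiv (Equiv.mulLeft g) _ _ fun t => by
        simp only [Equiv.coe_mulLeft]
        rw [map_mul f]; rfl
    have hrow : ∀ t, ∑ s, f (t * s) θ * c s = 0 := fun t => congrFun hc t
    have hzero : ∑ s, (∑ t : S, f t (y * c s)) * f s θ = 0 := by
      simp_rw [Finset.sum_mul]
      rw [Finset.sum_comm]
      refine Finset.sum_eq_zero fun t _ => ?_
      have := congrArg (f t) (show y * ∑ s, f (t⁻¹ * s) θ * c s = 0 by rw [hrow t⁻¹, mul_zero])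
      rw [map_zero, map_mul, map_sum, Finset.mul_sum] at this
      rw [← this]
      refine Finset.sum_congr rfl fun s _ => ?_
      rw [map_mul (f t) (f (t⁻¹ * s) θ), map_mul (f t) y, show f t (f (t⁻¹ * s) θ) = f s θ by
        rw [← RingAut.mul_apply, ← map_mul, mul_inv_cancel_left]]
      ring
    intro s
    have h := Fintype.linearIndependent_iff.1 hli (fun s => ⟨_, hmem s⟩) (by simpa [Subfield.smul_def] using hzero) s
    exact congrArg Subtype.val h
  apply hc0
  funext s
  by_contra hs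
  have hli2 := linearIndependent_monoidHom L L
  have h1 : ∀ z : L, ∑ t : S, f t z = 0 := fun z => by
    have := htr (z * (c s)⁻¹) s
    rwa [mul_assoc, inv_mul_cancel₀ hs, mul_one] at this
  have hinj : Function.Injective fun t : S => ((f t).toRingHom.toMonoidHom : L →* L) :=
    fun a b h => hf (RingEquiv.ext fun z => DFunLike.congr_fun h z)
  have h2 := Fintype.linearIndependent_iff.1 (hli2.comp _ hinj) (fun _ => (1 : L)) (by
    funext z
    simpa [Finset.sum_apply] using h1 z) 1
  exact one_ne_zero h2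

/-- in a product of fields with a free action, some orbit matrix is invertible -/
theorem exists_isUnit_det {R H : Type*} [CommRing R] [IsArtinianRing R] [Group H] [Fintype H] [DecidableEq H]
    (σ : H →* RingAut R)
    (hfree : ∀ h : H, h ≠ 1 → ∀ m : Ideal R, m.IsMaximal → (∀ r ∈ m, σ h r ∈ m) → ∃ r, σ h r - r ∉ m) :
    ∃ θ : R, IsUnit (Matrix.of fun t s : H => σ (t * s) θ).det := by
  classical
  cases nonempty_fintype (MaximalSpectrum R)
  -- the action on maximal ideals
  let act : H → MaximalSpectrum R → MaximalSpectrum R := fun h m =>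
    ⟨m.asIdeal.comap (σ h⁻¹).toRingHom, m.isMaximal.comap_bijective _ (σ h⁻¹).bijective⟩
  have hact : ∀ (h : H) (m : MaximalSpectrum R) (r : R), r ∈ (act h m).asIdeal ↔ σ h⁻¹ r ∈ m.asIdeal :=
    fun h m r => Iff.rfl
  letI : MulAction H (MaximalSpectrum R) :=
    { smul := act
      one_smul := fun m => MaximalSpectrum.ext (Ideal.ext fun r => by
        show r ∈ (act 1 m).asIdeal ↔ _
        rw [hact, inv_one, map_one]; rfl)
      mul_smul := fun g h m => MaximalSpectrum.ext (Ideal.ext fun r => by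
        show r ∈ (act (g * h) m).asIdeal ↔ r ∈ (act g (act h m)).asIdeal
        rw [hact, hact, hact, mul_inv_rev, map_mul]; rfl) }
  have hsmul : ∀ (h : H) (m : MaximalSpectrum R) (r : R), r ∈ (h • m).asIdeal ↔ σ h⁻¹ r ∈ m.asIdeal := hact
  -- orbit representatives
  let rep : MaximalSpectrum R → MaximalSpectrum R := fun m =>
    (Quotient.mk (MulAction.orbitRel H (MaximalSpectrum R)) m).out
  have hrep : ∀ m, ∃ g : H, g • rep m = m := fun m => by
    have h := MulAction.orbitRel_apply.1 (Quotient.exact (Quotient.out_eq (Quotient.mk (MulAction.orbitRel H (MaximalSpectrum R)) m)))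
    obtain ⟨g, hg⟩ := h
    exact ⟨g⁻¹, inv_smul_eq_iff.2 hg.symm⟩
  have hrepinv : ∀ (g : H) m, rep (g • m) = rep m := fun g m => by
    simp only [rep]
    rw [Quotient.sound (MulAction.orbitRel_apply.2 ⟨g, rfl⟩ : MulAction.orbitRel H (MaximalSpectrum R) (g • m) m)]
  -- local choices
  have hloc : ∀ m : MaximalSpectrum R, ∃ θ : R, ∀ c : MulAction.stabilizer H m → R,
      (∀ a : MulAction.stabilizer H m, ∑ b : MulAction.stabilizer H m, σ ((a : H) * b) θ * c b ∈ m.asIdeal) →
      ∀ b, c b ∈ m.asIdeal := by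
    intro m
    haveI := m.isMaximal
    letI := Ideal.Quotient.field m.asIdeal
    have hst : ∀ a : MulAction.stabilizer H m, ∀ r, σ (a : H) r ∈ m.asIdeal ↔ r ∈ m.asIdeal := by
      intro a r
      have h := hsmul (a : H) m (σ (a : H) r)
      rw [show (a : H) • m = m from a.2, ← RingAut.mul_apply, ← map_mul, inv_mul_cancel, map_one] at h
      exact h
    let φ : MulAction.stabilizer H m → (R ⧸ m.asIdeal) →+* (R ⧸ m.asIdeal) := fun a =>
      Ideal.quotientMap m.asIdeal (σ (a : H)).toRingHom fun r hr => (hst a r).2 hr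
    have hφ : ∀ a r, φ a (Ideal.Quotient.mk m.asIdeal r) = Ideal.Quotient.mk m.asIdeal (σ (a : H) r) :=
      fun a r => rfl
    let f : MulAction.stabilizer H m →* RingAut (R ⧸ m.asIdeal) :=
      { toFun := fun a => RingEquiv.ofRingHom (φ a) (φ a⁻¹)
          (Ideal.Quotient.ringHom_ext (RingHom.ext fun r => by
            show φ a (φ a⁻¹ (Ideal.Quotient.mk _ r)) = Ideal.Quotient.mk _ r
            rw [hφ, hφ, Subgroup.coe_inv, ← RingAut.mul_apply, ← map_mul, mul_inv_cancel, map_one]; rfl))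
          (Ideal.Quotient.ringHom_ext (RingHom.ext fun r => by
            show φ a⁻¹ (φ a (Ideal.Quotient.mk _ r)) = Ideal.Quotient.mk _ r
            rw [hφ, hφ, Subgroup.coe_inv, ← RingAut.mul_apply, ← map_mul, inv_mul_cancel, map_one]; rfl))
        map_one' := RingEquiv.ext fun x => by
          obtain ⟨r, rfl⟩ := Ideal.Quotient.mk_surjective x
          show φ 1 (Ideal.Quotient.mk m.asIdeal r) = Ideal.Quotient.mk m.asIdeal r
          rw [hφ, Subgroup.coe_one, map_one]; rfl
        map_mul' := fun a b => RingEquiv.ext fun x => by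
          obtain ⟨r, rfl⟩ := Ideal.Quotient.mk_surjective x
          show φ (a * b) (Ideal.Quotient.mk m.asIdeal r) = φ a (φ b (Ideal.Quotient.mk m.asIdeal r))
          rw [hφ, hφ, hφ, Subgroup.coe_mul, map_mul]; rfl }
    have hf : Function.Injective f := by
      refine (injective_iff_map_eq_one f).2 fun a ha => ?_
      by_contra ha1
      obtain ⟨r, hr⟩ := hfree a (fun e => ha1 (Subtype.ext e)) m.asIdeal m.isMaximal fun r hr => (hst a r).2 hr
      apply hr
      have := RingEquiv.congr_fun ha (Ideal.Quotient.mk m.asIdeal r)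
      exact (Ideal.Quotient.eq).1 this
    obtain ⟨θ₀, hθ₀⟩ := exists_det_ne_zero f hf
    obtain ⟨θ, rfl⟩ := Ideal.Quotient.mk_surjective θ₀
    refine ⟨θ, fun c hc b => ?_⟩
    by_contra hb
    refine hθ₀ (Matrix.exists_mulVec_eq_zero_iff.1 ⟨fun b => Ideal.Quotient.mk _ (c b),
      fun e => hb (Ideal.Quotient.eq_zero_iff_mem.1 (congrFun e b)), funext fun a => ?_⟩)
    have := Ideal.Quotient.eq_zero_iff_mem.2 (hc a)
    rw [map_sum] at this
    refine Eq.trans ?_ this
    refine Finset.sum_congr rfl fun b _ => ?_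
    rw [map_mul (Ideal.Quotient.mk m.asIdeal)]
    rfl
  choose loc hloc using hloc
  obtain ⟨θ, hθ⟩ := Ideal.exists_forall_sub_mem_ideal (I := fun m : MaximalSpectrum R => m.asIdeal)
    (fun a b hab => by haveI := a.isMaximal; haveI := b.isMaximal; exact Ideal.isCoprime_of_isMaximal fun e => hab (MaximalSpectrum.ext e))
    (fun m => if rep m = m then loc m else 0)
  refine ⟨θ, ?_⟩
  by_contra hu
  obtain ⟨I, hI, hdet⟩ := exists_max_ideal_of_mem_nonunits hu
  haveI := hI
  letI := Ideal.Quotient.field I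
  have h0 : ((Matrix.of fun t s : H => σ (t * s) θ).map (Ideal.Quotient.mk I)).det = 0 := by
    rw [← RingHom.mapMatrix_apply, ← RingHom.map_det]; exact Ideal.Quotient.eq_zero_iff_mem.2 hdet
  obtain ⟨c₀, hc₀, hc⟩ := Matrix.exists_mulVec_eq_zero_iff.2 h0
  set n : MaximalSpectrum R := ⟨I, hI⟩
  obtain ⟨g, hg⟩ := hrep n
  set m := rep n with hm
  have hrm : rep m = m := by rw [← hrepinv g m, hg]
  choose c hcval using fun s => Ideal.Quotient.mk_surjective (I := I) (c₀ s)
  have hrow : ∀ t, ∑ s, σ (t * s) θ * c s ∈ n.asIdeal := fun t => by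
    refine Ideal.Quotient.eq_zero_iff_mem.1 ?_
    have := congrFun hc t
    rw [map_sum]
    simp only [Matrix.mulVec, dotProduct, Matrix.map_apply, Matrix.of_apply, Pi.zero_apply] at this
    refine Eq.trans (Finset.sum_congr rfl fun s _ => ?_) this
    rw [map_mul (Ideal.Quotient.mk n.asIdeal), hcval]
  apply hc₀
  funext s₀
  rw [← hcval]
  refine Ideal.Quotient.eq_zero_iff_mem.2 ?_
  show c s₀ ∈ n.asIdeal
  -- transport to the representative
  have hmn : ∀ r, r ∈ n.asIdeal ↔ σ g⁻¹ r ∈ m.asIdeal := fun r => by rw [← hg, hsmul]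
  have hθm : θ - loc m ∈ m.asIdeal := by simpa [hrm] using hθ m
  have hoff : ∀ x : H, x • m ≠ m → σ x θ ∈ m.asIdeal := by
    intro x hx
    have h1 : θ ∈ (x⁻¹ • m).asIdeal := by
      have hne : rep (x⁻¹ • m) ≠ x⁻¹ • m := by
        rw [hrepinv, hrm]
        exact fun e => hx (by conv_lhs => rw [e]; rw [smul_inv_smul])
      simpa [hne] using hθ (x⁻¹ • m)
    rwa [hsmul, inv_inv] at h1
  have hstab : ∀ x : MulAction.stabilizer H m, σ (x : H) θ - σ (x : H) (loc m) ∈ m.asIdeal := fun x => by
    rw [← map_sub]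
    have := (hsmul (x : H) m (σ (x : H) (θ - loc m)))
    rw [show (x : H) • m = m from x.2, ← RingAut.mul_apply, ← map_mul, inv_mul_cancel, map_one] at this
    exact this.2 hθm
  have hkey := hloc m (fun b => σ g⁻¹ (c (s₀ * b))) (fun a => ?_) 1
  · rw [Subgroup.coe_one, mul_one] at hkey
    exact (hmn _).2 hkey
  have h1 := (hmn _).1 (hrow (g * a * s₀⁻¹))
  rw [map_sum] at h1
  have h2 : ∑ x : H, σ ((a : H) * x) θ * σ g⁻¹ (c (s₀ * x)) ∈ m.asIdeal := by
    refine (iff_of_eq (congrArg (· ∈ m.asIdeal) ?_)).1 h1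
    refine (Fintype.sum_equiv (Equiv.mulLeft s₀) _ _ fun x => ?_).symm
    simp only [Equiv.coe_mulLeft]
    rw [map_mul (σ g⁻¹), ← RingAut.mul_apply (σ g⁻¹), ← map_mul σ]
    group
  have h3 : ∀ x : H, x ∉ MulAction.stabilizer H m → σ ((a : H) * x) θ * σ g⁻¹ (c (s₀ * x)) ∈ m.asIdeal := by
    intro x hx
    refine m.asIdeal.mul_mem_right _ (hoff _ fun e => hx ?_)
    rw [mul_smul] at e
    rw [MulAction.mem_stabilizer_iff]
    exact (smul_left_cancel_iff (a : H)).1 (e.trans a.2.symm)
  rw [← Finset.sum_filter_add_sum_filter_not Finset.univ (· ∈ MulAction.stabilizer H m)] at h2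
  have h4 : ∑ x ∈ Finset.univ.filter (· ∈ MulAction.stabilizer H m), σ ((a : H) * x) θ * σ g⁻¹ (c (s₀ * x)) ∈ m.asIdeal :=
    (Ideal.add_mem_iff_left _ (Ideal.sum_mem _ fun x hx => h3 x (Finset.mem_filter.1 hx).2)).1 h2
  rw [Finset.sum_subtype (p := (· ∈ MulAction.stabilizer H m)) _ (fun x => by simp)] at h4
  rw [← Ideal.add_mem_iff_left _ (Ideal.sum_mem (t := Finset.univ)
    (f := fun b : MulAction.stabilizer H m => (σ ((a : H) * b) θ - σ ((a : H) * b) (loc m)) * σ g⁻¹ (c (s₀ * b))) _
    fun b _ => m.asIdeal.mul_mem_right _ (by simpa using hstab (a * b))), ← Finset.sum_add_distrib]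
  refine (iff_of_eq (congrArg (· ∈ m.asIdeal) (Finset.sum_congr rfl fun b _ => ?_))).1 h4
  ring

/-- the commutative case -/
theorem free_of_commute {k : Type u} {U : Type v} {H Z : Type w} [Field k] [AddCommGroup U] [Module k U]
    [FiniteDimensional k U] [Group H] [Fintype H] [Group Z] [Finite Z]
    (τ : Representation k H U) (π : Representation k Z U) (hk : (Nat.card Z : k) ≠ 0)
    (hcomm : ∀ z z', π z * π z' = π z' * π z) (φ : H → Z → Z)
    (hφ : ∀ h z, τ h * π z * τ h⁻¹ = π (φ h z))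
    (hsurj : ∀ h, h ≠ 1 → ∀ w, ∃ z, π (φ h z) = π w * π z)
    (hfix : ∀ u, (∀ z, π z u = u) → u = 0) : Free τ := by
  classical
  cases nonempty_fintype Z
  set S : Set (Module.End k U) := Set.range π
  set R := Algebra.adjoin k S with hR
  haveI : IsMulCommutative R := Algebra.isMulCommutative_adjoin k (by
    rintro _ ⟨z, rfl⟩ _ ⟨z', rfl⟩; exact hcomm z z')
  letI : CommRing R := { (inferInstance : Ring R) with mul_comm := fun a b => mul_comm' a b }
  haveI : Module.Finite k R := inferInstance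
  haveI : IsArtinianRing R := IsArtinianRing.of_finite k R
  haveI : IsReduced R := by
    let π' : Z →* R := (π.codRestrict R.toSubmonoid fun z => Algebra.subset_adjoin ⟨z, rfl⟩)
    haveI : NeZero (Nat.card Z : k) := ⟨hk⟩
    have hs : Function.Surjective (MonoidAlgebra.lift k R Z π') := by
      intro r
      obtain ⟨r, hr⟩ := r
      induction hr using Algebra.adjoin_induction with
      | mem x hx => obtain ⟨z, rfl⟩ := hx; exact ⟨MonoidAlgebra.single z 1, by simp [π']⟩
      | algebraMap a => exact ⟨algebraMap k _ a, by simp; rfl⟩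
      | add x y _ _ hx hy => obtain ⟨a, ha⟩ := hx; obtain ⟨b, hb⟩ := hy; exact ⟨a + b, by simp [ha, hb]⟩
      | mul x y _ _ hx hy => obtain ⟨a, ha⟩ := hx; obtain ⟨b, hb⟩ := hy; exact ⟨a * b, by simp [ha, hb]⟩
    haveI : IsSemisimpleRing R := RingHom.isSemisimpleRing_of_surjective (MonoidAlgebra.lift k R Z π').toRingHom hs
    infer_instance
  have hmem : ∀ (h : H) (r : R), τ h * (r : Module.End k U) * τ h⁻¹ ∈ R := by
    intro h r
    obtain ⟨r, hr⟩ := r
    induction hr using Algebra.adjoin_induction with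
    | mem x hx => obtain ⟨z, rfl⟩ := hx; rw [hφ]; exact Algebra.subset_adjoin ⟨_, rfl⟩
    | algebraMap a =>
      rw [show τ h * algebraMap k (Module.End k U) a * τ h⁻¹ = algebraMap k (Module.End k U) a by
        rw [← Algebra.commutes a (τ h), mul_assoc, ← map_mul τ, mul_inv_cancel, map_one, mul_one]]
      exact R.algebraMap_mem a
    | add x y _ _ hx hy => rw [mul_add, add_mul]; exact R.add_mem hx hy
    | mul x y _ _ hx hy =>
      rw [show τ h * (x * y) * τ h⁻¹ = (τ h * x * τ h⁻¹) * (τ h * y * τ h⁻¹) by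
        simp only [mul_assoc]
        rw [← mul_assoc (τ h⁻¹) (τ h), ← map_mul, inv_mul_cancel, map_one, one_mul]]
      exact R.mul_mem hx hy
  let σ : H →* RingAut R :=
    { toFun := fun h =>
        { toFun := fun r => ⟨τ h * r.1 * τ h⁻¹, hmem h r⟩
          invFun := fun r => ⟨τ h⁻¹ * r.1 * τ h, by simpa using hmem h⁻¹ r⟩
          left_inv := fun r => Subtype.ext (by
            show τ h⁻¹ * (τ h * r.1 * τ h⁻¹) * τ h = r.1
            simp only [← mul_assoc]
            rw [← map_mul, inv_mul_cancel, map_one, one_mul, mul_assoc, ← map_mul, inv_mul_cancel, map_one, mul_one])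
          right_inv := fun r => Subtype.ext (by
            show τ h * (τ h⁻¹ * r.1 * τ h) * τ h⁻¹ = r.1
            simp only [← mul_assoc]
            rw [← map_mul, mul_inv_cancel, map_one, one_mul, mul_assoc, ← map_mul, mul_inv_cancel, map_one, mul_one])
          map_mul' := fun a b => Subtype.ext (by
            show τ h * (a.1 * b.1) * τ h⁻¹ = (τ h * a.1 * τ h⁻¹) * (τ h * b.1 * τ h⁻¹)
            simp only [mul_assoc]
            rw [← mul_assoc (τ h⁻¹) (τ h), ← map_mul, inv_mul_cancel, map_one, one_mul])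
          map_add' := fun a b => Subtype.ext (by
            show τ h * (a.1 + b.1) * τ h⁻¹ = _
            rw [mul_add, add_mul]; rfl) }
      map_one' := RingEquiv.ext fun r => Subtype.ext (by
        show τ 1 * r.1 * τ 1⁻¹ = r.1
        rw [inv_one, map_one, one_mul, mul_one])
      map_mul' := fun g h => RingEquiv.ext fun r => Subtype.ext (by
        show τ (g * h) * r.1 * τ (g * h)⁻¹ = τ g * (τ h * r.1 * τ h⁻¹) * τ g⁻¹
        rw [mul_inv_rev, map_mul, map_mul]; simp only [mul_assoc]) }
  have hσ : ∀ (h : H) (r : R), τ h * (r : Module.End k U) = (σ h r : Module.End k U) * τ h := fun h r => by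
    show _ = τ h * r.1 * τ h⁻¹ * τ h
    rw [mul_assoc _ (τ h⁻¹), ← map_mul, inv_mul_cancel, map_one, mul_one]
  have hgen : ∀ z, π z ∈ R := fun z => Algebra.subset_adjoin ⟨z, rfl⟩
  obtain ⟨θ, hθ⟩ := exists_isUnit_det σ (fun h h1 m hm hst => by
    by_contra hcon
    push Not at hcon
    haveI := hm
    have hw : ∀ w, (⟨π w, hgen w⟩ : R) - 1 ∈ m := by
      intro w
      obtain ⟨z, hz⟩ := hsurj h h1 w
      have e := hcon ⟨π z, hgen z⟩
      have e1 : σ h ⟨π z, hgen z⟩ = (⟨π w, hgen w⟩ : R) * ⟨π z, hgen z⟩ := Subtype.ext (by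
        show τ h * π z * τ h⁻¹ = π w * π z
        rw [hφ, hz])
      rw [e1, show (⟨π w, hgen w⟩ : R) * ⟨π z, hgen z⟩ - ⟨π z, hgen z⟩ =
        ((⟨π w, hgen w⟩ : R) - 1) * ⟨π z, hgen z⟩ by ring] at e
      refine (hm.isPrime.mem_or_mem e).resolve_right fun hz' => ?_
      refine hm.ne_top (Ideal.eq_top_of_isUnit_mem _ hz' ⟨⟨⟨π z, hgen z⟩, ⟨π z⁻¹, hgen z⁻¹⟩, ?_, ?_⟩, rfl⟩)
      · exact Subtype.ext (by show π z * π z⁻¹ = 1; rw [← map_mul, mul_inv_cancel, map_one])
      · exact Subtype.ext (by show π z⁻¹ * π z = 1; rw [← map_mul, inv_mul_cancel, map_one])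
    cases nonempty_fintype (MaximalSpectrum R)
    set m₀ : MaximalSpectrum R := ⟨m, hm⟩
    set e := (IsArtinianRing.equivPi R).symm (Pi.single m₀ 1)
    have he : ∀ n : MaximalSpectrum R, Ideal.Quotient.mk n.asIdeal e = (Pi.single m₀ 1 : ∀ n : MaximalSpectrum R, R ⧸ n.asIdeal) n := by
      intro n
      rw [← (IsArtinianRing.equivPi R).apply_symm_apply (Pi.single m₀ 1), IsArtinianRing.equivPi_apply]
    have hew : ∀ w, ((⟨π w, hgen w⟩ : R) - 1) * e = 0 := fun w => by
      refine (IsArtinianRing.equivPi R).injective (funext fun n => ?_)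
      rw [map_zero, IsArtinianRing.equivPi_apply, Pi.zero_apply]
      show Ideal.Quotient.mk n.asIdeal _ = 0
      rw [map_mul, he]
      rcases eq_or_ne n m₀ with rfl | hne
      · rw [Ideal.Quotient.eq_zero_iff_mem.2 (hw w), zero_mul]
      · rw [Pi.single_eq_of_ne hne, mul_zero]
    have he0 : e = 0 := Subtype.ext (LinearMap.ext fun u => by
      refine hfix _ fun w => ?_
      have := congrArg (fun r : R => (r : Module.End k U) u) (hew w)
      simpa [sub_eq_zero] using this)
    have := he m₀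
    rw [he0, map_zero, Pi.single_eq_same] at this
    exact zero_ne_one this)
  set A := Matrix.of fun t s : H => σ (t * s) θ
  letI := hθ.invertible
  letI : Invertible A := A.invertibleOfDetInvertible
  set c : H → R := fun s => (⅟A) s 1
  have hc : ∀ t, ∑ s, σ (t * s) θ * c s = if t = 1 then 1 else 0 := fun t => by
    have := congrFun (congrFun (mul_invOf_self A) t) 1
    simpa [Matrix.mul_apply, Matrix.one_apply, A, c] using this
  let Fx : Submodule k U := ⨅ h : H, LinearMap.ker (τ h - 1)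
  have hFx : ∀ m, m ∈ Fx ↔ ∀ h, τ h m = m := fun m => by
    simp [Fx, Submodule.mem_iInf, sub_eq_zero]
  refine ⟨Fx.map (θ : Module.End k U), fun u => ?_, fun f hf => ?_⟩
  · have hmfix : ∀ s, ∑ t : H, τ t ((c s : Module.End k U) u) ∈ Fx := fun s => (hFx _).2 fun h => by
      rw [map_sum]
      exact Fintype.sum_equiv (Equiv.mulLeft h) _ _ fun t => by rw [Equiv.coe_mulLeft, map_mul]; rfl
    refine ⟨fun s => ⟨_, _, hmfix s, rfl⟩, ?_⟩
    show ∑ s, τ s ((θ : Module.End k U) (∑ t : H, τ t ((c s : Module.End k U) u))) = u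
    have e1 : ∀ s (m : U), τ s ((θ : Module.End k U) m) = (σ s θ : Module.End k U) (τ s m) := fun s m =>
      LinearMap.congr_fun (hσ s θ) m
    have e2 : ∀ s, τ s (∑ t : H, τ t ((c s : Module.End k U) u)) = ∑ t : H, τ t ((c s : Module.End k U) u) :=
      fun s => (hFx _).1 (hmfix s) s
    simp_rw [e1, e2, map_sum]
    rw [Finset.sum_comm]
    have e3 : ∀ t s, (σ s θ : Module.End k U) (τ t ((c s : Module.End k U) u)) =
        τ t (((σ (t⁻¹ * s) θ * c s : R) : Module.End k U) u) := by
      intro t s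
      have h1 : σ t (σ (t⁻¹ * s) θ) = σ s θ := by rw [← RingAut.mul_apply, ← map_mul, mul_inv_cancel_left]
      have h2 := LinearMap.congr_fun (hσ t (σ (t⁻¹ * s) θ)) ((c s : Module.End k U) u)
      rw [h1] at h2
      exact h2.symm
    simp_rw [e3, ← map_sum, ← LinearMap.sum_apply, ← AddSubmonoidClass.coe_finsetSum, hc]
    rw [Finset.sum_eq_single (1 : H)]
    · simp
    · intro t _ ht
      rw [if_neg (by simpa using ht)]
      simp
    · intro h; exact absurd (Finset.mem_univ _) h
  · have hW : ∀ s, ∃ m, m ∈ Fx ∧ (θ : Module.End k U) m = (f s : U) := fun s => (f s).2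
    choose m hm hmf using hW
    have h0 : ∀ t, ∑ s, (σ (t * s) θ : Module.End k U) (m s) = 0 := by
      intro t
      have := congrArg (τ t) hf
      rw [map_zero, map_sum] at this
      rw [← this]
      refine Finset.sum_congr rfl fun s _ => ?_
      rw [← hmf s, ← LinearMap.comp_apply (τ t), ← Module.End.mul_eq_comp, ← map_mul, ← Module.End.mul_apply,
        hσ, Module.End.mul_apply, (hFx _).1 (hm s)]
    funext s
    have hm0 : m s = 0 := by
      have e : ∀ a b, ∑ t, (⅟A) a t * σ (t * b) θ = if a = b then 1 else 0 := fun a b => by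
        have := congrFun (congrFun (invOf_mul_self A) a) b
        simpa [Matrix.mul_apply, Matrix.one_apply, A] using this
      have h1 : ∑ b, ((∑ t, (⅟A) s t * σ (t * b) θ : R) : Module.End k U) (m b) = 0 := by
        simp_rw [AddSubmonoidClass.coe_finsetSum, LinearMap.sum_apply]
        rw [Finset.sum_comm]
        refine Finset.sum_eq_zero fun t _ => ?_
        have e : ∀ x, (((⅟A) s t * σ (t * x) θ : R) : Module.End k U) (m x) =
            (((⅟A) s t : R) : Module.End k U) ((σ (t * x) θ : Module.End k U) (m x)) := fun x => rfl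
        rw [Finset.sum_congr rfl fun x _ => e x, ← map_sum, h0, map_zero]
      rw [Finset.sum_eq_single s] at h1
      · rw [e, if_pos rfl] at h1; exact h1
      · intro b _ hb; rw [e, if_neg (Ne.symm hb)]; rfl
      · intro h; exact absurd (Finset.mem_univ _) h
    exact Subtype.ext (by rw [← hmf s, hm0, map_zero]; rfl)

/-- restriction of a representation to an invariant subspace -/
noncomputable def res {k : Type u} {U : Type v} {A : Type w} [Field k] [AddCommGroup U] [Module k U] [Monoid A]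
    (ρ : Representation k A U) (S : Submodule k U) (hS : ∀ a, ∀ u ∈ S, ρ a u ∈ S) : Representation k A S where
  toFun a := (ρ a).restrict (hS a)
  map_one' := LinearMap.ext fun u => Subtype.ext (by show ρ 1 u.1 = u.1; rw [map_one]; rfl)
  map_mul' a b := LinearMap.ext fun u => Subtype.ext (by show ρ (a * b) u.1 = ρ a (ρ b u.1); rw [map_mul]; rfl)

theorem free_of_isCompl {k : Type u} {U : Type v} {H : Type w} [Field k] [AddCommGroup U] [Module k U]
    [Group H] [Fintype H] (τ : Representation k H U) (S T : Submodule k U) (hST : IsCompl S T)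
    (hS : ∀ a, ∀ u ∈ S, τ a u ∈ S) (hT : ∀ a, ∀ u ∈ T, τ a u ∈ T)
    (h1 : Free (res τ S hS)) (h2 : Free (res τ T hT)) : Free τ := by
  obtain ⟨W1, hs1, hi1⟩ := h1
  obtain ⟨W2, hs2, hi2⟩ := h2
  refine ⟨W1.map S.subtype ⊔ W2.map T.subtype, fun u => ?_, fun f hf => ?_⟩
  · obtain ⟨a, ha, b, hb, rfl⟩ := Submodule.mem_sup.1 (hST.sup_eq_top.ge (Submodule.mem_top (x := u)))
    obtain ⟨f1, hf1⟩ := hs1 ⟨a, ha⟩
    obtain ⟨f2, hf2⟩ := hs2 ⟨b, hb⟩
    refine ⟨fun h => ⟨((f1 h : S) : U) + ((f2 h : T) : U),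
      Submodule.add_mem_sup ⟨_, (f1 h).2, rfl⟩ ⟨_, (f2 h).2, rfl⟩⟩, ?_⟩
    have e1 := congrArg S.subtype hf1
    have e2 := congrArg T.subtype hf2
    rw [map_sum] at e1 e2
    simp only [map_add, Finset.sum_add_distrib]
    exact congrArg₂ (· + ·) e1 e2
  · have hd : ∀ h, ∃ (a : W1) (b : W2), ((a : S) : U) + ((b : T) : U) = (f h : U) := fun h => by
      obtain ⟨_, ⟨a, ha, rfl⟩, _, ⟨b, hb, rfl⟩, e⟩ := Submodule.mem_sup.1 (f h).2
      exact ⟨⟨a, ha⟩, ⟨b, hb⟩, e⟩
    choose a b hab using hd
    have h0 : ((∑ h, res τ S hS h (a h : S) : S) : U) + ((∑ h, res τ T hT h (b h : T) : T) : U) = 0 := by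
      rw [Submodule.coe_sum, Submodule.coe_sum, ← Finset.sum_add_distrib, ← hf]
      refine Finset.sum_congr rfl fun h _ => ?_
      rw [← hab, map_add]
      rfl
    have hA : ((∑ h, res τ S hS h (a h : S) : S) : U) = 0 := by
      have h3 : ((∑ h, res τ S hS h (a h : S) : S) : U) ∈ S ⊓ T :=
        ⟨Submodule.coe_mem _, by rw [eq_neg_of_add_eq_zero_left h0]; exact T.neg_mem (Submodule.coe_mem _)⟩
      rwa [hST.inf_eq_bot, Submodule.mem_bot] at h3
    have hB : ((∑ h, res τ T hT h (b h : T) : T) : U) = 0 := by rwa [hA, zero_add] at h0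
    have ha0 := hi1 a (Subtype.ext hA)
    have hb0 := hi2 b (Subtype.ext hB)
    funext h
    refine Subtype.ext ?_
    rw [← hab, ha0, hb0]
    simp

theorem free_of_subsingleton {k : Type u} {U : Type v} {H : Type w} [Field k] [AddCommGroup U] [Module k U]
    [Group H] [Fintype H] [Subsingleton U] (τ : Representation k H U) : Free τ :=
  ⟨⊥, fun u => ⟨0, Subsingleton.elim _ _⟩, fun _ _ => funext fun _ => Subsingleton.elim _ _⟩

/-- a finite `p`-group in characteristic `p` fixes a non-zero vector -/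
theorem exists_fixed {k : Type u} {U : Type v} {G : Type w} [Field k] {p : ℕ} [Fact p.Prime] [CharP k p]
    [AddCommGroup U] [Module k U] [Group G] [Finite G] [Nontrivial U] (hG : IsPGroup p G)
    (π : Representation k G U) : ∃ u : U, u ≠ 0 ∧ ∀ g, π g u = u := by
  obtain ⟨v, hv⟩ := exists_ne (0 : U)
  set T := AddSubgroup.closure (Set.range fun g => π g v)
  have hpT : ∀ x : U, p • x = 0 := fun x => by rw [← Nat.cast_smul_eq_nsmul k, CharP.cast_eq_zero, zero_smul]
  haveI : AddGroup.FG T := (AddGroup.fg_iff_addSubgroup_fg T).2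
    ((AddSubgroup.fg_iff T).2 ⟨_, rfl, Set.finite_range _⟩)
  haveI : Finite T := AddCommGroup.finite_of_fg_isAddTorsion T fun x =>
    isOfFinAddOrder_iff_nsmul_eq_zero.2 ⟨p, (Fact.out : p.Prime).pos, Subtype.ext (by simp [hpT])⟩
  have hT : ∀ g, ∀ x ∈ T, π g x ∈ T := by
    intro g x hx
    induction hx using AddSubgroup.closure_induction with
    | mem x hx => obtain ⟨h, rfl⟩ := hx; exact AddSubgroup.subset_closure ⟨g * h, by simp⟩
    | zero => simp
    | add x y _ _ hx hy => rw [map_add]; exact T.add_mem hx hy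
    | neg x _ hx => rw [map_neg]; exact T.neg_mem hx
  letI : MulAction G T :=
    { smul := fun g x => ⟨π g x.1, hT g x.1 x.2⟩
      one_smul := fun x => Subtype.ext (by show π 1 x.1 = x.1; rw [map_one]; rfl)
      mul_smul := fun g h x => Subtype.ext (by show π (g * h) x.1 = π g (π h x.1); rw [map_mul]; rfl) }
  have hv' : v ∈ T := AddSubgroup.subset_closure ⟨1, by simp⟩
  have hord : addOrderOf (⟨v, hv'⟩ : T) = p :=
    addOrderOf_eq_prime (Subtype.ext (by simp [hpT])) (by simpa [Subtype.ext_iff] using hv)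
  obtain ⟨b, hb, hb0⟩ := hG.exists_fixed_point_of_prime_dvd_card_of_fixed_point T
    (hord ▸ addOrderOf_dvd_natCard _) (a := (0 : T)) (fun g => Subtype.ext (map_zero _))
  exact ⟨b.1, fun e => hb0 (Subtype.ext e.symm), fun g => congrArg Subtype.val (hb g)⟩

theorem free_aux {k : Type u} {A : Type w} [Field k] [Group A] [Finite A] (F H : Subgroup A) [F.Normal] [Fintype H]
    (hnil : Group.IsNilpotent F) :
    ∀ (n : ℕ) (U : Type v) [AddCommGroup U] [Module k U] [FiniteDimensional k U] (ρ : Representation k A U)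
      (F0 : Subgroup A) [F0.Normal], F0 ≤ F → F0.relIndex F ≤ n → (∀ x ∈ F0, ρ x = 1) →
      (∀ h ∈ H, h ≠ 1 → ∀ x ∈ F, x⁻¹ * h * x * h⁻¹ ∈ F0 → x ∈ F0) →
      (∀ u, (∀ f ∈ F, ρ f u = u) → u = 0) → Free (ρ.comp H.subtype) := by
  classical
  intro n
  induction n using Nat.strong_induction_on with
  | _ n IH =>
    intro U _ _ _ ρ F0 _ hF0 hn hker hfpf hfix
    rcases subsingleton_or_nontrivial U with hU | hU
    · exact free_of_subsingleton _
    set q := QuotientGroup.mk' F0
    set Fb := F.map q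
    haveI : Fb.Normal := Subgroup.Normal.map inferInstance q (QuotientGroup.mk'_surjective F0)
    let ρb : Representation k (A ⧸ F0) U := QuotientGroup.lift F0 ρ fun x hx => hker x hx
    have hρb : ∀ a : A, ρb (q a) = ρ a := fun a => rfl
    have hcomap : Fb.comap q = F := by rw [Subgroup.comap_map_eq, QuotientGroup.ker_mk', sup_eq_left.2 hF0]
    -- invertible central part
    let Zb : Subgroup (A ⧸ F0) :=
      { carrier := {z | z ∈ Fb ∧ (∀ x ∈ Fb, z * x = x * z) ∧ ∃ m : ℕ, (m : k) ≠ 0 ∧ z ^ m = 1}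
        one_mem' := ⟨one_mem _, fun x _ => by simp, 1, by simp, one_pow _⟩
        mul_mem' := by
          rintro a b ⟨ha, hac, m, hm, ham⟩ ⟨hb, hbc, m', hm', hbm⟩
          refine ⟨mul_mem ha hb, fun x hx => by rw [mul_assoc, hbc x hx, ← mul_assoc, hac x hx, mul_assoc], m * m',
            by push_cast; exact mul_ne_zero hm hm', ?_⟩
          rw [(show Commute a b from hac b hb).mul_pow, pow_mul, ham, one_pow, one_mul, mul_comm, pow_mul, hbm, one_pow]
        inv_mem' := by
          rintro a ⟨ha, hac, m, hm, ham⟩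
          exact ⟨inv_mem ha, fun x hx => ((show Commute a x from hac x hx).inv_left).eq, m, hm,
            by rw [inv_pow, ham, inv_one]⟩ }
    have hZF : Zb ≤ Fb := fun z hz => hz.1
    haveI : Zb.Normal := ⟨fun z hz g => by
      obtain ⟨hz1, hzc, m, hm, hzm⟩ := hz
      refine ⟨Subgroup.Normal.conj_mem inferInstance z hz1 g, fun x hx => ?_, m, hm, by rw [conj_pow, hzm]; group⟩
      have h1 := hzc (g⁻¹ * x * g) (by
        have := Subgroup.Normal.conj_mem (inferInstance : Fb.Normal) x hx g⁻¹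
        rwa [inv_inv] at this)
      calc g * z * g⁻¹ * x = g * (z * (g⁻¹ * x * g)) * g⁻¹ := by group
        _ = g * ((g⁻¹ * x * g) * z) * g⁻¹ := by rw [h1]
        _ = x * (g * z * g⁻¹) := by group⟩
    have hnilb : Group.IsNilpotent Fb :=
      haveI := hnil
      Group.nilpotent_of_surjective (q.subgroupMap F) (q.subgroupMap_surjective F)
    by_cases hZb : Zb = ⊥
    · -- then `F/F0` is a `p`-group
      exfalso
      have hprime : ∀ r : ℕ, r.Prime → r ∣ Nat.card Fb → (r : k) = 0 := by
        intro r hr hrd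
        by_contra hr0
        haveI := Fact.mk hr
        obtain ⟨R⟩ : Nonempty (Sylow r Fb) := inferInstance
        have hallN : ∀ (r' : ℕ) (_ : Fact r'.Prime) (Q : Sylow r' Fb), (Q : Subgroup Fb).Normal :=
          ((Group.isNilpotent_of_finite_tfae (G := Fb)).out 0 3).1 hnilb
        have hRn : (R : Subgroup Fb).Normal := hallN r ⟨hr⟩ R
        have hRne : Nontrivial (R : Subgroup Fb) :=
          (Subgroup.nontrivial_iff_ne_bot _).2 (R.ne_bot_of_dvd_card hrd)
        haveI := R.2.center_nontrivial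
        obtain ⟨c, hc⟩ := exists_ne (1 : Subgroup.center (R : Subgroup Fb))
        -- `c` is central in `Fb`
        set x : Fb := ((c : (R : Subgroup Fb)) : Fb)
        have hcent : Subgroup.centralizer ({x} : Set Fb) = ⊤ := by
          refine Subgroup.index_eq_one.1 (Nat.eq_one_iff_not_exists_prime_dvd.2 fun r' hr' hd => ?_)
          haveI := Fact.mk hr'
          obtain ⟨Q⟩ : Nonempty (Sylow r' Fb) := inferInstance
          refine Q.not_dvd_index (hd.trans (Subgroup.index_dvd_of_le fun y hy => Subgroup.mem_centralizer_singleton_iff.2 ?_))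
          by_cases e : r' = r
          · subst e
            haveI := Sylow.unique_of_normal R hRn
            have hQR : Q = R := Subsingleton.elim Q R
            subst hQR
            exact congrArg Subtype.val (Subgroup.mem_center_iff.1 c.2 ⟨y, hy⟩)
          · exact ((Subgroup.commute_of_normal_of_disjoint _ _ (hallN r' ⟨hr'⟩ Q) hRn
              (IsPGroup.disjoint_of_ne r' r e _ _ Q.2 R.2) y x hy c.1.2).eq)
        obtain ⟨j, hj⟩ := R.2 (c : (R : Subgroup Fb))
        have hx : (x : A ⧸ F0) ∈ Zb := by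
          refine ⟨x.2, fun y hy => ?_, r ^ j, by push_cast; exact pow_ne_zero j hr0, ?_⟩
          · exact (congrArg Subtype.val (Subgroup.mem_centralizer_singleton_iff.1
              (hcent.ge (Subgroup.mem_top (⟨y, hy⟩ : Fb))))).symm
          · exact congrArg (fun z : (R : Subgroup Fb) => ((z : Fb) : A ⧸ F0)) hj
        rw [hZb, Subgroup.mem_bot] at hx
        exact hc (Subtype.ext (Subtype.ext (Subtype.ext hx)))
      rcases eq_or_ne (Nat.card Fb) 1 with h1 | h1
      · obtain ⟨u, hu⟩ := exists_ne (0 : U)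
        refine hu (hfix u fun f hf => ?_)
        have : q f ∈ (⊥ : Subgroup (A ⧸ F0)) := (Subgroup.card_eq_one.1 h1).le (Subgroup.mem_map_of_mem q hf)
        rw [← hρb, Subgroup.mem_bot.1 this, map_one]; rfl
      obtain ⟨p, hp, hpd⟩ := Nat.exists_prime_and_dvd h1
      haveI := Fact.mk hp
      haveI : CharP k p := (CharP.charP_iff_prime_eq_zero hp).2 (hprime p hp hpd)
      have hpg : IsPGroup p Fb := IsPGroup.of_card (Nat.eq_prime_pow_of_unique_prime_dvd Nat.card_pos.ne'
        fun {r} hr hrd => ((Nat.prime_dvd_prime_iff_eq hp hr).1 ((CharP.cast_eq_zero_iff k p r).1 (hprime r hr hrd))).symm)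
      obtain ⟨u, hu, hufix⟩ := exists_fixed hpg (ρb.comp Fb.subtype)
      refine hu (hfix u fun f hf => ?_)
      rw [← hρb]
      exact hufix ⟨q f, Subgroup.mem_map_of_mem q hf⟩
    cases nonempty_fintype Zb
    have hk : (Nat.card Zb : k) ≠ 0 := by
      intro h0
      obtain ⟨p, hchar⟩ := CharP.exists k
      haveI := hchar
      have hpd := (CharP.cast_eq_zero_iff k p _).1 h0
      rcases CharP.char_is_prime_or_zero k p with hp | hp
      · haveI := Fact.mk hp
        obtain ⟨z, hz⟩ := exists_prime_orderOf_dvd_card' p hpd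
        obtain ⟨-, -, m, hm, hzm⟩ := z.2
        refine hm ((CharP.cast_eq_zero_iff k p m).2 ?_)
        rw [← hz, ← Subgroup.orderOf_coe]
        exact orderOf_dvd_of_pow_eq_one hzm
      · rw [hp, zero_dvd_iff] at hpd
        exact Nat.card_pos.ne' hpd
    set e : U →ₗ[k] U := ((Nat.card Zb : k)⁻¹) • ∑ z : Zb, ρb (z : A ⧸ F0)
    set S : Submodule k U := ⨅ z : Zb, LinearMap.ker (ρb (z : A ⧸ F0) - 1)
    set T : Submodule k U := LinearMap.ker e
    have hSm : ∀ u, u ∈ S ↔ ∀ z : Zb, ρb (z : A ⧸ F0) u = u := fun u => by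
      simp [S, Submodule.mem_iInf, sub_eq_zero]
    have heS : ∀ u ∈ S, e u = u := by
      intro u hu
      simp only [e, LinearMap.smul_apply, LinearMap.sum_apply, (hSm u).1 hu, Finset.sum_const, Finset.card_univ]
      rw [← Nat.cast_smul_eq_nsmul k, smul_smul, ← Nat.card_eq_fintype_card, inv_mul_cancel₀ hk, one_smul]
    have heU : ∀ u, e u ∈ S := fun u => (hSm _).2 fun w => by
      simp only [e, LinearMap.smul_apply, LinearMap.sum_apply, map_smul, map_sum]
      congr 1
      exact Fintype.sum_equiv (Equiv.mulLeft w) _ _ fun z => by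
        rw [Equiv.coe_mulLeft, Subgroup.coe_mul, map_mul]; rfl
    have hST : IsCompl S T := by
      refine ⟨Submodule.disjoint_def.2 fun u hu hu' => by rw [← heS u hu]; exact hu', ?_⟩
      rw [codisjoint_iff, eq_top_iff]
      intro u _
      refine Submodule.mem_sup.2 ⟨e u, heU u, u - e u, ?_, add_sub_cancel _ _⟩
      show e (u - e u) = 0
      rw [map_sub, heS _ (heU u), sub_self]
    have hconjmem : ∀ (a : A ⧸ F0) (z : Zb), a * (z : A ⧸ F0) * a⁻¹ ∈ Zb := fun a z =>
      Subgroup.Normal.conj_mem inferInstance _ z.2 a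
    have hSinv : ∀ a : A, ∀ u ∈ S, ρ a u ∈ S := fun a u hu => (hSm _).2 fun z => by
      have h1 := (hSm u).1 hu ⟨(q a)⁻¹ * z * q a, by simpa using hconjmem (q a)⁻¹ z⟩
      rw [← hρb]
      conv_rhs => rw [← h1]
      rw [← Module.End.mul_apply, ← Module.End.mul_apply, ← map_mul, ← map_mul]
      congr 2; group
    have hTinv : ∀ a : A, ∀ u ∈ T, ρ a u ∈ T := by
      intro a u hu
      have hc : e (ρb (q a) u) = ρb (q a) (e u) := by
        simp only [e, LinearMap.smul_apply, LinearMap.sum_apply, map_smul, map_sum]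
        congr 1
        refine Fintype.sum_equiv
          { toFun := fun z : Zb => (⟨(q a)⁻¹ * (z : A ⧸ F0) * q a, by simpa using hconjmem (q a)⁻¹ z⟩ : Zb)
            invFun := fun z : Zb => (⟨q a * (z : A ⧸ F0) * (q a)⁻¹, hconjmem (q a) z⟩ : Zb)
            left_inv := fun z => Subtype.ext (by group)
            right_inv := fun z => Subtype.ext (by group) } _ _ fun z => ?_
        rw [← Module.End.mul_apply, ← Module.End.mul_apply, ← map_mul, ← map_mul]
        congr 2
        show _ = q a * ((q a)⁻¹ * z * q a)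
        group
      show e (ρ a u) = 0
      rw [← hρb, hc, LinearMap.mem_ker.1 hu, map_zero]
    -- fixed-point-freeness on `Zb`
    have hfpfq : ∀ h ∈ H, h ≠ 1 → ∀ x ∈ Fb, x⁻¹ * q h * x * (q h)⁻¹ = 1 → x = 1 := by
      intro h hh h1 x hx he
      obtain ⟨x, hx', rfl⟩ := hx
      have : q (x⁻¹ * h * x * h⁻¹) = 1 := by rw [map_mul, map_mul, map_mul, map_inv, map_inv]; exact he
      exact (QuotientGroup.eq_one_iff _).2 (hfpf h hh h1 x hx' ((QuotientGroup.eq_one_iff _).1 this))
    have hcommZ : ∀ z z' : Zb, (z : A ⧸ F0) * z' = z' * z := fun z z' => z.2.2.1 _ (hZF z'.2)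
    have hinjh : ∀ h ∈ H, h ≠ 1 → Function.Surjective
        fun z : Zb => (⟨q h * z * (q h)⁻¹, hconjmem (q h) z⟩ : Zb) * z⁻¹ := by
      intro h hh h1
      refine Finite.injective_iff_surjective.1 fun z z' hzz => ?_
      have e0 : q h * (z : A ⧸ F0) * (q h)⁻¹ * (z : A ⧸ F0)⁻¹ = q h * z' * (q h)⁻¹ * (z' : A ⧸ F0)⁻¹ :=
        congrArg Subtype.val hzz
      have e1 := hfpfq h hh h1 ((z' : A ⧸ F0)⁻¹ * z) (mul_mem (inv_mem (hZF z'.2)) (hZF z.2)) ?_
      · exact Subtype.ext (inv_mul_eq_one.1 e1).symm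
      · have a1 : Commute ((z : A ⧸ F0)⁻¹) (z' : A ⧸ F0) := (show Commute _ _ from hcommZ z z').inv_left
        have a2 : q h * (z' : A ⧸ F0)⁻¹ * (q h)⁻¹ * (q h * (z : A ⧸ F0) * (q h)⁻¹ * (z : A ⧸ F0)⁻¹) * (z' : A ⧸ F0) = 1 := by
          rw [e0]; group
        rw [mul_inv_rev, inv_inv]
        calc (z : A ⧸ F0)⁻¹ * z' * q h * ((z' : A ⧸ F0)⁻¹ * z) * (q h)⁻¹
            = ((z : A ⧸ F0)⁻¹ * (z' : A ⧸ F0)) * (q h * (z' : A ⧸ F0)⁻¹ * (q h)⁻¹ *
              (q h * (z : A ⧸ F0) * (q h)⁻¹)) := by group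
          _ = ((z : A ⧸ F0)⁻¹ * (z' : A ⧸ F0)) * (q h * (z' : A ⧸ F0)⁻¹ * (q h)⁻¹ *
              (q h * (z : A ⧸ F0) * (q h)⁻¹ * (z : A ⧸ F0)⁻¹) * (z' : A ⧸ F0)) *
                ((z' : A ⧸ F0)⁻¹ * (z : A ⧸ F0)) := by group
          _ = 1 := by rw [a2]; group
    refine free_of_isCompl _ S T hST (fun a => hSinv a) (fun a => hTinv a) ?_ ?_
    · -- the fixed part
      set Z1 := Zb.comap q
      haveI : Z1.Normal := inferInstance
      have hZ1F : Z1 ≤ F := hcomap ▸ Subgroup.comap_mono hZF
      have hlt : Z1.relIndex F < F0.relIndex F := by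
        have hle : F0 ≤ Z1 := fun x hx => by
          show q x ∈ Zb
          rw [show q x = 1 from (QuotientGroup.eq_one_iff x).2 hx]; exact one_mem _
        rw [← Subgroup.relIndex_mul_relIndex _ _ _ hle hZ1F]
        refine lt_mul_of_one_lt_left (Nat.pos_of_ne_zero ?_) ?_
        · exact Subgroup.index_ne_zero_of_finite
        · by_contra h
          have h2 : F0.relIndex Z1 = 1 := le_antisymm (not_lt.1 h)
            (Nat.pos_of_ne_zero Subgroup.index_ne_zero_of_finite)
          refine hZb (eq_bot_iff.2 fun z hz => ?_)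
          obtain ⟨x, rfl⟩ := QuotientGroup.mk'_surjective F0 z
          exact Subgroup.mem_bot.2 ((QuotientGroup.eq_one_iff x).2 (Subgroup.relIndex_eq_one.1 h2 hz))
      refine IH _ (lt_of_lt_of_le hlt hn) S (res ρ S hSinv) Z1 hZ1F le_rfl (fun x hx => ?_) (fun h hh h1 x hx hxz => ?_)
        fun u hu => Subtype.ext (hfix u.1 fun f hf => congrArg Subtype.val (hu f hf))
      · refine LinearMap.ext fun u => Subtype.ext ?_
        show ρ x u.1 = u.1
        rw [← hρb]
        exact (hSm u.1).1 u.2 ⟨q x, hx⟩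
      · obtain ⟨z, hz⟩ := hinjh h hh h1 ⟨q (x⁻¹ * h * x * h⁻¹), hxz⟩
        have e0 : q h * (z : A ⧸ F0) * (q h)⁻¹ * (z : A ⧸ F0)⁻¹ = (q x)⁻¹ * q h * q x * (q h)⁻¹ := by
          rw [show (q x)⁻¹ * q h * q x * (q h)⁻¹ = q (x⁻¹ * h * x * h⁻¹) by simp]
          exact congrArg Subtype.val hz
        have a2 := hcommZ ⟨_, hconjmem (q h) z⟩ z⁻¹
        have e1 := hfpfq h hh h1 (q x * (z : A ⧸ F0)⁻¹)
          (mul_mem (Subgroup.mem_map_of_mem q hx) (inv_mem (hZF z.2))) ?_
        · show q x ∈ Zb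
          rw [mul_inv_eq_one.1 e1]; exact z.2
        · calc (q x * (z : A ⧸ F0)⁻¹)⁻¹ * q h * (q x * (z : A ⧸ F0)⁻¹) * (q h)⁻¹
              = (z : A ⧸ F0) * ((q x)⁻¹ * q h * q x * (q h)⁻¹) * (q h * (z : A ⧸ F0) * (q h)⁻¹)⁻¹ := by group
            _ = (z : A ⧸ F0) * (q h * (z : A ⧸ F0) * (q h)⁻¹ * (z : A ⧸ F0)⁻¹) *
                  (q h * (z : A ⧸ F0) * (q h)⁻¹)⁻¹ := by rw [e0]
            _ = 1 := by
              rw [show q h * (z : A ⧸ F0) * (q h)⁻¹ * (z : A ⧸ F0)⁻¹ =
                (z : A ⧸ F0)⁻¹ * (q h * (z : A ⧸ F0) * (q h)⁻¹) from a2]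
              group
    · -- the commutator part
      let ρT : Representation k A T := res ρ T hTinv
      let π : Representation k Zb T :=
        { toFun := fun z => (ρb (z : A ⧸ F0)).restrict (fun u hu => by
            obtain ⟨a, ha⟩ := QuotientGroup.mk'_surjective F0 (z : A ⧸ F0)
            rw [← ha]; exact hTinv a u hu)
          map_one' := LinearMap.ext fun u => Subtype.ext (by
            show ρb ((1 : Zb) : A ⧸ F0) u.1 = u.1; rw [Subgroup.coe_one, map_one]; rfl)
          map_mul' := fun z z' => LinearMap.ext fun u => Subtype.ext (by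
            show ρb ((z * z' : Zb) : A ⧸ F0) u.1 = ρb z (ρb z' u.1); rw [Subgroup.coe_mul, map_mul]; rfl) }
      refine free_of_commute _ π hk (fun z z' => ?_) (fun h z => ⟨q h * z * (q h)⁻¹, hconjmem (q h) z⟩)
        (fun h z => ?_) (fun h h1 w => ?_) fun u hu => Subtype.ext ?_
      · rw [← map_mul, ← map_mul, show z * z' = z' * z from Subtype.ext (hcommZ z z')]
      · refine LinearMap.ext fun u => Subtype.ext ?_
        show ρ (h : A) (ρb z (ρ ((h⁻¹ : H) : A) u.1)) = ρb (q h * z * (q h)⁻¹) u.1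
        rw [← hρb, ← hρb, map_mul, map_mul, Subgroup.coe_inv, map_inv q]; rfl
      · obtain ⟨z, hz⟩ := hinjh h h.2 (fun e => h1 (Subtype.ext e)) w
        refine ⟨z, ?_⟩
        rw [← map_mul, ← hz, inv_mul_cancel_right]
      · have h1 : u.1 ∈ S := (hSm _).2 fun z => congrArg Subtype.val (hu z)
        exact (Submodule.disjoint_def.1 hST.disjoint) _ h1 u.2

theorem main {k : Type u} {V : Type v} {A : Type w} [Field k] [AddCommGroup V] [Module k V] [FiniteDimensional k V]
    [Group A] [Finite A] (ρ : Representation k A V) (F H : Subgroup A) [F.Normal] (hnil : Group.IsNilpotent F)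
    [DecidableEq H] (hfpf : ∀ h ∈ H, h ≠ 1 → ∀ x ∈ F, x⁻¹ * h * x * h⁻¹ = 1 → x = 1)
    (hfix : ∀ v, (∀ f ∈ F, ρ f v = v) → v = 0) :
    ∃ W : Submodule k V, DirectSum.IsInternal fun h : H => W.map (ρ (h : A)) := by
  classical
  cases nonempty_fintype H
  obtain ⟨W, hs, hi⟩ := free_aux F H hnil _ V ρ ⊥ bot_le le_rfl
    (fun x hx => by rw [Subgroup.mem_bot.1 hx, map_one])
    (fun h hh h1 x hx he => Subgroup.mem_bot.2 (hfpf h hh h1 x hx (Subgroup.mem_bot.1 he))) hfix
  refine ⟨W, DirectSum.isInternal_submodule_of_iSupIndep_of_iSup_eq_top ?_ ?_⟩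
  · rw [iSupIndep_iff_finsetSum_eq_zero_imp_eq_zero]
    intro s v hv hsum i his
    have hch : ∀ j, ∃ w : W, j ∈ s → ρ (j : A) (w : V) = v j := fun j => by
      by_cases hj : j ∈ s
      · obtain ⟨w, hw, e⟩ := hv j hj; exact ⟨⟨w, hw⟩, fun _ => e⟩
      · exact ⟨0, fun h => absurd h hj⟩
    choose w hw using hch
    set f : H → W := fun j => if j ∈ s then w j else 0
    have h0 := hi f (by
      show ∑ j : H, ρ (j : A) (f j : V) = 0
      rw [← Finset.sum_subset (Finset.subset_univ s) fun j _ hj => by simp [f, hj], ← hsum]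
      exact Finset.sum_congr rfl fun j hj => by simp [f, hj, hw j hj])
    have := congrFun h0 i
    simp only [f, if_pos his, Pi.zero_apply] at this
    rw [← hw i his, this, Submodule.coe_zero, map_zero]
  · rw [eq_top_iff]
    intro v _
    obtain ⟨f, hf⟩ := hs v
    rw [← hf]
    exact Submodule.sum_mem _ fun h _ => Submodule.mem_iSup_of_mem h ⟨_, (f h).2, rfl⟩

end Cfsg.Lib.FrobeniusFree
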