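import Mathlib
import Cfsg.Agent.S0100
import Cfsg.Prelude.Def_Transfer

/-!
Odd order automorphisms of an elementary abelian 2-group with a small commutator subgroup.
-/

set_option autoImplicit false

namespace Cfsg.Lib.FourMover

open Subgroup

variable {M : Type*} [CommGroup M]

/-- `m ↦ [a, m]` -/
def disp (a : MulAut M) : M →* M where
  toFun m := a m * m⁻¹
  map_one' := by simp
  map_mul' x y := by simp [mul_inv_rev, mul_comm, mul_assoc, mul_left_comm]

/-- `[a, M]` -/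
def W (a : MulAut M) : Subgroup M := (disp a).range

theorem mem_W (a : MulAut M) (m : M) : a m * m⁻¹ ∈ W a := ⟨m, rfl⟩

theorem apply_mem {a : MulAut M} {U : Subgroup M} (h : W a ≤ U) {u : M} (hu : u ∈ U) : a u ∈ U := by
  simpa using mul_mem (h (mem_W a u)) hu

/-- the automorphisms with `[a, M] ≤ U` -/
def movers (U : Subgroup M) : Subgroup (MulAut M) where
  carrier := {a | W a ≤ U}
  one_mem' := by rintro _ ⟨m, rfl⟩; simp [disp]
  mul_mem' := by
    rintro a b ha hb _ ⟨m, rfl⟩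
    have := mul_mem (ha (mem_W a (b m))) (hb (mem_W b m))
    simpa [disp, mul_assoc] using this
  inv_mem' := by
    rintro a ha _ ⟨m, rfl⟩
    have := inv_mem (ha (mem_W a (a⁻¹ m)))
    simpa [disp, mul_comm] using this

theorem mem_movers {a : MulAut M} {U : Subgroup M} : a ∈ movers U ↔ W a ≤ U := Iff.rfl

theorem W_conj (h a : MulAut M) : W (h * a * h⁻¹) = (W a).map h.toMonoidHom := by
  ext w
  constructor
  · rintro ⟨m, rfl⟩
    exact ⟨_, mem_W a (h⁻¹ m), by simp [disp]⟩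
  · rintro ⟨_, ⟨m, rfl⟩, rfl⟩
    exact ⟨h m, by simp [disp]⟩

theorem map_eq_of_commute {h a : MulAut M} (hc : h * a = a * h) : (W a).map h.toMonoidHom = W a := by
  rw [← W_conj, hc, mul_inv_cancel_right]

/-- no fixed points on the commutator -/
theorem eq_one_of_fixed (hexp : ∀ m : M, m ^ 2 = 1) {a : MulAut M} {k : ℕ} (hk : Odd k) (ha : a ^ k = 1)
    {w : M} (hw : w ∈ W a) (hfix : a w = w) : w = 1 := by
  obtain ⟨m, rfl⟩ := hw
  have key : ∀ i : ℕ, (a ^ i) m = disp a m ^ i * m := by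
    intro i
    induction i with
    | zero => simp
    | succ i ih => rw [pow_succ', MulAut.mul_apply, ih, map_mul, map_pow, hfix, pow_succ]; simp [disp, mul_assoc]
  have h1 := key k
  rw [ha, MulAut.one_apply, eq_comm, mul_eq_right] at h1
  obtain ⟨j, rfl⟩ := hk
  simpa [pow_succ, pow_mul, hexp] using h1

variable [Finite M]

theorem card_modEq_one (hexp : ∀ m : M, m ^ 2 = 1) {p : ℕ} [hp : Fact p.Prime] (hp2 : p ≠ 2) {a : MulAut M}
    (ha : a ^ p = 1) {I : Subgroup M} (hI : I ≤ W a) (hinv : ∀ w ∈ I, a w ∈ I) :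
    Nat.card I ≡ 1 [MOD p] := by
  let f : I → I := fun w => ⟨a w, hinv w w.2⟩
  have hf : Function.Bijective f := Finite.injective_iff_bijective.1
    (fun u v h => Subtype.ext (a.injective (congrArg Subtype.val h)))
  let σ : Equiv.Perm I := Equiv.ofBijective f hf
  have hσ : ∀ (i : ℕ) (w : I), (((σ ^ i) w : I) : M) = (a ^ i) (w : M) := by
    intro i
    induction i with
    | zero => simp
    | succ i ih =>
      intro w
      rw [pow_succ', pow_succ', Equiv.Perm.mul_apply, MulAut.mul_apply, ← ih]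
      rfl
  have hσp : σ ^ p = 1 := Equiv.ext fun w => Subtype.ext (by rw [hσ, ha]; rfl)
  have hZ : IsPGroup p (zpowers σ) := by
    rintro ⟨x, hx⟩
    refine ⟨1, Subtype.ext ?_⟩
    obtain ⟨i, rfl⟩ := hx
    show (σ ^ i) ^ p ^ 1 = 1
    rw [pow_one, ← zpow_natCast, ← zpow_mul, mul_comm, zpow_mul, zpow_natCast, hσp, one_zpow]
  refine (hZ.card_modEq_card_fixedPoints I).trans ?_
  have : MulAction.fixedPoints (zpowers σ) I = {1} := by
    ext w
    constructor
    · intro hw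
      have : σ w = w := hw ⟨σ, mem_zpowers σ⟩
      exact Subtype.ext (eq_one_of_fixed hexp (hp.out.odd_of_ne_two hp2) ha (hI w.2) (congrArg Subtype.val this))
    · rintro rfl ⟨x, hx⟩
      have h1 : σ 1 = 1 := Subtype.ext (map_one a)
      show x 1 = 1
      exact (mem_zpowers_iff.1 hx).elim fun i hi => hi ▸ Equiv.Perm.zpow_apply_eq_self_of_apply_eq_self h1 i
  rw [this, Nat.card_unique]

theorem eq_bot_or_eq (hexp : ∀ m : M, m ^ 2 = 1) {p : ℕ} [hp : Fact p.Prime] (hp2 : p ≠ 2) {a : MulAut M}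
    (ha : a ^ p = 1) (hW : Nat.card (W a) = p + 1) {I : Subgroup M} (hI : I ≤ W a) (hinv : ∀ w ∈ I, a w ∈ I) :
    I = ⊥ ∨ I = W a := by
  have hm := card_modEq_one hexp hp2 ha hI hinv
  have h1 : 1 ≤ Nat.card I := Nat.card_pos
  have hdvd : p ∣ Nat.card I - 1 := (Nat.modEq_iff_dvd' h1).1 hm.symm
  rcases Nat.eq_zero_or_pos (Nat.card I - 1) with h | h
  · exact Or.inl (Subgroup.eq_bot_of_card_le _ (by omega))
  · exact Or.inr (eq_of_le_of_card_ge hI (by have := Nat.le_of_dvd h hdvd; omega))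

theorem W_le_map_disp (hexp : ∀ m : M, m ^ 2 = 1) {k : ℕ} (hk : Odd k) {a : MulAut M} (ha : a ^ k = 1) :
    W a ≤ (W a).map (disp a) := by
  have hinj : Function.Injective ((disp a).comp (W a).subtype) := by
    rw [injective_iff_map_eq_one]
    intro w hw
    refine Subtype.ext (eq_one_of_fixed hexp hk ha w.2 ?_)
    exact mul_inv_eq_one.1 hw
  refine le_of_eq (eq_of_le_of_card_ge ?_ ?_).symm
  · rintro _ ⟨w, -, rfl⟩; exact mem_W a w
  · have e : (W a).map (disp a) = ((disp a).comp (W a).subtype).range := by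
      rw [MonoidHom.range_comp, range_subtype]
    rw [e, ← Nat.card_congr (MonoidHom.ofInjective hinj).toEquiv]

/-- the join of two commutators, with a bound on its order -/
theorem exists_join (a b : MulAut M) :
    ∃ U : Subgroup M, W a ≤ U ∧ W b ≤ U ∧ Nat.card U ∣ Nat.card (W a) * Nat.card (W b) := by
  refine ⟨((W a).subtype.coprod (W b).subtype).range, fun x hx => ⟨(⟨x, hx⟩, 1), by simp⟩,
    fun x hx => ⟨(1, ⟨x, hx⟩), by simp⟩, ?_⟩
  rw [← Nat.card_prod]
  exact Subgroup.card_range_dvd _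

/-- restriction to an invariant subgroup -/
def restr {G : Type*} [Group G] (φ : G →* MulAut M) (U : Subgroup M) (h : ∀ g : G, ∀ u ∈ U, φ g u ∈ U) :
    G →* MulAut U where
  toFun g :=
    { toFun := fun u => ⟨φ g u, h g u u.2⟩
      invFun := fun u => ⟨φ g⁻¹ u, h g⁻¹ u u.2⟩
      left_inv := fun u => Subtype.ext (by
        show φ g⁻¹ (φ g (u : M)) = u
        rw [← MulAut.mul_apply, ← map_mul, inv_mul_cancel, map_one, MulAut.one_apply])
      right_inv := fun u => Subtype.ext (by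
        show φ g (φ g⁻¹ (u : M)) = u
        rw [← MulAut.mul_apply, ← map_mul, mul_inv_cancel, map_one, MulAut.one_apply])
      map_mul' := fun u v => Subtype.ext (map_mul (φ g) (u : M) (v : M)) }
  map_one' := MulEquiv.ext fun u => Subtype.ext (by show φ 1 (u : M) = u; simp)
  map_mul' g g' := MulEquiv.ext fun u => Subtype.ext (by show φ (g * g') (u : M) = φ g (φ g' u); simp)

theorem aut_card_dvd {U : Type*} [Group U] [Finite U] [IsMulCommutative U] (hexp : ∀ x : U, x ^ 2 = 1)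
    {n : ℕ} (hn : Nat.card U ∣ 2 ^ n) : Nat.card (MulAut U) ∣ ∏ i : Fin n, (2 ^ n - 2 ^ (i : ℕ)) := by
  classical
  haveI : Fact (Nat.Prime 2) := ⟨Nat.prime_two⟩
  obtain ⟨r, h4, hr⟩ := (Nat.dvd_prime_pow Nat.prime_two).1 hn
  letI : CommGroup U := { mul_comm := mul_comm' }
  letI : Module (ZMod 2) (Additive U) := AddCommGroup.zmodModule (n := 2) (fun x => hexp (Additive.toMul x))
  haveI : Finite (Additive U) := inferInstanceAs (Finite U)
  haveI : Module.Finite (ZMod 2) (Additive U) := Module.Finite.of_finite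
  have hfin : Module.finrank (ZMod 2) (Additive U) = r := by
    have h1 : Nat.card (Additive U) = Nat.card (ZMod 2) ^ Module.finrank (ZMod 2) (Additive U) :=
      Module.natCard_eq_pow_finrank
    rw [(Nat.card_congr Additive.toMul).trans hr, Nat.card_zmod] at h1
    exact (Nat.pow_right_injective le_rfl h1).symm
  let e : (Additive U × (Fin (n - r) → ZMod 2)) ≃ₗ[ZMod 2] (Fin n → ZMod 2) :=
    LinearEquiv.ofFinrankEq _ _ (by rw [Module.finrank_prod, hfin, Module.finrank_fin_fun, Module.finrank_fin_fun]; omega)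
  let ext : MulAut U → ((Additive U × (Fin (n - r) → ZMod 2)) ≃ₗ[ZMod 2] (Additive U × (Fin (n - r) → ZMod 2))) :=
    fun a => ((MulEquiv.toAdditive a).toLinearEquiv fun c x => ZMod.map_smul (MulEquiv.toAdditive a) c x).prodCongr
      (LinearEquiv.refl _ _)
  let g : MulAut U →* ((Fin n → ZMod 2) →ₗ[ZMod 2] (Fin n → ZMod 2)) :=
    { toFun := fun a => ((e.symm.trans (ext a)).trans e).toLinearMap
      map_one' := LinearMap.ext fun v => e.apply_symm_apply v
      map_mul' := fun a b => by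
        apply LinearMap.ext
        intro v
        show e (ext (a * b) (e.symm v)) = e (ext a (e.symm (e (ext b (e.symm v)))))
        rw [show ext (a * b) (e.symm v) = ext a (ext b (e.symm v)) from rfl, e.symm_apply_apply] }
  let f : MulAut U →* GL (Fin n) (ZMod 2) :=
    ((LinearMap.toMatrixAlgEquiv' : ((Fin n → ZMod 2) →ₗ[ZMod 2] (Fin n → ZMod 2)) ≃ₐ[ZMod 2]
      Matrix (Fin n) (Fin n) (ZMod 2)).toMulEquiv.toMonoidHom.comp g).toHomUnits
  have hf : Function.Injective f := by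
    intro a b h
    have hg : g a = g b := LinearMap.toMatrixAlgEquiv'.injective (congrArg Units.val h)
    apply MulEquiv.ext
    intro x
    have := congrArg e.symm (LinearMap.congr_fun hg (e (Additive.ofMul x, 0)))
    simp only [g, MonoidHom.coe_mk, OneHom.coe_mk, LinearEquiv.coe_coe, LinearEquiv.trans_apply,
      LinearEquiv.symm_apply_apply] at this
    exact congrArg (fun v => Additive.toMul v.1) this
  have h := Subgroup.card_dvd_of_injective f hf
  rwa [Matrix.card_GL_field, ZMod.card] at h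

/-- an odd group moving everything into `U` is faithful on `U` -/
theorem card_dvd_of_movers (hexp : ∀ m : M, m ^ 2 = 1) {D : Subgroup (MulAut M)} (hD : Odd (Nat.card D))
    {U : Subgroup M} (hDU : D ≤ movers U) {n : ℕ} (hU : Nat.card U ∣ 2 ^ n) :
    Nat.card D ∣ ∏ i : Fin n, (2 ^ n - 2 ^ (i : ℕ)) := by
  let ρ := restr D.subtype U fun g u hu => apply_mem (hDU g.2) hu
  have hρ : Function.Injective ρ := by
    rw [injective_iff_map_eq_one]
    intro d hd
    have htriv : ∀ u ∈ U, (d : MulAut M) u = u := fun u hu => by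
      have := congrArg Subtype.val (DFunLike.congr_fun hd (⟨u, hu⟩ : U))
      exact this
    have h2 : ((d : MulAut M)) ^ 2 = 1 := by
      apply MulEquiv.ext
      intro m
      have hu : (d : MulAut M) m * m⁻¹ ∈ U := hDU d.2 (mem_W _ m)
      rw [sq, MulAut.mul_apply, MulAut.one_apply]
      calc (d : MulAut M) ((d : MulAut M) m)
          = (d : MulAut M) ((d : MulAut M) m * m⁻¹) * (d : MulAut M) m := by rw [← map_mul, inv_mul_cancel_right]
        _ = ((d : MulAut M) m * m⁻¹) * (((d : MulAut M) m * m⁻¹) * m) := by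
            rw [htriv _ hu, inv_mul_cancel_right]
        _ = m := by rw [← mul_assoc, ← sq, hexp, one_mul]
    have h2' : d ^ 2 = 1 := Subtype.ext h2
    rw [← orderOf_eq_one_iff]
    rcases (Nat.dvd_prime Nat.prime_two).1 (orderOf_dvd_of_pow_eq_one h2') with h | h
    · exact h
    · exact absurd (h ▸ orderOf_dvd_natCard d) hD.not_two_dvd_nat
  exact (Subgroup.card_dvd_of_injective ρ hρ).trans (aut_card_dvd (fun x => Subtype.ext (hexp x)) hU)

theorem pair_commute (hexp : ∀ m : M, m ^ 2 = 1) {p k : ℕ} [hp : Fact p.Prime] (hp2 : p ≠ 2)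
    {D : Subgroup (MulAut M)} (hD : IsPGroup p D) {a b : MulAut M} (ha : a ∈ D) (hb : b ∈ D)
    (hWa : Nat.card (W a) ∣ 2 ^ k) (hWb : Nat.card (W b) ∣ 2 ^ k)
    (h3 : ¬ p ^ 3 ∣ ∏ i : Fin (2 * k), (2 ^ (2 * k) - 2 ^ (i : ℕ))) : a * b = b * a := by
  obtain ⟨U, haU, hbU, hU⟩ := exists_join a b
  let D' := D ⊓ movers U
  have hD' : IsPGroup p D' := hD.to_le inf_le_left
  obtain ⟨j, hj⟩ := IsPGroup.iff_card.1 hD'
  have hodd : Odd (Nat.card D') := hj ▸ (hp.out.odd_of_ne_two hp2).pow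
  have hdvd := card_dvd_of_movers hexp hodd inf_le_right (n := 2 * k)
    (hU.trans (by rw [two_mul, pow_add]; exact mul_dvd_mul hWa hWb))
  rw [hj] at hdvd
  have hj3 : j ≤ 2 := by
    by_contra hc
    exact h3 ((pow_dvd_pow p (by omega : 3 ≤ j)).trans hdvd)
  suffices h : ∀ x y : D', x * y = y * x from congrArg Subtype.val (h ⟨a, ha, haU⟩ ⟨b, hb, hbU⟩)
  interval_cases j
  · haveI : Subsingleton D' := (Nat.card_eq_one_iff_unique.1 (by simpa using hj)).1
    exact fun x y => Subsingleton.elim _ _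
  · haveI : IsCyclic D' := isCyclic_of_prime_card (by simpa using hj)
    letI := IsCyclic.commGroup (α := D')
    exact fun x y => mul_comm x y
  · letI := IsPGroup.commGroupOfCardEqPrimeSq (G := D') hj
    exact fun x y => mul_comm x y

/-- members of an abelian normal subgroup fix the commutator -/
theorem map_eq_of_mem_abelian (hexp : ∀ m : M, m ^ 2 = 1) {p k : ℕ} [hp : Fact p.Prime] (hp2 : p ≠ 2)
    (hk : p + 1 = 2 ^ k) (h3 : ¬ p ^ 3 ∣ ∏ i : Fin (2 * k), (2 ^ (2 * k) - 2 ^ (i : ℕ)))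
    {D : Subgroup (MulAut M)} (hD : IsPGroup p D) {N : Subgroup (MulAut M)} (hND : N ≤ D)
    (hNn : ∀ d ∈ D, ∀ n ∈ N, d * n * d⁻¹ ∈ N) (hNc : ∀ m ∈ N, ∀ n ∈ N, m * n = n * m)
    {a : MulAut M} (ha : a ∈ D) (hap : a ^ p = 1) (hW : Nat.card (W a) = p + 1) {n : MulAut M} (hn : n ∈ N) :
    (W a).map n.toMonoidHom = W a := by
  have hpair : ∀ b ∈ D, Nat.card (W b) = p + 1 → W b ≠ W a → ∀ w ∈ W a, b w = w := by
    intro b hb hWb hne w hw
    have hc := pair_commute hexp hp2 hD ha hb (by rw [hW, hk]) (by rw [hWb, hk]) h3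
    have hmem : b w * w⁻¹ ∈ W a ⊓ W b := by
      refine Subgroup.mem_inf.2 ⟨(W a).mul_mem ?_ ((W a).inv_mem hw), mem_W b w⟩
      rw [← map_eq_of_commute hc.symm]
      exact ⟨w, hw, rfl⟩
    have hinv : ∀ x ∈ W a ⊓ W b, a x ∈ W a ⊓ W b := by
      rintro x ⟨h1, h2⟩
      refine ⟨apply_mem le_rfl h1, ?_⟩
      rw [← map_eq_of_commute hc]
      exact ⟨x, h2, rfl⟩
    rcases eq_bot_or_eq hexp hp2 hap hW inf_le_left hinv with h | h
    · rw [h, mem_bot, mul_inv_eq_one] at hmem; exact hmem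
    · exact absurd (eq_of_le_of_card_ge (inf_eq_left.1 h) (by omega)).symm hne
  have hcardc : ∀ h : MulAut M, Nat.card (W (h * a * h⁻¹)) = p + 1 := fun h => by
    rw [W_conj, card_map_of_injective (f := h.toMonoidHom) h.injective, hW]
  have hsq : (W a).map (n * n).toMonoidHom = W a := by
    have hnn : n * n ∈ N := mul_mem hn hn
    by_cases hb : (W a).map n.toMonoidHom = W a
    · have e : (n * n).toMonoidHom = n.toMonoidHom.comp n.toMonoidHom := rfl
      rw [e, ← Subgroup.map_map, hb, hb]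
    rw [← W_conj]
    by_contra hne
    have hbD : n * a * n⁻¹ ∈ D := mul_mem (mul_mem (hND hn) ha) (inv_mem (hND hn))
    have hb2D : n * n * a * (n * n)⁻¹ ∈ D := mul_mem (mul_mem (hND hnn) ha) (inv_mem (hND hnn))
    have hbfix := hpair _ hbD (hcardc n) (by rwa [W_conj])
    have hb2fix := hpair _ hb2D (hcardc _) hne
    have hcN : a⁻¹ * (n * a * n⁻¹) ∈ N := by
      have := mul_mem (hNn a⁻¹ (inv_mem ha) n hn) (inv_mem hn)
      simpa [mul_assoc] using this
    have hcomm := hNc _ hcN _ hn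
    have hrel : n * n * a * (n * n)⁻¹ = (n * a * n⁻¹) * a⁻¹ * (n * a * n⁻¹) := by
      calc n * n * a * (n * n)⁻¹ = (n * a * n⁻¹) * (n * (a⁻¹ * (n * a * n⁻¹)) * n⁻¹) := by group
        _ = (n * a * n⁻¹) * (a⁻¹ * (n * a * n⁻¹) * n * n⁻¹) := by rw [← hcomm]
        _ = _ := by group
    have hbot : W a = ⊥ := by
      refine (Subgroup.eq_bot_iff_forall _).2 fun w hw => eq_one_of_fixed hexp (hp.out.odd_of_ne_two hp2) hap hw ?_
      have hw' : a⁻¹ w ∈ W a := by
        rw [← map_eq_of_commute (show a⁻¹ * a = a * a⁻¹ by group)]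
        exact ⟨w, hw, rfl⟩
      have h1 := hb2fix w hw
      rw [hrel, MulAut.mul_apply, MulAut.mul_apply, hbfix w hw, hbfix _ hw'] at h1
      calc a w = a (a⁻¹ w) := by rw [h1]
        _ = w := by simp
    rw [hbot, Subgroup.card_bot] at hW
    have := hp.out.two_le; omega
  let St : Subgroup (MulAut M) :=
    { carrier := {g | (W a).map g.toMonoidHom = W a}
      one_mem' := by
        show (W a).map (1 : MulAut M).toMonoidHom = W a
        exact Subgroup.map_id _
      mul_mem' := by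
        intro g g' (hg : _ = _) (hg' : _ = _)
        show (W a).map (g * g').toMonoidHom = W a
        rw [show (g * g').toMonoidHom = g.toMonoidHom.comp g'.toMonoidHom from rfl, ← Subgroup.map_map, hg', hg]
      inv_mem' := by
        intro g (hg : _ = _)
        show (W a).map g⁻¹.toMonoidHom = W a
        conv_lhs => rw [← hg, Subgroup.map_map]
        rw [show g⁻¹.toMonoidHom.comp g.toMonoidHom = (g⁻¹ * g).toMonoidHom from rfl, inv_mul_cancel]
        exact Subgroup.map_id _ }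
  have hodd : Odd (orderOf (⟨n, hND hn⟩ : D)) := by
    obtain ⟨j, hj⟩ := IsPGroup.iff_orderOf.1 hD ⟨n, hND hn⟩
    rw [hj]; exact (hp.out.odd_of_ne_two hp2).pow
  obtain ⟨j, hj⟩ := hodd
  have hn1 : n ^ orderOf (⟨n, hND hn⟩ : D) = 1 := congrArg Subtype.val (pow_orderOf_eq_one (⟨n, hND hn⟩ : D))
  have : n = (n * n) ^ (j + 1) := by
    rw [← sq, ← pow_mul, show 2 * (j + 1) = orderOf (⟨n, hND hn⟩ : D) + 1 by omega, pow_succ, hn1, one_mul]
  show n ∈ St
  rw [this]
  exact St.pow_mem hsq _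

section group

variable {S : Type*} [Group S] [Finite S] (φ : S →* MulAut M)

/-- pointwise stabiliser -/
def fixer (W' : Subgroup M) : Subgroup S where
  carrier := {s | ∀ w ∈ W', φ s w = w}
  one_mem' := by simp
  mul_mem' := by intro a b ha hb w hw; rw [map_mul, MulAut.mul_apply, hb w hw, ha w hw]
  inv_mem' := by intro a ha w hw; rw [map_inv]; conv_lhs => rw [← ha w hw]; simp

/-- the conclusion sought -/
def Good (W' : Subgroup M) : Prop :=
  ∃ (r : ℕ) (F : Subgroup S), r.Prime ∧ r ≠ 2 ∧ Cfsg.IsElementaryAbelian r F ∧ Nat.card F = r ^ 3 ∧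
    r ^ 2 ≤ Nat.card ↥(F ⊓ fixer φ W')

theorem Good.mono {W₁ W₂ : Subgroup M} (h : W₁ ≤ W₂) (hg : Good φ W₂) : Good φ W₁ := by
  obtain ⟨r, F, h1, h2, h3, h4, h5⟩ := hg
  exact ⟨r, F, h1, h2, h3, h4, h5.trans (Nat.card_le_card_of_injective _
    (Subgroup.inclusion_injective (inf_le_inf le_rfl (show fixer φ W₂ ≤ fixer φ W₁ from fun s hs w hw => hs w (h hw)))))⟩

theorem Good.of_conj {W' : Subgroup M} (g : S) (hg : Good φ (W'.map (φ g).toMonoidHom)) : Good φ W' := by
  obtain ⟨r, F, h1, h2, h3, h4, h5⟩ := hg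
  have hinj : Function.Injective ((MulAut.conj g⁻¹).toMonoidHom) := (MulAut.conj g⁻¹).injective
  refine ⟨r, F.map (MulAut.conj g⁻¹).toMonoidHom, h1, h2, ⟨?_, ?_⟩, by rw [card_map_of_injective hinj, h4], ?_⟩
  · haveI := h3.1
    infer_instance
  · rintro _ ⟨a, ha, rfl⟩
    rw [← map_pow, h3.2 a ha, map_one]
  · refine (h5.trans_eq (card_map_of_injective (K := F ⊓ fixer φ _) hinj).symm).trans
      (Nat.card_le_card_of_injective _ (Subgroup.inclusion_injective ?_))
    rintro _ ⟨s, ⟨hs, hfix⟩, rfl⟩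
    refine ⟨⟨s, hs, rfl⟩, fun w hw => ?_⟩
    show φ (MulAut.conj g⁻¹ s) w = w
    rw [MulAut.conj_apply, inv_inv, map_mul, map_mul, MulAut.mul_apply, MulAut.mul_apply, map_inv]
    rw [show φ g w = (φ g).toMonoidHom w from rfl, hfix _ ⟨w, hw, rfl⟩]
    simp

theorem kernel_big {r : ℕ} [hr : Fact r.Prime] {F : Subgroup S} (hF : Cfsg.IsElementaryAbelian r F)
    (hexp : ∀ m : M, m ^ 2 = 1) {W' : Subgroup M} (hinv : ∀ s ∈ F, ∀ w ∈ W', φ s w ∈ W') {k i : ℕ}
    (hW : Nat.card W' ∣ 2 ^ k) (hi : ¬ r ^ (i + 1) ∣ ∏ j : Fin k, (2 ^ k - 2 ^ (j : ℕ))) :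
    Nat.card F ≤ r ^ i * Nat.card ↥(F ⊓ fixer φ W') := by
  let ρ := restr (φ.comp F.subtype) W' fun g w hw => hinv g g.2 w hw
  have hker : ρ.ker = (fixer φ W').subgroupOf F := by
    ext s
    constructor
    · intro hs w hw
      exact congrArg Subtype.val (DFunLike.congr_fun hs (⟨w, hw⟩ : W'))
    · intro hs
      exact MulEquiv.ext fun w => Subtype.ext (hs w w.2)
  have hFp : IsPGroup r F := fun x => ⟨1, Subtype.ext (by rw [SubgroupClass.coe_pow, pow_one, hF.2 x x.2]; rfl)⟩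
  obtain ⟨j, hj⟩ := IsPGroup.iff_card.1 (hFp.of_surjective ρ.rangeRestrict ρ.rangeRestrict_surjective)
  have hd := (Subgroup.card_subgroup_dvd_card ρ.range).trans (aut_card_dvd (fun x => Subtype.ext (hexp x)) hW)
  rw [hj] at hd
  have hji : j ≤ i := by
    by_contra hc
    exact hi ((pow_dvd_pow r (by omega : i + 1 ≤ j)).trans hd)
  have hcard : Nat.card ρ.ker * Nat.card ρ.range = Nat.card F := by
    rw [← Subgroup.index_ker, Subgroup.card_mul_index]
  have hk2 : Nat.card ρ.ker = Nat.card ↥(F ⊓ fixer φ W') := by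
    rw [hker, ← card_map_of_injective F.subtype_injective, subgroupOf_map_subtype, inf_comm]
  rw [← hcard, hk2, hj, mul_comm]
  exact Nat.mul_le_mul_right _ (Nat.pow_le_pow_right hr.out.pos hji)

theorem good_of_sylow (hexp : ∀ m : M, m ^ 2 = 1) {r k : ℕ} [hr : Fact r.Prime] (hr2 : r ≠ 2)
    (hk : r + 1 = 2 ^ k) (h3 : ¬ r ^ 3 ∣ ∏ i : Fin (2 * k), (2 ^ (2 * k) - 2 ^ (i : ℕ)))
    (h2 : ¬ r ^ 2 ∣ ∏ i : Fin k, (2 ^ k - 2 ^ (i : ℕ)))
    (R : Subgroup S) (hR : IsPGroup r R) {y : S} (hy : y ∈ R) (hyp : φ y ^ r = 1)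
    (hW : Nat.card (W (φ y)) = r + 1) {A : Subgroup S} (hA : Cfsg.IsElementaryAbelian r A)
    (hAc : Nat.card A = r ^ 3) (hAR : A ≤ R) : Good φ (W (φ y)) := by
  obtain ⟨N, hNn, hNc, hNe, hNcard⟩ : ∃ N : Subgroup R, N.Normal ∧ IsMulCommutative N ∧ (∀ a ∈ N, a ^ r = 1) ∧
      Nat.card N = r ^ 3 := by
    by_contra hc
    push Not at hc
    haveI := hA.1
    have h := Cfsg.Agent.S0100.result hr2 hR hc (A.subgroupOf R)
      (isMulCommutative_iff.2 fun u v => Subtype.ext (Subtype.ext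
        (show ((u : R) : S) * ((v : R) : S) = ((v : R) : S) * ((u : R) : S) from
          congrArg Subtype.val (mul_comm' (⟨((u : R) : S), u.2⟩ : A) ⟨((v : R) : S), v.2⟩))))
      (fun e he => Subtype.ext (hA.2 _ he))
    rw [Nat.card_congr (subgroupOfEquivOfLe hAR).toEquiv, hAc] at h
    exact absurd h (not_le.2 (Nat.pow_lt_pow_right hr.out.one_lt (by norm_num)))
  set F := N.map R.subtype
  have hFR : F ≤ R := map_subtype_le N
  have hFc : Nat.card F = r ^ 3 := by rw [card_map_of_injective R.subtype_injective, hNcard]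
  have hFe : Cfsg.IsElementaryAbelian r F := by
    refine ⟨inferInstance, ?_⟩
    rintro _ ⟨a, ha, rfl⟩
    rw [← map_pow, hNe a ha, map_one]
  refine ⟨r, F, hr.out, hr2, hFe, hFc, ?_⟩
  have hinv : ∀ s ∈ F, ∀ w ∈ W (φ y), φ s w ∈ W (φ y) := by
    intro s hs w hw
    rw [← map_eq_of_mem_abelian hexp hr2 hk h3 (hR.map φ) (map_mono hFR) ?_ ?_ (mem_map_of_mem φ hy) hyp hW
      (mem_map_of_mem φ hs)]
    · exact ⟨w, hw, rfl⟩
    · rintro _ ⟨d, hd, rfl⟩ _ ⟨_, ⟨x, hx, rfl⟩, rfl⟩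
      exact ⟨_, ⟨⟨d, hd⟩ * x * ⟨d, hd⟩⁻¹, hNn.conj_mem x hx _, rfl⟩, by simp⟩
    · rintro _ ⟨u, hu, rfl⟩ _ ⟨v, hv, rfl⟩
      haveI := hFe.1
      rw [← map_mul, ← map_mul, show u * v = v * u from congrArg Subtype.val (mul_comm' (⟨u, hu⟩ : F) ⟨v, hv⟩)]
  have h := kernel_big φ hFe hexp hinv (k := k) (i := 1) (by rw [hW, hk]) h2
  rw [hFc, pow_one] at h
  have : r * r ^ 2 ≤ r * Nat.card ↥(F ⊓ fixer φ (W (φ y))) := by rw [← pow_succ']; exact h
  exact Nat.le_of_mul_le_mul_left this hr.out.pos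

end group

end Cfsg.Lib.FourMover
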