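/-
Groups of order `320` with `O₂` extraspecial of order `32` of minus type: the centralizer of an outer involution.
-/
import Cfsg.Agent.Coprime.Fitting
import Cfsg.Agent.Coprime.Sylow
import Cfsg.Agent.PGroups.Basic
import Cfsg.Agent.Components.CoprimeKer
import Cfsg.Agent.Chars.Burnside
import Cfsg.Prelude.Def_Transfer

set_option autoImplicit false
set_option linter.unusedSectionVars false
set_option linter.style.haveILetI false

namespace Cfsg.Lib.SolvStruct.Order320

open Subgroup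
open scoped commutatorElement

universe u

variable {G : Type u} [Group G] [Finite G]

theorem card_comap_mk_aux (N : Subgroup G) [N.Normal] (D : Subgroup (G ⧸ N)) :
    Nat.card (D.comap (QuotientGroup.mk' N)) = Nat.card N * Nat.card D := by
  rw [Cfsg.Lib.Components.card_comap_of_surjective (QuotientGroup.mk'_surjective N), QuotientGroup.ker_mk']

theorem main (hG : Nat.card G = 320) (hHF : Cfsg.pCore 2 G = Cfsg.fittingSubgroup G)
    (hex : Cfsg.IsExtraspecial 2 ↥(Cfsg.pCore 2 G)) (h32 : Nat.card ↥(Cfsg.pCore 2 G) = 32)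
    (hminus : ∀ A : Subgroup G, A ≤ Cfsg.pCore 2 G → Cfsg.IsElementaryAbelian 2 A → Nat.card ↥A ≤ 4)
    (T : G) (hT : orderOf T = 2) (hTH : T ∉ Cfsg.pCore 2 G)
    (V : Subgroup G) (hV : V ≤ Cfsg.pCore 2 G ⊓ centralizer ({T} : Set G)) (hV4 : Nat.card ↥V = 4)
    (hVe : Cfsg.IsElementaryAbelian 2 V) :
    Nat.card ↥(Cfsg.pCore 2 G ⊓ centralizer ({T} : Set G)) = 4 ∧
      Cfsg.IsElementaryAbelian 2 (Cfsg.pCore 2 G ⊓ centralizer ({T} : Set G)) := by
  haveI := Fact.mk Nat.prime_two
  haveI h5 : Fact (Nat.Prime 5) := ⟨by norm_num⟩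
  haveI : Group.IsSolvable G := Cfsg.Lib.Chars.burnside_isSolvable 2 5 Nat.prime_two h5.out G
    ⟨6, 1, by rw [hG]; norm_num⟩
  set H := Cfsg.pCore 2 G with hH
  haveI hHn : H.Normal := Cfsg.Lib.Components.pCore_normal' 2
  have hCH : centralizer (H : Set G) ≤ H := by
    rw [hHF]; exact Cfsg.Lib.Coprime.centralizer_fitting_le
  obtain ⟨⟨hHp, hfr, hcm⟩, hZ2⟩ := hex
  set Z := (center H).map H.subtype with hZdef
  have hZH : Z ≤ H := map_subtype_le _
  haveI hZn : Z.Normal := inferInstance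
  have hZc : Nat.card Z = 2 := by rw [hZdef, card_map_of_injective H.subtype_injective, hZ2]
  have hZcomm : ∀ z ∈ Z, ∀ h ∈ H, z * h = h * z := by
    rintro _ ⟨z, hz, rfl⟩ h hh
    exact congrArg Subtype.val ((mem_center_iff.1 hz ⟨h, hh⟩).symm)
  have hZsq : ∀ z ∈ Z, z * z = 1 := fun z hz => by
    have := Subgroup.orderOf_dvd_natCard Z hz
    rw [hZc, orderOf_dvd_iff_pow_eq_one, pow_two] at this
    exact this
  set π := QuotientGroup.mk' Z with hπ
  have hπs : Function.Surjective π := QuotientGroup.mk'_surjective Z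
  set B := H.map π with hB
  haveI hBn : B.Normal := hHn.map π hπs
  have hBcard : Nat.card B = 16 := by
    have h1 := Z.card_mul_index
    have h2 : Z.relIndex H * Nat.card Z = 32 := by
      rw [← h32, mul_comm, ← relIndex_bot_left, relIndex_mul_relIndex _ _ _ bot_le hZH, relIndex_bot_left]
    rw [hZc] at h2
    rw [hB, ← relIndex_ker, hπ, QuotientGroup.ker_mk']
    omega
  have hBab : ∀ a ∈ B, ∀ b ∈ B, a * b = b * a := by
    rintro _ ⟨a, ha, rfl⟩ _ ⟨b, hb, rfl⟩
    rw [← map_mul, ← map_mul]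
    refine (QuotientGroup.eq).2 ?_
    have h1 : (⟨a, ha⟩ * ⟨b, hb⟩ : H)⁻¹ * (⟨b, hb⟩ * ⟨a, ha⟩) ∈ center H := by
      rw [← hcm, show (⟨a, ha⟩ * ⟨b, hb⟩ : H)⁻¹ * (⟨b, hb⟩ * ⟨a, ha⟩) = ⁅(⟨b, hb⟩ : H)⁻¹, ⟨a, ha⟩⁻¹⁆ by
        rw [commutatorElement_def]; group]
      exact commutator_mem_commutator (mem_top _) (mem_top _)
    exact ⟨_, h1, rfl⟩
  have hBsq : ∀ a ∈ B, a * a = 1 := by
    rintro _ ⟨a, ha, rfl⟩
    rw [← map_mul]
    refine (QuotientGroup.eq_one_iff _).2 ⟨⟨a, ha⟩ * ⟨a, ha⟩, ?_, rfl⟩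
    show (⟨a, ha⟩ * ⟨a, ha⟩ : H) ∈ center H
    rw [← hfr, ← pow_two]
    exact Cfsg.Lib.PGroups.pow_mem_frattini hHp _
  -- elements of order five act without fixed points
  have hfpf : ∀ y : G, orderOf y = 5 → ∀ a ∈ B, π y * a * (π y)⁻¹ = a → a = 1 := by
    intro y hy a ha hfix
    classical
    haveI := Fintype.ofFinite B
    let f : Function.End B := fun b => ⟨π y * b * (π y)⁻¹, hBn.conj_mem b b.2 _⟩
    have hpow : ∀ (i : ℕ) (b : B), ((f ^ i) b : G ⧸ Z) = (π y) ^ i * b * ((π y) ^ i)⁻¹ := by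
      intro i
      induction i with
      | zero => intro b; show (b : G ⧸ Z) = _; simp
      | succ i ih =>
        intro b
        rw [pow_succ' f]
        show π y * ((f ^ i) b : G ⧸ Z) * (π y)⁻¹ = _
        rw [ih, pow_succ']
        group
    have hf5 : f ^ (5 ^ 1) = 1 := funext fun b => Subtype.ext (by
      rw [pow_one, hpow, ← map_pow, ← hy, pow_orderOf_eq_one, map_one]
      show (1 : G ⧸ Z) * b * 1⁻¹ = b
      simp)
    have hmod := Equiv.Perm.card_fixedPoints_modEq hf5
    rw [← Nat.card_eq_fintype_card, ← Nat.card_eq_fintype_card, hBcard] at hmod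
    set C := B ⊓ centralizer ({π y} : Set (G ⧸ Z))
    have hmem : ∀ b : B, b ∈ Function.fixedPoints f ↔ (b : G ⧸ Z) ∈ C := fun b => by
      rw [mem_inf, mem_centralizer_singleton_iff, Function.mem_fixedPoints_iff]
      refine ⟨fun h => ⟨b.2, ?_⟩, fun h => Subtype.ext ?_⟩
      · have h' : π y * b * (π y)⁻¹ = b := congrArg Subtype.val h
        exact (mul_inv_eq_iff_eq_mul.1 h').symm
      · show π y * b * (π y)⁻¹ = b
        rw [← h.2, mul_inv_cancel_right]
    have hcard : Nat.card (Function.fixedPoints f) = Nat.card C := Nat.card_congr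
      { toFun := fun b => ⟨b.1, (hmem b.1).1 b.2⟩
        invFun := fun c => ⟨⟨c.1, (mem_inf.1 c.2).1⟩, (hmem _).2 c.2⟩
        left_inv := fun b => rfl
        right_inv := fun c => rfl }
    rw [hcard] at hmod
    have hdC : Nat.card C ∣ 16 := hBcard ▸ card_dvd_of_le inf_le_left
    have haC : a ∈ C := mem_inf.2 ⟨ha, mem_centralizer_singleton_iff.2 (mul_inv_eq_iff_eq_mul.1 hfix).symm⟩
    have hC : Nat.card C = 1 ∨ Nat.card C = 16 := by
      obtain ⟨i, hi, he⟩ := (Nat.dvd_prime_pow Nat.prime_two).1 (show Nat.card C ∣ 2 ^ 4 from hdC)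
      rw [he] at hmod ⊢
      interval_cases i <;> first | omega | exact absurd hmod (by decide)
    rcases hC with h1 | h1
    · rw [(eq_bot_iff_card _).2 h1, mem_bot] at haC
      exact haC
    exfalso
    have hall : C = B := eq_of_le_of_card_ge inf_le_left (by rw [h1, hBcard])
    have htriv : zpowers y ≤ centralizer (H : Set G) := by
      refine Cfsg.Lib.Coprime.le_centralizer_of_frattini le_normalizer_of_normal ?_ ?_
      · rw [hfr, hZ2, Nat.card_zpowers, hy]; norm_num
      · intro g hg h hh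
        obtain ⟨i, rfl⟩ := mem_zpowers_iff.1 hg
        rw [hfr, ← hZdef, ← QuotientGroup.ker_mk' Z, MonoidHom.mem_ker]
        have hc : Commute (π y) (π h) :=
          (mem_centralizer_singleton_iff.1 (mem_inf.1 (hall.ge (mem_map_of_mem π hh))).2).symm
        rw [← hπ, map_mul, map_mul, map_mul, map_inv, map_inv, map_zpow, (hc.zpow_left i).eq, mul_inv_cancel_right,
          mul_inv_cancel]
    have h2 := Subgroup.orderOf_dvd_natCard H (hCH (htriv (mem_zpowers y)))
    rw [hy, h32] at h2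
    norm_num at h2
  -- an element of order five and its commutator with `T`
  obtain ⟨x, hx⟩ := exists_prime_orderOf_dvd_card' (G := G) 5 (by rw [hG]; norm_num)
  have hT2 : T * T = 1 := by rw [← pow_two, ← hT, pow_orderOf_eq_one]
  have hTi : T⁻¹ = T := inv_eq_of_mul_eq_one_right hT2
  set s := x * T * x⁻¹ * T with hs
  have hsH : s ∉ H := by
    intro hsH
    set K := H ⊔ zpowers T
    have hKd : Nat.card K ∣ 64 := by
      have := Cfsg.Lib.Components.card_sup_dvd_mul H (zpowers T)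
      rwa [h32, Nat.card_zpowers, hT] at this
    have hK64 : Nat.card K = 64 := by
      have h1 : Nat.card H ∣ Nat.card K := card_dvd_of_le le_sup_left
      obtain ⟨i, hi, he⟩ := (Nat.dvd_prime_pow Nat.prime_two).1 (show Nat.card K ∣ 2 ^ 6 from hKd)
      rw [h32, he] at h1
      have h5' : 5 ≤ i := (Nat.pow_dvd_pow_iff_le_right (by norm_num)).1 (show 2 ^ 5 ∣ 2 ^ i from h1)
      rcases (show i = 5 ∨ i = 6 by omega) with rfl | rfl
      · refine absurd ?_ hTH
        have : H = K := eq_of_le_of_card_ge le_sup_left (by rw [he, h32]; norm_num)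
        rw [this]
        exact mem_sup_right (mem_zpowers T)
      · rw [he]; norm_num
    have hxK : x ∈ normalizer (K : Set G) := by
      refine Cfsg.Lib.Coprime.conjMap_eq_self_iff.1 (eq_of_le_of_card_ge ?_ ?_)
      · refine map_le_iff_le_comap.2 (sup_le (fun h hh => mem_sup_left (hHn.conj_mem h hh x)) (zpowers_le.2 ?_))
        show x * T * x⁻¹ ∈ K
        have e : x * T * x⁻¹ = s * T := by rw [hs, mul_assoc _ T T, hT2, mul_one]
        rw [e]
        exact mul_mem (mem_sup_left hsH) (mem_sup_right (mem_zpowers T))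
      · rw [Cfsg.Lib.Coprime.card_conjMap]
    have hN : normalizer (K : Set G) = ⊤ := by
      refine eq_top_of_card_eq _ (Nat.dvd_antisymm (card_subgroup_dvd_card _) ?_)
      rw [hG, show 320 = 5 * 64 from rfl]
      refine Nat.Coprime.mul_dvd_of_dvd_of_dvd (by norm_num) ?_ (hK64 ▸ card_dvd_of_le le_normalizer)
      exact hx ▸ Subgroup.orderOf_dvd_natCard _ hxK
    haveI : K.Normal := normalizer_eq_top_iff.1 hN
    exact hTH (Cfsg.Lib.Components.le_pCore (IsPGroup.of_card (n := 6) (by rw [hK64]; norm_num))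
      (mem_sup_right (mem_zpowers T)))
  have hs5 : s ^ 5 ∈ H := by
    set ρ := QuotientGroup.mk' H with hρ
    have hcq : Nat.card (G ⧸ H) = 10 := by
      have h1 := H.card_mul_index
      rw [hG, h32, index_eq_card] at h1
      omega
    have hx1 : ρ x ≠ 1 := fun h => by
      have h1 := Subgroup.orderOf_dvd_natCard H ((QuotientGroup.eq_one_iff x).1 h)
      rw [hx, h32] at h1; norm_num at h1
    have hox : orderOf (ρ x) = 5 := orderOf_eq_prime (by rw [← map_pow, ← hx, pow_orderOf_eq_one, map_one]) hx1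
    haveI : (zpowers (ρ x)).Normal := normal_of_index_eq_two (by
      have h1 := (zpowers (ρ x)).card_mul_index
      rw [Nat.card_zpowers, hox, hcq] at h1
      omega)
    have hmem : ρ s ∈ zpowers (ρ x) := by
      rw [hs, map_mul, map_mul, map_mul, mul_assoc, mul_assoc]
      refine mul_mem (mem_zpowers _) ?_
      rw [← mul_assoc]
      have := Subgroup.Normal.conj_mem inferInstance _ (inv_mem (mem_zpowers (ρ x))) (ρ T)
      rwa [← map_inv ρ T, hTi, ← map_inv ρ x] at this
    refine (QuotientGroup.eq_one_iff _).1 ?_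
    show ρ (s ^ 5) = 1
    rw [map_pow]
    refine orderOf_dvd_iff_pow_eq_one.1 ?_
    have h1 := Subgroup.orderOf_dvd_natCard (zpowers (ρ x)) hmem
    rwa [Nat.card_zpowers, hox] at h1
  set y := s ^ 32 with hy
  have hy5 : orderOf y = 5 := by
    refine orderOf_eq_prime ?_ fun h1 => hsH ?_
    · rw [hy, ← pow_mul, mul_comm, pow_mul]
      have h1 := Subgroup.orderOf_dvd_natCard H hs5
      rw [h32] at h1
      exact orderOf_dvd_iff_pow_eq_one.1 h1
    · have h2 : s = y ^ 3 * ((s ^ 5) ^ 19)⁻¹ := by rw [hy, ← pow_mul, ← pow_mul]; group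
      rw [h2, h1, one_pow, one_mul]
      exact inv_mem (pow_mem hs5 19)
  -- fixed points of `T` on `B`
  set τ := π T with hτ
  have hτ2 : τ * τ = 1 := by rw [hτ, ← map_mul, hT2, map_one]
  have hτi : τ⁻¹ = τ := inv_eq_of_mul_eq_one_right hτ2
  set D := B ⊓ centralizer ({τ} : Set (G ⧸ Z)) with hD
  have hDle : Nat.card D ≤ 4 := by
    let m : D × D → B := fun p => ⟨(p.1 : G ⧸ Z) * (π x * p.2 * (π x)⁻¹),
      mul_mem (mem_inf.1 p.1.2).1 (hBn.conj_mem _ (mem_inf.1 p.2.2).1 _)⟩
    have hm : Function.Injective m := by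
      rintro ⟨a, b⟩ ⟨a', b'⟩ h
      have e : (a : G ⧸ Z) * (π x * b * (π x)⁻¹) = a' * (π x * b' * (π x)⁻¹) := congrArg Subtype.val h
      set w := (a' : G ⧸ Z)⁻¹ * a with hw
      have hw1 : w = π x * ((b' : G ⧸ Z) * (b : G ⧸ Z)⁻¹) * (π x)⁻¹ := by
        calc w = (a' : G ⧸ Z)⁻¹ * ((a : G ⧸ Z) * (π x * b * (π x)⁻¹)) * (π x * b * (π x)⁻¹)⁻¹ := by rw [hw]; group
          _ = _ := by rw [e]; group
      have hwD : w ∈ D := mul_mem (inv_mem a'.2) a.2
      have hd : (b' : G ⧸ Z) * (b : G ⧸ Z)⁻¹ ∈ D := mul_mem b'.2 (inv_mem b.2)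
      have c1 : Commute τ w := (mem_centralizer_singleton_iff.1 (mem_inf.1 hwD).2).symm
      have c2 : Commute (π x * τ * (π x)⁻¹) w := by
        rw [hw1]
        exact (Commute.conj_iff (π x)).2 (mem_centralizer_singleton_iff.1 (mem_inf.1 hd).2).symm
      have c3 : Commute (π y) w := by
        rw [hy, map_pow, hs, map_mul, map_mul, map_mul, map_inv]
        exact (c2.mul_left c1).pow_left 32
      have hw0 : w = 1 := hfpf y hy5 w (mem_inf.1 hwD).1 (by rw [c3.eq, mul_inv_cancel_right])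
      have ha : a = a' := Subtype.ext (by rw [hw, inv_mul_eq_one] at hw0; exact hw0.symm)
      subst ha
      rw [mul_right_inj, mul_left_inj, mul_right_inj] at e
      exact Prod.ext rfl (Subtype.ext e)
    have h1 := Nat.card_le_card_of_injective m hm
    rw [Nat.card_prod, hBcard] at h1
    by_contra hlt
    nlinarith
  set U := H ⊓ D.comap π with hU
  have hUc : Nat.card U = 2 * Nat.card D := by
    have hUe : U = D.comap π := inf_eq_right.2 fun g hg => by
      obtain ⟨h, hh, he⟩ := (mem_inf.1 hg).1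
      have hz : h⁻¹ * g ∈ Z := QuotientGroup.eq.1 he
      rw [show g = h * (h⁻¹ * g) by group]
      exact mul_mem hh (hZH hz)
    rw [hUe, Cfsg.Lib.SolvStruct.Order320.card_comap_mk_aux Z D, hZc]
  have hCU : H ⊓ centralizer ({T} : Set G) ≤ U := fun g hg => by
    obtain ⟨hgH, hgT⟩ := mem_inf.1 hg
    refine mem_inf.2 ⟨hgH, mem_inf.2 ⟨mem_map_of_mem π hgH, mem_centralizer_singleton_iff.2 ?_⟩⟩
    rw [hτ, ← map_mul, mem_centralizer_singleton_iff.1 hgT, map_mul]
  have h4 : Nat.card ↥(H ⊓ centralizer ({T} : Set G) : Subgroup G) = 4 := by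
    have h1 := Nat.le_of_dvd Nat.card_pos (card_dvd_of_le hV)
    have h2 := Nat.le_of_dvd Nat.card_pos (card_dvd_of_le hCU)
    have h3 : Nat.card ↥(H ⊓ centralizer ({T} : Set G) : Subgroup G) ∣ 2 ^ 5 := (card_dvd_of_le inf_le_left).trans (by rw [h32]; norm_num)
    obtain ⟨i, hi, he⟩ := (Nat.dvd_prime_pow Nat.prime_two).1 h3
    by_contra hne
    have h8 : Nat.card ↥(H ⊓ centralizer ({T} : Set G) : Subgroup G) = 8 := by
      rw [hV4, he] at h1
      rw [he, hUc] at h2
      rw [he] at hne ⊢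
      interval_cases i <;> omega
    have hUC : H ⊓ centralizer ({T} : Set G) = U := eq_of_le_of_card_ge hCU (by omega)
    have hD4 : Nat.card D = 4 := by
      have := Nat.le_of_dvd Nat.card_pos (card_dvd_of_le hCU)
      omega
    let φ : B →* D :=
      { toFun := fun b => ⟨(b : G ⧸ Z)⁻¹ * (τ * b * τ⁻¹), mem_inf.2 ⟨mul_mem (inv_mem b.2) (hBn.conj_mem b b.2 τ), by
          refine mem_centralizer_singleton_iff.2 ?_
          have hbi : (b : G ⧸ Z)⁻¹ = b := inv_eq_of_mul_eq_one_right (hBsq b b.2)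
          have hcb := hBab _ b.2 _ (hBn.conj_mem b b.2 τ)
          rw [hbi]
          calc (b : G ⧸ Z) * (τ * b * τ⁻¹) * τ = b * τ * b := by group
            _ = τ * ((τ * b * τ⁻¹) * b) := by rw [hτi, ← mul_assoc, ← mul_assoc τ (τ * (b : G ⧸ Z)), ← mul_assoc τ τ, hτ2, one_mul]
            _ = τ * (b * (τ * b * τ⁻¹)) := by rw [hcb]⟩⟩
        map_one' := Subtype.ext (by simp)
        map_mul' := fun a b => Subtype.ext (by
          show ((a : G ⧸ Z) * b)⁻¹ * (τ * (a * b) * τ⁻¹) = ((a : G ⧸ Z)⁻¹ * (τ * a * τ⁻¹)) * ((b : G ⧸ Z)⁻¹ * (τ * b * τ⁻¹))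
          have hc := hBab _ (mul_mem (inv_mem a.2) (hBn.conj_mem a a.2 τ)) _ (inv_mem b.2)
          rw [← mul_assoc ((a : G ⧸ Z)⁻¹ * (τ * a * τ⁻¹)), hc]
          group) }
    have hker : Nat.card φ.ker ≤ Nat.card D := Nat.card_le_card_of_injective
      (fun k => ⟨(k.1 : G ⧸ Z), mem_inf.2 ⟨k.1.2, mem_centralizer_singleton_iff.2 (by
        have h' : (k.1 : G ⧸ Z)⁻¹ * (τ * k.1 * τ⁻¹) = 1 := congrArg Subtype.val k.2
        rw [inv_mul_eq_one, eq_mul_inv_iff_mul_eq] at h'
        exact h')⟩⟩)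
      fun a b h => Subtype.ext (Subtype.ext (congrArg Subtype.val h :))
    have hrange : φ.range = ⊤ := by
      refine eq_top_of_le_card _ ?_
      have h1 := φ.ker.card_mul_index
      rw [index_ker, hBcard] at h1
      rw [hD4] at hker ⊢
      nlinarith
    have hsq : ∀ u ∈ U, u * u = 1 := by
      intro u hu
      obtain ⟨⟨b, hbB⟩, hb⟩ := hrange.ge (mem_top ⟨π u, (mem_inf.1 hu).2⟩)
      obtain ⟨h, hh, rfl⟩ := hbB
      set c := h⁻¹ * (T * h * T⁻¹) with hc
      have hcu : π c = π u := by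
        rw [hc, map_mul, map_mul, map_mul, map_inv, map_inv]
        exact congrArg Subtype.val hb
      have hcU : c ∈ U := mem_inf.2 ⟨mul_mem (inv_mem hh) (hHn.conj_mem h hh T), by
        show π c ∈ D
        rw [hcu]; exact (mem_inf.1 hu).2⟩
      have hcT := mem_centralizer_singleton_iff.1 (mem_inf.1 (hUC.ge hcU)).2
      have hc2 : c * c = 1 := by
        have e1 : c = T * c * T := by rw [mul_assoc, hcT, ← mul_assoc, hT2, one_mul]
        have e2 : T * c * T = c⁻¹ := by
          rw [hc, hTi, mul_inv_rev, inv_inv, mul_inv_rev, mul_inv_rev, hTi]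
          calc T * (h⁻¹ * (T * h * T)) * T = T * h⁻¹ * T * h * (T * T) := by group
            _ = T * h⁻¹ * T * h := by rw [hT2, mul_one]
            _ = T * (h⁻¹ * T) * h := by group
        calc c * c = c * (T * c * T) := by rw [← e1]
          _ = 1 := by rw [e2, mul_inv_cancel]
      have hz : c⁻¹ * u ∈ Z := QuotientGroup.eq.1 hcu
      have hcz : (c⁻¹ * u) * c = c * (c⁻¹ * u) := hZcomm _ hz c (mem_inf.1 hcU).1
      calc u * u = c * ((c⁻¹ * u) * c) * (c⁻¹ * u) := by group
        _ = (c * c) * ((c⁻¹ * u) * (c⁻¹ * u)) := by rw [hcz]; group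
        _ = 1 := by rw [hc2, hZsq _ hz, one_mul]
    have hUab : IsMulCommutative U := ⟨⟨fun a b => Subtype.ext (by
      have e : ∀ u ∈ U, u⁻¹ = u := fun u hu => inv_eq_of_mul_eq_one_right (hsq u hu)
      show (a : G) * b = b * a
      rw [← e _ (mul_mem a.2 b.2), mul_inv_rev, e _ a.2, e _ b.2])⟩⟩
    have := hminus U inf_le_left ⟨hUab, fun a ha => by rw [pow_two]; exact hsq a ha⟩
    rw [← hUC, h8] at this
    omega
  refine ⟨h4, ?_⟩
  rw [← eq_of_le_of_card_ge hV (by rw [hV4, h4])]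
  exact hVe

end Cfsg.Lib.SolvStruct.Order320
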