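/-
Subgroups of order four of a Sylow 2-subgroup of A₄ × A₄.
-/
import Mathlib

set_option linter.style.haveILetI false
set_option linter.unusedSectionVars false

namespace Cfsg.Lib.SolvStruct.AltFourSquare

open Subgroup

/-- The alternating group of degree four. -/
abbrev A4 : Type := ↥(alternatingGroup (Fin 4))

set_option maxRecDepth 100000 in
theorem two_or_three : ∀ a : A4, a ^ 2 = 1 ∨ a ^ 3 = 1 := by decide

set_option maxRecDepth 100000 in
theorem card_sq : Fintype.card {a : A4 // a ^ 2 = 1} = 4 := by decide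

set_option maxRecDepth 100000 in
theorem conj_props : ∀ a v : A4, a ^ 3 = 1 → a ≠ 1 → v ^ 2 = 1 → v ≠ 1 →
    (a * v * a⁻¹ ≠ v ∧ a * (a * v * a⁻¹) * a⁻¹ = v * (a * v * a⁻¹)) := by decide

set_option maxRecDepth 100000 in
set_option synthInstance.maxSize 4000 in
set_option synthInstance.maxHeartbeats 400000 in
theorem conj_cover : ∀ b : A4, ∀ v : A4, b ^ 3 = 1 → b ≠ 1 → v ^ 2 = 1 → v ≠ 1 → ∀ w : A4, w ^ 2 = 1 → w ≠ 1 → w ≠ v →
    (b * v * b⁻¹ = w ∨ b⁻¹ * v * b = w) := by decide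

theorem pow_three_of_mem {Q : Subgroup (A4 × A4)} (hQ : IsPGroup 3 Q) {x : A4 × A4} (hx : x ∈ Q) :
    x.1 ^ 3 = 1 ∧ x.2 ^ 3 = 1 := by
  obtain ⟨k, hk⟩ := hQ ⟨x, hx⟩
  have hk' : x ^ 3 ^ k = 1 := congrArg Subtype.val hk
  have key : ∀ a : A4, a ^ 3 ^ k = 1 → a ^ 3 = 1 := by
    intro a ha
    rcases two_or_three a with h | h
    · have h1 : orderOf a ∣ Nat.gcd 2 (3 ^ k) :=
        Nat.dvd_gcd (orderOf_dvd_of_pow_eq_one h) (orderOf_dvd_of_pow_eq_one ha)
      rw [(Nat.Coprime.pow_right k (by norm_num : Nat.Coprime 2 3)).gcd_eq_one, Nat.dvd_one, orderOf_eq_one_iff] at h1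
      rw [h1, one_pow]
    · exact h
  exact ⟨key _ (congrArg Prod.fst hk'), key _ (congrArg Prod.snd hk')⟩

theorem pow_two_of_mem {X : Subgroup (A4 × A4)} (hX : IsPGroup 2 X) {x : A4 × A4} (hx : x ∈ X) :
    x.1 ^ 2 = 1 ∧ x.2 ^ 2 = 1 := by
  obtain ⟨k, hk⟩ := hX ⟨x, hx⟩
  have hk' : x ^ 2 ^ k = 1 := congrArg Subtype.val hk
  have key : ∀ a : A4, a ^ 2 ^ k = 1 → a ^ 2 = 1 := by
    intro a ha
    rcases two_or_three a with h | h
    · exact h
    · have h1 : orderOf a ∣ Nat.gcd 3 (2 ^ k) :=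
        Nat.dvd_gcd (orderOf_dvd_of_pow_eq_one h) (orderOf_dvd_of_pow_eq_one ha)
      rw [(Nat.Coprime.pow_right k (by norm_num : Nat.Coprime 3 2)).gcd_eq_one, Nat.dvd_one, orderOf_eq_one_iff] at h1
      rw [h1, one_pow]
  exact ⟨key _ (congrArg Prod.fst hk'), key _ (congrArg Prod.snd hk')⟩

theorem main (X : Sylow 2 (A4 × A4)) (Q : Sylow 3 (A4 × A4)) (B : Subgroup (A4 × A4))
    (hBX : B ≤ (X : Subgroup _)) (hB4 : Nat.card ↥B = 4) :
    B ⊓ ((X : Subgroup _) ⊓ Subgroup.prod ⊤ ⊥) ≠ ⊥ ∨ B ⊓ ((X : Subgroup _) ⊓ Subgroup.prod ⊥ ⊤) ≠ ⊥ ∨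
      ∃ R : Subgroup (A4 × A4), R ≤ (Q : Subgroup _) ∧ Nat.card ↥R = 3 ∧
        R ≠ (Q : Subgroup _) ⊓ Subgroup.prod ⊤ ⊥ ∧ R ≠ (Q : Subgroup _) ⊓ Subgroup.prod ⊥ ⊤ ∧
        R ≤ Subgroup.normalizer (B : Set _) := by
  classical
  by_cases hB1 : B ⊓ ((X : Subgroup _) ⊓ Subgroup.prod ⊤ ⊥) = ⊥
  swap
  · exact Or.inl hB1
  by_cases hB2 : B ⊓ ((X : Subgroup _) ⊓ Subgroup.prod ⊥ ⊤) = ⊥
  swap
  · exact Or.inr (Or.inl hB2)
  refine Or.inr (Or.inr ?_)
  have hsq : ∀ x ∈ B, x.1 ^ 2 = 1 ∧ x.2 ^ 2 = 1 := fun x hx => pow_two_of_mem X.2 (hBX hx)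
  have hfst : ∀ x ∈ B, x.1 = 1 → x = 1 := fun x hx h => by
    have : x ∈ B ⊓ ((X : Subgroup _) ⊓ Subgroup.prod ⊥ ⊤) := ⟨hx, hBX hx, h, mem_top _⟩
    rwa [hB2, mem_bot] at this
  have hsnd : ∀ x ∈ B, x.2 = 1 → x = 1 := fun x hx h => by
    have : x ∈ B ⊓ ((X : Subgroup _) ⊓ Subgroup.prod ⊤ ⊥) := ⟨hx, hBX hx, mem_top _, h⟩
    rwa [hB1, mem_bot] at this
  -- the first projection is a bijection onto the four-group
  haveI := Fintype.ofFinite B
  let π : B → {a : A4 // a ^ 2 = 1} := fun x => ⟨(x : A4 × A4).1, (hsq x x.2).1⟩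
  have hπ : Function.Bijective π := by
    rw [Fintype.bijective_iff_injective_and_card]
    refine ⟨fun x y e => ?_, by rw [card_sq, ← Nat.card_eq_fintype_card, hB4]⟩
    have h1 := hfst _ (mul_mem x.2 (inv_mem y.2))
      (by rw [Prod.fst_mul, Prod.fst_inv, show (x : A4 × A4).1 = (y : A4 × A4).1 from congrArg Subtype.val e, mul_inv_cancel])
    exact Subtype.ext (mul_inv_eq_one.1 h1)
  -- elements of order three in `Q`
  obtain ⟨a, b, hab, ha, hb, ha1, hb1, hab'⟩ : ∃ a b : A4, (a, b) ∈ (Q : Subgroup (A4 × A4)) ∧ a ^ 3 = 1 ∧ b ^ 3 = 1 ∧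
      a ≠ 1 ∧ b ≠ 1 ∧ (a, b⁻¹) ∈ (Q : Subgroup (A4 × A4)) := by
    set Q₁ := (Q : Subgroup (A4 × A4)).map (MonoidHom.fst A4 A4)
    set Q₂ := (Q : Subgroup (A4 × A4)).map (MonoidHom.snd A4 A4)
    have h12 : Nat.card A4 = 12 := by
      rw [nat_card_alternatingGroup, Nat.card_fin]; decide
    have hle : ∀ H : Subgroup A4, IsPGroup 3 H → Nat.card H ≤ 3 := by
      intro H hH
      obtain ⟨j, hj⟩ := IsPGroup.iff_card.1 hH
      have h1 := H.card_subgroup_dvd_card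
      rw [hj, h12] at h1
      rw [hj]
      rcases j with _ | _ | j
      · norm_num
      · norm_num
      · have := (pow_dvd_pow 3 (show 2 ≤ j + 1 + 1 by omega)).trans h1
        norm_num at this
    have h9 : Nat.card (Q : Subgroup (A4 × A4)) = 9 := by
      rw [Q.card_eq_multiplicity, Nat.card_prod, h12, show (12 : ℕ) * 12 = 3 ^ 2 * 16 by norm_num,
        Nat.factorization_mul (by norm_num) (by norm_num), Nat.Prime.factorization_pow (by norm_num)]
      rw [Finsupp.add_apply, Finsupp.single_eq_same, Nat.factorization_eq_zero_of_not_dvd (by norm_num : ¬ 3 ∣ 16)]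
      norm_num
    have hQle : (Q : Subgroup (A4 × A4)) ≤ Q₁.prod Q₂ := fun x hx => ⟨⟨x, hx, rfl⟩, ⟨x, hx, rfl⟩⟩
    have hQ1 := hle Q₁ (Q.2.map _)
    have hQ2 := hle Q₂ (Q.2.map _)
    have hcp : Nat.card ↥(Q₁.prod Q₂) = Nat.card Q₁ * Nat.card Q₂ := by
      rw [Nat.card_congr (Q₁.prodEquiv Q₂).toEquiv, Nat.card_prod]
    have h9' := (Nat.le_of_dvd Nat.card_pos (card_dvd_of_le hQle))
    rw [h9, hcp] at h9'
    have e1 : Nat.card Q₁ = 3 := by nlinarith
    have e2 : Nat.card Q₂ = 3 := by nlinarith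
    have hQeq : (Q : Subgroup (A4 × A4)) = Q₁.prod Q₂ :=
      eq_of_le_of_card_ge hQle (by rw [hcp, h9, e1, e2])
    haveI : Nontrivial Q₁ := Finite.one_lt_card_iff_nontrivial.1 (by omega)
    haveI : Nontrivial Q₂ := Finite.one_lt_card_iff_nontrivial.1 (by omega)
    obtain ⟨⟨a, ha⟩, ha1⟩ := exists_ne (1 : Q₁)
    obtain ⟨⟨b, hb⟩, hb1⟩ := exists_ne (1 : Q₂)
    have hm : (a, b) ∈ (Q : Subgroup (A4 × A4)) := hQeq ▸ (⟨ha, hb⟩ : (a, b) ∈ Q₁.prod Q₂)
    have hm' : (a, b⁻¹) ∈ (Q : Subgroup (A4 × A4)) := hQeq ▸ (⟨ha, Q₂.inv_mem hb⟩ : (a, b⁻¹) ∈ Q₁.prod Q₂)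
    exact ⟨a, b, hm, (pow_three_of_mem Q.2 hm).1, (pow_three_of_mem Q.2 hm).2, fun e => ha1 (Subtype.ext e),
      fun e => hb1 (Subtype.ext e), hm'⟩
  -- two elements of `B`
  haveI : Nontrivial B := Finite.one_lt_card_iff_nontrivial.1 (by omega)
  obtain ⟨⟨⟨v, w⟩, hvw⟩, hne⟩ := exists_ne (1 : B)
  have hv1 : v ≠ 1 := fun e => hne (Subtype.ext (hfst _ hvw e))
  have hw1 : w ≠ 1 := fun e => hne (Subtype.ext (hsnd _ hvw e))
  obtain ⟨hva, hva2⟩ := conj_props a v ha ha1 (hsq _ hvw).1 hv1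
  obtain ⟨⟨⟨v', w'⟩, hvw'⟩, he⟩ := hπ.2 ⟨a * v * a⁻¹, by rw [conj_pow, (hsq _ hvw).1, mul_one, mul_inv_cancel]⟩
  have hv' : v' = a * v * a⁻¹ := congrArg Subtype.val he
  have hv'1 : v' ≠ 1 := by rw [hv']; exact fun e => hv1 (conj_eq_one_iff.1 e)
  have hw'1 : w' ≠ 1 := fun e => hv'1 (congrArg Prod.fst (hsnd _ hvw' e))
  have hww : w' ≠ w := by
    intro e
    refine hva ?_
    have h1 := hsnd _ (mul_mem hvw' (inv_mem hvw)) (by simp [e])
    have h2 : v' * v⁻¹ = 1 := congrArg Prod.fst h1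
    rw [← hv', mul_inv_eq_one.1 h2]
  obtain ⟨b', hb', hb3, hb'1, hbw⟩ : ∃ b' : A4, (a, b') ∈ (Q : Subgroup (A4 × A4)) ∧ b' ^ 3 = 1 ∧ b' ≠ 1 ∧ b' * w * b'⁻¹ = w' := by
    rcases conj_cover b w hb hb1 (hsq _ hvw).2 hw1 w' (hsq _ hvw').2 hw'1 hww with h | h
    · exact ⟨b, hab, hb, hb1, h⟩
    · exact ⟨b⁻¹, hab', by rw [inv_pow, hb, inv_one], inv_ne_one.2 hb1, by rw [inv_inv]; exact h⟩
  set r : A4 × A4 := (a, b') with hr
  have hr3 : orderOf r = 3 := by
    refine orderOf_eq_prime (Prod.ext ha hb3) fun e => ha1 (congrArg Prod.fst e)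
  refine ⟨zpowers r, zpowers_le.2 hb', by rw [Nat.card_zpowers, hr3], ?_, ?_, zpowers_le.2 ?_⟩
  · intro e
    exact hb'1 (e.le (mem_zpowers r)).2.2
  · intro e
    exact ha1 (e.le (mem_zpowers r)).2.1
  · -- `B` is generated by the two elements
    have hBgen : B = closure {((v, w) : A4 × A4), (v', w')} := by
      refine le_antisymm (fun x hx => ?_) ((closure_le _).2 (Set.insert_subset hvw (Set.singleton_subset_iff.2 hvw')))
      have m1 : ((v, w) : A4 × A4) ∈ closure {((v, w) : A4 × A4), (v', w')} := subset_closure (Set.mem_insert _ _)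
      have m2 : ((v', w') : A4 × A4) ∈ closure {((v, w) : A4 × A4), (v', w')} := subset_closure (Set.mem_insert_of_mem _ rfl)
      haveI := Fintype.ofFinite B
      have hs : ({1, ⟨(v, w), hvw⟩, ⟨(v', w'), hvw'⟩, ⟨(v, w) * (v', w'), mul_mem hvw hvw'⟩} : Finset B) = Finset.univ := by
        refine Finset.eq_univ_of_card _ ?_
        rw [← Nat.card_eq_fintype_card, hB4]
        have n1 : v * v' ≠ 1 := fun e => hva (by
          rw [← hv', eq_inv_of_mul_eq_one_right e]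
          exact inv_eq_of_mul_eq_one_right (by rw [← pow_two]; exact (hsq _ hvw).1))
        have n2 : v ≠ v' := fun e => hva (by rw [← hv', e])
        rw [Finset.card_insert_of_notMem, Finset.card_insert_of_notMem, Finset.card_insert_of_notMem, Finset.card_singleton]
        · simp [hv'1, hv1, n2]
        · simp [hv'1, hv1, n2]
        · simp only [Finset.mem_insert, Finset.mem_singleton, not_or]
          exact ⟨fun e => hv1 (congrArg (fun z : B => (z : A4 × A4).1) e).symm,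
            fun e => hv'1 (congrArg (fun z : B => (z : A4 × A4).1) e).symm,
            fun e => n1 (congrArg (fun z : B => (z : A4 × A4).1) e).symm⟩
      have := (hs ▸ Finset.mem_univ (⟨x, hx⟩ : B) : (⟨x, hx⟩ : B) ∈ _)
      simp only [Finset.mem_insert, Finset.mem_singleton, Subtype.ext_iff, OneMemClass.coe_one] at this
      rcases this with rfl | rfl | rfl | rfl
      · exact one_mem _
      · exact m1
      · exact m2
      · exact mul_mem m1 m2
    have himg : B.map (MulAut.conj r).toMonoidHom ≤ B := by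
      conv_lhs => rw [hBgen, MonoidHom.map_closure]
      refine (closure_le _).2 ?_
      rintro _ ⟨z, (rfl | rfl), rfl⟩
      · have e : (MulAut.conj r).toMonoidHom (v, w) = (v', w') := Prod.ext hv'.symm hbw
        rw [e]; exact hvw'
      · have hb2 : b' * w' * b'⁻¹ = w * w' := by
          rw [← hbw]; exact (conj_props b' w hb3 hb'1 (hsq _ hvw).2 hw1).2
        have e : (MulAut.conj r).toMonoidHom (v', w') = (v, w) * (v', w') := Prod.ext (by rw [hv']; exact hva2) hb2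
        rw [e]; exact mul_mem hvw hvw'
    refine Subgroup.mem_normalizer_iff_map_conj_eq.2 ?_
    exact eq_of_le_of_card_ge himg (le_of_eq (card_map_of_injective (MulAut.conj r).injective).symm)

end Cfsg.Lib.SolvStruct.AltFourSquare
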