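/-
Faithful irreducible modules over the field with two elements for `3² : D₈`.
-/
import Mathlib
import Cfsg.Prelude.Def_Transfer

set_option linter.style.haveILetI false
set_option linter.unusedSectionVars false

namespace Cfsg.Lib.NineDihedral

open Subgroup

variable {S : Type*} [Group S] [Finite S] {M : Type*} [AddCommGroup M] [Module (ZMod 2) M] [Finite M]

theorem add_self (m : M) : m + m = 0 := by
  have h : ((1 : ZMod 2) + 1) • m = 0 := by rw [show (1 : ZMod 2) + 1 = 0 from by decide, zero_smul]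
  rwa [add_smul, one_smul] at h

/-- An additively closed set as a submodule. -/
def toSub (N : Set M) (h0 : (0 : M) ∈ N) (hadd : ∀ x ∈ N, ∀ y ∈ N, x + y ∈ N) : Submodule (ZMod 2) M where
  carrier := N
  zero_mem' := h0
  add_mem' := fun hx hy => hadd _ hx _ hy
  smul_mem' := fun c x hx => by
    rcases (show ∀ c : ZMod 2, c = 0 ∨ c = 1 from by decide) c with rfl | rfl
    · rwa [zero_smul]
    · rwa [one_smul]

variable (ρ : Representation (ZMod 2) S M)

theorem act_mul (x y : S) (m : M) : ρ (x * y) m = ρ x (ρ y m) := by rw [map_mul]; rfl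

theorem act_one (m : M) : ρ 1 m = m := by rw [map_one]; rfl

/-- The configuration: `z` inverts `A`, two non-commuting involutions with `b` fixed by the first. -/
structure Side (A : Subgroup S) (z s s' b : S) : Prop where
  zz : z * z = 1
  ss : s * s = 1
  ss' : s' * s' = 1
  zs : z * s = s * z
  zs' : z * s' = s' * z
  sw : s * s' = s' * (s * z)
  comm : ∀ x ∈ A, ∀ y ∈ A, x * y = y * x
  inv : ∀ x ∈ A, z * x = x⁻¹ * z
  mem : b ∈ A
  fixs : s * b = b * s
  gen : ∀ x ∈ A, ∃ i j : ℕ, x = b ^ i * (s' * b * s') ^ j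
  top : ∀ g : S, g ∈ closure ((A : Set S) ∪ {s, s'})
  cube : b * b * b = 1
  normal : A.Normal

variable {ρ}

theorem side_main {A : Subgroup S} {z s s' b : S} (h : Side A z s s' b)
    (hirr : ∀ N : Submodule (ZMod 2) M, (∀ g : S, ∀ m ∈ N, ρ g m ∈ N) → N = ⊥ ∨ N = ⊤)
    (hCA : ∀ m : M, (∀ x ∈ A, ρ x m = m) → m = 0) {m₀ : M} (hm₀ : m₀ ≠ 0) (hfix : ρ b m₀ = m₀) :
    Nat.card M = 16 ∧ Nat.card {m : M // ρ z m = m ∧ ρ s' m = m} = 2 ∧
      Nat.card {m : M // ρ z m = m ∧ ρ s m = m} ≠ 2 := by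
  obtain ⟨hzz, hss, hss', hzs, hzs', hsw, hcomm, hinv, hbA, hfs, hgen, htop, hcube, hnor⟩ := h
  set b2 := s' * b * s' with hb2
  have hb2A : b2 ∈ A := by
    have h1 := hnor.conj_mem b hbA s'
    rwa [show s'⁻¹ = s' from inv_eq_of_mul_eq_one_right hss'] at h1
  -- the fixed space of `b`
  set C : Set M := {m | ρ b m = m} with hC
  have C0 : (0 : M) ∈ C := map_zero _
  have Cadd : ∀ x ∈ C, ∀ y ∈ C, x + y ∈ C := fun x hx y hy => by
    show ρ b (x + y) = x + y
    rw [map_add, show ρ b x = x from hx, show ρ b y = y from hy]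
  have hbpow : ∀ m ∈ C, ∀ i : ℕ, ρ (b ^ i) m = m := by
    intro m hm i
    induction i with
    | zero => rw [pow_zero, act_one]
    | succ i ih => rw [pow_succ, act_mul, show ρ b m = m from hm, ih]
  have Cinter : ∀ m ∈ C, ρ b2 m = m → m = 0 := fun m hm hm2 => hCA m fun x hx => by
    obtain ⟨i, j, rfl⟩ := hgen x hx
    have hj : ρ (b2 ^ j) m = m := by
      clear hx
      induction j with
      | zero => rw [pow_zero, act_one]
      | succ j ih => rw [pow_succ, act_mul, hm2, ih]
    rw [act_mul, hj, hbpow m hm i]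
  have hzb : z * b = b⁻¹ * z := hinv b hbA
  have hzb2 : z * b2 = b2⁻¹ * z := hinv b2 hb2A
  have hbinv : b⁻¹ = b ^ 2 := inv_eq_of_mul_eq_one_right (by rw [pow_two, ← mul_assoc, hcube])
  have Cz : ∀ m ∈ C, ρ z m ∈ C := fun m hm => by
    show ρ b (ρ z m) = ρ z m
    rw [← act_mul, show b * z = z * b⁻¹ by
      have := hinv b⁻¹ (inv_mem hbA)
      rw [inv_inv] at this
      exact this.symm, act_mul, hbinv, hbpow m hm]
  have Cs : ∀ m ∈ C, ρ s m ∈ C := fun m hm => by
    show ρ b (ρ s m) = ρ s m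
    rw [← act_mul, ← hfs, act_mul, show ρ b m = m from hm]
  have Cb2 : ∀ m ∈ C, ρ b2 m ∈ C := fun m hm => by
    show ρ b (ρ b2 m) = ρ b2 m
    rw [← act_mul, hcomm b hbA b2 hb2A, act_mul, show ρ b m = m from hm]
  have hswap : ∀ m, ρ b2 (ρ s' m) = ρ s' (ρ b m) := fun m => by
    rw [← act_mul, ← act_mul, hb2, mul_assoc, hss', mul_one]
  have hswap' : ∀ m, ρ b (ρ s' m) = ρ s' (ρ b2 m) := fun m => by
    rw [← act_mul, ← act_mul, hb2, ← mul_assoc, ← mul_assoc, hss', one_mul]
  have hds : ∀ m, ρ s' (ρ s' m) = m := fun m => by rw [← act_mul, hss', act_one]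
  have hdsx : ∀ x ∈ C, ∀ y ∈ C, x + ρ s' y = 0 → x = 0 ∧ y = 0 := fun x hx y hy he => by
    have e : x = ρ s' y := by
      rw [← add_zero x, ← add_self (ρ s' y), ← add_assoc, he, zero_add]
    have hx0 : x = 0 := Cinter x hx (by rw [e, hswap, show ρ b y = y from hy])
    refine ⟨hx0, ?_⟩
    rw [← hds y, ← e, hx0, map_zero]
  -- irreducibility of `C` under `b2`, `s`, `z`
  have key : ∀ W : Set M, (0 : M) ∈ W → (∀ x ∈ W, ∀ y ∈ W, x + y ∈ W) → W ⊆ C → (∀ x ∈ W, ρ b2 x ∈ W) →
      (∀ x ∈ W, ρ s x ∈ W) → (∀ x ∈ W, ρ z x ∈ W) → (∃ x ∈ W, x ≠ 0) →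
      C ⊆ W ∧ ∀ m : M, ∃ x ∈ W, ∃ y ∈ W, m = x + ρ s' y := by
    rintro W h0 hadd hWC hWb hWs hWz ⟨x₀, hx₀, hx₀ne⟩
    set N : Set M := {m | ∃ x ∈ W, ∃ y ∈ W, m = x + ρ s' y} with hN
    have hN0 : (0 : M) ∈ N := ⟨0, h0, 0, h0, by rw [map_zero, add_zero]⟩
    have hNadd : ∀ u ∈ N, ∀ v ∈ N, u + v ∈ N := by
      rintro _ ⟨x, hx, y, hy, rfl⟩ _ ⟨x', hx', y', hy', rfl⟩
      exact ⟨x + x', hadd x hx x' hx', y + y', hadd y hy y' hy', by rw [map_add]; abel⟩
    have hWA : ∀ a ∈ A, ∀ x ∈ W, ρ a x ∈ W := by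
      intro a ha x hx
      obtain ⟨i, j, rfl⟩ := hgen a ha
      have hj : ρ (b2 ^ j) x ∈ W := by
        clear ha
        induction j with
        | zero => rwa [pow_zero, act_one]
        | succ j ih => rw [pow_succ', act_mul]; exact hWb _ ih
      rw [act_mul, hbpow _ (hWC hj)]
      exact hj
    let K : Subgroup S :=
      { carrier := {g | ∀ u ∈ N, ρ g u ∈ N}
        one_mem' := fun u hu => by rwa [act_one]
        mul_mem' := fun {a c} ha hc u hu => by rw [act_mul]; exact ha _ (hc u hu)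
        inv_mem' := fun {g} hg u hu => by
          obtain ⟨n, hn, hpow⟩ := (isOfFinOrder_of_finite g).exists_pow_eq_one
          have hi : g⁻¹ = g ^ (n - 1) := by
            rw [inv_eq_iff_mul_eq_one, ← pow_succ', show n - 1 + 1 = n by omega, hpow]
          rw [hi]
          clear hi hpow hn
          induction n - 1 with
          | zero => rwa [pow_zero, act_one]
          | succ k ih => rw [pow_succ', act_mul]; exact hg _ ih }
    have hK : ∀ g, g ∈ K := fun g => by
      refine (closure_le K).2 ?_ (htop g)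
      rintro a (ha | e | e) <;> rintro _ ⟨x, hx, y, hy, rfl⟩
      · refine ⟨ρ a x, hWA a ha x hx, ρ (s' * a * s') y, hWA _ ?_ y hy, ?_⟩
        · have h1 := hnor.conj_mem a ha s'
          rwa [show s'⁻¹ = s' from inv_eq_of_mul_eq_one_right hss'] at h1
        · rw [map_add, ← act_mul, ← act_mul, ← mul_assoc, ← mul_assoc, hss', one_mul]
      · rw [e]; refine ⟨ρ s x, hWs x hx, ρ s (ρ z y), hWs _ (hWz y hy), ?_⟩
        rw [map_add, ← act_mul, hsw, act_mul, act_mul]
      · rw [e]; refine ⟨y, hy, x, hx, ?_⟩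
        rw [map_add, hds, add_comm]
    have hall : ∀ m : M, m ∈ N := by
      rcases hirr (toSub N hN0 hNadd) (fun g m hm => hK g m hm) with hb | ht
      · exfalso
        refine hx₀ne ((Submodule.mem_bot (ZMod 2)).1 ?_)
        rw [← hb]
        exact ⟨x₀, hx₀, 0, h0, by rw [map_zero, add_zero]⟩
      · exact fun m => (ht ▸ Submodule.mem_top : m ∈ toSub N hN0 hNadd)
    refine ⟨fun m hm => ?_, hall⟩
    obtain ⟨x, hx, y, hy, rfl⟩ := hall m
    have hy2 : ρ s' y ∈ C := by
      have := Cadd x (hWC hx) _ hm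
      rwa [← add_assoc, add_self, zero_add] at this
    obtain ⟨-, rfl⟩ := hdsx _ hy2 y (hWC hy) (add_self _)
    rwa [map_zero, add_zero]
  -- `s z` is trivial on `C`
  set u := s * z with hu
  have huu : u * u = 1 := by rw [hu, mul_assoc, ← mul_assoc z, hzs, mul_assoc s z z, hzz, mul_one, hss]
  have hsb2 : s * b2 = b2⁻¹ * s := by
    calc s * b2 = s * s' * b * s' := by rw [hb2]; group
      _ = s' * (s * z) * b * s' := by rw [hsw]
      _ = s' * (s * (z * b)) * s' := by group
      _ = s' * (s * b⁻¹ * z) * s' := by rw [hzb, mul_assoc s b⁻¹ z]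
      _ = s' * (b⁻¹ * (s * z)) * s' := by
          rw [show s * b⁻¹ = b⁻¹ * s from ((show Commute s b from hfs).inv_right).eq, mul_assoc b⁻¹ s z]
      _ = s' * b⁻¹ * s' * (s' * (s * z) * s') := by
          rw [show s' * (b⁻¹ * (s * z)) * s' = s' * b⁻¹ * (s' * s') * (s * z) * s' by rw [hss']; group]
          group
      _ = b2⁻¹ * s := by
          rw [← hsw, mul_assoc s s' s', hss', mul_one, hb2, mul_inv_rev, mul_inv_rev,
            inv_eq_of_mul_eq_one_right hss', ← mul_assoc s' b⁻¹ s']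
  have hub2 : u * b2 = b2 * u := by
    rw [hu, mul_assoc, hzb2, ← mul_assoc, show s * b2⁻¹ = b2 * s by
      rw [mul_inv_eq_iff_eq_mul, mul_assoc, hsb2, mul_inv_cancel_left], mul_assoc]
  have hus : u * s = s * u := by rw [hu, mul_assoc, hzs]
  have huz : u * z = z * u := by rw [hu, ← mul_assoc z, hzs]
  have Cu : ∀ m ∈ C, ρ u m = m := by
    set W : Set M := {m | ρ b m = m ∧ ρ u m = m}
    have huC : ∀ m ∈ C, ρ u m ∈ C := fun m hm => by rw [hu, act_mul]; exact Cs _ (Cz m hm)
    have hsub := key W ⟨map_zero _, map_zero _⟩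
      (fun x hx y hy => ⟨Cadd x hx.1 y hy.1, by rw [map_add, hx.2, hy.2]⟩) (fun x hx => hx.1)
      (fun x hx => ⟨Cb2 x hx.1, by rw [← act_mul, hub2, act_mul, hx.2]⟩)
      (fun x hx => ⟨Cs x hx.1, by rw [← act_mul, hus, act_mul, hx.2]⟩)
      (fun x hx => ⟨Cz x hx.1, by rw [← act_mul, huz, act_mul, hx.2]⟩) ?_
    · exact fun m hm => (hsub.1 hm).2
    by_cases he : ρ u m₀ = m₀
    · exact ⟨m₀, ⟨hfix, he⟩, hm₀⟩
    · refine ⟨m₀ + ρ u m₀, ⟨Cadd _ hfix _ (huC _ hfix), ?_⟩, fun e => he ?_⟩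
      · rw [map_add, ← act_mul, huu, act_one, add_comm]
      · rw [← add_zero (ρ u m₀), ← add_self m₀, ← add_assoc, add_comm (ρ u m₀), e, zero_add]
  have hzs_eq : ∀ m ∈ C, ρ z m = ρ s m := fun m hm => by
    rw [show z = s * u by rw [hu, ← mul_assoc, hss, one_mul], act_mul, Cu m hm]
  obtain ⟨w, hw, hw0, hsw0⟩ : ∃ w ∈ C, w ≠ 0 ∧ ρ s w = w := by
    by_cases he : ρ s m₀ = m₀
    · exact ⟨m₀, hfix, hm₀, he⟩
    · refine ⟨m₀ + ρ s m₀, Cadd _ hfix _ (Cs _ hfix), fun e => he ?_, ?_⟩
      · rw [← add_zero (ρ s m₀), ← add_self m₀, ← add_assoc, add_comm (ρ s m₀), e, zero_add]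
      · rw [map_add, ← act_mul, hss, act_one, add_comm]
  set v := ρ b2 w with hv
  have hvC : v ∈ C := Cb2 w hw
  have hv0 : v ≠ 0 := fun e => hw0 (by
    have := congrArg (ρ b2⁻¹) e
    rwa [hv, ← act_mul, inv_mul_cancel, act_one, map_zero] at this)
  have hvw : v ≠ w := fun e => hw0 (Cinter w hw e)
  have hb2cube : b2 * b2 * b2 = 1 := by
    calc b2 * b2 * b2 = s' * (b * (s' * s') * b * (s' * s') * b) * s' := by rw [hb2]; group
      _ = 1 := by rw [hss', mul_one, mul_one, hcube, mul_one, hss']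
  have hbv : ρ b2 v = w + v := by
    have h0 : w + v + ρ b2 v = 0 := by
      refine Cinter _ (Cadd _ (Cadd _ hw _ hvC) _ (Cb2 v hvC)) ?_
      rw [map_add, map_add, hv, ← act_mul, ← act_mul, show b2 * (b2 * b2) = 1 by rw [← mul_assoc, hb2cube],
        act_one]
      abel
    rw [← add_zero (ρ b2 v), ← add_self (w + v), ← add_assoc, add_comm (ρ b2 v), h0, zero_add]
  have hsv : ρ s v = w + v := by
    rw [hv, ← act_mul, hsb2, act_mul, hsw0, show b2⁻¹ = b2 * b2 from inv_eq_of_mul_eq_one_right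
      (by rw [← mul_assoc, hb2cube]), act_mul, ← hv, hbv]
  have hwv0 : w + v ≠ 0 := fun e => hvw (by
    rw [← add_zero v, ← add_self w, ← add_assoc, add_comm v, e, zero_add])
  set W : Set M := {0, w, v, w + v} with hW
  have hWsub : W ⊆ C := by
    rintro x (rfl | rfl | rfl | rfl)
    · exact C0
    · exact hw
    · exact hvC
    · exact Cadd _ hw _ hvC
  have hWs : ∀ x ∈ W, ρ s x ∈ W := by
    rintro x (rfl | rfl | rfl | rfl) <;> simp only [map_add, map_zero, hsw0, hsv]
    · exact Or.inl rfl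
    · exact Or.inr (Or.inl rfl)
    · exact Or.inr (Or.inr (Or.inr rfl))
    · rw [← add_assoc, add_self, zero_add]; exact Or.inr (Or.inr (Or.inl rfl))
  have hWadd : ∀ x ∈ W, ∀ y ∈ W, x + y ∈ W := by
    have e1 : w + (w + v) = v := by rw [← add_assoc, add_self, zero_add]
    have e2 : v + (w + v) = w := by rw [add_comm w, ← add_assoc, add_self, zero_add]
    have e3 : (w + v) + w = v := by rw [add_comm, e1]
    have e4 : (w + v) + v = w := by rw [add_comm, e2]
    have e5 : v + w = w + v := add_comm _ _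
    rintro x (rfl | rfl | rfl | rfl) y (rfl | rfl | rfl | rfl) <;>
      simp only [W, Set.mem_insert_iff, Set.mem_singleton_iff, zero_add, add_zero, add_self, e1, e2, e3, e4, e5, true_or, or_true]
  have hWb : ∀ x ∈ W, ρ b2 x ∈ W := by
    rintro x (rfl | rfl | rfl | rfl) <;> simp only [map_add, map_zero, ← hv, hbv]
    · exact Or.inl rfl
    · exact Or.inr (Or.inr (Or.inl rfl))
    · exact Or.inr (Or.inr (Or.inr rfl))
    · rw [add_comm w v, ← add_assoc, add_self, zero_add]; exact Or.inr (Or.inl rfl)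
  obtain ⟨hCW, hdec⟩ := key W (Or.inl rfl) hWadd hWsub hWb hWs
    (fun x hx => by rw [hzs_eq x (hWsub hx)]; exact hWs x hx) ⟨w, Or.inr (Or.inl rfl), hw0⟩
  have hfixW : ∀ x ∈ W, ρ s x = x → x = 0 ∨ x = w := by
    rintro x (rfl | rfl | rfl | rfl) he
    · exact Or.inl rfl
    · exact Or.inr rfl
    · rw [hsv] at he
      exact absurd (add_eq_right.1 he) hw0
    · rw [map_add, hsw0, hsv, add_right_inj] at he
      exact absurd (add_eq_right.1 he) hw0
  have hcardW : Nat.card W = 4 := by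
    rw [Nat.card_coe_set_eq, hW, Set.ncard_insert_of_notMem, Set.ncard_insert_of_notMem, Set.ncard_pair]
    · exact fun e => hw0 (add_eq_right.1 e.symm)
    · simp only [Set.mem_insert_iff, Set.mem_singleton_iff, not_or]
      exact ⟨fun e => hvw e.symm, fun e => hv0 (add_eq_left.1 e.symm)⟩
    · simp only [Set.mem_insert_iff, Set.mem_singleton_iff, not_or]
      exact ⟨fun e => hw0 e.symm, fun e => hv0 e.symm, fun e => hwv0 e.symm⟩
  have hzx : ∀ x ∈ W, ∀ y ∈ W, ρ z (x + ρ s' y) = ρ s x + ρ s' (ρ s y) := fun x hx y hy => by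
    rw [map_add, hzs_eq x (hWsub hx), ← act_mul, hzs', act_mul, hzs_eq y (hWsub hy)]
  refine ⟨?_, ?_, ?_⟩
  · have e : W × W ≃ M := Equiv.ofBijective (fun p => (p.1 : M) + ρ s' p.2) ⟨?_, fun m => ?_⟩
    · rw [← Nat.card_congr e, Nat.card_prod, hcardW]
    · rintro ⟨⟨x, hx⟩, ⟨y, hy⟩⟩ ⟨⟨x', hx'⟩, ⟨y', hy'⟩⟩ he
      simp only at he
      obtain ⟨h1, h2⟩ := hdsx (x + x') (Cadd _ (hWsub hx) _ (hWsub hx')) (y + y') (Cadd _ (hWsub hy) _ (hWsub hy'))
        (by rw [map_add, add_add_add_comm, he, add_self])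
      have e1 : x = x' := by rw [← add_zero x, ← add_self x', ← add_assoc, h1, zero_add]
      have e2 : y = y' := by rw [← add_zero y, ← add_self y', ← add_assoc, h2, zero_add]
      subst e1 e2; rfl
    · obtain ⟨x, hx, y, hy, rfl⟩ := hdec m
      exact ⟨⟨⟨x, hx⟩, ⟨y, hy⟩⟩, rfl⟩
  · have hset : {m : M | ρ z m = m ∧ ρ s' m = m} = {0, w + ρ s' w} := by
      ext m
      constructor
      · rintro ⟨h1, h2⟩
        obtain ⟨x, hx, y, hy, rfl⟩ := hdec m
        have h3 : y = x := by
          rw [map_add, hds] at h2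
          obtain ⟨h4, -⟩ := hdsx (y + x) (Cadd _ (hWsub hy) _ (hWsub hx)) (x + y) (Cadd _ (hWsub hx) _ (hWsub hy))
            (by rw [map_add, add_add_add_comm, add_comm y, h2, add_self])
          rw [← add_zero y, ← add_self x, ← add_assoc, h4, zero_add]
        subst h3
        rw [hzx _ hx _ hy] at h1
        obtain ⟨h5, -⟩ := hdsx (ρ s y + y) (Cadd _ (Cs _ (hWsub hy)) _ (hWsub hy)) (ρ s y + y)
          (Cadd _ (Cs _ (hWsub hy)) _ (hWsub hy)) (by rw [map_add, add_add_add_comm, h1, add_self])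
        rcases hfixW y hy (by rw [← add_zero (ρ s y), ← add_self y, ← add_assoc, h5, zero_add]) with rfl | rfl
        · left; rw [map_zero, add_zero]
        · right; rfl
      · have hws' : ρ z (w + ρ s' w) = w + ρ s' w := by
          rw [hzx w (Or.inr (Or.inl rfl)) w (Or.inr (Or.inl rfl)), hsw0]
        rintro (rfl | rfl)
        · exact ⟨map_zero _, map_zero _⟩
        · exact ⟨hws', by rw [map_add, hds, add_comm]⟩
    show Nat.card ({m : M | ρ z m = m ∧ ρ s' m = m} : Set M) = 2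
    rw [hset, Nat.card_coe_set_eq, Set.ncard_pair]
    exact fun e => hw0 (hdsx w hw w hw e.symm).1
  · have hmem : ({0, w, ρ s' w} : Set M) ⊆ {m : M | ρ z m = m ∧ ρ s m = m} := by
      have hzw : ρ z w = w := by rw [hzs_eq w hw, hsw0]
      rintro m (rfl | rfl | rfl)
      · exact ⟨map_zero _, map_zero _⟩
      · exact ⟨hzw, hsw0⟩
      · refine ⟨by rw [← act_mul, hzs', act_mul, hzw], ?_⟩
        rw [← act_mul, hsw, act_mul, act_mul, hzw, hsw0]
    have h3 : ({0, w, ρ s' w} : Set M).ncard = 3 := by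
      rw [Set.ncard_insert_of_notMem, Set.ncard_pair]
      · intro e
        exact hw0 (hdsx w hw w hw (by rw [← e, add_self])).1
      · simp only [Set.mem_insert_iff, Set.mem_singleton_iff, not_or]
        refine ⟨fun e => hw0 e.symm, fun e => hw0 ?_⟩
        rw [← hds w, ← e, map_zero]
    have h4 := Set.ncard_le_ncard hmem (Set.toFinite _)
    intro h2
    have h5 : Nat.card ({m : M | ρ z m = m ∧ ρ s m = m} : Set M) = 2 := h2
    rw [Nat.card_coe_set_eq] at h5
    omega

/-- The two dihedral Klein four-groups. -/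
theorem four_groups : ∀ x y : DihedralGroup 4, x * x = 1 → y * y = 1 → (x * y) * (x * y) = 1 →
    ((x = 1 ∨ x = .r 2 ∨ x = .sr 0 ∨ x = .sr 2) ∧ (y = 1 ∨ y = .r 2 ∨ y = .sr 0 ∨ y = .sr 2)) ∨
    ((x = 1 ∨ x = .r 2 ∨ x = .sr 1 ∨ x = .sr 3) ∧ (y = 1 ∨ y = .r 2 ∨ y = .sr 1 ∨ y = .sr 3)) := by
  decide

theorem four_mul : ∀ d a a' : DihedralGroup 4, (d = .sr 0 ∨ d = .sr 1) →
    (a = 1 ∨ a = .r 2 ∨ a = d ∨ a = d * .r 2) → (a' = 1 ∨ a' = .r 2 ∨ a' = d ∨ a' = d * .r 2) →
      (a * a' = 1 ∨ a * a' = .r 2 ∨ a * a' = d ∨ a * a' = d * .r 2) ∧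
      (a⁻¹ = 1 ∨ a⁻¹ = .r 2 ∨ a⁻¹ = d ∨ a⁻¹ = d * .r 2) := by
  decide

theorem words : ∀ x : DihedralGroup 4, x = 1 ∨ x = .sr 0 ∨ x = .sr 1 ∨ x = .sr 0 * .sr 1 ∨
    x = .sr 1 * .sr 0 ∨ x = .sr 0 * .sr 1 * .sr 0 ∨ x = .sr 1 * .sr 0 * .sr 1 ∨
    x = .sr 0 * .sr 1 * .sr 0 * .sr 1 := by
  decide

theorem main (A : Subgroup S) [hAn : A.Normal] (hA : Cfsg.IsElementaryAbelian 3 A) (hA9 : Nat.card A = 9)
    (hAC : centralizer (A : Set S) = A) (X : Subgroup S) (hX : Nonempty (X ≃* DihedralGroup 4)) (hAX : A ⊔ X = ⊤)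
    (hfaith : Function.Injective ρ)
    (hirr : ∀ N : Submodule (ZMod 2) M, (∀ g : S, ∀ m ∈ N, ρ g m ∈ N) → N = ⊥ ∨ N = ⊤) (hM : Nontrivial M) :
    Nat.card M = 16 ∧ ∃! B : Subgroup S, B ≤ X ∧ Nat.card B = 4 ∧ (∀ b ∈ B, b ^ 2 = 1) ∧
      Nat.card {m : M // ∀ b ∈ B, ρ b m = m} = 2 := by
  obtain ⟨e⟩ := hX
  set f : DihedralGroup 4 →* S := X.subtype.comp e.symm.toMonoidHom with hf
  have hfinj : Function.Injective f := X.subtype_injective.comp e.symm.injective
  have hfX : ∀ d, f d ∈ X := fun d => (e.symm d).2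
  have hfsurj : ∀ x ∈ X, ∃ d, f d = x := fun x hx => ⟨e ⟨x, hx⟩, by simp [hf]⟩
  set z := f (.r 2) with hz
  set s := f (.sr 0) with hs
  set t := f (.sr 1) with ht
  have hzz : z * z = 1 := by rw [hz, ← map_mul, ← map_one f]; exact congrArg f (by decide)
  have hss : s * s = 1 := by rw [hs, ← map_mul, ← map_one f]; exact congrArg f (by decide)
  have htt : t * t = 1 := by rw [ht, ← map_mul, ← map_one f]; exact congrArg f (by decide)
  have hzs : z * s = s * z := by rw [hz, hs, ← map_mul, ← map_mul]; exact congrArg f (by decide)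
  have hzt : z * t = t * z := by rw [hz, ht, ← map_mul, ← map_mul]; exact congrArg f (by decide)
  have hst : s * t = t * (s * z) := by rw [hz, hs, ht, ← map_mul, ← map_mul, ← map_mul]; exact congrArg f (by decide)
  have hts : t * s = s * (t * z) := by rw [hz, hs, ht, ← map_mul, ← map_mul, ← map_mul]; exact congrArg f (by decide)
  have hzne : z ≠ 1 := fun h => absurd (hfinj (h.trans (map_one f).symm)) (by decide)
  have hcomm : ∀ x ∈ A, ∀ y ∈ A, x * y = y * x := fun x hx y hy =>
    congrArg Subtype.val (hA.1.is_comm.comm (⟨x, hx⟩ : A) ⟨y, hy⟩)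
  have hcube : ∀ x ∈ A, x * x * x = 1 := fun x hx => by rw [← pow_two, ← pow_succ, hA.2 x hx]
  have hAXbot : ∀ d, f d ∈ A → d = 1 := fun d hd => by
    refine hfinj ?_
    rw [map_one]
    refine orderOf_eq_one_iff.1 (Nat.eq_one_of_dvd_coprimes (show Nat.Coprime 9 8 by norm_num) ?_ ?_)
    · exact hA9 ▸ Subgroup.orderOf_dvd_natCard A hd
    · rw [orderOf_injective f hfinj, show 8 = Nat.card (DihedralGroup 4) by rw [DihedralGroup.nat_card]]
      exact orderOf_dvd_natCard d
  have hcent : ∀ d, (∀ a ∈ A, f d * a = a * f d) → d = 1 := fun d hd =>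
    hAXbot d (hAC ▸ mem_centralizer_iff.2 fun a ha => (hd a ha).symm)
  -- conjugation
  have hinvol : ∀ x : S, x * x = 1 → x⁻¹ = x := fun x hx => inv_eq_of_mul_eq_one_right hx
  have hconjA : ∀ (x : S), x * x = 1 → ∀ a ∈ A, x * a * x ∈ A := fun x hx a ha => by
    have := hAn.conj_mem a ha x
    rwa [hinvol x hx] at this
  -- `z` inverts `A`
  have hzinv : ∀ a ∈ A, z * a = a⁻¹ * z := by
    let A1 : Subgroup S := A ⊓ centralizer {z}
    have hA1 : A1 = ⊥ := by
      by_contra hne
      have hcard : ∀ B : Subgroup S, B ≤ A → B ≠ A → ∀ x ∈ B, x ≠ 1 → ∀ y ∈ B, y ∈ zpowers x := by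
        intro B hBA hne x hx hx1 y hy
        have hd := card_dvd_of_le hBA
        rw [hA9] at hd
        have hBlt : Nat.card B ≠ 9 := fun e => hne (eq_of_le_of_card_ge hBA (by rw [hA9, e]))
        have hox : orderOf x = 3 := by
          haveI : Fact (Nat.Prime 3) := ⟨by norm_num⟩
          exact orderOf_eq_prime (hA.2 x (hBA hx)) hx1
        have h3 : Nat.card B ∣ 3 ^ 2 := hd
        obtain ⟨i, hi, hie⟩ := (Nat.dvd_prime_pow (by norm_num)).1 h3
        have hx3 : 3 ∣ Nat.card B := hox ▸ Subgroup.orderOf_dvd_natCard B hx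
        have hB3 : Nat.card B = 3 := by
          interval_cases i
          · rw [hie] at hx3; norm_num at hx3
          · simpa using hie
          · exact absurd hie (by simpa using hBlt)
        rw [eq_of_le_of_card_ge (zpowers_le.2 hx) (by rw [Nat.card_zpowers, hox, hB3])]
        exact hy
      -- `s` and `t` act commutatively on cyclic invariant subgroups, so `z` centralises them
      have hfix : ∀ B : Subgroup S, B ≤ A → B ≠ A → (∀ x ∈ B, s * x * s ∈ B) → (∀ x ∈ B, t * x * t ∈ B) →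
          ∀ x ∈ B, z * x = x * z := by
        intro B hBA hBne hBs hBt x hx
        rcases eq_or_ne x 1 with rfl | hx1
        · rw [mul_one, one_mul]
        obtain ⟨i, hi⟩ := mem_zpowers_iff.1 (hcard B hBA hBne x hx hx1 _ (hBs x hx))
        obtain ⟨j, hj⟩ := mem_zpowers_iff.1 (hcard B hBA hBne x hx hx1 _ (hBt x hx))
        have cs : ∀ k : ℤ, s * x ^ k * s = x ^ (i * k) := fun k => by
          rw [zpow_mul, hi]
          conv_lhs => enter [2]; rw [← hinvol s hss]
          rw [← conj_zpow, hinvol s hss]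
        have ct : ∀ k : ℤ, t * x ^ k * t = x ^ (j * k) := fun k => by
          rw [zpow_mul, hj]
          conv_lhs => enter [2]; rw [← hinvol t htt]
          rw [← conj_zpow, hinvol t htt]
        have e1 : s * (t * x * t) * s = t * (s * x * s) * t := by rw [← hi, ← hj, cs, ct, mul_comm i j]
        have e2 : z = s * t * s * t := by
          rw [hz, hs, ht, ← map_mul, ← map_mul, ← map_mul]; exact congrArg f (by decide)
        calc z * x = s * t * (s * t * x * t * s) * (s * t) := by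
              rw [e2, show s * t * (s * t * x * t * s) * (s * t) = s * t * s * t * x * t * (s * s) * t by group, hss,
                mul_one, mul_assoc (s * t * s * t * x) t t, htt, mul_one]
          _ = s * t * (t * (s * x * s) * t) * (s * t) := by
              rw [show s * t * x * t * s = s * (t * x * t) * s by group, e1]
          _ = s * (t * t) * s * x * (s * t * s * t) := by group
          _ = x * z := by rw [htt, mul_one, hss, one_mul, e2]
      have hA1s : ∀ u : S, u * u = 1 → z * u = u * z → ∀ x ∈ A1, u * x * u ∈ A1 := fun u hu hzu x hx =>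
        ⟨hconjA u hu x hx.1, mem_centralizer_singleton_iff.2 (by
          calc u * x * u * z = u * x * (z * u) := by rw [hzu, mul_assoc]
            _ = u * (x * z) * u := by group
            _ = u * (z * x) * u := by rw [mem_centralizer_singleton_iff.1 hx.2]
            _ = z * (u * x * u) := by rw [← mul_assoc u z x, ← hzu]; group)⟩
      by_cases hA1A : A1 = A
      · refine absurd (hcent (.r 2) fun a ha => ?_) (by decide)
        exact (mem_centralizer_singleton_iff.1 (hA1A.symm ▸ ha : a ∈ A1).2).symm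
      -- the inverted part
      let A2 : Subgroup S :=
        { carrier := {a | a ∈ A ∧ z * a = a⁻¹ * z}
          one_mem' := ⟨one_mem A, by simp⟩
          mul_mem' := fun {a c} ha hc => ⟨mul_mem ha.1 hc.1, by
            rw [← mul_assoc, ha.2, mul_assoc, hc.2, ← mul_assoc, ← mul_inv_rev, hcomm c hc.1 a ha.1]⟩
          inv_mem' := fun {a} ha => ⟨inv_mem ha.1, by
            rw [inv_inv, mul_inv_eq_iff_eq_mul, mul_assoc, ha.2, ← mul_assoc, mul_inv_cancel, one_mul]⟩ }
      have hA2le : A2 ≤ A := fun a ha => ha.1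
      have hA2ne : A2 ≠ A := fun he => hne (eq_bot_iff.2 fun x hx => by
        have h1 : x ∈ A2 := he.symm ▸ hx.1
        have h2 := h1.2
        rw [← mem_centralizer_singleton_iff.1 hx.2, mul_left_inj] at h2
        have h3 : x * x = 1 := by
          conv_lhs => arg 2; rw [h2]
          exact mul_inv_cancel x
        have h4 := hcube x hx.1
        rwa [h3, one_mul] at h4)
      have hA2s : ∀ u : S, u * u = 1 → z * u = u * z → ∀ x ∈ A2, u * x * u ∈ A2 := fun u hu hzu x hx =>
        ⟨hconjA u hu x hx.1, by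
          rw [mul_inv_rev, mul_inv_rev, hinvol u hu]
          calc z * (u * x * u) = u * (z * x) * u := by rw [← mul_assoc, ← mul_assoc, hzu]; group
            _ = u * (x⁻¹ * z) * u := by rw [hx.2]
            _ = u * x⁻¹ * (z * u) := by group
            _ = u * (x⁻¹ * u) * z := by rw [hzu]; group⟩
      refine absurd (hcent (.r 2) fun a ha => ?_) (by decide)
      -- `a z a⁻¹ z` is inverted, hence fixed
      have haz : a * (z * a * z)⁻¹ ∈ A2 := by
        refine ⟨mul_mem ha (inv_mem (hconjA z hzz a ha)), ?_⟩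
        rw [mul_inv_rev, mul_inv_rev, hinvol z hzz, mul_inv_rev, mul_inv_rev, mul_inv_rev, inv_inv, hinvol z hzz,
          show z * a * z * a⁻¹ * z = (z * a * z) * a⁻¹ * z from rfl,
          hcomm (z * a * z) (hconjA z hzz a ha) a⁻¹ (inv_mem ha)]
        calc z * (a * (z * (a⁻¹ * z))) = z * a * z * a⁻¹ * z := by group
          _ = a⁻¹ * (z * a * z) * z := by rw [← hcomm (z * a * z) (hconjA z hzz a ha) a⁻¹ (inv_mem ha)]
      have h5 := haz.2
      rw [hfix A2 hA2le hA2ne (hA2s s hss hzs) (hA2s t htt hzt) _ haz, mul_left_inj] at h5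
      have h6 : a * (z * a * z)⁻¹ = 1 := by
        have h7 := hcube _ haz.1
        have h8 : a * (z * a * z)⁻¹ * (a * (z * a * z)⁻¹) = 1 := by
          conv_lhs => arg 2; rw [h5]
          exact mul_inv_cancel _
        rwa [h8, one_mul] at h7
      rw [mul_inv_eq_one] at h6
      show z * a = a * z
      conv_rhs => rw [h6]
      rw [mul_assoc _ z z, hzz, mul_one]
    intro a ha
    have h1 : a * (z * a * z) ∈ A1 := by
      refine ⟨mul_mem ha (hconjA z hzz a ha), mem_centralizer_singleton_iff.2 ?_⟩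
      calc a * (z * a * z) * z = a * (z * a) * (z * z) := by group
        _ = z * (z * a * z) * a := by rw [hzz, ← mul_assoc z (z * a) z, ← mul_assoc z z a, hzz]; group
        _ = z * (a * (z * a * z)) := by rw [hcomm a ha _ (hconjA z hzz a ha)]; group
    rw [hA1, mem_bot] at h1
    calc z * a = a⁻¹ * (a * (z * a * z)) * z := by
          rw [show a⁻¹ * (a * (z * a * z)) * z = z * a * (z * z) by group, hzz, mul_one]
      _ = a⁻¹ * z := by rw [h1, mul_one]
  -- a non-trivial element fixed by an involution outside the centre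
  have hline : ∀ d : DihedralGroup 4, d * d = 1 → d ≠ .r 2 → ∃ b ∈ A, b ≠ 1 ∧ f d * b = b * f d := by
    intro d hd hdz
    have hdd : f d * f d = 1 := by rw [← map_mul, hd, map_one]
    by_contra hh
    push Not at hh
    -- then `f d` inverts `A`, so `f d z` centralises it
    have hinvd : ∀ a ∈ A, f d * a * f d = a⁻¹ := fun a ha => by
      by_contra hne
      refine hh (a * (f d * a * f d)) (mul_mem ha (hconjA _ hdd a ha)) (fun e => hne (eq_inv_of_mul_eq_one_right e)) ?_
      calc f d * (a * (f d * a * f d)) = f d * a * f d * a * f d := by group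
        _ = a * (f d * a * f d) * f d := by rw [hcomm (f d * a * f d) (hconjA _ hdd a ha) a ha]
    have hdr : d * .r 2 = 1 := hcent _ fun a ha => by
      rw [map_mul, ← hz, mul_assoc, hzinv a ha, ← mul_assoc, ← mul_assoc]
      congr 1
      calc f d * a⁻¹ = f d * (f d * a * f d) := by rw [hinvd a ha]
        _ = a * f d := by rw [← mul_assoc, ← mul_assoc, hdd, one_mul]
    exact hdz ((show ∀ d : DihedralGroup 4, d * .r 2 = 1 → d = .r 2 by decide) d hdr)
  obtain ⟨b, hbA, hb1, hsb⟩ := hline (.sr 0) (by decide) (by decide)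
  set b2 := t * b * t with hb2
  have hb2A : b2 ∈ A := hconjA t htt b hbA
  have hb2' : t * b2 * t = b := by
    rw [hb2, show t * (t * b * t) * t = (t * t) * b * (t * t) by group, htt, one_mul, mul_one]
  have hne2 : b2 ∉ zpowers b := fun hm => by
    obtain ⟨i, hi⟩ := mem_zpowers_iff.1 hm
    -- then `s` and `s z` would both centralise `b2`
    have h1 : s * b2 = b2 * s := hi ▸ ((show Commute s b from hsb).zpow_right i).eq
    have h2 : s * b2 = b2⁻¹ * s := by
      calc s * b2 = s * t * b * t := by rw [hb2]; group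
        _ = t * (s * (z * b)) * t := by rw [hst]; group
        _ = t * (s * b⁻¹ * z) * t := by rw [hzinv b hbA, mul_assoc s b⁻¹ z]
        _ = t * b⁻¹ * (t * t) * (s * z) * t := by
            rw [show s * b⁻¹ = b⁻¹ * s from ((show Commute s b from hsb).inv_right).eq, htt]; group
        _ = b2⁻¹ * (t * (s * z) * t) := by rw [hb2, mul_inv_rev, mul_inv_rev, hinvol t htt]; group
        _ = b2⁻¹ * s := by rw [← hst, mul_assoc s t t, htt, mul_one]
    rw [h1, mul_left_inj] at h2
    have h3 : b2 * b2 = 1 := by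
      conv_lhs => arg 2; rw [h2]
      exact mul_inv_cancel b2
    have h4 := hcube b2 hb2A
    rw [h3, one_mul] at h4
    rw [h4, mul_one, htt] at hb2'
    exact hb1 hb2'.symm
  have hgenA : ∀ x ∈ A, ∃ i j : ℕ, x = b ^ i * b2 ^ j := by
    intro x hx
    haveI : Fact (Nat.Prime 3) := ⟨by norm_num⟩
    have hob : orderOf b = 3 := orderOf_eq_prime (hA.2 b hbA) hb1
    have hne : b2 ≠ 1 := fun h => hne2 (h ▸ one_mem _)
    have hob2 : orderOf b2 = 3 := orderOf_eq_prime (hA.2 b2 hb2A) hne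
    have hn : zpowers b2 ≤ normalizer (zpowers b : Set S) := zpowers_le.2 (centralizer_le_normalizer _ (fun y hy => by
      obtain ⟨k, rfl⟩ := mem_zpowers_iff.1 hy
      exact ((show Commute b b2 from hcomm b hbA b2 hb2A).zpow_left k).eq))
    have hsup : zpowers b ⊔ zpowers b2 = A := by
      refine eq_of_le_of_card_ge (sup_le (zpowers_le.2 hbA) (zpowers_le.2 hb2A)) ?_
      have hlt : zpowers b < zpowers b ⊔ zpowers b2 :=
        lt_of_le_of_ne le_sup_left fun e => hne2 (e.symm ▸ mem_sup_right (mem_zpowers b2))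
      have hd : Nat.card ↥(zpowers b ⊔ zpowers b2) ∣ 3 ^ 2 :=
        (card_dvd_of_le (sup_le (zpowers_le.2 hbA) (zpowers_le.2 hb2A))).trans (by rw [hA9]; norm_num)
      obtain ⟨i, hi, hie⟩ := (Nat.dvd_prime_pow (by norm_num)).1 hd
      interval_cases i
      · have := card_dvd_of_le hlt.le
        rw [hie, Nat.card_zpowers, hob] at this
        norm_num at this
      · exact absurd (eq_of_le_of_card_ge hlt.le (by rw [hie, Nat.card_zpowers, hob]; norm_num)) hlt.ne
      · rw [hie, hA9]; norm_num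
    rw [← hsup, ← SetLike.mem_coe, coe_mul_of_right_le_normalizer_left _ _ hn] at hx
    obtain ⟨u, hu, v, hv, rfl⟩ := hx
    obtain ⟨i, rfl⟩ := (Submonoid.mem_powers_iff _ _).1 ((isOfFinOrder_of_finite b).mem_powers_iff_mem_zpowers.2 hu)
    obtain ⟨j, rfl⟩ := (Submonoid.mem_powers_iff _ _).1 ((isOfFinOrder_of_finite b2).mem_powers_iff_mem_zpowers.2 hv)
    exact ⟨i, j, rfl⟩
  have htop : ∀ g : S, g ∈ closure ((A : Set S) ∪ {s, t}) := fun g => by
    have hg : g ∈ A ⊔ X := hAX ▸ mem_top g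
    refine (sup_le (fun a ha => subset_closure (Or.inl ha)) (fun x hx => ?_) :
      A ⊔ X ≤ closure ((A : Set S) ∪ {s, t})) hg
    obtain ⟨d, rfl⟩ := hfsurj x hx
    have hs' : s ∈ closure ((A : Set S) ∪ {s, t}) := subset_closure (Or.inr (Or.inl rfl))
    have ht' : t ∈ closure ((A : Set S) ∪ {s, t}) := subset_closure (Or.inr (Or.inr rfl))
    rcases words d with rfl | rfl | rfl | rfl | rfl | rfl | rfl | rfl <;> simp only [map_mul, map_one, ← hs, ← ht]
    · exact one_mem _
    · exact hs'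
    · exact ht'
    · exact mul_mem hs' ht'
    · exact mul_mem ht' hs'
    · exact mul_mem (mul_mem hs' ht') hs'
    · exact mul_mem (mul_mem ht' hs') ht'
    · exact mul_mem (mul_mem (mul_mem hs' ht') hs') ht'
  have htop' : ∀ g : S, g ∈ closure ((A : Set S) ∪ {t, s}) := by rw [Set.pair_comm]; exact htop
  have side1 : Side A z s t b := ⟨hzz, hss, htt, hzs, hzt, hst, hcomm, hzinv, hbA, hsb, hgenA, htop,
    hcube b hbA, hAn⟩
  set c := b * b2 with hc
  have hcA : c ∈ A := mul_mem hbA hb2A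
  have htc : t * c = c * t := by
    have hht : ∀ x : S, t * (t * x) = x := fun x => by rw [← mul_assoc, htt, one_mul]
    have e1 : t * (b * b2) = (t * b * t) * (t * b2 * t) * t := by simp only [mul_assoc, hht, htt, mul_one]
    rw [hc, e1, hb2']
    show b2 * b * t = b * b2 * t
    rw [hcomm b hbA b2 hb2A]
  have hsc : s * c * s = b * b2 * b2 := by
    have h2 : s * b2 * s = b2 * b2 := by
      have h1 : s * b2 * s = t * (z * (s * b * s) * z) * t := by
        rw [hb2]
        calc s * (t * b * t) * s = (s * t) * b * (t * s) := by group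
          _ = t * (s * z) * b * (s * (t * z)) := by rw [hst, hts]
          _ = t * (z * s) * b * s * (z * t) := by rw [hzs, hzt]; group
          _ = t * (z * (s * b * s) * z) * t := by group
      rw [h1, hsb, mul_assoc b s s, hss, mul_one, hzinv b hbA, mul_assoc b⁻¹ z z, hzz, mul_one,
        inv_eq_of_mul_eq_one_right (show b * (b * b) = 1 by rw [← mul_assoc, hcube b hbA]), hb2,
        show t * b * t * (t * b * t) = t * b * (t * t) * b * t by group, htt, mul_one]
      group
    calc s * c * s = s * b * (s * s) * b2 * s := by rw [hss, hc]; group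
      _ = (s * b * s) * (s * b2 * s) := by group
      _ = b * b2 * b2 := by rw [hsb, mul_assoc b s s, hss, mul_one, h2]; exact (mul_assoc b b2 b2).symm
  have hgenc : ∀ x ∈ A, ∃ i j : ℕ, x = c ^ i * (s * c * s) ^ j := by
    intro x hx
    obtain ⟨i, j, rfl⟩ := hgenA x hx
    refine ⟨2 * i + 2 * j, 2 * i + j, ?_⟩
    have cb : Commute b b2 := hcomm b hbA b2 hb2A
    have hp : ∀ {y : S}, y * y * y = 1 → ∀ n : ℕ, y ^ n = y ^ (n % 3) := fun {y} hy n => by
      conv_lhs => rw [← Nat.mod_add_div n 3, pow_add, pow_mul, pow_succ, pow_two, hy, one_pow, mul_one]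
    rw [hsc, hc, cb.mul_pow, mul_assoc b b2 b2, ← pow_two, (cb.pow_right 2).mul_pow, ← pow_mul,
      show b ^ (2 * i + 2 * j) * b2 ^ (2 * i + 2 * j) * (b ^ (2 * i + j) * b2 ^ (2 * (2 * i + j))) =
        b ^ (2 * i + 2 * j) * (b2 ^ (2 * i + 2 * j) * b ^ (2 * i + j)) * b2 ^ (2 * (2 * i + j)) by group,
      (cb.pow_pow _ _).symm.eq, ← mul_assoc (b ^ (2 * i + 2 * j)), ← pow_add, mul_assoc, ← pow_add,
      hp (hcube b hbA) (2 * i + 2 * j + (2 * i + j)), hp (hcube b2 hb2A) (2 * i + 2 * j + 2 * (2 * i + j)),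
      show (2 * i + 2 * j + (2 * i + j)) % 3 = i % 3 by omega,
      show (2 * i + 2 * j + 2 * (2 * i + j)) % 3 = j % 3 by omega, ← hp (hcube b hbA) i, ← hp (hcube b2 hb2A) j]
  have side2 : Side A z t s c := ⟨hzz, htt, hss, hzt, hzs, hts, hcomm, hzinv, hcA, htc, hgenc, htop',
    hcube c hcA, hAn⟩
  have hCA : ∀ m : M, (∀ x ∈ A, ρ x m = m) → m = 0 := by
    intro m hm
    let N : Submodule (ZMod 2) M := toSub {m | ∀ x ∈ A, ρ x m = m} (fun x _ => map_zero _)
      (fun u hu v hv x hx => by rw [map_add, hu x hx, hv x hx])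
    rcases hirr N (fun g v hv x hx => by
      have h1 := hv (g⁻¹ * x * g) (by simpa using hAn.conj_mem x hx g⁻¹)
      rw [← act_mul, show x * g = g * (g⁻¹ * x * g) by group, act_mul, h1]) with hN | hN
    · exact (Submodule.mem_bot (ZMod 2)).1 (hN ▸ hm : m ∈ (⊥ : Submodule (ZMod 2) M))
    · exfalso
      refine hb1 (hfaith (LinearMap.ext fun v => ?_))
      rw [act_one]
      exact (hN ▸ Submodule.mem_top : v ∈ N) b hbA
  -- a non-zero vector fixed by some element
  have hex : (∃ m : M, m ≠ 0 ∧ ρ b m = m) ∨ ∃ m : M, m ≠ 0 ∧ ρ c m = m := by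
    by_contra hh
    push Not at hh
    obtain ⟨h1, h3⟩ := hh
    have h2 : ∀ m : M, m ≠ 0 → ρ b2 m ≠ m := fun m hm he => by
      refine h1 (ρ t m) (fun e => hm ?_) ?_
      · have := congrArg (ρ t) e
        rwa [← act_mul, htt, act_one, map_zero] at this
      · rw [← act_mul, ← hb2', mul_assoc _ t t, htt, mul_one, act_mul, he]
    have h4 : ∀ m : M, m ≠ 0 → ρ (b * b2 * b2) m ≠ m := fun m hm he => by
      refine h3 (ρ s m) (fun e => hm ?_) ?_
      · have := congrArg (ρ s) e
        rwa [← act_mul, hss, act_one, map_zero] at this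
      · rw [← act_mul, show c * s = s * (s * c * s) by rw [← mul_assoc, ← mul_assoc, hss, one_mul], hsc, act_mul, he]
    have hP : ∀ {y : S}, y * y * y = 1 → (∀ m : M, m ≠ 0 → ρ y m ≠ m) → ∀ m : M, ρ (y * y) m = m + ρ y m := by
      intro y hy hyn m
      have h0 : m + ρ y m + ρ (y * y) m = 0 := by
        by_contra hne
        refine hyn _ hne ?_
        rw [map_add, map_add, ← act_mul, ← act_mul, ← mul_assoc, hy, act_one]
        abel
      rw [← add_zero (ρ (y * y) m), ← add_self (m + ρ y m), ← add_assoc, add_comm (ρ (y * y) m), h0, zero_add]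
    obtain ⟨m, hm⟩ := exists_ne (0 : M)
    set w := ρ b2 m + ρ b m
    have hinvb2 : ∀ v, ρ b (ρ b2 v) = ρ (b * b2) v := fun v => (act_mul ρ b b2 v).symm
    by_cases hw : w = 0
    · -- `b` and `b2` agree on `m`
      have he : ρ b2 m = ρ b m := by
        rw [← add_zero (ρ b2 m), ← add_self (ρ b m), ← add_assoc, show ρ b2 m + ρ b m = 0 from hw, zero_add]
      refine h4 (ρ b2 m) ?_ ?_
      · intro e
        have := congrArg (ρ b2⁻¹) e
        rw [← act_mul, inv_mul_cancel, act_one, map_zero] at this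
        exact hm this
      · rw [← act_mul, show b * b2 * b2 * b2 = b by rw [mul_assoc, mul_assoc, ← mul_assoc b2, hcube b2 hb2A, mul_one],
          ← he]
    · refine h3 w hw ?_
      rw [map_add, ← act_mul, ← act_mul, hc, mul_assoc b b2 b2,
        show b * b2 * b = b * b * b2 by rw [mul_assoc, ← hcomm b hbA b2 hb2A, mul_assoc],
        act_mul ρ b (b2 * b2), hP (hcube b2 hb2A) h2, map_add, act_mul ρ (b * b) b2, hP (hcube b hbA) h1]
      show ρ b m + ρ b (ρ b2 m) + (ρ b2 m + ρ b (ρ b2 m)) = ρ b2 m + ρ b m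
      rw [add_add_add_comm, add_self, add_zero, add_comm]
  -- the four-groups
  let V : DihedralGroup 4 → Subgroup S := fun d => closure {z, f d}
  have hVX : ∀ d, V d ≤ X := fun d => (closure_le X).2 (by rintro x (rfl | rfl) <;> exact hfX _)
  have hVmem : ∀ d, d = .sr 0 ∨ d = .sr 1 → ∀ x, x ∈ V d ↔ x = 1 ∨ x = z ∨ x = f d ∨ x = f (d * .r 2) := by
    intro d hd x
    constructor
    · intro hx
      have : ∃ a : DihedralGroup 4, (a = 1 ∨ a = .r 2 ∨ a = d ∨ a = d * .r 2) ∧ f a = x := by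
        induction hx using closure_induction with
        | mem y hy =>
          rcases hy with rfl | rfl
          · exact ⟨.r 2, Or.inr (Or.inl rfl), rfl⟩
          · exact ⟨d, Or.inr (Or.inr (Or.inl rfl)), rfl⟩
        | one => exact ⟨1, Or.inl rfl, map_one f⟩
        | mul y y' _ _ hy hy' =>
          obtain ⟨a, ha, rfl⟩ := hy
          obtain ⟨a', ha', rfl⟩ := hy'
          exact ⟨a * a', (four_mul d a a' hd ha ha').1, map_mul f a a'⟩
        | inv y _ hy =>
          obtain ⟨a, ha, rfl⟩ := hy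
          exact ⟨a⁻¹, (four_mul d a a hd ha ha).2, map_inv f a⟩
      obtain ⟨a, ha, rfl⟩ := this
      rcases ha with rfl | rfl | rfl | rfl
      · exact Or.inl (map_one f)
      · exact Or.inr (Or.inl rfl)
      · exact Or.inr (Or.inr (Or.inl rfl))
      · exact Or.inr (Or.inr (Or.inr rfl))
    · rintro (rfl | rfl | rfl | rfl)
      · exact one_mem _
      · exact subset_closure (Set.mem_insert _ _)
      · exact subset_closure (Set.mem_insert_of_mem _ rfl)
      · rw [map_mul]
        exact mul_mem (subset_closure (Set.mem_insert_of_mem _ rfl)) (subset_closure (Set.mem_insert _ _))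
  have hVcard : ∀ d, d = .sr 0 ∨ d = .sr 1 → Nat.card (V d) = 4 ∧ ∀ x ∈ V d, x ^ 2 = 1 := by
    intro d hd
    have hset : (V d : Set S) = {f 1, f (.r 2), f d, f (d * .r 2)} := by
      ext x
      rw [SetLike.mem_coe, hVmem d hd x, map_one]
      simp [hz]
    refine ⟨?_, fun x hx => ?_⟩
    · rw [← SetLike.coe_sort_coe, hset, show ({f 1, f (.r 2), f d, f (d * .r 2)} : Set S) =
        f '' ({1, .r 2, d, d * .r 2} : Set (DihedralGroup 4)) by simp [Set.image_insert_eq],
        Nat.card_image_of_injective hfinj, Nat.card_eq_fintype_card]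
      rcases hd with rfl | rfl <;> decide
    · rcases (hVmem d hd x).1 hx with rfl | rfl | rfl | rfl
      · exact one_pow 2
      · rw [pow_two, hzz]
      all_goals rw [pow_two, ← map_mul, ← map_one f]; refine congrArg f ?_; rcases hd with rfl | rfl <;> decide
  have hVfix : ∀ d, Nat.card {m : M // ∀ x ∈ V d, ρ x m = m} = Nat.card {m : M // ρ z m = m ∧ ρ (f d) m = m} := by
    intro d
    refine Nat.card_congr (Equiv.subtypeEquivRight fun m => ⟨fun h => ⟨h z (subset_closure (Set.mem_insert _ _)),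
      h _ (subset_closure (Set.mem_insert_of_mem _ rfl))⟩, fun h x hx => ?_⟩)
    induction hx using closure_induction with
    | mem y hy => rcases hy with rfl | rfl; exacts [h.1, h.2]
    | one => exact act_one ρ m
    | mul y y' _ _ hy hy' => rw [act_mul, hy', hy]
    | inv y _ hy =>
      conv_lhs => rw [← hy, ← act_mul, inv_mul_cancel, act_one]
  have hclass : ∀ B : Subgroup S, B ≤ X → Nat.card B = 4 → (∀ x ∈ B, x ^ 2 = 1) →
      B = V (.sr 0) ∨ B = V (.sr 1) := by
    intro B hBX hB4 hB2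
    have hpre : ∀ x ∈ B, ∃ a, f a = x ∧ a * a = 1 := fun x hx => by
      obtain ⟨a, rfl⟩ := hfsurj x (hBX hx)
      exact ⟨a, rfl, hfinj (by rw [map_mul, map_one, ← pow_two, hB2 _ hx])⟩
    have e02 : (DihedralGroup.sr 0 : DihedralGroup 4) * .r 2 = .sr 2 := by decide
    have e13 : (DihedralGroup.sr 1 : DihedralGroup 4) * .r 2 = .sr 3 := by decide
    have hin0 : ∀ a : DihedralGroup 4, (a = 1 ∨ a = .r 2 ∨ a = .sr 0 ∨ a = .sr 2) → f a ∈ V (.sr 0) := by
      intro a ha
      refine (hVmem _ (Or.inl rfl) _).2 ?_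
      rcases ha with rfl | rfl | rfl | rfl <;> simp [hz, e02]
    have hin1 : ∀ a : DihedralGroup 4, (a = 1 ∨ a = .r 2 ∨ a = .sr 1 ∨ a = .sr 3) → f a ∈ V (.sr 1) := by
      intro a ha
      refine (hVmem _ (Or.inr rfl) _).2 ?_
      rcases ha with rfl | rfl | rfl | rfl <;> simp [hz, e13]
    by_cases hall : ∀ x ∈ B, x ∈ V (.sr 0)
    · left; exact eq_of_le_of_card_ge hall (by rw [(hVcard _ (Or.inl rfl)).1, hB4])
    · right
      push Not at hall
      obtain ⟨x, hx, hxV⟩ := hall
      obtain ⟨a, rfl, ha⟩ := hpre x hx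
      refine eq_of_le_of_card_ge (fun y hy => ?_) (by rw [(hVcard _ (Or.inr rfl)).1, hB4])
      obtain ⟨a', rfl, ha'⟩ := hpre y hy
      have hprod : (a * a') * (a * a') = 1 := hfinj (by
        rw [map_mul, map_one, ← pow_two, map_mul, hB2 _ (mul_mem hx hy)])
      rcases four_groups a a' ha ha' hprod with ⟨h1, -⟩ | ⟨-, h2⟩
      · exact absurd (hin0 a h1) hxV
      · exact hin1 a' h2
  rcases hex with ⟨m₀, hm₀, hfixm⟩ | ⟨m₀, hm₀, hfixm⟩
  · obtain ⟨h16, hgood, hbad⟩ := side_main side1 hirr hCA hm₀ hfixm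
    refine ⟨h16, V (.sr 1), ⟨hVX _, (hVcard _ (Or.inr rfl)).1, (hVcard _ (Or.inr rfl)).2, by rw [hVfix]; exact hgood⟩, ?_⟩
    rintro B ⟨h1, h2, h3, h4⟩
    rcases hclass B h1 h2 h3 with rfl | rfl
    · rw [hVfix] at h4
      exact absurd h4 hbad
    · rfl
  · obtain ⟨h16, hgood, hbad⟩ := side_main side2 hirr hCA hm₀ hfixm
    refine ⟨h16, V (.sr 0), ⟨hVX _, (hVcard _ (Or.inl rfl)).1, (hVcard _ (Or.inl rfl)).2, by rw [hVfix]; exact hgood⟩, ?_⟩
    rintro B ⟨h1, h2, h3, h4⟩
    rcases hclass B h1 h2 h3 with rfl | rfl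
    · rfl
    · rw [hVfix] at h4
      exact absurd h4 hbad

end Cfsg.Lib.NineDihedral
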