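/-
An elementary abelian 2-group acting faithfully on a nilpotent group of odd order is faithful on
a product of commuting invariant subgroups of prime order.
-/
import Cfsg.Agent.Coprime.Sylow
import Cfsg.Agent.Coprime.Generation
import Cfsg.Agent.SolvStruct.NilpotentHall
import Cfsg.Agent.Coprime.Fitting
import Cfsg.Agent.Components.GenFitting
import Cfsg.Prelude.Def_Transfer

set_option linter.style.haveILetI false
set_option linter.unusedSectionVars false

universe u

namespace Cfsg.Lib.SolvStruct.EigenLines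

open Subgroup Cfsg.Lib.Coprime

variable {S : Type u} [Group S] [Finite S] {I F : Subgroup S}

/-- an element of prime order on which all of `I` acts as `±1`, inverted by `t` -/
theorem exists_eigen (hI2 : ∀ s ∈ I, s * s = 1) (hIc : ∀ s ∈ I, ∀ r ∈ I, s * r = r * s)
    (hodd : Odd (Nat.card F)) (hIF : I ≤ normalizer (F : Set S)) {t : S} (ht : t ∈ I)
    (htF : ∃ w ∈ F, t * w * t⁻¹ ≠ w) :
    ∃ a ∈ F, (orderOf a).Prime ∧ t * a * t⁻¹ = a⁻¹ ∧ ∀ s ∈ I, s * a * s⁻¹ = a ∨ s * a * s⁻¹ = a⁻¹ := by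
  obtain ⟨W, ⟨hWF, hWI, w, hw, hne⟩, hmin⟩ := WellFounded.has_min (wellFounded_lt (α := Subgroup S))
    {W | W ≤ F ∧ I ≤ normalizer (W : Set S) ∧ ∃ w ∈ W, t * w * t⁻¹ ≠ w} ⟨F, le_rfl, hIF, htF⟩
  have ht1 : t ≠ 1 := by rintro rfl; exact hne (by simp)
  have hti : t⁻¹ = t := inv_eq_of_mul_eq_one_right (hI2 t ht)
  -- centralisers are invariant
  have hfix : ∀ u ∈ I, (∃ v ∈ W ⊓ centralizer {u}, t * v * t⁻¹ ≠ v) → W ≤ centralizer {u} := by
    intro u hu hv
    have hle : I ≤ normalizer ((W ⊓ centralizer {u} : Subgroup S) : Set S) := by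
      intro i hi
      have key : ∀ i ∈ I, ∀ x ∈ W ⊓ centralizer {u}, i * x * i⁻¹ ∈ W ⊓ centralizer {u} := by
        intro i hi x hx
        obtain ⟨hxW, hxu⟩ := Subgroup.mem_inf.1 hx
        refine Subgroup.mem_inf.2 ⟨(mem_normalizer_iff.1 (hWI hi) x).1 hxW, mem_centralizer_singleton_iff.2 ?_⟩
        rw [mem_centralizer_singleton_iff] at hxu
        calc i * x * i⁻¹ * u = i * x * (i⁻¹ * u) := by group
          _ = i * x * (u * i⁻¹) := by rw [hIc _ (inv_mem hi) u hu]
          _ = i * (x * u) * i⁻¹ := by group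
          _ = i * u * x * i⁻¹ := by rw [hxu]; group
          _ = _ := by rw [hIc i hi u hu]; group
      refine mem_normalizer_of_conj_mem (key i hi) fun x hx => ?_
      simpa using key i⁻¹ (inv_mem hi) x hx
    by_contra hnot
    refine hmin _ ⟨inf_le_left.trans hWF, hle, hv⟩ (lt_of_le_of_ne inf_le_left fun e => hnot (e ▸ inf_le_right))
  have hact : ∀ s ∈ I, W ≤ centralizer {s} ∨ W ≤ centralizer {s * t} := by
    intro s hs
    by_cases hs1 : s = 1
    · subst hs1; exact Or.inl fun x _ => mem_centralizer_singleton_iff.2 (by simp)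
    by_cases hst : s = t
    · subst hst; exact Or.inr fun x _ => mem_centralizer_singleton_iff.2 (by rw [hI2 s hs]; simp)
    by_contra hno
    push Not at hno
    set B := zpowers t ⊔ zpowers s with hB
    have hBI : B ≤ I := sup_le (zpowers_le.2 ht) (zpowers_le.2 hs)
    haveI : IsMulCommutative B := ⟨⟨fun a b => Subtype.ext (hIc a (hBI a.2) b (hBI b.2))⟩⟩
    have hcyc : ¬ IsCyclic B := by
      intro hc
      obtain ⟨g, hg⟩ := hc.exists_generator
      have hg2 : g ^ (2 : ℤ) = 1 := Subtype.ext (by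
        rw [zpow_ofNat, SubmonoidClass.coe_pow, pow_two]; exact hI2 g (hBI g.2))
      have key : ∀ x : B, x = 1 ∨ x = g := by
        intro x
        obtain ⟨i, rfl⟩ := mem_zpowers_iff.1 (hg x)
        rcases Int.even_or_odd i with ⟨k, rfl⟩ | ⟨k, rfl⟩
        · left; rw [← two_mul, zpow_mul, hg2, one_zpow]
        · right; rw [zpow_add, zpow_mul, hg2, one_zpow, one_mul, zpow_one]
      have h1 : (⟨t, mem_sup_left (mem_zpowers t)⟩ : B) = g :=
        (key _).resolve_left fun e => ht1 (congrArg Subtype.val e)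
      have h2 : (⟨s, mem_sup_right (mem_zpowers s)⟩ : B) = g :=
        (key _).resolve_left fun e => hs1 (congrArg Subtype.val e)
      exact hst (congrArg Subtype.val (h2.trans h1.symm))
    have hcop : (Nat.card B).Coprime (Nat.card W) := by
      have hBp : IsPGroup 2 B := fun g => ⟨1, Subtype.ext (by
        show (g : S) ^ (2 ^ 1) = 1
        rw [pow_one, pow_two]; exact hI2 g (hBI g.2))⟩
      haveI : Fact (Nat.Prime 2) := ⟨Nat.prime_two⟩
      obtain ⟨k, hk⟩ := IsPGroup.iff_card.1 hBp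
      rw [hk]
      exact Nat.Coprime.pow_left _ (Nat.coprime_two_left.2 (Odd.of_dvd_nat hodd (Subgroup.card_dvd_of_le hWF)))
    have heq := centralizerJoin_eq hcyc (hBI.trans hWI) hcop
    refine hne (mul_inv_eq_iff_eq_mul.2 ?_)
    have hle : centralizerJoin B W ≤ centralizer {t} := by
      refine iSup₂_le fun u ⟨hu, hu1⟩ => ?_
      have hub : u = t ∨ u = s ∨ u = s * t := by
        obtain ⟨y, hy, z, hz, rfl⟩ := mem_sup_of_le_normalizer' (N := zpowers t) (H := zpowers s)
          (zpowers_le.2 (mem_normalizer_of_conj_mem (fun x hx => by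
            obtain ⟨i, rfl⟩ := mem_zpowers_iff.1 hx
            rw [hIc s hs _ (zpow_mem ht i), mul_inv_cancel_right]; exact zpow_mem (mem_zpowers t) i) fun x hx => by
            obtain ⟨i, rfl⟩ := mem_zpowers_iff.1 hx
            rw [hIc _ (inv_mem hs) _ (zpow_mem ht i), inv_mul_cancel_right]; exact zpow_mem (mem_zpowers t) i)) |>.1 hu
        have cases2 : ∀ a ∈ I, ∀ x ∈ zpowers a, x = 1 ∨ x = a := by
          intro a ha x hx
          obtain ⟨i, rfl⟩ := mem_zpowers_iff.1 hx
          have h2 : a ^ (2 : ℤ) = 1 := by rw [zpow_ofNat, pow_two]; exact hI2 a ha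
          rcases Int.even_or_odd i with ⟨k, rfl⟩ | ⟨k, rfl⟩
          · left; rw [← two_mul, zpow_mul, h2, one_zpow]
          · right; rw [zpow_add, zpow_mul, h2, one_zpow, one_mul, zpow_one]
        rcases cases2 s hs y hy with rfl | rfl <;> rcases cases2 t ht z hz with rfl | rfl
        · exact absurd (mul_one 1) hu1
        · exact Or.inl (one_mul _)
        · exact Or.inr (Or.inl (mul_one _))
        · exact Or.inr (Or.inr rfl)
      rcases hub with rfl | rfl | rfl
      · exact inf_le_right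
      · intro v hv
        by_contra hv'
        exact hno.1 (hfix _ hs ⟨v, hv, fun e => hv' (mem_centralizer_singleton_iff.2 (mul_inv_eq_iff_eq_mul.1 e).symm)⟩)
      · intro v hv
        by_contra hv'
        exact hno.2 (hfix _ (mul_mem hs ht) ⟨v, hv, fun e => hv' (mem_centralizer_singleton_iff.2 (mul_inv_eq_iff_eq_mul.1 e).symm)⟩)
    exact (mem_centralizer_singleton_iff.1 (hle (heq.ge hw))).symm
  -- an inverted element
  set x := w⁻¹ * (t * w * t⁻¹) with hx
  have hxW : x ∈ W := mul_mem (inv_mem hw) ((mem_normalizer_iff.1 (hWI ht) w).1 hw)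
  have hxinv : t * x * t⁻¹ = x⁻¹ := by
    rw [hx, hti]
    calc t * (w⁻¹ * (t * w * t)) * t = t * w⁻¹ * t * w * (t * t) := by group
      _ = t * w⁻¹ * t * w := by rw [hI2 t ht, mul_one]
      _ = t⁻¹ * w⁻¹ * t⁻¹ * w := by rw [hti]
      _ = _ := by group
  have hx1 : x ≠ 1 := fun e => hne (inv_mul_eq_one.1 e).symm
  obtain ⟨q, hq, hqd⟩ := Nat.exists_prime_and_dvd (show orderOf x ≠ 1 by simpa using hx1)
  refine ⟨x ^ (orderOf x / q), pow_mem (hWF hxW) _, ?_, ?_, fun s hs => ?_⟩
  · rw [orderOf_pow_orderOf_div (orderOf_pos x).ne' hqd]; exact hq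
  · rw [← conj_pow, hxinv, inv_pow]
  · rcases hact s hs with h | h
    · left
      have h1 := mem_centralizer_singleton_iff.1 (h (pow_mem hxW (orderOf x / q)))
      rw [← h1, mul_inv_cancel_right]
    · right
      have h1 := mem_centralizer_singleton_iff.1 (h (pow_mem hxW (orderOf x / q)))
      have h2 : (s * t) * x ^ (orderOf x / q) * (s * t)⁻¹ = x ^ (orderOf x / q) := by rw [← h1, mul_inv_cancel_right]
      rw [show (s * t) * x ^ (orderOf x / q) * (s * t)⁻¹ = s * (t * x ^ (orderOf x / q) * t⁻¹) * s⁻¹ by group,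
        ← conj_pow, hxinv, inv_pow] at h2
      rw [← inv_inj, inv_inv]
      refine Eq.trans ?_ h2
      group

/-- faithfulness passes to the centraliser of an element -/
theorem faithful_centralizer [Group.IsNilpotent F] (hodd : Odd (Nat.card F)) (hIF : I ≤ normalizer (F : Set S))
    (hI2 : ∀ s ∈ I, s * s = 1) {a : S} (ha : a ∈ F) (hap : (orderOf a).Prime) {h : S} (hh : h ∈ I)
    (hca : h * a = a * h) (hC : ∀ x ∈ F, x * a = a * x → h * x = x * h) : ∀ x ∈ F, h * x = x * h := by
  haveI := Fact.mk hap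
  set p := orderOf a with hp
  suffices F ≤ centralizer {h} by
    intro x hx
    exact (mem_centralizer_singleton_iff.1 (this hx)).symm
  refine le_of_forall_sylow fun q hq => ?_
  haveI := Fact.mk hq
  obtain ⟨P⟩ := (inferInstance : Nonempty (Sylow q F))
  refine ⟨P, ?_⟩
  by_cases hqp : q = p
  · -- the part containing `a`
    subst hqp
    set U := (P : Subgroup F).map F.subtype with hU
    have hPn : (P : Subgroup F).Normal := by
      have h03 := (Group.isNilpotent_of_finite_tfae (G := F)).out 0 3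
      exact h03.1 inferInstance p ⟨hap⟩ P
    haveI := hPn
    have hall : ∀ L : Subgroup S, L ≤ F → IsPGroup p L → L ≤ U := by
      intro L hLF hL
      have h1 : L.subgroupOf F ≤ (P : Subgroup F) := by
        obtain ⟨R, hR⟩ := (hL.comap_subtype (K := F)).exists_le_sylow
        haveI := Sylow.unique_of_normal P hPn
        rwa [Subsingleton.elim R P] at hR
      intro x hx
      exact ⟨⟨x, hLF hx⟩, h1 hx, rfl⟩
    have haU : zpowers a ≤ U := hall _ (zpowers_le.2 ha) (IsPGroup.of_card (n := 1) (by rw [Nat.card_zpowers, pow_one]))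
    have hhn : h ∈ normalizer (U : Set S) := by
      refine Subgroup.mem_normalizer_iff_map_conj_eq.2 (eq_of_le_of_card_ge ?_
        (card_map_of_injective (MulAut.conj h).injective).ge)
      refine hall _ ?_ ((P.2.map _).map _)
      rintro _ ⟨x, hx, rfl⟩
      exact (mem_normalizer_iff.1 (hIF hh) x).1 (map_subtype_le _ hx)
    have hmain := pq_lemma (p := p) (P := zpowers a) (Q := zpowers h) (U := U)
      (IsPGroup.of_card (n := 1) (by rw [Nat.card_zpowers, pow_one]))
      (by
        rw [Nat.card_zpowers]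
        refine Nat.Coprime.coprime_dvd_left (orderOf_dvd_of_pow_eq_one (n := 2) (by rw [pow_two]; exact hI2 h hh)) ?_
        exact Nat.coprime_two_left.2 (Odd.of_dvd_nat hodd (by
          rw [hp, show orderOf a = orderOf (⟨a, ha⟩ : F) from (Subgroup.orderOf_mk a ha).symm]
          exact _root_.orderOf_dvd_natCard _)))
      (P.2.map _) (zpowers_le.2 (by
        rw [centralizer_zpowers]; exact mem_centralizer_singleton_iff.2 hca.symm))
      (haU.trans le_normalizer) (zpowers_le.2 hhn)
      (by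
        intro x hx
        obtain ⟨hxU, hxa⟩ := Subgroup.mem_inf.1 hx
        rw [centralizer_zpowers] at hxa ⊢
        exact mem_centralizer_singleton_iff.2 (hC x (map_subtype_le _ hxU) (mem_centralizer_singleton_iff.1 hxa)).symm)
    intro x hx
    exact mem_centralizer_singleton_iff.2 ((hmain (mem_zpowers h)) x hx)
  · rintro _ ⟨x, hx, rfl⟩
    refine mem_centralizer_singleton_iff.2 (hC x x.2 ?_).symm
    obtain ⟨k, hk⟩ := IsPGroup.iff_orderOf.1 P.2 ⟨x, hx⟩
    rw [Subgroup.orderOf_mk] at hk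
    have := commute_of_coprime_of_nilpotent (K := F) (p := q) (q := p) hqp (x := x) (y := ⟨a, ha⟩) ⟨k, hk⟩
      ⟨1, by rw [Subgroup.orderOf_mk, pow_one]⟩
    exact congrArg Subtype.val this.eq

theorem exists_lines (hI2 : ∀ s ∈ I, s * s = 1) (hIc : ∀ s ∈ I, ∀ r ∈ I, s * r = r * s) :
    ∀ (m : ℕ) (J : Subgroup S), J ≤ I → Nat.card J = 2 ^ m → ∀ (F : Subgroup S), Group.IsNilpotent F →
      Odd (Nat.card F) → I ≤ normalizer (F : Set S) → (∀ j ∈ J, (∀ x ∈ F, j * x = x * j) → j = 1) →
      ∃ f : Fin m → Subgroup S, (∀ i, (Nat.card (f i)).Prime) ∧ (∀ i, f i ≤ F) ∧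
        (∀ i, I ≤ normalizer ((f i) : Set S)) ∧ (∀ i j, i ≠ j → ∀ a ∈ f i, ∀ b ∈ f j, a * b = b * a) ∧
        Nat.card ↥(⨆ i, f i) = ∏ i, Nat.card (f i) ∧
        (∀ j ∈ J, (∀ x ∈ (⨆ i, f i : Subgroup S), j * x = x * j) → j = 1) ∧
        (∀ x ∈ (⨆ i, f i : Subgroup S), (∀ j ∈ J, j * x = x * j) → x = 1) := by
  intro m
  induction m with
  | zero =>
    intro J _ hJ F _ _ _ _
    refine ⟨Fin.elim0, fun i => i.elim0, fun i => i.elim0, fun i => i.elim0, fun i => i.elim0, ?_, fun j hj _ => ?_,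
      fun x hx _ => ?_⟩
    · simp [iSup_of_empty]
    · have := eq_bot_of_card_eq J (by rw [hJ, pow_zero])
      rw [this, mem_bot] at hj; exact hj
    · simpa [iSup_of_empty] using hx
  | succ m ih =>
    intro J hJI hJ F hFn hFo hIF hfaith
    obtain ⟨t, htJ, ht1⟩ := (J.bot_or_exists_ne_one).resolve_left fun e => by
      rw [e, card_bot] at hJ
      have := Nat.one_lt_two_pow (n := m + 1) (by omega)
      omega
    have htF : ∃ w ∈ F, t * w * t⁻¹ ≠ w := by
      by_contra! h
      exact ht1 (hfaith t htJ fun x hx => mul_inv_eq_iff_eq_mul.1 (h x hx))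
    obtain ⟨a, haF, hap, hta, hIa⟩ := exists_eigen hI2 hIc hFo hIF (hJI htJ) htF
    have ha1 : a ≠ 1 := fun e => hap.ne_one (by rw [e, orderOf_one])
    have hne : a⁻¹ ≠ a := fun e => by
      have h2 : orderOf a ∣ 2 := orderOf_dvd_of_pow_eq_one (by rw [pow_two]; nth_rewrite 1 [← e]; exact inv_mul_cancel a)
      have h3 : Odd (orderOf a) := Odd.of_dvd_nat hFo (by
        rw [show orderOf a = orderOf (⟨a, haF⟩ : F) from (Subgroup.orderOf_mk a haF).symm]
        exact _root_.orderOf_dvd_natCard _)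
      rw [(Nat.prime_dvd_prime_iff_eq hap Nat.prime_two).1 h2] at h3
      exact absurd h3 (by decide)
    set J₁ := J ⊓ centralizer {a} with hJ₁
    have hidx : (J₁.subgroupOf J).index = 2 := by
      rw [Subgroup.index_eq_two_iff]
      refine ⟨⟨t, htJ⟩, fun b => ?_⟩
      simp only [mem_subgroupOf, hJ₁, Subgroup.mem_inf, mem_centralizer_singleton_iff, SetLike.coe_mem, true_and]
      have e2 : (b : S) * t * a * ((b : S) * t)⁻¹ = b * (t * a * t⁻¹) * (b : S)⁻¹ := by group
      rcases hIa b (hJI b.2) with h | h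
      · refine Or.inr ⟨mul_inv_eq_iff_eq_mul.1 h, fun hbt => hne ?_⟩
        have h4 : (b : S) * t * a * ((b : S) * t)⁻¹ = a := mul_inv_eq_iff_eq_mul.2 hbt
        rw [e2, hta, show (b : S) * a⁻¹ * (b : S)⁻¹ = (b * a * (b : S)⁻¹)⁻¹ by group, h] at h4
        exact h4
      · refine Or.inl ⟨?_, fun hb => hne ?_⟩
        · refine mul_inv_eq_iff_eq_mul.1 ?_
          show (b : S) * t * a * ((b : S) * t)⁻¹ = a
          rw [e2, hta, show (b : S) * a⁻¹ * (b : S)⁻¹ = (b * a * (b : S)⁻¹)⁻¹ by group, h, inv_inv]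
        · rw [← h, mul_inv_eq_iff_eq_mul.2 hb]
    have hJ₁card : Nat.card J₁ = 2 ^ m := by
      have h := (J₁.subgroupOf J).card_mul_index
      rw [hidx, hJ, Nat.card_congr (subgroupOfEquivOfLe (inf_le_left : J₁ ≤ J)).toEquiv, pow_succ] at h
      exact Nat.eq_of_mul_eq_mul_right two_pos h
    set F₁ := F ⊓ centralizer {a} with hF₁
    haveI := hFn
    have hF₁n : Group.IsNilpotent F₁ := Cfsg.Lib.Components.isNilpotent_of_le hFn inf_le_left
    have hIF₁ : I ≤ normalizer (F₁ : Set S) := by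
      intro i hi
      have key : ∀ i ∈ I, ∀ x ∈ F₁, i * x * i⁻¹ ∈ F₁ := by
        intro i hi x hx
        obtain ⟨hxF, hxa⟩ := Subgroup.mem_inf.1 hx
        refine Subgroup.mem_inf.2 ⟨(mem_normalizer_iff.1 (hIF hi) x).1 hxF, mem_centralizer_singleton_iff.2 ?_⟩
        rw [mem_centralizer_singleton_iff] at hxa
        have hc : Commute (i * x * i⁻¹) (i * a * i⁻¹) := by
          show _ = _
          calc i * x * i⁻¹ * (i * a * i⁻¹) = i * (x * a) * i⁻¹ := by group
            _ = _ := by rw [hxa]; group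
        rcases hIa i hi with h | h <;> rw [h] at hc
        · exact hc.eq
        · simpa using hc.inv_right.eq
      refine mem_normalizer_of_conj_mem (key i hi) fun x hx => ?_
      simpa using key i⁻¹ (inv_mem hi) x hx
    have hfaith₁ : ∀ j ∈ J₁, (∀ x ∈ F₁, j * x = x * j) → j = 1 := by
      intro j hj hc
      obtain ⟨hjJ, hja⟩ := Subgroup.mem_inf.1 hj
      exact hfaith j hjJ (faithful_centralizer hFo hIF hI2 haF hap (hJI hjJ) (mem_centralizer_singleton_iff.1 hja)
        fun x hx hxa => hc x ⟨hx, mem_centralizer_singleton_iff.2 hxa⟩)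
    obtain ⟨f, hfp, hfF, hfI, hfc, hfcard, hff, hfx⟩ := ih J₁ (inf_le_left.trans hJI) hJ₁card F₁ hF₁n
      (Odd.of_dvd_nat hFo (Subgroup.card_dvd_of_le inf_le_left)) hIF₁ hfaith₁
    set T := ⨆ i, f i with hT
    have hTF : T ≤ F₁ := iSup_le hfF
    have hTa : ∀ x ∈ T, x * a = a * x := fun x hx => mem_centralizer_singleton_iff.1 (Subgroup.mem_inf.1 (hTF hx)).2
    have hdisj : zpowers a ⊓ T = ⊥ := by
      rw [eq_bot_iff_forall]
      intro x hx
      obtain ⟨hxa, hxT⟩ := Subgroup.mem_inf.1 hx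
      obtain ⟨i, rfl⟩ := mem_zpowers_iff.1 hxa
      exact hfx _ hxT fun j hj =>
        ((show Commute j a from mem_centralizer_singleton_iff.1 (Subgroup.mem_inf.1 hj).2).zpow_right i).eq
    have hsup : (⨆ i, (Fin.cons (zpowers a) f : Fin (m + 1) → Subgroup S) i) = zpowers a ⊔ T :=
      le_antisymm (iSup_le fun i => Fin.cases (by simp) (fun i => by simpa using le_sup_of_le_right (le_iSup f i)) i)
        (sup_le (le_iSup_of_le 0 (by simp)) (iSup_le fun i => le_iSup_of_le i.succ (by simp)))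
    have hTn : T ≤ normalizer (zpowers a : Set S) := fun x hx => mem_normalizer_of_conj_mem
      (fun y hy => by
        obtain ⟨i, rfl⟩ := mem_zpowers_iff.1 hy
        rw [((show Commute x a from hTa x hx).zpow_right i).eq, mul_inv_cancel_right]; exact zpow_mem (mem_zpowers a) i)
      (fun y hy => by
        obtain ⟨i, rfl⟩ := mem_zpowers_iff.1 hy
        rw [(((show Commute x a from hTa x hx).inv_left).zpow_right i).eq, inv_mul_cancel_right]; exact zpow_mem (mem_zpowers a) i)
    refine ⟨Fin.cons (zpowers a) f, fun i => ?_, fun i => ?_, fun i => ?_, ?_, ?_, ?_, ?_⟩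
    · refine Fin.cases ?_ (fun i => ?_) i
      · rw [Fin.cons_zero, Nat.card_zpowers]; exact hap
      · rw [Fin.cons_succ]; exact hfp i
    · refine Fin.cases ?_ (fun i => ?_) i
      · rw [Fin.cons_zero]; exact zpowers_le.2 haF
      · rw [Fin.cons_succ]; exact (hfF i).trans inf_le_left
    · refine Fin.cases ?_ (fun i => ?_) i
      · rw [Fin.cons_zero]
        intro s hs
        have key : ∀ s ∈ I, ∀ x ∈ zpowers a, s * x * s⁻¹ ∈ zpowers a := by
          intro s hs x hx
          obtain ⟨k, rfl⟩ := mem_zpowers_iff.1 hx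
          rw [← conj_zpow]
          rcases hIa s hs with h | h <;> rw [h]
          · exact zpow_mem (mem_zpowers a) k
          · exact zpow_mem (inv_mem (mem_zpowers a)) k
        exact mem_normalizer_of_conj_mem (key s hs) fun x hx => by simpa using key s⁻¹ (inv_mem hs) x hx
      · rw [Fin.cons_succ]; exact hfI i
    · have hmix : ∀ (j : Fin m), ∀ x ∈ zpowers a, ∀ y ∈ f j, x * y = y * x := by
        intro j x hx y hy
        obtain ⟨k, rfl⟩ := mem_zpowers_iff.1 hx
        exact (((show Commute y a from hTa y (le_iSup f j hy)).zpow_right k).symm).eq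
      intro i j
      refine Fin.cases ?_ (fun i => ?_) i <;> refine Fin.cases ?_ (fun j => ?_) j
      · exact fun h => absurd rfl h
      · simp only [Fin.cons_zero, Fin.cons_succ]; exact fun _ x hx y hy => hmix j x hx y hy
      · simp only [Fin.cons_zero, Fin.cons_succ]; exact fun _ x hx y hy => (hmix i y hy x hx).symm
      · simp only [Fin.cons_succ, ne_eq, Fin.succ_inj]; exact hfc i j
    · rw [hsup, Fin.prod_univ_succ]
      simp only [Fin.cons_zero, Fin.cons_succ]
      rw [← hfcard]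
      have := card_sup_mul_card_inf (N := zpowers a) (H := T) hTn
      rw [hdisj, card_bot, mul_one] at this
      exact this
    · rw [hsup]
      intro j hj hc
      refine hff j (Subgroup.mem_inf.2 ⟨hj, mem_centralizer_singleton_iff.2 (hc a (mem_sup_left (mem_zpowers a)))⟩)
        fun x hx => hc x (mem_sup_right hx)
    · rw [hsup]
      intro x hx hc
      obtain ⟨y, hy, z, hz, rfl⟩ := (mem_sup_of_le_normalizer' hTn).1 hx
      obtain ⟨k, rfl⟩ := mem_zpowers_iff.1 hz
      have hy1 : y = 1 := hfx y hy fun j hj => by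
        have hja : Commute j (a ^ k) :=
          (show Commute j a from mem_centralizer_singleton_iff.1 (Subgroup.mem_inf.1 hj).2).zpow_right k
        have h5 := hc j (Subgroup.mem_inf.1 hj).1
        refine mul_right_cancel (b := a ^ k) ?_
        rw [mul_assoc, h5, mul_assoc, mul_assoc, hja.eq]
      subst hy1
      rw [one_mul]
      have h5 := hc t htJ
      rw [one_mul] at h5
      have h6 : (a⁻¹) ^ k = a ^ k := by
        rw [← hta, conj_zpow, h5, mul_inv_cancel_right]
      rw [inv_zpow] at h6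
      have h7 : orderOf (a ^ k) ∣ 2 := orderOf_dvd_of_pow_eq_one (by rw [pow_two]; nth_rewrite 1 [← h6]; exact inv_mul_cancel _)
      have h8 : Odd (orderOf (a ^ k)) := Odd.of_dvd_nat hFo (by
        rw [show orderOf (a ^ k) = orderOf ((⟨a, haF⟩ : F) ^ k) from by rw [← Subgroup.orderOf_coe]; rfl]
        exact _root_.orderOf_dvd_natCard _)
      rcases (Nat.dvd_prime Nat.prime_two).1 h7 with h | h
      · exact orderOf_eq_one_iff.1 h
      · rw [h] at h8; exact absurd h8 (by decide)

theorem main [Group.IsSolvable S] (hF : Odd (Nat.card ↥(Cfsg.fittingSubgroup S)))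
    (I : Subgroup S) (hI : Cfsg.IsElementaryAbelian 2 I) (n : ℕ) (hIn : Nat.card ↥I = 2 ^ n) :
    ∃ f : Fin n → Subgroup S, (∀ i, (Nat.card ↥(f i)).Prime) ∧ (∀ i, f i ≤ Cfsg.fittingSubgroup S) ∧
      (∀ i, I ≤ Subgroup.normalizer ((f i) : Set S)) ∧ (∀ i j, i ≠ j → ∀ a ∈ f i, ∀ b ∈ f j, a * b = b * a) ∧
      Nat.card ↥(⨆ i, f i) = ∏ i, Nat.card ↥(f i) ∧ I ⊓ Subgroup.centralizer ((⨆ i, f i : Subgroup S) : Set S) = ⊥ := by
  obtain ⟨hIc, hI2⟩ := hI
  have hI2' : ∀ s ∈ I, s * s = 1 := fun s hs => by rw [← pow_two]; exact hI2 s hs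
  have hIc' : ∀ s ∈ I, ∀ r ∈ I, s * r = r * s := fun s hs r hr =>
    congrArg Subtype.val (hIc.is_comm.comm (⟨s, hs⟩ : I) ⟨r, hr⟩)
  have hfaith : ∀ j ∈ I, (∀ x ∈ Cfsg.fittingSubgroup S, j * x = x * j) → j = 1 := by
    intro j hj hc
    have h1 : j ∈ Cfsg.fittingSubgroup S :=
      centralizer_fitting_le (mem_centralizer_iff.2 fun x hx => (hc x hx).symm)
    have h2 : orderOf j ∣ 2 := orderOf_dvd_of_pow_eq_one (by rw [pow_two]; exact hI2' j hj)
    have h3 : Odd (orderOf j) := Odd.of_dvd_nat hF (by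
      rw [show orderOf j = orderOf (⟨j, h1⟩ : Cfsg.fittingSubgroup S) from (Subgroup.orderOf_mk j h1).symm]
      exact _root_.orderOf_dvd_natCard _)
    rcases (Nat.dvd_prime Nat.prime_two).1 h2 with h | h
    · exact orderOf_eq_one_iff.1 h
    · rw [h] at h3; exact absurd h3 (by decide)
  obtain ⟨f, h1, h2, h3, h4, h5, h6, -⟩ := exists_lines hI2' hIc' n I le_rfl hIn _
    Cfsg.Lib.Components.isNilpotent_fitting hF (le_normalizer_of_normal) hfaith
  refine ⟨f, h1, h2, h3, h4, h5, ?_⟩
  rw [eq_bot_iff_forall]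
  intro j hj
  exact h6 j (Subgroup.mem_inf.1 hj).1 fun x hx => ((Subgroup.mem_inf.1 hj).2 x hx).symm

end Cfsg.Lib.SolvStruct.EigenLines
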