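/-
A solvable linear group over the field with two elements without normal 2-subgroups contains no
element of order four with cubic minimal polynomial whose square is a transvection.
-/
import Cfsg.Agent.Coprime.Fitting
import Cfsg.Agent.Components.Cores
import Cfsg.Prelude

set_option autoImplicit false
set_option linter.unusedSectionVars false
set_option linter.style.haveILetI false

namespace Cfsg.Lib.SolvStruct.CubicTransvection

open Subgroup

variable {V : Type*} [AddCommGroup V] [Module (ZMod 2) V]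

/-- `e` is `v ↦ v + φ v • a`. -/
def IsTV (e : V ≃ₗ[ZMod 2] V) (φ : V →ₗ[ZMod 2] ZMod 2) (a : V) : Prop :=
  φ a = 0 ∧ ∀ v, e v = v + φ v • a

theorem add_self_eq_zero' (v : V) : v + v = 0 := by
  rw [← two_smul (ZMod 2) v, show (2 : ZMod 2) = 0 from rfl, zero_smul]

theorem zmod_two_cases (c : ZMod 2) : c = 0 ∨ c = 1 := by
  revert c; decide

theorem IsTV.mul_self {e : V ≃ₗ[ZMod 2] V} {φ : V →ₗ[ZMod 2] ZMod 2} {a : V} (h : IsTV e φ a) : e * e = 1 := by
  refine LinearEquiv.ext fun v => ?_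
  show e (e v) = v
  rw [h.2, h.2, map_add, map_smul, h.1, smul_zero, add_zero, add_assoc, add_self_eq_zero', add_zero]

theorem IsTV.inv_eq {e : V ≃ₗ[ZMod 2] V} {φ : V →ₗ[ZMod 2] ZMod 2} {a : V} (h : IsTV e φ a) : e⁻¹ = e :=
  inv_eq_of_mul_eq_one_right h.mul_self

theorem IsTV.conj {e : V ≃ₗ[ZMod 2] V} {φ : V →ₗ[ZMod 2] ZMod 2} {a : V} (h : IsTV e φ a) (g : V ≃ₗ[ZMod 2] V) :
    IsTV (g * e * g⁻¹) (φ.comp (g.symm : V →ₗ[ZMod 2] V)) (g a) := by
  refine ⟨by simpa using h.1, fun v => ?_⟩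
  show g (e (g.symm v)) = v + φ (g.symm v) • g a
  rw [h.2, map_add, map_smul, LinearEquiv.apply_symm_apply]

/-- Two transvections whose product has odd order are equal or do not commute. -/
theorem pair {e e' : V ≃ₗ[ZMod 2] V} {φ ψ : V →ₗ[ZMod 2] ZMod 2} {a b : V} (h : IsTV e φ a) (h' : IsTV e' ψ b)
    (hodd : Odd (orderOf (e * e'))) : e = e' ∨ φ b = 1 ∧ ψ a = 1 := by
  by_contra hcon
  push_neg at hcon
  obtain ⟨hne, hcon⟩ := hcon
  have hz : φ b = 0 ∨ ψ a = 0 := by
    rcases zmod_two_cases (φ b) with h1 | h1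
    · exact Or.inl h1
    · exact Or.inr ((zmod_two_cases (ψ a)).resolve_right (hcon h1))
  have hev : ∀ v, (e * e') v = v + ψ v • b + (φ v + ψ v * φ b) • a := fun v => by
    show e (e' v) = _
    rw [h.2, h'.2, map_add, map_smul, smul_eq_mul]
  have hprod : φ b * ψ a = 0 := by
    rcases hz with h1 | h1 <;> simp [h1]
  have h2 : ∀ v, ((e * e') * (e * e')) v = v + (ψ v * φ b) • a + (φ v * ψ a) • b := by
    intro v
    show (e * e') ((e * e') v) = _
    rw [hev ((e * e') v), hev v]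
    simp only [map_add, map_smul, h.1, h'.1, smul_eq_mul]
    rcases zmod_two_cases (φ v) with h3 | h3 <;> rcases zmod_two_cases (ψ v) with h4 | h4 <;>
      rcases zmod_two_cases (φ b) with h5 | h5 <;> rcases zmod_two_cases (ψ a) with h6 | h6 <;>
      (try (rw [h5, h6] at hprod; exact absurd hprod (by decide))) <;>
      simp [h3, h4, h5, h6, show (1 : ZMod 2) + 1 = 0 from rfl] <;>
      (first | done | (abel_nf; simp [two_smul, add_self_eq_zero']))
  have h4 : (e * e') ^ 2 ^ 2 = 1 := by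
    refine LinearEquiv.ext fun v => ?_
    rw [show (e * e') ^ 2 ^ 2 = ((e * e') * (e * e')) * ((e * e') * (e * e')) by
      rw [show (2 : ℕ) ^ 2 = 2 * 2 by norm_num, pow_mul, pow_two, pow_two]]
    show ((e * e') * (e * e')) (((e * e') * (e * e')) v) = v
    rw [h2 (((e * e') * (e * e')) v), h2 v]
    simp only [map_add, map_smul, h.1, h'.1, smul_eq_mul, mul_zero, add_zero, zero_add]
    rcases zmod_two_cases (φ v) with h3 | h3 <;> rcases zmod_two_cases (ψ v) with h4 | h4 <;>
      rcases zmod_two_cases (φ b) with h5 | h5 <;> rcases zmod_two_cases (ψ a) with h6 | h6 <;>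
      (try (rw [h5, h6] at hprod; exact absurd hprod (by decide))) <;>
      simp [h3, h4, h5, h6, add_assoc, add_self_eq_zero']
  have h1 : orderOf (e * e') = 1 :=
    Nat.eq_one_of_dvd_coprimes (Nat.Coprime.pow_right 2 (Nat.coprime_two_right.2 hodd)) dvd_rfl (orderOf_dvd_of_pow_eq_one h4)
  rw [orderOf_eq_one_iff, mul_eq_one_iff_eq_inv, h'.inv_eq] at h1
  exact hne h1

theorem four_le_card [Finite V] (S : Subgroup (V ≃ₗ[ZMod 2] V)) [Group.IsSolvable S] (hO2 : Cfsg.pCore 2 S = ⊥)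
    (P : V ≃ₗ[ZMod 2] V) (hPS : P ∈ S) (hP4 : orderOf P = 4) :
    4 ≤ Nat.card ↥(LinearMap.range (((P : V →ₗ[ZMod 2] V) - LinearMap.id) ^ 2)) := by
  classical
  haveI : Finite (V ≃ₗ[ZMod 2] V) := Finite.of_injective _ DFunLike.coe_injective
  by_contra hlt
  push_neg at hlt
  set M := ((P : V →ₗ[ZMod 2] V) - LinearMap.id) ^ 2
  have hM : ∀ v, M v = (P ^ 2) v + v := by
    intro v
    show P (P v - v) - (P v - v) = P (P v) + v
    rw [map_sub]
    calc P (P v) - P v - (P v - v) = P (P v) + v - (P v + P v) := by abel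
      _ = P (P v) + v := by rw [add_self_eq_zero', sub_zero]
  set t := P ^ 2 with ht
  have ht2 : t * t = 1 := by rw [ht, ← pow_add, show 2 + 2 = 4 by norm_num, ← hP4, pow_orderOf_eq_one]
  have ht1 : t ≠ 1 := fun h => by
    have := orderOf_dvd_of_pow_eq_one (x := P) (n := 2) h
    rw [hP4] at this
    omega
  obtain ⟨a, ha, hrange⟩ : ∃ a : V, a ≠ 0 ∧ ∀ v, M v = 0 ∨ M v = a := by
    obtain ⟨v₀, hv₀⟩ : ∃ v, M v ≠ 0 := by
      by_contra hall
      push_neg at hall
      refine ht1 (LinearEquiv.ext fun v => ?_)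
      have := hall v
      rw [hM] at this
      show t v = v
      calc t v = t v + (v + v) := by rw [add_self_eq_zero', add_zero]
        _ = v := by rw [← add_assoc, this, zero_add]
    refine ⟨M v₀, hv₀, fun v => ?_⟩
    by_contra hv
    push_neg at hv
    have h3 : ({⟨0, zero_mem _⟩, ⟨M v₀, v₀, rfl⟩, ⟨M v, v, rfl⟩} : Finset (LinearMap.range M)).card = 3 := by
      rw [Finset.card_insert_of_notMem, Finset.card_pair]
      · intro h; exact hv.2 (congrArg Subtype.val h).symm
      · simp [Subtype.ext_iff, Ne.symm hv₀, Ne.symm hv.1]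
    haveI := Fintype.ofFinite (LinearMap.range M)
    obtain ⟨k, hk⟩ : ∃ k, Nat.card (LinearMap.range M) = 2 ^ k := by
      haveI : Module.Finite (ZMod 2) (LinearMap.range M) := Module.Finite.of_finite
      exact ⟨Module.finrank (ZMod 2) (LinearMap.range M), by rw [Module.natCard_eq_pow_finrank (K := ZMod 2), Nat.card_zmod]⟩
    have h3' := Finset.card_le_univ ({⟨0, zero_mem _⟩, ⟨M v₀, v₀, rfl⟩, ⟨M v, v, rfl⟩} : Finset (LinearMap.range M))
    rw [h3, ← Nat.card_eq_fintype_card] at h3'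
    rw [hk] at hlt h3'
    rcases k with - | - | k <;> simp [pow_succ] at * <;> omega
  let φ : V →ₗ[ZMod 2] ZMod 2 :=
    { toFun := fun v => if M v = 0 then 0 else 1
      map_add' := fun u v => by
        rcases hrange u with h1 | h1 <;> rcases hrange v with h2 | h2 <;>
          simp [h1, h2, ha, add_self_eq_zero', show (1 : ZMod 2) + 1 = 0 from rfl]
      map_smul' := fun c v => by
        rcases zmod_two_cases c with rfl | rfl <;> simp }
  have hφ : ∀ v, M v = φ v • a := fun v => by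
    rcases hrange v with h1 | h1
    · simp [φ, h1]
    · simp [φ, h1, ha]
  have hT : IsTV t φ a := by
    have htv : ∀ v, t v = v + φ v • a := fun v => by
      rw [← hφ, hM, add_comm (t v), ← add_assoc, add_self_eq_zero', zero_add]
    refine ⟨?_, htv⟩
    rcases zmod_two_cases (φ a) with h | h
    · exact h
    · exfalso
      have h1 : t a = 0 := by rw [htv, h, one_smul, add_self_eq_zero']
      exact ha (t.map_eq_zero_iff.1 h1)
  -- a prime `q` whose core is not centralised by `t`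
  set tS : S := ⟨t, pow_mem hPS 2⟩
  obtain ⟨q, hq, f, hf, hfne⟩ : ∃ q, q.Prime ∧ ∃ f ∈ Cfsg.pCore q S, tS * f ≠ f * tS := by
    by_contra hcon
    push_neg at hcon
    have h1 : tS ∈ centralizer (Cfsg.fittingSubgroup S : Set S) := by
      have h2 : Cfsg.fittingSubgroup S ≤ centralizer ({tS} : Set S) := by
        rw [Cfsg.Lib.Components.fitting_eq_iSup_pCore]
        exact iSup_le fun q f hf => mem_centralizer_singleton_iff.2 (hcon q.1 q.2 f hf).symm
      exact mem_centralizer_iff.2 fun f hf => (mem_centralizer_singleton_iff.1 (h2 hf))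
    have hF := Cfsg.Lib.Coprime.centralizer_fitting_le (G := S) h1
    haveI := Cfsg.Lib.Components.isNilpotent_fitting (G := S)
    obtain ⟨W⟩ : Nonempty (Sylow 2 (Cfsg.fittingSubgroup S)) := inferInstance
    haveI : (W : Subgroup (Cfsg.fittingSubgroup S)).Characteristic := Sylow.characteristic_of_normal W inferInstance
    have hW : (W : Subgroup (Cfsg.fittingSubgroup S)).map (Cfsg.fittingSubgroup S).subtype ≤ Cfsg.pCore 2 S :=
      Cfsg.Lib.Components.le_pCore (W.2.map _)
    rw [hO2, le_bot_iff, map_eq_bot_iff_of_injective _ (Cfsg.fittingSubgroup S).subtype_injective] at hW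
    refine W.ne_bot_of_dvd_card ?_ hW
    have h3 : orderOf tS = 2 := by
      refine orderOf_eq_prime ?_ fun h => ht1 (congrArg Subtype.val h)
      exact Subtype.ext (by simpa [pow_two] using ht2)
    exact h3.symm.dvd.trans (Subgroup.orderOf_dvd_natCard _ hF)
  haveI := Fact.mk hq
  have hq2 : q ≠ 2 := fun h => by
    subst h
    rw [hO2, Subgroup.mem_bot] at hf
    exact hfne (by rw [hf, mul_one, one_mul])
  set R := Cfsg.pCore q S with hR
  haveI : R.Normal := Cfsg.Lib.Components.pCore_normal' q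
  have hodd : ∀ z : S, z ∈ R → Odd (orderOf (z : V ≃ₗ[ZMod 2] V)) := fun z hz => by
    obtain ⟨k, hk⟩ := IsPGroup.iff_orderOf.1 (Cfsg.Lib.Components.isPGroup_pCore (G := S) q) ⟨z, hz⟩
    rw [Subgroup.orderOf_mk] at hk
    rw [Subgroup.orderOf_coe, hk]
    exact (hq.odd_of_ne_two hq2).pow
  set x : S := tS * (f * tS * f⁻¹) with hx
  have htt : tS⁻¹ = tS := inv_eq_of_mul_eq_one_right (Subtype.ext ht2)
  have hxR : x ∈ R := by
    rw [hx, show tS * (f * tS * f⁻¹) = (tS * f * tS⁻¹) * f⁻¹ by rw [htt]; group]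
    exact mul_mem (‹R.Normal›.conj_mem f hf tS) (inv_mem hf)
  have hx1 : x ≠ 1 := fun h => hfne (by
    rw [hx, show tS * (f * tS * f⁻¹) = (tS * f) * (tS⁻¹ * f⁻¹) by rw [htt]; group, mul_eq_one_iff_eq_inv] at h
    rw [mul_inv_rev, inv_inv, inv_inv] at h
    exact h)
  set PS : S := ⟨P, hPS⟩
  set y : S := PS * x * PS⁻¹ with hy
  have hyR : y ∈ R := ‹R.Normal›.conj_mem x hxR PS
  set t' : V ≃ₗ[ZMod 2] V := (f : V ≃ₗ[ZMod 2] V) * t * (f : V ≃ₗ[ZMod 2] V)⁻¹ with ht'
  have hT' := hT.conj (f : V ≃ₗ[ZMod 2] V)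
  rw [← ht'] at hT'
  set t'' : V ≃ₗ[ZMod 2] V := P * t' * P⁻¹ with ht''
  have hT'' := hT'.conj P
  rw [← ht''] at hT''
  have hxv : (x : V ≃ₗ[ZMod 2] V) = t * t' := rfl
  have hPt : P * t * P⁻¹ = t := by rw [ht]; group
  have hyv : (y : V ≃ₗ[ZMod 2] V) = t * t'' := by
    show P * (t * t') * P⁻¹ = _
    rw [ht'']
    calc P * (t * t') * P⁻¹ = (P * t * P⁻¹) * (P * t' * P⁻¹) := by group
      _ = _ := by rw [hPt]
  obtain ⟨hb, hψ⟩ := (pair hT hT' (hxv ▸ hodd x hxR)).resolve_left fun h => hx1 (Subtype.ext (by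
    rw [hxv, ← h]; exact ht2))
  obtain ⟨hc, hχ⟩ := (pair hT hT'' (hyv ▸ hodd y hyR)).resolve_left fun h => hx1 (by
    have h1 : y = 1 := Subtype.ext (by rw [hyv, ← h]; exact ht2)
    rw [hy, conj_eq_one_iff] at h1
    exact h1)
  -- the two products lie in the core
  have hxyR : x⁻¹ * y ∈ R := mul_mem (inv_mem hxR) hyR
  have hxyR' : x * y ∈ R := mul_mem hxR hyR
  have e1 : ((x⁻¹ * y : S) : V ≃ₗ[ZMod 2] V) = t' * t'' := by
    rw [Subgroup.coe_mul, Subgroup.coe_inv, hxv, hyv, mul_inv_rev, hT.inv_eq, hT'.inv_eq, mul_assoc, ← mul_assoc t, ht2, one_mul]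
  have e2 : ((x * y : S) : V ≃ₗ[ZMod 2] V) = (t * t' * t⁻¹) * t'' := by
    rw [Subgroup.coe_mul, hxv, hyv, hT.inv_eq, mul_assoc (t * t') t]
  have hcase : (y = x) ∨ (y = x⁻¹) := by
    rcases pair hT' hT'' (e1 ▸ hodd _ hxyR) with h | ⟨h1, h2⟩
    · exact Or.inl (Subtype.ext (by rw [hxv, hyv, ← h]))
    rcases pair (hT'.conj t) hT'' (e2 ▸ hodd _ hxyR') with h | ⟨h3, -⟩
    · right
      refine Subtype.ext ?_
      rw [Subgroup.coe_inv, hxv, hyv, ← h, mul_inv_rev, hT'.inv_eq, ← mul_assoc, ← mul_assoc, ht2, one_mul]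
    · exfalso
      have hts : ∀ v, t.symm v = t v := fun v => congrFun (congrArg DFunLike.coe hT.inv_eq) v
      simp only [LinearMap.coe_comp, LinearEquiv.coe_coe, Function.comp_apply, hts] at h3
      simp only [LinearMap.coe_comp, LinearEquiv.coe_coe, Function.comp_apply] at h1 hψ hc
      rw [hT.2, map_add, map_smul, map_add, map_smul, hc, h1, hψ] at h3
      revert h3
      decide
  -- `P²` centralises and inverts `x`
  have hfix : PS * y * PS⁻¹ = x := by
    rcases hcase with h | h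
    · rw [h, ← hy, h]
    · rw [h, show PS * x⁻¹ * PS⁻¹ = (PS * x * PS⁻¹)⁻¹ by group, ← hy, h, inv_inv]
  have h1 : tS * x * tS⁻¹ = x := by
    have h2 : PS * PS = tS := Subtype.ext (pow_two P).symm
    rw [← h2]
    conv_rhs => rw [← hfix, hy]
    group
  have h2 : x * x = 1 := by
    have h3 : tS * x * tS⁻¹ = x⁻¹ := by
      refine Subtype.ext ?_
      show t * (t * t') * t⁻¹ = (t * t')⁻¹
      rw [mul_inv_rev, hT.inv_eq, hT'.inv_eq, ← mul_assoc, ht2, one_mul]
    rw [h1, eq_inv_iff_mul_eq_one] at h3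
    exact h3
  refine hx1 (Subtype.ext ?_)
  have h5 : orderOf (x : V ≃ₗ[ZMod 2] V) = 1 :=
    Nat.eq_one_of_dvd_coprimes (Nat.coprime_two_right.2 (hodd x hxR)) dvd_rfl
      (orderOf_dvd_of_pow_eq_one (by rw [pow_two]; exact congrArg Subtype.val h2))
  exact orderOf_eq_one_iff.1 h5

end Cfsg.Lib.SolvStruct.CubicTransvection
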