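/-
An elementary abelian group of order eight acting on a p-group, p odd, with few broad elements.
-/
import Mathlib
import Cfsg.Agent.PGroups.Basic

set_option autoImplicit false

namespace Cfsg.Lib.BroadInvol

open Subgroup
open scoped commutatorElement

variable {P : Type*} [Group P] [Finite P] {p : ℕ} [hpf : Fact p.Prime]

local notation "V" => P ⧸ frattini P

/-- The fixed points of `T` form a cyclic subgroup. -/
def NB (T : MulAut P) : Prop := ∃ g : P, ∀ x : P, (T x = x ↔ x ∈ zpowers g)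

omit [Finite P] hpf in
theorem autMem {N : Subgroup P} [hN : N.Characteristic] (T : MulAut P) {x : P} (hx : x ∈ N) :
    T x ∈ N :=
  characteristic_iff_map_le.1 hN T ⟨x, hx, rfl⟩

omit [Finite P] hpf in
theorem mk_congr (T : MulAut P) {x y : P} (h : (x : V) = (y : V)) : ((T x : P) : V) = (T y : P) := by
  rw [QuotientGroup.eq] at h ⊢
  have := autMem (N := frattini P) T h
  rwa [map_mul, map_inv] at this

include hpf in
/-- A coset left invariant by an involution of a group of odd order contains a fixed element. -/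
theorem exists_fixed (hP : IsPGroup p P) (hp2 : p ≠ 2) {T : MulAut P} (hT : T * T = 1)
    (N : Subgroup P) {x : P} (hx : x⁻¹ * T x ∈ N) : ∃ y : P, T y = y ∧ x⁻¹ * y ∈ N := by
  set n := x⁻¹ * T x with hn
  have hTT : T (T x) = x := by rw [← MulAut.mul_apply, hT]; rfl
  have hTn : T n = n⁻¹ := by rw [hn, map_mul, map_inv, hTT, mul_inv_rev, inv_inv]
  obtain ⟨k, hk⟩ := IsPGroup.iff_orderOf.1 hP n
  obtain ⟨j, hj⟩ : Odd (orderOf n) := hk ▸ (hpf.out.odd_of_ne_two hp2).pow
  set m := n ^ (j + 1) with hm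
  have hmm : m * m = n := by
    rw [hm, ← pow_add]
    have : j + 1 + (j + 1) = orderOf n + 1 := by omega
    rw [this, pow_succ, pow_orderOf_eq_one, one_mul]
  refine ⟨x * m, ?_, by simpa using pow_mem hx (j + 1)⟩
  have hTm : T m = m⁻¹ := by rw [hm, map_pow, hTn, inv_pow]
  have hTx : T x = x * n := by simp [hn]
  rw [map_mul, hTm, hTx, ← hmm]
  group

include hpf in
theorem vcomm (hP : IsPGroup p P) (a b : V) : a * b = b * a := by
  have := Cfsg.Lib.PGroups.isMulCommutative_quotient_frattini hP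
  exact IsMulCommutative.is_comm.comm a b

include hpf in
theorem orderOf_mk (hP : IsPGroup p P) {x : P} (hx : (x : V) ≠ 1) : orderOf (x : V) = p :=
  orderOf_eq_prime (Cfsg.Lib.PGroups.pow_prime_quotient_frattini hP _) hx

include hpf in
theorem zpowers_symm (hP : IsPGroup p P) {a b : P} (ha : (a : V) ≠ 1)
    (h : (a : V) ∈ zpowers (b : V)) : (b : V) ∈ zpowers (a : V) := by
  have hb : (b : V) ≠ 1 := by
    intro hb
    rw [hb, zpowers_one_eq_bot, mem_bot] at h
    exact ha h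
  have : zpowers (a : V) = zpowers (b : V) := eq_of_le_of_card_ge (zpowers_le.2 h)
    (by rw [Nat.card_zpowers, Nat.card_zpowers, orderOf_mk hP ha, orderOf_mk hP hb])
  exact this.symm ▸ mem_zpowers (b : V)

include hpf in
/-- Two independent vectors fixed modulo the Frattini subgroup make an involution broad. -/
theorem broad_of (hP : IsPGroup p P) (hp2 : p ≠ 2) {T : MulAut P} (hT : T * T = 1) {x y : P}
    (hx1 : (x : V) ≠ 1) (hxy : (y : V) ∉ zpowers (x : V))
    (hx : ((T x : P) : V) = x) (hy : ((T y : P) : V) = y) : ¬ NB T := by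
  rintro ⟨g, hg⟩
  have key : ∀ z : P, ((T z : P) : V) = z → (z : V) ∈ zpowers (g : V) := by
    intro z hz
    obtain ⟨w, hw, hzw⟩ := exists_fixed hP hp2 hT (frattini P) (QuotientGroup.eq.1 hz.symm)
    obtain ⟨k, hk⟩ := mem_zpowers_iff.1 ((hg w).1 hw)
    exact mem_zpowers_iff.2 ⟨k, by rw [← QuotientGroup.mk_zpow, hk, QuotientGroup.eq.2 hzw]⟩
  exact hxy (zpowers_le.2 (zpowers_symm hP hx1 (key x hx)) (key y hy))

/-- `x` is an eigenvector modulo the Frattini subgroup of all elements of `l`. -/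
def Eig (l : List (MulAut P)) (x : P) : Prop :=
  ∀ T ∈ l, ((T x : P) : V) = x ∨ ((T x : P) : V) = (x : V)⁻¹

omit [Finite P] hpf in
theorem eig_frattini (l : List (MulAut P)) {x : P} (hx : (x : V) = 1) : Eig l x := fun T _ =>
  Or.inl (by rw [hx, mk_congr T (y := 1) (by simpa using hx), map_one, QuotientGroup.mk_one])

include hpf in
/-- Commuting involutions are diagonalisable modulo the Frattini subgroup. -/
theorem closure_eig (hP : IsPGroup p P) (hp2 : p ≠ 2) (l : List (MulAut P))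
    (hsq : ∀ T ∈ l, T * T = 1) (hcomm : ∀ S ∈ l, ∀ T ∈ l, S * T = T * S) :
    closure {x : P | Eig l x} = ⊤ := by
  induction l with
  | nil =>
      have : {x : P | Eig ([] : List (MulAut P)) x} = Set.univ := by
        ext; simp [Eig]
      rw [this, Subgroup.closure_univ]
  | cons T l ih =>
      have ih' := ih (fun S hS => hsq S (List.mem_cons_of_mem _ hS))
        (fun S hS U hU => hcomm S (List.mem_cons_of_mem _ hS) U (List.mem_cons_of_mem _ hU))
      refine eq_top_iff.2 (ih' ▸ (closure_le _).2 fun x (hx : Eig l x) => ?_)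
      obtain ⟨j, hj⟩ := hpf.out.odd_of_ne_two hp2
      set h := j + 1 with hh
      set a := (x * T x) ^ h with ha
      set b := (x * (T x)⁻¹) ^ h with hb
      have hTT : T (T x) = x := by rw [← MulAut.mul_apply, hsq T List.mem_cons_self]; rfl
      have hcm : ∀ u v : V, Commute u v := fun u v => vcomm hP u v
      have hab : ((a * b : P) : V) = x := by
        simp only [ha, hb, QuotientGroup.mk_mul, QuotientGroup.mk_pow, QuotientGroup.mk_inv]
        rw [← (hcm _ _).mul_pow, hcm (x : V) ((T x : P) : V)⁻¹, mul_assoc,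
          mul_inv_cancel_left, ← pow_two, ← pow_mul,
          show 2 * h = p + 1 by omega, pow_succ,
          Cfsg.Lib.PGroups.pow_prime_quotient_frattini hP, one_mul]
      have hEa : Eig (T :: l) a := by
        intro S hS
        rcases List.mem_cons.1 hS with rfl | hSl
        · left
          simp only [ha, map_pow, map_mul, hTT, QuotientGroup.mk_pow, QuotientGroup.mk_mul]
          rw [hcm]
        · have hST : S (T x) = T (S x) := by
            rw [← MulAut.mul_apply, hcomm S hS T List.mem_cons_self, MulAut.mul_apply]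
          simp only [ha, map_pow, map_mul, hST, QuotientGroup.mk_pow, QuotientGroup.mk_mul]
          rcases hx S hSl with h1 | h1
          · left; rw [h1, mk_congr T h1]
          · right
            rw [h1, mk_congr T (y := x⁻¹) (by rw [h1, QuotientGroup.mk_inv]), map_inv,
              QuotientGroup.mk_inv, ← inv_pow, mul_inv_rev, hcm]
      have hEb : Eig (T :: l) b := by
        intro S hS
        rcases List.mem_cons.1 hS with rfl | hSl
        · right
          simp only [hb, map_pow, map_mul, map_inv, hTT, QuotientGroup.mk_pow,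
            QuotientGroup.mk_mul, QuotientGroup.mk_inv]
          rw [← inv_pow, mul_inv_rev, inv_inv]
        · have hST : S (T x) = T (S x) := by
            rw [← MulAut.mul_apply, hcomm S hS T List.mem_cons_self, MulAut.mul_apply]
          simp only [hb, map_pow, map_mul, map_inv, hST, QuotientGroup.mk_pow,
            QuotientGroup.mk_mul, QuotientGroup.mk_inv]
          rcases hx S hSl with h1 | h1
          · left; rw [h1, mk_congr T h1]
          · right
            rw [h1, mk_congr T (y := x⁻¹) (by rw [h1, QuotientGroup.mk_inv]), map_inv,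
              QuotientGroup.mk_inv, ← inv_pow, mul_inv_rev, hcm]
      have hE0 : Eig (T :: l) ((a * b)⁻¹ * x) :=
        eig_frattini _ (by rw [QuotientGroup.mk_mul, QuotientGroup.mk_inv, hab, inv_mul_cancel])
      have := mul_mem (mul_mem (subset_closure (k := {y | Eig (T :: l) y}) hEa)
        (subset_closure hEb)) (subset_closure hE0)
      rwa [mul_inv_cancel_left] at this

omit [Finite P] hpf in
/-- In a quotient where the commutator of `a` and `b` is central. -/
theorem comm_inv_left {H : Type*} [Group H] {a b : H} (hc : ∀ z, Commute ⁅a, b⁆ z) :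
    ⁅a⁻¹, b⁆ = ⁅a, b⁆⁻¹ ∧ ⁅a, b⁻¹⁆ = ⁅a, b⁆⁻¹ := by
  refine ⟨?_, ?_⟩
  · have : ⁅a⁻¹, b⁆ = a⁻¹ * ⁅a, b⁆⁻¹ * a := by simp [commutatorElement_def]; group
    rw [this, ((hc a).inv_left).symm.inv_left.eq, inv_mul_cancel_right]
  · have : ⁅a, b⁻¹⁆ = b⁻¹ * ⁅a, b⁆⁻¹ * b := by simp [commutatorElement_def]; group
    rw [this, ((hc b).inv_left).symm.inv_left.eq, inv_mul_cancel_right]

include hpf in
theorem comm_mem (hP : IsPGroup p P) (hp2 : p ≠ 2) {T U : MulAut P} (hT : T * T = 1) {a b : P}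
    (hTa : T a = a⁻¹) (hTb : T b = b⁻¹) (hUa : U a = a⁻¹) (hUb : U b = b)
    (hfix : ∀ z, T z = z → U z = z) :
    ⁅a, b⁆ ∈ ⁅commutator P, (⊤ : Subgroup P)⁆ := by
  set N := ⁅commutator P, (⊤ : Subgroup P)⁆ with hN
  set q := QuotientGroup.mk' N
  have hcen : ∀ z : P ⧸ N, Commute ⁅q a, q b⁆ z := by
    intro z
    obtain ⟨z, rfl⟩ := QuotientGroup.mk'_surjective N z
    rw [← map_commutatorElement]
    refine commutatorElement_eq_one_iff_commute.1 ?_
    rw [← map_commutatorElement]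
    refine (QuotientGroup.eq_one_iff _).2 (commutator_mem_commutator ?_ (mem_top z))
    rw [commutator_def]
    exact commutator_mem_commutator (mem_top _) (mem_top _)
  have hqT : q (T ⁅a, b⁆) = q ⁅a, b⁆ := by
    rw [map_commutatorElement, map_commutatorElement, hTa, hTb, map_inv, map_inv,
      map_commutatorElement]
    obtain ⟨h1, -⟩ := comm_inv_left (a := q a) (b := q b) hcen
    have hcen' : ∀ z, Commute ⁅(q a)⁻¹, q b⁆ z := fun z => by rw [h1]; exact (hcen z).inv_left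
    obtain ⟨-, h2⟩ := comm_inv_left (a := (q a)⁻¹) (b := q b) hcen'
    rw [h2, h1, inv_inv]
  have hqU : q (U ⁅a, b⁆) = (q ⁅a, b⁆)⁻¹ := by
    rw [map_commutatorElement, map_commutatorElement, hUa, hUb, map_inv, map_commutatorElement,
      (comm_inv_left hcen).1]
  obtain ⟨y, hy, hyc⟩ := exists_fixed hP hp2 hT N (QuotientGroup.eq.1 hqT.symm)
  have hqy : q y = q ⁅a, b⁆ := (QuotientGroup.eq.2 hyc).symm
  have hUy : q (U y) = q (U ⁅a, b⁆) := by
    refine (QuotientGroup.eq.2 ?_).symm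
    have := autMem (N := N) U hyc
    rwa [map_mul, map_inv] at this
  rw [hfix y hy, hqy, hqU, eq_inv_iff_mul_eq_one, ← map_mul] at hUy
  have h2 : ⁅a, b⁆ * ⁅a, b⁆ ∈ N := (QuotientGroup.eq_one_iff _).1 hUy
  obtain ⟨k, hk⟩ := IsPGroup.iff_orderOf.1 hP ⁅a, b⁆
  obtain ⟨j, hj⟩ : Odd (orderOf ⁅a, b⁆) := hk ▸ (hpf.out.odd_of_ne_two hp2).pow
  have : (⁅a, b⁆ * ⁅a, b⁆) ^ (j + 1) = ⁅a, b⁆ := by
    rw [← pow_two, ← pow_mul, show 2 * (j + 1) = orderOf ⁅a, b⁆ + 1 by omega, pow_succ,
      pow_orderOf_eq_one, one_mul]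
  exact this ▸ pow_mem h2 _

/-- The hypotheses. -/
structure Setup (p : ℕ) (I I₀ : Subgroup (MulAut P)) : Prop where
  pgroup : IsPGroup p P
  odd : p ≠ 2
  comm : ∀ S ∈ I, ∀ T ∈ I, S * T = T * S
  sq : ∀ T ∈ I, T * T = 1
  card : Nat.card I = 8
  disj : ∀ T ∈ I₀, T ≠ 1 → NB T
  prod : ∀ T ∈ I, ∀ T' ∈ I, T ≠ 1 → T' ≠ 1 → ¬ NB T → ¬ NB T' → T * T' ∈ I₀

variable {I I₀ : Subgroup (MulAut P)}

/-- `x` is an eigenvector of all of `I`. -/
def Wt (I : Subgroup (MulAut P)) (x : P) : Prop :=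
  ∀ T ∈ I, ((T x : P) : V) = x ∨ ((T x : P) : V) = (x : V)⁻¹

/-- Elements of `I` fixing `x` modulo the Frattini subgroup. -/
def Stab (s : Setup p I I₀) (x : P) : Subgroup (MulAut P) where
  carrier := {T | T ∈ I ∧ ((T x : P) : V) = x}
  mul_mem' := fun {a b} ha hb => ⟨mul_mem ha.1 hb.1, by
    rw [MulAut.mul_apply, mk_congr a hb.2, ha.2]⟩
  one_mem' := ⟨one_mem _, rfl⟩
  inv_mem' := fun {a} ha => by
    rw [show a⁻¹ = a from inv_eq_of_mul_eq_one_left (s.sq a ha.1)]
    exact ha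

omit hpf in
theorem mem_stab (s : Setup p I I₀) {x : P} {T : MulAut P} :
    T ∈ Stab s x ↔ T ∈ I ∧ ((T x : P) : V) = x := Iff.rfl

omit hpf in
theorem moved_mul (s : Setup p I I₀) {x : P} (hx : Wt I x) {S T : MulAut P} (hS : S ∈ I)
    (hT : T ∈ I) (h : S ∈ Stab s x ↔ T ∈ Stab s x) : S * T ∈ Stab s x := by
  by_cases hS' : S ∈ Stab s x
  · exact mul_mem hS' (h.1 hS')
  · have h1 := (hx S hS).resolve_left fun e => hS' ⟨hS, e⟩
    have h2 := (hx T hT).resolve_left fun e => (h.not.1 hS') ⟨hT, e⟩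
    refine ⟨mul_mem hS hT, ?_⟩
    rw [MulAut.mul_apply, mk_congr S (y := x⁻¹) (by rw [h2, QuotientGroup.mk_inv]), map_inv,
      QuotientGroup.mk_inv, h1, inv_inv]

omit hpf in
theorem card_le_two_mul (s : Setup p I I₀) {x : P} (hx : Wt I x) {H : Subgroup (MulAut P)}
    (hH : H ≤ I) : Nat.card H ≤ 2 * Nat.card (H ⊓ Stab s x : Subgroup (MulAut P)) := by
  classical
  by_cases hall : H ≤ Stab s x
  · rw [inf_eq_left.2 hall]; omega
  obtain ⟨t, htH, htK⟩ := SetLike.not_le_iff_exists.1 hall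
  let f : H → Bool × (H ⊓ Stab s x : Subgroup (MulAut P)) := fun h =>
    if hh : (h : MulAut P) ∈ Stab s x then (false, ⟨h, mem_inf.2 ⟨h.2, hh⟩⟩)
    else (true, ⟨h * t, mem_inf.2 ⟨H.mul_mem h.2 htH,
      moved_mul s hx (hH h.2) (hH htH) (iff_of_false hh htK)⟩⟩)
  have hf : Function.Injective f := by
    intro a b hab
    simp only [f] at hab
    split_ifs at hab <;> simp at hab <;> first | exact hab | exact Subtype.ext hab
  calc Nat.card H ≤ Nat.card (Bool × (H ⊓ Stab s x : Subgroup (MulAut P))) :=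
        Nat.card_le_card_of_injective f hf
    _ = _ := by rw [Nat.card_prod, Nat.card_eq_fintype_card, Fintype.card_bool]

theorem two_mul_card_le {G : Type*} [Group G] [Finite G] {H K : Subgroup G} (h : H < K) :
    2 * Nat.card H ≤ Nat.card K := by
  obtain ⟨c, hc⟩ := card_dvd_of_le h.le
  have h1 : Nat.card H ≠ Nat.card K := fun e => h.ne (eq_of_le_of_card_ge h.le e.ge)
  rcases c with _ | _ | c
  · exact absurd hc (by rw [mul_zero]; exact Nat.card_pos.ne')
  · simp [hc] at h1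
  · rw [hc]; nlinarith

include hpf in
theorem closure_wt (s : Setup p I I₀) : closure {x : P | Wt I x} = ⊤ := by
  classical
  have : Fintype I := Fintype.ofFinite _
  have h := closure_eig s.pgroup s.odd ((Finset.univ : Finset I).toList.map Subtype.val)
    (fun T hT => by
      obtain ⟨u, -, rfl⟩ := List.mem_map.1 hT
      exact s.sq _ u.2)
    (fun S hS T hT => by
      obtain ⟨u, -, rfl⟩ := List.mem_map.1 hS
      obtain ⟨v, -, rfl⟩ := List.mem_map.1 hT
      exact s.comm _ u.2 _ v.2)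
  refine eq_top_iff.2 (h ▸ closure_mono fun x hx T hT => hx T ?_)
  exact List.mem_map.2 ⟨⟨T, hT⟩, Finset.mem_toList.2 (Finset.mem_univ _), rfl⟩

omit hpf in
theorem mem_sup_frattini_of_mk {H : Subgroup P} {x y : P} (hy : y ∈ H) (h : (y : V) = x) :
    x ∈ H ⊔ frattini P := by
  simpa using mul_mem_sup hy (QuotientGroup.eq.1 h)

include hpf in
theorem eq_one_of_fix (s : Setup p I I₀) {T : MulAut P} (hT : T ∈ I)
    (h : ∀ x, Wt I x → T ∈ Stab s x) : T = 1 := by
  let F : Subgroup P :=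
    { carrier := {x | T x = x}
      mul_mem' := fun {a b} ha hb => by simp only [Set.mem_setOf_eq] at ha hb ⊢; rw [map_mul, ha, hb]
      one_mem' := map_one T
      inv_mem' := fun {a} ha => by simp only [Set.mem_setOf_eq] at ha ⊢; rw [map_inv, ha] }
  have : F ⊔ frattini P = ⊤ := eq_top_iff.2 (closure_wt s ▸ (closure_le _).2 fun x hx => by
    obtain ⟨y, hy, hxy⟩ := exists_fixed s.pgroup s.odd (s.sq T hT) (frattini P)
      (QuotientGroup.eq.1 (h x hx).2.symm)
    exact mem_sup_frattini_of_mk (H := F) hy (QuotientGroup.eq.2 hxy).symm)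
  have hF := frattini_nongenerating this
  ext x
  exact (hF ▸ mem_top x : x ∈ F)

omit hpf in
theorem mk_ne_one (s : Setup p I I₀) {x : P} {T : MulAut P} (hT : T ∈ I)
    (h : T ∉ Stab s x) : (x : V) ≠ 1 := fun e => h ⟨hT, by
  rw [e, mk_congr T (y := 1) (by simpa using e), map_one, QuotientGroup.mk_one]⟩

omit hpf in
theorem stab_le (s : Setup p I I₀) {x y : P} (h : (y : V) ∈ zpowers (x : V)) :
    Stab s x ≤ Stab s y := by
  obtain ⟨k, hk⟩ := mem_zpowers_iff.1 h
  rintro T ⟨hT, hTx⟩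
  refine ⟨hT, ?_⟩
  rw [← mk_congr T (x := x ^ k) (by rw [QuotientGroup.mk_zpow, hk]), map_zpow,
    QuotientGroup.mk_zpow, hTx, hk]

include hpf in
theorem broad (s : Setup p I I₀) {T : MulAut P} {x y : P} (hx : T ∈ Stab s x) (hy : T ∈ Stab s y)
    {U : MulAut P} (hU : U ∈ I) (hUx : U ∉ Stab s x) (hxy : (y : V) ∉ zpowers (x : V)) : ¬ NB T :=
  broad_of s.pgroup s.odd (s.sq T hx.1) (mk_ne_one s hU hUx) hxy hx.2 hy.2

/-- The data produced by the analysis of the Frattini quotient. -/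
structure Frame (s : Setup p I I₀) (e₁ e₂ e₃ : MulAut P) (v₁ v₂ v₃ : P) : Prop where
  e1 : e₁ ∈ I
  e2 : e₂ ∈ I
  e3 : e₃ ∈ I
  w1 : Wt I v₁
  w2 : Wt I v₂
  w3 : Wt I v₃
  m11 : e₁ ∉ Stab s v₁
  m12 : e₁ ∈ Stab s v₂
  m13 : e₁ ∈ Stab s v₃
  m21 : e₂ ∈ Stab s v₁
  m22 : e₂ ∉ Stab s v₂
  m23 : e₂ ∈ Stab s v₃
  m31 : e₃ ∈ Stab s v₁
  m32 : e₃ ∈ Stab s v₂
  m33 : e₃ ∉ Stab s v₃

theorem exists_ne_one {G : Type*} [Group G] [Finite G] {H : Subgroup G} (h : 2 ≤ Nat.card H) :
    ∃ g ∈ H, g ≠ 1 := by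
  exact (Subgroup.one_lt_card_iff_ne_bot H |>.1 (by omega) |> (Subgroup.bot_or_exists_ne_one H).resolve_left)

include hpf in
theorem exists_frame (s : Setup p I I₀) :
    ∃ e₁ e₂ e₃ v₁ v₂ v₃, Frame s e₁ e₂ e₃ v₁ v₂ v₃ := by
  have move : ∀ T ∈ I, T ≠ 1 → ∃ x, Wt I x ∧ T ∉ Stab s x := by
    intro T hT hT1
    by_contra! hcon
    exact hT1 (eq_one_of_fix s hT hcon)
  have hle : ∀ x, Stab s x ≤ I := fun x T hT => hT.1
  obtain ⟨t, ht, ht1⟩ := exists_ne_one (H := I) (by rw [s.card]; norm_num)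
  obtain ⟨v₁, hv₁, ht'⟩ := move t ht ht1
  have hK1 : Nat.card (Stab s v₁) = 4 := by
    have h1 := card_le_two_mul s hv₁ le_rfl
    rw [inf_eq_right.2 (hle v₁), s.card] at h1
    have h2 := two_mul_card_le (lt_of_le_of_ne (hle v₁) fun e => ht' (e.symm ▸ ht))
    rw [s.card] at h2
    omega
  obtain ⟨a, ha, ha1⟩ := exists_ne_one (H := Stab s v₁) (by omega)
  obtain ⟨v₂, hv₂, ha2⟩ := move a ha.1 ha1
  have hpair : ∀ {x y : P}, Wt I x → Wt I y → 2 ≤ Nat.card (Stab s x ⊓ Stab s y : Subgroup (MulAut P)) := by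
    intro x y hx hy
    have h1 := card_le_two_mul s hx le_rfl
    rw [inf_eq_right.2 (hle x), s.card] at h1
    have h2 := card_le_two_mul s hy (hle x)
    omega
  have h12 : Nat.card (Stab s v₁ ⊓ Stab s v₂ : Subgroup (MulAut P)) ≤ 2 := by
    have hlt : Stab s v₁ ⊓ Stab s v₂ < Stab s v₁ :=
      lt_of_le_of_ne inf_le_left fun e => ha2 (mem_inf.1 (e.symm ▸ ha)).2
    have := two_mul_card_le hlt
    omega
  obtain ⟨e₃, he₃, he₃1⟩ := exists_ne_one (hpair hv₁ hv₂)
  obtain ⟨h31, h32⟩ := mem_inf.1 he₃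
  have huniq : ∀ e, e ∈ Stab s v₁ → e ∈ Stab s v₂ → e ≠ 1 → e = e₃ := by
    intro e h1 h2 hne
    by_contra hne'
    classical
    have hsub : ({1, e, e₃} : Set (MulAut P)) ⊆
        ↑(Stab s v₁ ⊓ Stab s v₂ : Subgroup (MulAut P)) := by
      intro z hz
      rcases hz with rfl | rfl | rfl
      · exact one_mem _
      · exact mem_inf.2 ⟨h1, h2⟩
      · exact he₃
    have h3 : ({1, e, e₃} : Set (MulAut P)).ncard = 3 :=
      Set.ncard_eq_three.2 ⟨1, e, e₃, hne.symm, he₃1.symm, hne', rfl⟩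
    have := Set.ncard_le_ncard hsub (Set.toFinite _)
    rw [h3, ← Nat.card_coe_set_eq] at this
    simp only [SetLike.coe_sort_coe] at this
    omega
  obtain ⟨v₃, hv₃, h33⟩ := move e₃ h31.1 he₃1
  obtain ⟨e₁, he₁, he₁1⟩ := exists_ne_one (hpair hv₂ hv₃)
  obtain ⟨h12', h13⟩ := mem_inf.1 he₁
  obtain ⟨e₂, he₂, he₂1⟩ := exists_ne_one (hpair hv₁ hv₃)
  obtain ⟨h21, h23⟩ := mem_inf.1 he₂
  exact ⟨e₁, e₂, e₃, v₁, v₂, v₃, h12'.1, h21.1, h31.1, hv₁, hv₂, hv₃,
    fun h => h33 (huniq e₁ h h12' he₁1 ▸ h13), h12', h13,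
    h21, fun h => h33 (huniq e₂ h21 h he₂1 ▸ h23), h23, h31, h32, h33⟩

variable {s : Setup p I I₀} {e₁ e₂ e₃ : MulAut P} {v₁ v₂ v₃ : P}

omit hpf in
theorem Frame.rot (f : Frame s e₁ e₂ e₃ v₁ v₂ v₃) : Frame s e₂ e₃ e₁ v₂ v₃ v₁ :=
  ⟨f.e2, f.e3, f.e1, f.w2, f.w3, f.w1, f.m22, f.m23, f.m21, f.m32, f.m33, f.m31, f.m12, f.m13,
    f.m11⟩

omit hpf in
theorem mul_not_mem_left (s : Setup p I I₀) {x : P} {S T : MulAut P} (hS : S ∉ Stab s x)
    (hT : T ∈ Stab s x) : S * T ∉ Stab s x := fun h => hS ((mul_mem_cancel_right hT).1 h)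

omit hpf in
theorem mul_not_mem_right (s : Setup p I I₀) {x : P} {S T : MulAut P} (hS : S ∈ Stab s x)
    (hT : T ∉ Stab s x) : S * T ∉ Stab s x := fun h => hT ((mul_mem_cancel_left hS).1 h)

omit hpf in
theorem Frame.ne (f : Frame s e₁ e₂ e₃ v₁ v₂ v₃) : e₁ ≠ 1 := fun h => f.m11 (h ▸ one_mem _)

omit hpf in
theorem Frame.indep (f : Frame s e₁ e₂ e₃ v₁ v₂ v₃) : (v₂ : V) ∉ zpowers (v₁ : V) :=
  fun h => f.m22 (stab_le s h f.m21)

include hpf in
theorem Frame.broad3 (f : Frame s e₁ e₂ e₃ v₁ v₂ v₃) : ¬ NB e₃ :=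
  broad s f.m31 f.m32 f.e1 f.m11 f.indep

include hpf in
theorem Frame.prod12 (f : Frame s e₁ e₂ e₃ v₁ v₂ v₃) : e₁ * e₂ ∈ I₀ :=
  s.prod _ f.e1 _ f.e2 f.ne f.rot.ne f.rot.broad3 f.rot.rot.broad3

omit hpf in
theorem Frame.ne12 (f : Frame s e₁ e₂ e₃ v₁ v₂ v₃) : e₁ * e₂ ≠ 1 := fun h =>
  mul_not_mem_left s f.m11 f.m21 (h ▸ one_mem _)

include hpf in
/-- A weight vector fixed by a product of two frame elements is a multiple of the third vector. -/
theorem Frame.mem_of_fix (f : Frame s e₁ e₂ e₃ v₁ v₂ v₃) {x : P} (hx : e₁ * e₂ ∈ Stab s x) :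
    (x : V) ∈ zpowers (v₃ : V) := by
  by_contra h
  exact broad s (mul_mem f.m13 f.m23) hx f.e3 f.m33 h (s.disj _ f.prod12 f.ne12)

include hpf in
theorem Frame.weight_cases (f : Frame s e₁ e₂ e₃ v₁ v₂ v₃) {x : P} (hx : Wt I x) :
    (x : V) ∈ zpowers (v₁ : V) ∨ (x : V) ∈ zpowers (v₂ : V) ∨ (x : V) ∈ zpowers (v₃ : V) := by
  have h3 := fun h => f.mem_of_fix (moved_mul s hx f.e1 f.e2 h)
  have h1 := fun h => f.rot.mem_of_fix (moved_mul s hx f.e2 f.e3 h)
  have h2 := fun h => f.rot.rot.mem_of_fix (moved_mul s hx f.e3 f.e1 h)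
  tauto

include hpf in
theorem Frame.det (f : Frame s e₁ e₂ e₃ v₁ v₂ v₃) {S T : MulAut P} (hS : S ∈ I) (hT : T ∈ I)
    (h1 : S ∈ Stab s v₁ ↔ T ∈ Stab s v₁) (h2 : S ∈ Stab s v₂ ↔ T ∈ Stab s v₂)
    (h3 : S ∈ Stab s v₃ ↔ T ∈ Stab s v₃) : S = T := by
  have h : S * T = 1 := eq_one_of_fix s (mul_mem hS hT) fun x hx => by
    rcases f.weight_cases hx with h | h | h
    · exact stab_le s h (moved_mul s f.w1 hS hT h1)
    · exact stab_le s h (moved_mul s f.w2 hS hT h2)
    · exact stab_le s h (moved_mul s f.w3 hS hT h3)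
  calc S = S * (T * T) := by rw [s.sq T hT, mul_one]
    _ = T := by rw [← mul_assoc, h, one_mul]

include hpf in
/-- An automorphism of order at most two of a cyclic p-group, p odd, fixes or inverts a generator. -/
theorem aut_cyclic (hP : IsPGroup p P) (hp2 : p ≠ 2) {T : MulAut P} (hT : T * T = 1) {g : P}
    (hg : (g : V) ≠ 1) (h : T g ∈ zpowers g) :
    (((T g : P) : V) = g → T g = g) ∧ (((T g : P) : V) = (g : V)⁻¹ → T g = g⁻¹) := by
  obtain ⟨m, hm⟩ := mem_zpowers_iff.1 h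
  have hsq : g ^ (m * m - 1) = 1 := by
    have : T (T g) = g := by rw [← MulAut.mul_apply, hT]; rfl
    rw [← hm, map_zpow, ← hm, ← zpow_mul] at this
    rw [zpow_sub_one, this, mul_inv_cancel]
  obtain ⟨a, ha⟩ := IsPGroup.iff_orderOf.1 hP g
  have hd : ∀ z : ℤ, (g : V) ^ z = 1 → (p : ℤ) ∣ z := fun z hz =>
    orderOf_mk hP hg ▸ orderOf_dvd_iff_zpow_eq_one.2 hz
  have hkill : ∀ u w : ℤ, m * m - 1 = u * w → ¬ (p : ℤ) ∣ w → g ^ u = 1 := by
    intro u w huw hw
    rw [← orderOf_dvd_iff_zpow_eq_one, ha, Nat.cast_pow] at hsq ⊢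
    exact (((Nat.prime_iff_prime_int.1 hpf.out).coprime_iff_not_dvd.2 hw).pow_left).dvd_of_dvd_mul_right
      (huw ▸ hsq)
  have hp2' : ¬ (p : ℤ) ∣ 2 := by
    intro h2
    have := Nat.le_of_dvd (by norm_num) (by exact_mod_cast h2 : p ∣ 2)
    have := hpf.out.two_le
    omega
  constructor
  · intro he
    rw [← hm, QuotientGroup.mk_zpow] at he
    have h1 : (p : ℤ) ∣ m - 1 := hd _ (by rw [zpow_sub_one, he, mul_inv_cancel])
    have := hkill (m - 1) (m + 1) (by ring) fun h2 => hp2' (by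
      have := dvd_sub h2 h1; rwa [show m + 1 - (m - 1) = 2 by ring] at this)
    rwa [zpow_sub_one, mul_inv_eq_one, hm] at this
  · intro he
    rw [← hm, QuotientGroup.mk_zpow] at he
    have h1 : (p : ℤ) ∣ m + 1 := hd _ (by rw [zpow_add_one, he, inv_mul_cancel])
    have := hkill (m + 1) (m - 1) (by ring) fun h2 => hp2' (by
      have := dvd_sub h1 h2; rwa [show m + 1 - (m - 1) = 2 by ring] at this)
    rwa [zpow_add_one, mul_eq_one_iff_eq_inv, hm] at this

include hpf in
theorem Frame.generator (f : Frame s e₁ e₂ e₃ v₁ v₂ v₃) :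
    ∃ x : P, e₁ x = x ∧ e₂ x = x ∧ e₃ x = x⁻¹ ∧ (x : V) ≠ 1 ∧ (v₃ : V) ∈ zpowers (x : V) ∧
      ∀ z, (e₁ * e₂) z = z → z ∈ zpowers x := by
  obtain ⟨g, hg⟩ := s.disj _ f.prod12 f.ne12
  have hc : ∀ e ∈ I, e g ∈ zpowers g := fun e he => (hg (e g)).1 (by
    rw [← MulAut.mul_apply, ← s.comm e he _ (mul_mem f.e1 f.e2), MulAut.mul_apply,
      (hg g).2 (mem_zpowers g)])
  have hv3 : (v₃ : V) ≠ 1 := mk_ne_one s f.e3 f.m33
  have h12 : e₁ * e₂ ∈ Stab s v₃ := mul_mem f.m13 f.m23
  obtain ⟨y, hy, hyv⟩ := exists_fixed s.pgroup s.odd (s.sq _ h12.1) (frattini P)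
    (QuotientGroup.eq.1 h12.2.symm)
  obtain ⟨k, hk⟩ := mem_zpowers_iff.1 ((hg y).1 hy)
  have hvg : (v₃ : V) ∈ zpowers (g : V) := mem_zpowers_iff.2
    ⟨k, by rw [← QuotientGroup.mk_zpow, hk, (QuotientGroup.eq.2 hyv)]⟩
  have hg1 : (g : V) ≠ 1 := by
    intro h
    rw [h, zpowers_one_eq_bot, mem_bot] at hvg
    exact hv3 hvg
  have hgv := zpowers_symm s.pgroup hv3 hvg
  obtain ⟨l, hl⟩ := mem_zpowers_iff.1 hgv
  have himg : ∀ e : MulAut P, ((e g : P) : V) = ((e v₃ : P) : V) ^ l := fun e => by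
    rw [← mk_congr e (x := v₃ ^ l) (by rw [QuotientGroup.mk_zpow, hl]), map_zpow,
      QuotientGroup.mk_zpow]
  refine ⟨g, ?_, ?_, ?_, hg1, hvg, fun z hz => (hg z).1 hz⟩
  · exact (aut_cyclic s.pgroup s.odd (s.sq _ f.e1) hg1 (hc _ f.e1)).1 (by
      rw [himg, f.m13.2, hl])
  · exact (aut_cyclic s.pgroup s.odd (s.sq _ f.e2) hg1 (hc _ f.e2)).1 (by
      rw [himg, f.m23.2, hl])
  · exact (aut_cyclic s.pgroup s.odd (s.sq _ f.e3) hg1 (hc _ f.e3)).2 (by
      rw [himg, (f.w3 _ f.e3).resolve_left fun h => f.m33 ⟨f.e3, h⟩, inv_zpow, hl])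

include hpf in
/-- The conclusions on the group `P`. -/
theorem Frame.structureP (f : Frame s e₁ e₂ e₃ v₁ v₂ v₃) :
    IsMulCommutative P ∧ (∃ a b c : P, closure {a, b, c} = ⊤) ∧
      (¬ ∃ a b : P, closure {a, b} = ⊤) ∧ NB (e₁ * e₂ * e₃) := by
  obtain ⟨x₃, a13, a23, a33, n3, g3, z3⟩ := f.generator
  obtain ⟨x₁, a21, a31, a11, n1, g1, z1⟩ := f.rot.generator
  obtain ⟨x₂, a32, a12, a22, n2, g2, z2⟩ := f.rot.rot.generator
  have htop : closure ({x₁, x₂, x₃} : Set P) = ⊤ := by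
    refine frattini_nongenerating (eq_top_iff.2 (closure_wt s ▸ (closure_le _).2 fun x hx => ?_))
    have aux : ∀ {v y : P}, y ∈ ({x₁, x₂, x₃} : Set P) → (v : V) ∈ zpowers (y : V) →
        (x : V) ∈ zpowers (v : V) → x ∈ closure ({x₁, x₂, x₃} : Set P) ⊔ frattini P := by
      intro v y hy hv hxv
      obtain ⟨k, hk⟩ := mem_zpowers_iff.1 (zpowers_le.2 hv hxv)
      exact mem_sup_frattini_of_mk (zpow_mem (subset_closure hy) k)
        (by rw [QuotientGroup.mk_zpow, hk])
    rcases f.weight_cases hx with h | h | h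
    · exact aux (by simp) g1 h
    · exact aux (by simp) g2 h
    · exact aux (by simp) g3 h
  set N := ⁅commutator P, (⊤ : Subgroup P)⁆ with hN
  have hsq12 := s.sq _ (mul_mem f.e1 f.e2)
  have c12 : ⁅x₁, x₂⁆ ∈ N := comm_mem s.pgroup s.odd hsq12 (U := e₁)
    (by rw [MulAut.mul_apply, a21, a11]) (by rw [MulAut.mul_apply, a22, map_inv, a12])
    a11 a12 (fun z hz => by
      obtain ⟨k, rfl⟩ := mem_zpowers_iff.1 (z3 z hz)
      rw [map_zpow, a13])
  have c23 : ⁅x₂, x₃⁆ ∈ N := comm_mem s.pgroup s.odd (s.sq _ (mul_mem f.e2 f.e3)) (U := e₂)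
    (by rw [MulAut.mul_apply, a32, a22]) (by rw [MulAut.mul_apply, a33, map_inv, a23])
    a22 a23 (fun z hz => by
      obtain ⟨k, rfl⟩ := mem_zpowers_iff.1 (z1 z hz)
      rw [map_zpow, a21])
  have c31 : ⁅x₃, x₁⁆ ∈ N := comm_mem s.pgroup s.odd (s.sq _ (mul_mem f.e3 f.e1)) (U := e₃)
    (by rw [MulAut.mul_apply, a13, a33]) (by rw [MulAut.mul_apply, a11, map_inv, a31])
    a33 a31 (fun z hz => by
      obtain ⟨k, rfl⟩ := mem_zpowers_iff.1 (z2 z hz)
      rw [map_zpow, a32])
  have hle : commutator P ≤ N := by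
    rw [commutator_eq_closure, closure_le]
    set q := QuotientGroup.mk' N
    have hgen : ∀ u ∈ ({x₁, x₂, x₃} : Set P), ∀ v ∈ ({x₁, x₂, x₃} : Set P),
        Commute (q u) (q v) := by
      have k : ∀ {u v : P}, ⁅u, v⁆ ∈ N → Commute (q u) (q v) := fun h =>
        commutatorElement_eq_one_iff_commute.1
          (by rw [← map_commutatorElement]; exact (QuotientGroup.eq_one_iff _).2 h)
      simp only [Set.mem_insert_iff, Set.mem_singleton_iff]
      rintro u (rfl | rfl | rfl) v (rfl | rfl | rfl) <;>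
        first
        | exact Commute.refl _
        | exact k c12
        | exact (k c12).symm
        | exact k c23
        | exact (k c23).symm
        | exact k c31
        | exact (k c31).symm
    have hall : ∀ u v : P, Commute (q u) (q v) := by
      intro u v
      have hu : u ∈ closure ({x₁, x₂, x₃} : Set P) := htop ▸ mem_top u
      induction hu using closure_induction with
      | mem u hu =>
          have hv : v ∈ closure ({x₁, x₂, x₃} : Set P) := htop ▸ mem_top v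
          induction hv using closure_induction with
          | mem v hv => exact hgen u hu v hv
          | one => simp
          | mul a b _ _ ha hb => rw [map_mul]; exact ha.mul_right hb
          | inv a _ ha => rw [map_inv]; exact ha.inv_right
      | one => simp
      | mul a b _ _ ha hb => rw [map_mul]; exact ha.mul_left hb
      | inv a _ ha => rw [map_inv]; exact ha.inv_left
    rintro g ⟨u, v, rfl⟩
    refine (QuotientGroup.eq_one_iff _).1 ?_
    show q ⁅u, v⁆ = 1
    rw [map_commutatorElement]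
    exact commutatorElement_eq_one_iff_commute.2 (hall u v)
  have hnil : Group.IsNilpotent P := s.pgroup.isNilpotent
  have hlow : ∀ n, commutator P ≤ Subgroup.lowerCentralSeries (⊤ : Subgroup P) n := by
    intro n
    induction n with
    | zero => simp
    | succ n ih =>
        rw [Subgroup.lowerCentralSeries_succ]
        exact hle.trans (commutator_mono ih le_rfl)
  obtain ⟨n, hn⟩ := Subgroup.nilpotent_iff_lowerCentralSeries.1 hnil
  have hbot : commutator P = ⊥ := le_bot_iff.1 (hn ▸ hlow n)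
  have hcomm : ∀ u v : P, u * v = v * u := fun u v =>
    commutatorElement_eq_one_iff_commute.1 (mem_bot.1 (hbot ▸
      (commutator_def P ▸ commutator_mem_commutator (mem_top u) (mem_top v))))
  refine ⟨⟨⟨hcomm⟩⟩, ⟨x₁, x₂, x₃, htop⟩, ?_, ?_⟩
  · rintro ⟨a, b, hab⟩
    have hupper : Nat.card V ≤ p * p := by
      have hsurj : Function.Surjective
          (fun ij : Fin p × Fin p => (a : V) ^ (ij.1 : ℕ) * (b : V) ^ (ij.2 : ℕ)) := by
        intro w
        obtain ⟨w, rfl⟩ := QuotientGroup.mk_surjective w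
        have hp0 : (p : ℤ) ≠ 0 := by exact_mod_cast hpf.out.ne_zero
        have hred : ∀ (c : P) (k : ℤ), ∃ i : Fin p, ((c : V)) ^ (i : ℕ) = (c : V) ^ k := by
          intro c k
          refine ⟨⟨(k % p).toNat, ?_⟩, ?_⟩
          · have := Int.emod_lt_of_pos k (by have := hpf.out.pos; omega : (0 : ℤ) < p)
            have := Int.emod_nonneg k hp0
            omega
          · rw [← zpow_natCast, Int.toNat_of_nonneg (Int.emod_nonneg k hp0)]
            conv_rhs => rw [← Int.emod_add_mul_ediv k p, zpow_add, zpow_mul, zpow_natCast,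
              Cfsg.Lib.PGroups.pow_prime_quotient_frattini s.pgroup, one_zpow, mul_one]
        have hw : ∃ k l : ℤ, (w : V) = (a : V) ^ k * (b : V) ^ l := by
          have hw : w ∈ closure ({a, b} : Set P) := hab ▸ mem_top w
          have hc : ∀ u v : V, u * v = v * u := vcomm s.pgroup
          induction hw using closure_induction with
          | mem u hu =>
              rcases hu with rfl | rfl
              · exact ⟨1, 0, by simp⟩
              · exact ⟨0, 1, by simp⟩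
          | one => exact ⟨0, 0, by simp⟩
          | mul u v _ _ hu hv =>
              obtain ⟨k, l, hu⟩ := hu
              obtain ⟨k', l', hv⟩ := hv
              refine ⟨k + k', l + l', ?_⟩
              rw [QuotientGroup.mk_mul, hu, hv, zpow_add, zpow_add, mul_assoc, mul_assoc]
              congr 1
              rw [← mul_assoc, hc ((b : V) ^ l), mul_assoc]
          | inv u _ hu =>
              obtain ⟨k, l, hu⟩ := hu
              exact ⟨-k, -l, by rw [QuotientGroup.mk_inv, hu, mul_inv_rev, zpow_neg, zpow_neg, hc]⟩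
        obtain ⟨k, l, hkl⟩ := hw
        obtain ⟨i, hi⟩ := hred a k
        obtain ⟨j, hj⟩ := hred b l
        exact ⟨(i, j), by simp only [hi, hj, hkl]⟩
      have := Nat.card_le_card_of_surjective _ hsurj
      simpa [Nat.card_prod, Nat.card_eq_fintype_card] using this
    have hlower : p * p * p ≤ Nat.card V := by
      let F : Fin p × Fin p × Fin p → V := fun ijk =>
        ((x₁ ^ (ijk.1 : ℕ) * (x₂ ^ (ijk.2.1 : ℕ) * x₃ ^ (ijk.2.2 : ℕ)) : P) : V)
      have hF : Function.Injective F := by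
        rintro ⟨i, j, k⟩ ⟨i', j', k'⟩ h
        simp only [F] at h
        have half : ∀ {u u' w w' : V}, u * w = u' * w' → u⁻¹ * w = u'⁻¹ * w' → u * u = u' * u' := by
          intro u u' w w' h1 h2
          rw [show w = u⁻¹ * (u' * w') by rw [← h1, inv_mul_cancel_left]] at h2
          have hc : ∀ u v : V, u * v = v * u := vcomm s.pgroup
          have h3 : u⁻¹ * u⁻¹ * u' = u'⁻¹ := by
            have := congrArg (· * w'⁻¹) h2
            simpa [mul_assoc] using this
          calc u * u = u * u * (u⁻¹ * u⁻¹ * u' * u') := by rw [h3, inv_mul_cancel, mul_one]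
            _ = u' * u' := by group
        have cancel2 : ∀ (c : P), (c : V) ≠ 1 → ∀ i i' : Fin p,
            ((c : V)) ^ (i : ℕ) * (c : V) ^ (i : ℕ) = (c : V) ^ (i' : ℕ) * (c : V) ^ (i' : ℕ) → i = i' := by
          intro c hc i i' he
          rw [← pow_add, ← pow_add, pow_eq_pow_iff_modEq, orderOf_mk s.pgroup hc] at he
          rw [← two_mul, ← two_mul] at he
          have h2 := Nat.ModEq.cancel_left_of_coprime (c := 2)
            ((Nat.coprime_primes hpf.out Nat.prime_two).2 s.odd) he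
          exact Fin.ext (h2.eq_of_lt_of_lt i.2 i'.2)
        have hi : i = i' := by
          refine cancel2 x₁ n1 i i' (half (w := ((x₂ ^ (j : ℕ) * x₃ ^ (k : ℕ) : P) : V))
            (w' := ((x₂ ^ (j' : ℕ) * x₃ ^ (k' : ℕ) : P) : V)) ?_ ?_)
          · simpa using h
          · have := mk_congr e₁ h
            simpa [a11, a12, a13] using this
        subst hi
        rw [QuotientGroup.mk_mul, QuotientGroup.mk_mul (frattini P) (x₁ ^ (i : ℕ)), mul_right_inj] at h
        have hj : j = j' := by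
          refine cancel2 x₂ n2 j j' (half (w := ((x₃ ^ (k : ℕ) : P) : V))
            (w' := ((x₃ ^ (k' : ℕ) : P) : V)) ?_ ?_)
          · simpa using h
          · have := mk_congr e₂ h
            simpa [a22, a23] using this
        subst hj
        rw [QuotientGroup.mk_mul, QuotientGroup.mk_mul (frattini P) (x₂ ^ (j : ℕ)), mul_right_inj,
          QuotientGroup.mk_pow, QuotientGroup.mk_pow, pow_eq_pow_iff_modEq,
          orderOf_mk s.pgroup n3] at h
        rw [Fin.ext (h.eq_of_lt_of_lt k.2 k'.2)]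
      have := Nat.card_le_card_of_injective F hF
      simpa [Nat.card_prod, Nat.card_eq_fintype_card, mul_assoc] using this
    have := hpf.out.two_le
    nlinarith
  · refine ⟨1, fun z => ⟨fun hz => ?_, fun hz => ?_⟩⟩
    · have hinv : (e₁ * e₂ * e₃) z = z⁻¹ := by
        have hu : z ∈ closure ({x₁, x₂, x₃} : Set P) := htop ▸ mem_top z
        clear hz
        induction hu using closure_induction with
        | mem u hu =>
            rcases hu with rfl | rfl | rfl <;>
              simp [MulAut.mul_apply, a11, a12, a13, a21, a22, a23, a31, a32, a33, map_inv]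
        | one => simp
        | mul a b _ _ ha hb => rw [map_mul, ha, hb, mul_inv_rev, hcomm]
        | inv a _ ha => rw [map_inv, ha]
      rw [hz, eq_inv_iff_mul_eq_one, ← pow_two] at hinv
      obtain ⟨a, ha⟩ := IsPGroup.iff_orderOf.1 s.pgroup z
      have hd : p ^ a ∣ 2 := ha ▸ orderOf_dvd_of_pow_eq_one hinv
      rcases a with _ | a
      · rw [pow_zero, orderOf_eq_one_iff] at ha
        rw [ha]
        exact one_mem _
      · have := (Nat.prime_dvd_prime_iff_eq hpf.out Nat.prime_two).1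
          ((dvd_pow_self p a.succ_ne_zero).trans hd)
        exact absurd this s.odd
    · rw [zpowers_one_eq_bot, mem_bot] at hz
      rw [hz, map_one]

include hpf in
/-- The eight elements. -/
theorem Frame.cases (f : Frame s e₁ e₂ e₃ v₁ v₂ v₃) {T : MulAut P} (hT : T ∈ I) :
    T = 1 ∨ T = e₁ ∨ T = e₂ ∨ T = e₃ ∨ T = e₁ * e₂ ∨ T = e₂ * e₃ ∨ T = e₃ * e₁ ∨
      T = e₁ * e₂ * e₃ := by
  have p12 := mul_not_mem_left s f.m11 f.m21
  by_cases h1 : T ∈ Stab s v₁ <;> by_cases h2 : T ∈ Stab s v₂ <;> by_cases h3 : T ∈ Stab s v₃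
  · left
    exact f.det hT (one_mem _) (iff_of_true h1 (one_mem _)) (iff_of_true h2 (one_mem _))
      (iff_of_true h3 (one_mem _))
  · iterate 3 right
    left
    exact f.det hT f.e3 (iff_of_true h1 f.m31) (iff_of_true h2 f.m32) (iff_of_false h3 f.m33)
  · iterate 2 right
    left
    exact f.det hT f.e2 (iff_of_true h1 f.m21) (iff_of_false h2 f.m22) (iff_of_true h3 f.m23)
  · iterate 5 right
    left
    exact f.det hT (mul_mem f.e2 f.e3) (iff_of_true h1 (mul_mem f.m21 f.m31))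
      (iff_of_false h2 (mul_not_mem_left s f.m22 f.m32))
      (iff_of_false h3 (mul_not_mem_right s f.m23 f.m33))
  · right; left
    exact f.det hT f.e1 (iff_of_false h1 f.m11) (iff_of_true h2 f.m12) (iff_of_true h3 f.m13)
  · iterate 6 right
    left
    exact f.det hT (mul_mem f.e3 f.e1) (iff_of_false h1 (mul_not_mem_right s f.m31 f.m11))
      (iff_of_true h2 (mul_mem f.m32 f.m12)) (iff_of_false h3 (mul_not_mem_left s f.m33 f.m13))
  · iterate 4 right
    left
    exact f.det hT (mul_mem f.e1 f.e2) (iff_of_false h1 p12)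
      (iff_of_false h2 (mul_not_mem_right s f.m12 f.m22)) (iff_of_true h3 (mul_mem f.m13 f.m23))
  · iterate 7 right
    exact f.det hT (mul_mem (mul_mem f.e1 f.e2) f.e3)
      (iff_of_false h1 (mul_not_mem_left s p12 f.m31))
      (iff_of_false h2 (mul_not_mem_left s (mul_not_mem_right s f.m12 f.m22) f.m32))
      (iff_of_false h3 (mul_not_mem_right s (mul_mem f.m13 f.m23) f.m33))

include hpf in
theorem main (s : Setup p I I₀) (hI₀ : I₀ ≤ I) :
    IsMulCommutative P ∧ (∃ a b c : P, closure {a, b, c} = ⊤) ∧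
      (¬ ∃ a b : P, closure {a, b} = ⊤) ∧
      Nat.card {T : MulAut P // T ∈ I ∧ T ≠ 1 ∧ ¬ NB T} = 3 ∧
      closure {T : MulAut P | T ∈ I ∧ T ≠ 1 ∧ ¬ NB T} = I ∧
      (I₀ : Set (MulAut P)) = {S : MulAut P | ∃ T T' : MulAut P, T ∈ I ∧ T' ∈ I ∧ T ≠ 1 ∧ T' ≠ 1 ∧
        ¬ NB T ∧ ¬ NB T' ∧ S = T * T'} := by
  obtain ⟨e₁, e₂, e₃, v₁, v₂, v₃, f⟩ := exists_frame s
  obtain ⟨hab, h3, h2, h123⟩ := f.structureP
  have n1 := f.ne
  have n2 := f.rot.ne
  have n3 := f.rot.rot.ne
  have b3 := f.broad3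
  have b1 := f.rot.broad3
  have b2 := f.rot.rot.broad3
  have p12 := f.prod12
  have p23 := f.rot.prod12
  have p31 := f.rot.rot.prod12
  have hset : {T : MulAut P | T ∈ I ∧ T ≠ 1 ∧ ¬ NB T} = {e₁, e₂, e₃} := by
    ext T
    simp only [Set.mem_setOf_eq, Set.mem_insert_iff, Set.mem_singleton_iff]
    constructor
    · rintro ⟨hT, hT1, hTb⟩
      rcases f.cases hT with rfl | rfl | rfl | rfl | rfl | rfl | rfl | rfl
      · exact absurd rfl hT1
      · tauto
      · tauto
      · tauto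
      · exact absurd (s.disj _ p12 hT1) hTb
      · exact absurd (s.disj _ p23 hT1) hTb
      · exact absurd (s.disj _ p31 hT1) hTb
      · exact absurd h123 hTb
    · rintro (rfl | rfl | rfl)
      · exact ⟨f.e1, n1, b1⟩
      · exact ⟨f.e2, n2, b2⟩
      · exact ⟨f.e3, n3, b3⟩
  refine ⟨hab, h3, h2, ?_, ?_, ?_⟩
  · show Nat.card ↥{T : MulAut P | T ∈ I ∧ T ≠ 1 ∧ ¬ NB T} = 3
    rw [hset, Nat.card_coe_set_eq]
    exact Set.ncard_eq_three.2 ⟨e₁, e₂, e₃,
      fun h => f.m11 (h ▸ f.m21), fun h => f.m11 (h ▸ f.m31), fun h => f.m22 (h ▸ f.m32), rfl⟩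
  · rw [hset]
    refine le_antisymm ((closure_le _).2 ?_) fun T hT => ?_
    · rintro T (rfl | rfl | rfl)
      exacts [f.e1, f.e2, f.e3]
    · have m1 : e₁ ∈ closure ({e₁, e₂, e₃} : Set (MulAut P)) := subset_closure (by simp)
      have m2 : e₂ ∈ closure ({e₁, e₂, e₃} : Set (MulAut P)) := subset_closure (by simp)
      have m3 : e₃ ∈ closure ({e₁, e₂, e₃} : Set (MulAut P)) := subset_closure (by simp)
      rcases f.cases hT with rfl | rfl | rfl | rfl | rfl | rfl | rfl | rfl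
      exacts [one_mem _, m1, m2, m3, mul_mem m1 m2, mul_mem m2 m3, mul_mem m3 m1,
        mul_mem (mul_mem m1 m2) m3]
  · ext S
    simp only [SetLike.mem_coe, Set.mem_setOf_eq]
    constructor
    · intro hS
      have no : ∀ {e : MulAut P}, e ≠ 1 → ¬ NB e → e ∈ I₀ → False := fun h1 h2 h => h2 (s.disj _ h h1)
      rcases f.cases (hI₀ hS) with rfl | rfl | rfl | rfl | rfl | rfl | rfl | rfl
      · exact ⟨e₁, e₁, f.e1, f.e1, n1, n1, b1, b1, (s.sq _ f.e1).symm⟩
      · exact (no n1 b1 hS).elim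
      · exact (no n2 b2 hS).elim
      · exact (no n3 b3 hS).elim
      · exact ⟨e₁, e₂, f.e1, f.e2, n1, n2, b1, b2, rfl⟩
      · exact ⟨e₂, e₃, f.e2, f.e3, n2, n3, b2, b3, rfl⟩
      · exact ⟨e₃, e₁, f.e3, f.e1, n3, n1, b3, b1, rfl⟩
      · refine (no n3 b3 ?_).elim
        have := mul_mem (inv_mem p12) hS
        rwa [inv_mul_cancel_left] at this
    · rintro ⟨T, T', hT, hT', hT1, hT1', hb, hb', rfl⟩
      exact s.prod T hT T' hT' hT1 hT1' hb hb'

end Cfsg.Lib.BroadInvol
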