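import Cfsg.Agent.SolvStruct.FrobeniusFree

/-! Fixed points of a Sylow 2-subgroup on a module in characteristic two, via characters of a
normal abelian subgroup of odd order. -/

set_option autoImplicit false
set_option linter.unusedSectionVars false
set_option linter.style.haveILetI false

namespace Cfsg.Lib.FixedPointsCharTwo

open TensorProduct
open scoped commutatorElement

universe u v

theorem main {S : Type u} [Group S] [Finite S] (P : Subgroup S) [P.Normal] [hPc : IsMulCommutative P]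
    (hPodd : ¬ 2 ∣ Nat.card P) (hP1 : P ≠ ⊥) (T : Subgroup S) (hT : IsPGroup 2 T) (Q : Subgroup S) {q : ℕ}
    (hq : q.Prime) (hq2 : q ≠ 2) (hQ : Nat.card Q = q) (hcomm : ⁅P, Q⁆ = P)
    {E : Type v} [AddCommGroup E] [Module (ZMod 2) E] [Finite E] (ρ : Representation (ZMod 2) S E) (hE : Nontrivial E)
    (hirr : ∀ N : Submodule (ZMod 2) E, (∀ s : S, ∀ m ∈ N, ρ s m ∈ N) → N = ⊥ ∨ N = ⊤)
    (hfaith : ∀ x ∈ P, ρ x = 1 → x = 1) :
    8 ≤ Nat.card {v : E // ∀ s ∈ T, ρ s v = v} ∨
      (Nat.card {v : E // ∀ s ∈ T, ρ s v = v} = 4 ∧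
        ∃ x ∈ Q, ∃ v : E, (∀ s ∈ T, ρ s v = v) ∧ ¬ ∀ s ∈ T, ρ s (ρ x v) = ρ x v) := by
  classical
  haveI := Fact.mk hq
  cases nonempty_fintype S
  -- the fixed space and a complement
  set E₀ : Submodule (ZMod 2) E := ⨅ s : T, LinearMap.ker (ρ (s : S) - 1)
  have hE₀ : ∀ v, v ∈ E₀ ↔ ∀ s ∈ T, ρ s v = v := fun v => by
    simp only [E₀, Submodule.mem_iInf, LinearMap.mem_ker, LinearMap.sub_apply, Module.End.one_apply, sub_eq_zero,
      Subtype.forall]
  have hcard0 : Nat.card {v : E // ∀ s ∈ T, ρ s v = v} = 2 ^ Module.finrank (ZMod 2) E₀ := by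
    rw [← Nat.card_congr (Equiv.subtypeEquivRight hE₀), Module.natCard_eq_pow_finrank (K := ZMod 2) (V := E₀), Nat.card_zmod]
  let D : E →ₗ[ZMod 2] (T → E) := LinearMap.pi fun s => ρ (s : S) - 1
  have hD : LinearMap.ker D = E₀ := by simp [D, E₀, LinearMap.ker_pi]
  obtain ⟨C, hC⟩ := E₀.exists_isCompl
  have hDC : LinearMap.ker (D.comp C.subtype) = ⊥ := by
    refine LinearMap.ker_eq_bot'.2 fun c hc => Subtype.ext ?_
    exact Submodule.disjoint_def.1 hC.disjoint _ (hD.le (LinearMap.mem_ker.2 hc)) c.2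
  obtain ⟨g, hg⟩ := (D.comp C.subtype).exists_leftInverse_of_injective hDC
  set pr : E →ₗ[ZMod 2] E₀ := E₀.projectionOnto C hC
  set ι : E₀ →ₗ[ZMod 2] E := E₀.subtype
  have hdec : LinearMap.id = ι.comp pr + C.subtype.comp (g.comp D) := by
    refine LinearMap.ext fun v => ?_
    obtain ⟨a, ha, c, hc, rfl⟩ := Submodule.mem_sup.1 (hC.sup_eq_top.ge (Submodule.mem_top (x := v)))
    have h1 : D a = 0 := LinearMap.mem_ker.1 (hD.ge ha)
    have h2 : g (D c) = (⟨c, hc⟩ : C) := LinearMap.congr_fun hg ⟨c, hc⟩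
    have h3 : pr (a + c) = (⟨a, ha⟩ : E₀) := by
      rw [map_add, show pr a = (⟨a, ha⟩ : E₀) from Submodule.projectionOnto_apply_left hC ⟨a, ha⟩,
        show pr c = 0 from (Submodule.projectionOnto_apply_eq_zero_iff hC).2 hc, add_zero]
    simp only [LinearMap.id_apply, LinearMap.add_apply, LinearMap.comp_apply, h3]
    rw [map_add D a c, h1, zero_add, h2]
    rfl
  have hgD : g.comp D = ∑ s : T, (g.comp (LinearMap.single (ZMod 2) (fun _ : T => E) s)).comp (ρ (s : S) - 1) := by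
    refine LinearMap.ext fun v => ?_
    simp only [LinearMap.comp_apply, LinearMap.sum_apply]
    rw [← map_sum]
    congr 1
    funext t
    simp [D, Finset.sum_apply, Pi.single_apply]
  -- base change
  let K := AlgebraicClosure (ZMod 2)
  let V := K ⊗[ZMod 2] E
  let π : Representation K S V := (Module.End.baseChangeHom (ZMod 2) K E).toMonoidHom.comp ρ
  have hπ : ∀ s, π s = (ρ s).baseChange K := fun s => rfl
  set ι' : K ⊗[ZMod 2] E₀ →ₗ[K] V := ι.baseChange K
  have hrange : ∀ v : V, (∀ s ∈ T, π s v = v) → v ∈ LinearMap.range ι' := by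
    intro v hv
    have e := congrArg (fun φ : E →ₗ[ZMod 2] E => φ.baseChange K v) hdec
    simp only [LinearMap.baseChange_add, LinearMap.baseChange_comp, LinearMap.baseChange_id, LinearMap.add_apply,
      LinearMap.comp_apply, LinearMap.id_apply] at e
    have e2 : (g.comp D).baseChange K v = 0 := by
      rw [hgD]
      have e3 := map_sum (LinearMap.baseChangeHom (ZMod 2) K E C)
        (fun s : T => (g.comp (LinearMap.single (ZMod 2) (fun _ : T => E) s)).comp (ρ (s : S) - 1)) Finset.univ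
      change (LinearMap.baseChangeHom (ZMod 2) K E C
        (∑ s : T, (g.comp (LinearMap.single (ZMod 2) (fun _ : T => E) s)).comp (ρ (s : S) - 1))) v = 0
      rw [e3, LinearMap.sum_apply]
      refine Finset.sum_eq_zero fun s _ => ?_
      show ((g.comp (LinearMap.single (ZMod 2) (fun _ : T => E) s)).comp (ρ (s : S) - 1)).baseChange K v = 0
      rw [LinearMap.baseChange_comp, LinearMap.comp_apply, LinearMap.baseChange_sub, LinearMap.sub_apply, ← hπ, hv s s.2,
        show ((1 : Module.End (ZMod 2) E).baseChange K) v = v by rw [Module.End.one_eq_id, LinearMap.baseChange_id]; rfl,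
        sub_self, map_zero]
    rw [LinearMap.baseChange_comp, LinearMap.comp_apply] at e2
    rw [e2, map_zero, add_zero] at e
    exact ⟨_, e.symm⟩
  set Fx : Submodule K V := ⨅ s : T, LinearMap.ker (π (s : S) - 1)
  have hFx : ∀ v, v ∈ Fx ↔ ∀ s ∈ T, π s v = v := fun v => by
    simp only [Fx, Submodule.mem_iInf, LinearMap.mem_ker, LinearMap.sub_apply, Module.End.one_apply, sub_eq_zero,
      Subtype.forall]
  have hdim : Module.finrank K Fx ≤ Module.finrank (ZMod 2) E₀ := by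
    calc Module.finrank K Fx ≤ Module.finrank K (LinearMap.range ι') :=
          Submodule.finrank_mono fun v hv => hrange v ((hFx v).1 hv)
      _ ≤ Module.finrank K (K ⊗[ZMod 2] E₀) := LinearMap.finrank_range_le ι'
      _ = _ := Module.finrank_baseChange
  -- characters
  haveI : NeZero ((2 : ℕ)) := ⟨two_ne_zero⟩
  haveI : CharP K 2 := charP_of_injective_algebraMap (algebraMap (ZMod 2) K).injective 2
  cases nonempty_fintype P
  letI : CommGroup P := { (inferInstance : Group P) with mul_comm := fun a b => mul_comm' a b }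
  haveI : NeZero ((Monoid.exponent P : ℕ) : K) := ⟨fun h => hPodd
    (((CharP.cast_eq_zero_iff K 2 _).1 h).trans Group.exponent_dvd_nat_card)⟩
  haveI : Finite (P →* Kˣ) :=
    Finite.of_equiv _ (CommGroup.monoidHom_mulEquiv_of_hasEnoughRootsOfUnity P K).some.toEquiv.symm
  cases nonempty_fintype (P →* Kˣ)
  have hcardX : Fintype.card (P →* Kˣ) = Nat.card P := by
    rw [← Nat.card_eq_fintype_card]
    exact Nat.card_congr (CommGroup.monoidHom_mulEquiv_of_hasEnoughRootsOfUnity P K).some.toEquiv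
  have hn0 : ((Nat.card P : ℕ) : K) ≠ 0 := fun h => hPodd ((CharP.cast_eq_zero_iff K 2 _).1 h)
  have horth : ∀ x : P, x ≠ 1 → ∑ χ : P →* Kˣ, (χ x : K) = 0 := by
    intro x hx
    obtain ⟨φ, hφ⟩ := CommGroup.exists_apply_ne_one_of_hasEnoughRootsOfUnity P K hx
    have h1 : (φ x : K) * ∑ χ : P →* Kˣ, (χ x : K) = ∑ χ : P →* Kˣ, (χ x : K) := by
      rw [Finset.mul_sum]
      exact Fintype.sum_equiv (Equiv.mulLeft φ) _ _ fun χ => by simp
    by_contra h0
    exact hφ (Units.ext (mul_right_cancel₀ h0 (h1.trans (one_mul _).symm)))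
  let e : (P →* Kˣ) → (V →ₗ[K] V) := fun χ => (Nat.card P : K)⁻¹ • ∑ x : P, (χ x⁻¹ : K) • π (x : S)
  have he : ∀ χ v, e χ v = (Nat.card P : K)⁻¹ • ∑ x : P, (χ x⁻¹ : K) • π (x : S) v := fun χ v => by
    simp [e, LinearMap.smul_apply, LinearMap.sum_apply]
  have hsum : ∀ v, ∑ χ, e χ v = v := by
    intro v
    simp only [he, ← Finset.smul_sum]
    rw [Finset.sum_comm, Finset.sum_eq_single (1 : P)]
    · simp only [inv_one, map_one, Units.val_one, one_smul, Subgroup.coe_one, Module.End.one_apply, Finset.sum_const,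
        Finset.card_univ]
      rw [hcardX, ← Nat.cast_smul_eq_nsmul K, smul_smul, inv_mul_cancel₀ hn0, one_smul]
    · intro x _ hx
      rw [← Finset.sum_smul, horth x⁻¹ (inv_ne_one.2 hx), zero_smul]
    · intro h; exact absurd (Finset.mem_univ _) h
  have heig : ∀ (χ : P →* Kˣ) (x : P) v, π (x : S) (e χ v) = (χ x : K) • e χ v := by
    intro χ x v
    simp only [he, map_smul, map_sum]
    rw [smul_comm (χ x : K) ((Nat.card P : K)⁻¹)]
    congr 1
    rw [Finset.smul_sum]
    refine Fintype.sum_equiv (Equiv.mulLeft x) _ _ fun y => ?_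
    simp only [Equiv.coe_mulLeft]
    rw [smul_smul (χ x : K), ← Units.val_mul, ← map_mul, show x * (x * y)⁻¹ = y⁻¹ by rw [mul_inv_rev, mul_comm y⁻¹]; group,
      Subgroup.coe_mul, map_mul, Module.End.mul_apply]
  have hzero : ∀ (χ ψ : P →* Kˣ) v, ψ ≠ χ → e ψ (e χ v) = 0 := by
    intro χ ψ v hne
    have h1 : ∀ x : P, (ψ x : K) • e ψ (e χ v) = (χ x : K) • e ψ (e χ v) := by
      intro x
      rw [← heig, ← map_smul, ← heig χ x v]
      simp only [he, map_smul, map_sum]
      congr 1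
      refine Finset.sum_congr rfl fun y _ => ?_
      congr 2
      simp only [← Finset.smul_sum, ← map_smul, ← map_sum]
      rw [← Module.End.mul_apply, ← Module.End.mul_apply, ← map_mul, ← map_mul, ← Subgroup.coe_mul, ← Subgroup.coe_mul, mul_comm]
    by_contra h0
    exact hne (MonoidHom.ext fun x => Units.ext (smul_left_injective K h0 (h1 x)))
  -- the conjugation action on characters
  letI : MulAction S (P →* Kˣ) :=
    { smul := fun g χ => χ.comp (MulAut.conjNormal g⁻¹ : MulAut P).toMonoidHom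
      one_smul := fun χ => MonoidHom.ext fun x => by
        show χ (MulAut.conjNormal (1 : S)⁻¹ x) = χ x
        rw [inv_one, map_one]; rfl
      mul_smul := fun g h χ => MonoidHom.ext fun x => by
        show χ (MulAut.conjNormal (g * h)⁻¹ x) = χ (MulAut.conjNormal h⁻¹ (MulAut.conjNormal g⁻¹ x))
        rw [mul_inv_rev, map_mul]; rfl }
  have hsm : ∀ (g : S) (χ : P →* Kˣ) (x : P), (g • χ) x = χ (MulAut.conjNormal g⁻¹ x) := fun g χ x => rfl
  have hcov : ∀ (g : S) (χ : P →* Kˣ) v, π g (e χ v) = e (g • χ) (π g v) := by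
    intro g χ v
    simp only [he, map_smul, map_sum, hsm]
    congr 1
    refine Fintype.sum_equiv (MulAut.conjNormal g : MulAut P).toEquiv _ _ fun x => ?_
    show (χ x⁻¹ : K) • π g (π (x : S) v) =
      (χ (MulAut.conjNormal g⁻¹ (MulAut.conjNormal g x)⁻¹) : K) • π ((MulAut.conjNormal g x : P) : S) (π g v)
    rw [map_inv (MulAut.conjNormal g⁻¹ : MulAut P), ← MulAut.mul_apply, ← map_mul (MulAut.conjNormal (H := P)), inv_mul_cancel,
      map_one, MulAut.one_apply, MulAut.conjNormal_apply, ← Module.End.mul_apply, ← Module.End.mul_apply, ← map_mul, ← map_mul]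
    congr 2; group
  -- no fixed vectors for `P`
  have hone : ∀ v, e 1 v = 0 := by
    have hfix : ∀ u : E, (∀ x : P, ρ (x : S) u = u) → u = 0 := by
      intro u hu
      let N : Submodule (ZMod 2) E := ⨅ x : P, LinearMap.ker (ρ (x : S) - 1)
      have hN : ∀ w, w ∈ N ↔ ∀ x : P, ρ (x : S) w = w := fun w => by
        simp [N, Submodule.mem_iInf, sub_eq_zero]
      rcases hirr N (fun g w hw => (hN _).2 fun x => by
        have h := (hN w).1 hw ⟨g⁻¹ * x * g, by
          simpa using Subgroup.Normal.conj_mem (inferInstance : P.Normal) x x.2 g⁻¹⟩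
        conv_rhs => rw [← h]
        rw [← Module.End.mul_apply, ← Module.End.mul_apply, ← map_mul, ← map_mul]
        congr 2; group) with h | h
      · have := (hN u).2 hu; rwa [h, Submodule.mem_bot] at this
      · refine absurd ?_ hP1
        refine eq_bot_iff.2 fun x hx => Subgroup.mem_bot.2 (hfaith x hx (LinearMap.ext fun w => ?_))
        exact (hN w).1 (h ▸ Submodule.mem_top) ⟨x, hx⟩
    have hav : ∑ x : P, ρ (x : S) = 0 := LinearMap.ext fun u => hfix _ fun y => by
      rw [LinearMap.sum_apply, map_sum]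
      exact Fintype.sum_equiv (Equiv.mulLeft y) _ _ fun x => by
        simp only [Equiv.coe_mulLeft, Subgroup.coe_mul, map_mul]; rfl
    intro v
    have e1 := congrArg (fun φ : Module.End (ZMod 2) E => Module.End.baseChangeHom (ZMod 2) K E φ v) hav
    simp only [map_sum, map_zero, LinearMap.sum_apply, LinearMap.zero_apply] at e1
    rw [he]
    simp only [MonoidHom.one_apply, Units.val_one, one_smul]
    rw [show ∑ x : P, π (x : S) v = 0 from e1, smul_zero]
  set Ω : Finset (P →* Kˣ) := Finset.univ.filter fun χ => e χ ≠ 0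
  have hΩ : ∀ χ, χ ∈ Ω ↔ e χ ≠ 0 := fun χ => by simp [Ω]
  have hΩs : ∀ (g : S) χ, χ ∈ Ω → g • χ ∈ Ω := by
    intro g χ hχ
    rw [hΩ] at hχ ⊢
    intro h
    refine hχ (LinearMap.ext fun v => ?_)
    have h1 := hcov g χ v
    rw [h, LinearMap.zero_apply] at h1
    have := congrArg (π g⁻¹) h1
    rwa [map_zero, ← Module.End.mul_apply, ← map_mul, inv_mul_cancel, map_one, Module.End.one_apply] at this
  obtain ⟨y, hyQ, hy1⟩ : ∃ y ∈ Q, y ≠ (1 : S) := (Subgroup.bot_or_exists_ne_one Q).resolve_left fun h => by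
    rw [h, Subgroup.card_bot] at hQ; exact hq.one_lt.ne hQ
  have hord : orderOf y = q := (hq.eq_one_or_self_of_dvd _ (hQ ▸ Subgroup.orderOf_dvd_natCard Q hyQ)).resolve_left
    fun h => hy1 (orderOf_eq_one_iff.1 h)
  have hyfix : ∀ χ ∈ Ω, y • χ ≠ χ := by
    intro χ hχ hyχ
    have hQfix : ∀ s ∈ Q, s • χ = χ := by
      have hgen : Subgroup.zpowers y = Q := Subgroup.eq_of_le_of_card_ge (Subgroup.zpowers_le.2 hyQ)
        (by rw [Nat.card_zpowers, hord, hQ])
      intro s hs
      rw [← hgen] at hs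
      have : Subgroup.zpowers y ≤ MulAction.stabilizer S χ := Subgroup.zpowers_le.2 hyχ
      exact this hs
    refine (hΩ χ).1 hχ ?_
    have hχ1 : χ = 1 := by
      refine MonoidHom.ext fun x => ?_
      have hker : ⁅P, Q⁆ ≤ χ.ker.map P.subtype := by
        refine Subgroup.commutator_le.2 fun a ha s hs => ?_
        have h1 := DFunLike.congr_fun (hQfix s hs) ((MulAut.conjNormal s : MulAut P) (⟨a, ha⟩⁻¹))
        rw [hsm, ← MulAut.mul_apply, ← map_mul, inv_mul_cancel, map_one, MulAut.one_apply] at h1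
        refine ⟨⟨a, ha⟩ * (MulAut.conjNormal s : MulAut P) (⟨a, ha⟩⁻¹), ?_, ?_⟩
        · show χ _ = 1
          rw [map_mul, ← h1, ← map_mul, mul_inv_cancel, map_one]
        · show a * ((MulAut.conjNormal s : MulAut P) (⟨a, ha⟩⁻¹) : S) = ⁅a, s⁆
          rw [MulAut.conjNormal_apply, commutatorElement_def]
          show a * (s * a⁻¹ * s⁻¹) = _
          group
      obtain ⟨x', hx', hxx⟩ := hker (hcomm.ge x.2)
      obtain rfl : x' = x := Subtype.ext hxx
      rw [MonoidHom.one_apply]; exact hx'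
    rw [hχ1]; exact LinearMap.ext hone
  -- orbits and fixed vectors
  have horbit : ∀ χ ∈ Ω, ∃ w ∈ Fx, ∀ ψ, e ψ w ≠ 0 ↔ ψ ∈ MulAction.orbit T χ := by
    intro χ hχ
    set St := MulAction.stabilizer T χ
    let U : Submodule K V := LinearMap.range (e χ)
    have hUinv : ∀ (s : St), ∀ u ∈ U, π ((s : T) : S) u ∈ U := by
      rintro s _ ⟨v, rfl⟩
      rw [hcov, show ((s : T) : S) • χ = χ from s.2]
      exact ⟨_, rfl⟩
    haveI : Nontrivial U := Submodule.nontrivial_iff_ne_bot.2 fun h => (hΩ χ).1 hχ (LinearMap.range_eq_bot.1 h)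
    obtain ⟨u, hu0, hufix⟩ := Cfsg.Lib.FrobeniusFree.exists_fixed (k := K) (U := U) (p := 2) ((hT.to_subgroup St))
      (Cfsg.Lib.FrobeniusFree.res ((π.comp T.subtype).comp St.subtype) U hUinv)
    have hwd : ∀ s s' : T, s⁻¹ * s' ∈ St → π (s : S) u.1 = π (s' : S) u.1 := by
      intro s s' h
      have h1 : π ((s⁻¹ * s' : T) : S) u.1 = u.1 := congrArg Subtype.val (hufix ⟨_, h⟩)
      conv_lhs => rw [← h1]
      rw [← Module.End.mul_apply, ← map_mul, ← Subgroup.coe_mul, mul_inv_cancel_left]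
    choose rp hrp0 using fun ψ : MulAction.orbit T χ => ψ.2
    have hrp : ∀ ψ, rp ψ • χ = ψ.1 := hrp0
    set w := ∑ ψ : MulAction.orbit T χ, π (rp ψ : S) u.1
    have hsupp : ∀ (s : T), e (s • χ) (π (s : S) u.1) = π (s : S) u.1 := by
      intro s
      obtain ⟨v, hv⟩ := u.2
      rw [show (s • χ : P →* Kˣ) = (s : S) • χ from rfl, ← hcov]
      congr 1
      rw [← hv]
      have := hsum (e χ v)
      rw [Finset.sum_eq_single χ (fun ψ _ hne => hzero χ ψ v hne) (fun h => absurd (Finset.mem_univ _) h)] at this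
      exact this
    refine ⟨w, (hFx w).2 fun t ht => ?_, fun ψ => ?_⟩
    · simp only [w, map_sum]
      refine Fintype.sum_equiv (MulAction.toPerm (⟨t, ht⟩ : T)) _ _ fun ψ => ?_
      rw [← Module.End.mul_apply, ← map_mul]
      show π (((⟨t, ht⟩ : T) * rp ψ : T) : S) u.1 = _
      refine hwd _ _ ?_
      show ((⟨t, ht⟩ : T) * rp ψ)⁻¹ * rp (MulAction.toPerm (⟨t, ht⟩ : T) ψ) ∈ MulAction.stabilizer T χ
      rw [MulAction.mem_stabilizer_iff, mul_smul, inv_smul_eq_iff, mul_smul, hrp, hrp]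
      rfl
    · have hterm : ∀ φ : MulAction.orbit T χ, e ψ (π (rp φ : S) u.1) =
          if φ.1 = ψ then π (rp φ : S) u.1 else 0 := by
        intro φ
        have h1 := hsupp (rp φ)
        rw [hrp φ] at h1
        split_ifs with h
        · rw [← h]; exact h1
        · rw [← h1]; exact hzero _ _ _ (Ne.symm h)
      simp only [w, map_sum, hterm]
      constructor
      · intro h
        by_contra hψ
        exact h (Finset.sum_eq_zero fun φ _ => if_neg fun h' => hψ (by rw [← h']; exact φ.2))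
      · intro hψ
        rw [Finset.sum_eq_single (⟨ψ, hψ⟩ : MulAction.orbit T χ) (fun φ _ hne => if_neg fun h' => hne (Subtype.ext h'))
          (fun h => absurd (Finset.mem_univ _) h), if_pos rfl]
        intro h0
        have := congrArg (π ((rp ⟨ψ, hψ⟩ : T) : S)⁻¹) h0
        rw [← Module.End.mul_apply, ← map_mul, inv_mul_cancel, map_one, Module.End.one_apply, map_zero] at this
        exact hu0 (Subtype.ext this)
  choose! w hwF hw using horbit
  -- an element in the support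
  obtain ⟨χ₁, hχ₁⟩ : ∃ χ, χ ∈ Ω := by
    obtain ⟨v₀, hv₀⟩ := exists_ne (0 : E)
    haveI : Nontrivial V := Module.nontrivial_of_finrank_pos (R := K)
      (by rw [Module.finrank_baseChange]; exact Module.finrank_pos)
    obtain ⟨v, hv⟩ := exists_ne (0 : V)
    by_contra h
    push Not at h
    refine hv ?_
    rw [← hsum v]
    exact Finset.sum_eq_zero fun χ _ => by
      rw [show e χ = 0 from not_not.1 fun h' => h χ ((hΩ χ).2 h'), LinearMap.zero_apply]
  have hTy : ∀ χ ∈ Ω, (∀ ψ ∈ MulAction.orbit T χ, y • ψ ∈ MulAction.orbit T χ) → False := by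
    intro χ hχ hinv
    let O := MulAction.orbit T χ
    have hpow : ∀ ψ ∈ O, ∀ k : ℕ, y ^ k • ψ ∈ O := by
      intro ψ hψ k
      induction k with
      | zero => rwa [pow_zero, one_smul]
      | succ k ih => rw [pow_succ', mul_smul]; exact hinv _ ih
    have hzp : ∀ g : Subgroup.zpowers y, ∀ ψ ∈ O, (g : S) • ψ ∈ O := by
      intro g ψ hψ
      obtain ⟨k, hk⟩ := (mem_powers_iff_mem_zpowers (x := y)).2 g.2
      rw [← hk]; exact hpow ψ hψ k
    letI : MulAction (Subgroup.zpowers y) O :=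
      { smul := fun g ψ => ⟨(g : S) • ψ.1, hzp g ψ.1 ψ.2⟩
        one_smul := fun ψ => Subtype.ext (one_smul S ψ.1)
        mul_smul := fun a b ψ => Subtype.ext (mul_smul (a : S) (b : S) ψ.1) }
    have hQp : IsPGroup q (Subgroup.zpowers y) := IsPGroup.of_card (n := 1) (by rw [Nat.card_zpowers, hord, pow_one])
    have hmod := hQp.card_modEq_card_fixedPoints O
    haveI hempty : IsEmpty (MulAction.fixedPoints (Subgroup.zpowers y) O) := ⟨fun ψ => by
      have h1 := congrArg Subtype.val (ψ.2 ⟨y, Subgroup.mem_zpowers y⟩)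
      refine hyfix ψ.1.1 ?_ h1
      obtain ⟨t, ht⟩ := ψ.1.2
      rw [← ht]
      exact hΩs _ _ hχ⟩
    rw [show Nat.card (MulAction.fixedPoints (Subgroup.zpowers y) O) = 0 from Nat.card_of_isEmpty] at hmod
    have hd : q ∣ Nat.card O := Nat.modEq_zero_iff_dvd.1 hmod
    obtain ⟨k, hk⟩ := hT.card_orbit χ
    rw [hk] at hd
    exact hq2 ((Nat.prime_dvd_prime_iff_eq hq Nat.prime_two).1 (hq.dvd_of_dvd_pow hd))
  obtain ⟨χ₂, hχ₂, hne⟩ : ∃ χ ∈ Ω, χ ∉ MulAction.orbit T χ₁ := by
    by_contra h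
    push Not at h
    refine hTy χ₁ hχ₁ fun ψ hψ => h _ ?_
    obtain ⟨t, rfl⟩ := hψ
    exact hΩs y _ (hΩs _ _ hχ₁)
  have hdisj : ∀ a b : P →* Kˣ, b ∉ MulAction.orbit T a → ∀ ψ, ψ ∈ MulAction.orbit T b → ψ ∉ MulAction.orbit T a := by
    intro a b hb ψ h1 h2
    rw [← MulAction.orbit_eq_iff.2 h2, MulAction.orbit_eq_iff.2 h1] at hb
    exact hb (MulAction.mem_orbit_self b)
  have hn : ∀ χ ∈ Ω, e χ (w χ) ≠ 0 := fun χ hχ => (hw χ hχ χ).2 (MulAction.mem_orbit_self χ)
  have hz : ∀ χ ∈ Ω, ∀ ψ, ψ ∉ MulAction.orbit T χ → e ψ (w χ) = 0 := fun χ hχ ψ hψ =>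
    not_not.1 fun h => hψ ((hw χ hχ ψ).1 h)
  have hne' : χ₁ ∉ MulAction.orbit T χ₂ := fun h => hne (MulAction.mem_orbit_symm.1 h)
  have hli : LinearIndependent K ![w χ₁, w χ₂] := by
    refine LinearIndependent.pair_iff.2 ?_
    intro a b hab
    have h1 := congrArg (e χ₁) hab
    have h2 := congrArg (e χ₂) hab
    rw [map_add, map_smul, map_smul, map_zero, hz χ₂ hχ₂ χ₁ hne', smul_zero, add_zero] at h1
    rw [map_add, map_smul, map_smul, map_zero, hz χ₁ hχ₁ χ₂ hne, smul_zero, zero_add] at h2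
    exact ⟨(smul_eq_zero.1 h1).resolve_right (hn χ₁ hχ₁), (smul_eq_zero.1 h2).resolve_right (hn χ₂ hχ₂)⟩
  have hW : Submodule.span K (Set.range ![w χ₁, w χ₂]) ≤ Fx :=
    Submodule.span_le.2 (Set.range_subset_iff.2 fun i => by
      fin_cases i
      · exact hwF χ₁ hχ₁
      · exact hwF χ₂ hχ₂)
  have hW2 : Module.finrank K (Submodule.span K (Set.range ![w χ₁, w χ₂])) = 2 := by
    rw [finrank_span_eq_card hli, Fintype.card_fin]
  have h2le : 2 ≤ Module.finrank (ZMod 2) E₀ := le_trans ((le_of_eq hW2.symm).trans (Submodule.finrank_mono hW)) hdim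
  rcases eq_or_lt_of_le h2le with heq | hlt
  swap
  · left
    rw [hcard0]
    exact le_trans (by norm_num) (Nat.pow_le_pow_right two_pos hlt)
  right
  refine ⟨by rw [hcard0, ← heq]; rfl, y, hyQ, ?_⟩
  by_contra hcon
  push Not at hcon
  have hfr : Module.finrank K Fx ≤ 2 := by omega
  have hspan : ∀ v ∈ Fx, ∃ a b : K, a • w χ₁ + b • w χ₂ = v := by
    intro v hv
    have hEq : Submodule.span K (Set.range ![w χ₁, w χ₂]) = Fx :=
      Submodule.eq_of_le_of_finrank_le hW (hfr.trans (le_of_eq hW2.symm))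
    rw [← hEq, Matrix.range_cons, Matrix.range_cons, Matrix.range_empty, Set.union_empty, Set.singleton_union,
      Submodule.mem_span_pair] at hv
    exact hv
  have hyF : ∀ v ∈ Fx, π y v ∈ Fx := by
    intro v hv
    obtain ⟨m, rfl⟩ := hrange v ((hFx v).1 hv)
    have hres : ∀ u ∈ E₀, ρ y u ∈ E₀ := fun u hu => (hE₀ _).2 (hcon u ((hE₀ u).1 hu))
    refine (hFx _).2 fun s hs => ?_
    show (ρ s).baseChange K ((ρ y).baseChange K (ι.baseChange K m)) = (ρ y).baseChange K (ι.baseChange K m)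
    simp only [← LinearMap.comp_apply, ← LinearMap.baseChange_comp]
    have e1 : (ρ s).comp ((ρ y).comp ι) = (ρ y).comp ι := LinearMap.ext fun u => (hE₀ _).1 (hres u.1 u.2) s hs
    rw [e1]
  have hmove : ∀ χ ∈ Ω, (∀ ψ, y⁻¹ • ψ ∈ MulAction.orbit T χ ↔ e ψ (π y (w χ)) ≠ 0) := by
    intro χ hχ ψ
    rw [← hw χ hχ]
    have h1 := hcov y (y⁻¹ • ψ) (w χ)
    rw [smul_inv_smul] at h1
    rw [← h1]
    refine not_congr ⟨fun h => by rw [h, map_zero], fun h => ?_⟩
    have := congrArg (π y⁻¹) h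
    rwa [map_zero, ← Module.End.mul_apply, ← map_mul, inv_mul_cancel, map_one, Module.End.one_apply] at this
  set O₁ := MulAction.orbit T χ₁
  set O₂ := MulAction.orbit T χ₂
  have himage : ∀ χ ∈ Ω, (MulAction.orbit T χ = O₁ ∨ MulAction.orbit T χ = O₂) →
      ({ψ | y⁻¹ • ψ ∈ MulAction.orbit T χ} = O₁ ∨ {ψ | y⁻¹ • ψ ∈ MulAction.orbit T χ} = O₂) := by
    intro χ hχ hor
    obtain ⟨a, b, hab⟩ := hspan _ (hyF _ (hwF χ hχ))
    have hval : ∀ ψ, e ψ (π y (w χ)) = a • e ψ (w χ₁) + b • e ψ (w χ₂) := fun ψ => by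
      rw [← hab, map_add, map_smul, map_smul]
    have hin1 : ∀ ψ ∈ O₁, e ψ (π y (w χ)) = a • e ψ (w χ₁) := fun ψ h => by
      rw [hval, hz χ₂ hχ₂ ψ (fun h' => hdisj χ₁ χ₂ hne ψ h' h), smul_zero, add_zero]
    have hin2 : ∀ ψ ∈ O₂, e ψ (π y (w χ)) = b • e ψ (w χ₂) := fun ψ h => by
      rw [hval, hz χ₁ hχ₁ ψ (hdisj χ₁ χ₂ hne ψ h), smul_zero, zero_add]
    have hout : ∀ ψ, ψ ∉ O₁ → ψ ∉ O₂ → e ψ (π y (w χ)) = 0 := fun ψ h1 h2 => by
      rw [hval, hz χ₁ hχ₁ ψ h1, hz χ₂ hχ₂ ψ h2, smul_zero, smul_zero, add_zero]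
    set M := {ψ | y⁻¹ • ψ ∈ MulAction.orbit T χ} with hMdef
    have hM : ∀ ψ, ψ ∈ M ↔ e ψ (π y (w χ)) ≠ 0 := hmove χ hχ
    rcases eq_or_ne a 0 with rfl | ha
    · right
      ext ψ
      rw [hM]
      constructor
      · intro h
        by_contra h2
        by_cases h1 : ψ ∈ O₁
        · exact h (by rw [hin1 ψ h1, zero_smul])
        · exact h (hout ψ h1 h2)
      · intro h
        rcases eq_or_ne b 0 with rfl | hb
        · exfalso
          have h0 : π y (w χ) = 0 := by rw [← hab, zero_smul, zero_smul, add_zero]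
          have := congrArg (π y⁻¹) h0
          rw [map_zero, ← Module.End.mul_apply, ← map_mul, inv_mul_cancel, map_one, Module.End.one_apply] at this
          exact hn χ hχ (by rw [this, map_zero])
        · rw [hin2 ψ h]
          exact smul_ne_zero hb ((hw χ₂ hχ₂ ψ).2 h)
    rcases eq_or_ne b 0 with rfl | hb
    · left
      ext ψ
      rw [hM]
      constructor
      · intro h
        by_contra h1
        by_cases h2 : ψ ∈ O₂
        · exact h (by rw [hin2 ψ h2, zero_smul])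
        · exact h (hout ψ h1 h2)
      · intro h
        rw [hin1 ψ h]
        exact smul_ne_zero ha ((hw χ₁ hχ₁ ψ).2 h)
    · exfalso
      have hsub : O₁ ∪ O₂ ⊆ M := by
        rintro ψ (h | h)
        · rw [hM, hin1 ψ h]; exact smul_ne_zero ha ((hw χ₁ hχ₁ ψ).2 h)
        · rw [hM, hin2 ψ h]; exact smul_ne_zero hb ((hw χ₂ hχ₂ ψ).2 h)
      have hMcard : M.ncard = (MulAction.orbit T χ).ncard := by
        rw [show M = (fun ψ => y • ψ) '' MulAction.orbit T χ from ?_,
          Set.ncard_image_of_injective _ (MulAction.injective y)]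
        ext ψ
        exact ⟨fun h => ⟨y⁻¹ • ψ, h, smul_inv_smul y ψ⟩, fun ⟨φ, h, e'⟩ => by
          rw [hMdef, Set.mem_setOf_eq, ← e']; simpa using h⟩
      have hu : (O₁ ∪ O₂).ncard = O₁.ncard + O₂.ncard :=
        Set.ncard_union_eq (Set.disjoint_left.2 fun ψ h h' => hdisj χ₁ χ₂ hne ψ h' h)
      have hle := Set.ncard_le_ncard hsub
      have hp1 : 0 < O₁.ncard := (Set.ncard_pos).2 ⟨χ₁, MulAction.mem_orbit_self _⟩
      have hp2 : 0 < O₂.ncard := (Set.ncard_pos).2 ⟨χ₂, MulAction.mem_orbit_self _⟩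
      rcases hor with h | h <;> rw [h] at hMcard <;> omega
  -- `y` permutes the two orbits
  let f : Set (P →* Kˣ) → Set (P →* Kˣ) := fun A => {ψ | y⁻¹ • ψ ∈ A}
  have finj : Function.Injective f := fun A B h => Set.ext fun ψ => by
    have h1 : (y • ψ ∈ f A) ↔ (y • ψ ∈ f B) := by rw [h]
    simpa [f] using h1
  have fpow : ∀ A, ∀ k : ℕ, f^[k] A = {ψ | (y⁻¹) ^ k • ψ ∈ A} := by
    intro A k
    induction k with
    | zero => simp
    | succ k ih =>
      rw [Function.iterate_succ_apply', ih]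
      ext ψ
      show (y⁻¹) ^ k • y⁻¹ • ψ ∈ A ↔ _
      rw [← mul_smul, ← pow_succ]; rfl
  have h12 : f O₁ = O₁ ∨ f O₁ = O₂ := himage χ₁ hχ₁ (Or.inl rfl)
  have h22 : f O₂ = O₁ ∨ f O₂ = O₂ := himage χ₂ hχ₂ (Or.inr rfl)
  have hfix1 : f O₁ = O₁ := by
    rcases h12 with h | h
    · exact h
    rcases h22 with h' | h'
    · have h2 : f^[2] O₁ = O₁ := by show f (f O₁) = O₁; rw [h, h']
      obtain ⟨j, hj⟩ := hq.odd_of_ne_two hq2
      have h3 : f^[q] O₁ = O₁ := by
        rw [fpow, ← hord, inv_pow, pow_orderOf_eq_one, inv_one]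
        simp
      rw [hj] at h3
      change f^[(2 * j).succ] O₁ = O₁ at h3
      rw [Function.iterate_succ_apply', Function.iterate_mul, Function.iterate_fixed h2 j] at h3
      exact h3
    · exact finj (show f (f O₁) = f O₁ by rw [h, h'])
  refine hTy χ₁ hχ₁ fun ψ hψ => ?_
  show y • ψ ∈ O₁
  rw [← show f O₁ = O₁ from hfix1]
  show y⁻¹ • y • ψ ∈ O₁
  rwa [inv_smul_smul]

end Cfsg.Lib.FixedPointsCharTwo
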